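import Mathlib.Algebra.Homology.DerivedCategory.KProjective
import Mathlib.Algebra.Homology.DerivedCategory.KInjective

set_option autoImplicit false
universe w v u
open CategoryTheory CategoryTheory.Limits Pretriangulated

namespace Groth.Agent.H56

open DerivedCategory

variable {A : Type u} [Category.{v} A] [Abelian A] [HasDerivedCategory.{w} A]

/-- morphisms in `D(A)` out of a K-projective complex are represented by chain maps. -/
lemma exists_chainMap_of_isKProjective (E₁ E₂ : CochainComplex A ℤ) [E₁.IsKProjective]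
    (f : Q.obj E₁ ⟶ Q.obj E₂) : ∃ φ : E₁ ⟶ E₂, Q.map φ = f := by
  obtain ⟨g', hg'⟩ := (CochainComplex.IsKProjective.Qh_map_bijective E₁
    ((HomotopyCategory.quotient A (ComplexShape.up ℤ)).obj E₂)).surjective
    ((quotientCompQhIso A).hom.app E₁ ≫ f ≫ (quotientCompQhIso A).inv.app E₂)
  obtain ⟨φ, rfl⟩ := (HomotopyCategory.quotient A (ComplexShape.up ℤ)).map_surjective g'
  refine ⟨φ, ?_⟩
  have nat := (quotientCompQhIso A).hom.naturality φ
  have h1 : (HomotopyCategory.quotient A (ComplexShape.up ℤ) ⋙ Qh).map φ =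
      Qh.map ((HomotopyCategory.quotient A (ComplexShape.up ℤ)).map φ) := rfl
  rw [← cancel_epi ((quotientCompQhIso A).hom.app E₁), ← nat, h1, hg', Category.assoc,
    Category.assoc, Iso.inv_hom_id_app, Category.comp_id]

/-- morphisms in `D(A)` into a K-injective complex are represented by chain maps. -/
lemma exists_chainMap_of_isKInjective (E₁ E₂ : CochainComplex A ℤ) [E₂.IsKInjective]
    (f : Q.obj E₁ ⟶ Q.obj E₂) : ∃ φ : E₁ ⟶ E₂, Q.map φ = f := by
  obtain ⟨g', hg'⟩ := (CochainComplex.IsKInjective.Qh_map_bijective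
    ((HomotopyCategory.quotient A (ComplexShape.up ℤ)).obj E₁) E₂).surjective
    ((quotientCompQhIso A).hom.app E₁ ≫ f ≫ (quotientCompQhIso A).inv.app E₂)
  obtain ⟨φ, rfl⟩ := (HomotopyCategory.quotient A (ComplexShape.up ℤ)).map_surjective g'
  refine ⟨φ, ?_⟩
  have nat := (quotientCompQhIso A).hom.naturality φ
  have h1 : (HomotopyCategory.quotient A (ComplexShape.up ℤ) ⋙ Qh).map φ =
      Qh.map ((HomotopyCategory.quotient A (ComplexShape.up ℤ)).map φ) := rfl
  rw [← cancel_epi ((quotientCompQhIso A).hom.app E₁), ← nat, h1, hg', Category.assoc,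
    Category.assoc, Iso.inv_hom_id_app, Category.comp_id]

/-- the third vertex of a distinguished triangle whose first map is represented by a chain map
is the mapping cone. -/
lemma nonempty_obj₃_iso_mappingCone (T : Triangle (DerivedCategory A)) (hT : T ∈ distTriang _)
    {E₁ E₂ : CochainComplex A ℤ} (e₁ : T.obj₁ ≅ Q.obj E₁) (e₂ : T.obj₂ ≅ Q.obj E₂)
    (φ : E₁ ⟶ E₂) (hφ : Q.map φ = e₁.inv ≫ T.mor₁ ≫ e₂.hom) :
    Nonempty (T.obj₃ ≅ Q.obj (CochainComplex.mappingCone φ)) := by
  have hT' := mappingCone_triangle_distinguished φ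
  have comm : T.mor₁ ≫ e₂.hom =
      e₁.hom ≫ (Q.mapTriangle.obj (CochainComplex.mappingCone.triangle φ)).mor₁ := by
    show T.mor₁ ≫ e₂.hom = e₁.hom ≫ Q.map φ
    rw [hφ, Iso.hom_inv_id_assoc]
  exact ⟨Triangle.π₃.mapIso (isoTriangleOfIso₁₂ T _ hT hT' e₁ e₂ comm)⟩

end Groth.Agent.H56
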