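import Mathlib.Algebra.Homology.DerivedCategory.TStructure
import Mathlib.Algebra.Homology.DerivedCategory.HomologySequence
import Mathlib.Algebra.Homology.DerivedCategory.FullyFaithful
import Mathlib.CategoryTheory.Triangulated.TStructure.TruncLEGT

set_option autoImplicit false
universe w v u
open CategoryTheory CategoryTheory.Limits Pretriangulated

namespace Groth.Agent.H56

open DerivedCategory DerivedCategory.TStructure

variable {A : Type u} [Category.{v} A] [Abelian A] [HasDerivedCategory.{w} A]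

lemma isIso_homologyMap_mor₁ (T : Triangle (DerivedCategory A)) (hT : T ∈ distTriang _) (n : ℤ)
    (h₃ : IsZero ((homologyFunctor A n).obj T.obj₃))
    (h₃' : IsZero ((homologyFunctor A (n - 1)).obj T.obj₃)) :
    IsIso ((homologyFunctor A n).map T.mor₁) := by
  have hmono : Mono ((homologyFunctor A n).map T.mor₁) :=
    (HomologySequence.mono_homologyMap_mor₁_iff T hT (n - 1) n (by omega)).mpr (h₃'.eq_of_src _ _)
  have hepi : Epi ((homologyFunctor A n).map T.mor₁) :=
    (HomologySequence.epi_homologyMap_mor₁_iff T hT n).mpr (h₃.eq_of_tgt _ _)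
  exact isIso_of_mono_of_epi _

lemma isIso_homologyMap_mor₂ (T : Triangle (DerivedCategory A)) (hT : T ∈ distTriang _) (n : ℤ)
    (h₁ : IsZero ((homologyFunctor A n).obj T.obj₁))
    (h₁' : IsZero ((homologyFunctor A (n + 1)).obj T.obj₁)) :
    IsIso ((homologyFunctor A n).map T.mor₂) := by
  have hmono : Mono ((homologyFunctor A n).map T.mor₂) :=
    (HomologySequence.mono_homologyMap_mor₂_iff T hT n).mpr (h₁.eq_of_src _ _)
  have hepi : Epi ((homologyFunctor A n).map T.mor₂) :=
    (HomologySequence.epi_homologyMap_mor₂_iff T hT n (n + 1) rfl).mpr (h₁'.eq_of_tgt _ _)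
  exact isIso_of_mono_of_epi _

lemma isIso_homologyMap_truncLTι (X : DerivedCategory A) (c j : ℤ) (hj : j < c) :
    IsIso ((homologyFunctor A j).map ((t.truncLTι c).app X)) := by
  have hT := t.triangleLTGE_distinguished c X
  have : ((t.truncGE c).obj X).IsGE c := inferInstance
  exact isIso_homologyMap_mor₁ _ hT j (isZero_of_isGE _ c j hj)
    (isZero_of_isGE _ c (j - 1) (by omega))

lemma isIso_homologyMap_truncGEπ (X : DerivedCategory A) (c j : ℤ) (hj : c ≤ j) :
    IsIso ((homologyFunctor A j).map ((t.truncGEπ c).app X)) := by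
  have hT := t.triangleLTGE_distinguished c X
  have : ((t.truncLT c).obj X).IsLE (c - 1) := inferInstance
  exact isIso_homologyMap_mor₂ _ hT j (isZero_of_isLE _ (c - 1) j (by omega))
    (isZero_of_isLE _ (c - 1) (j + 1) (by omega))

lemma nonempty_iso_single (Z : DerivedCategory A) (j : ℤ) [Z.IsGE j] [Z.IsLE j] :
    Nonempty (Z ≅ (singleFunctor A j).obj ((homologyFunctor A j).obj Z)) := by
  obtain ⟨Y, ⟨e⟩⟩ := exists_iso_singleFunctor_obj_of_isGE_of_isLE Z j
  have e' : (homologyFunctor A j).obj Z ≅ Y :=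
    (homologyFunctor A j).mapIso e ≪≫ (singleFunctorCompHomologyFunctorIso A j).app Y
  exact ⟨e ≪≫ (singleFunctor A j).mapIso e'.symm⟩

/-- dévissage: a morphism `E ⟶ X⟦1⟧` vanishes if all morphisms from `E` to the shifted
cohomology pieces of the bounded object `X` vanish. -/
theorem hom_shift_eq_zero_of_pieces (E : DerivedCategory A) :
    ∀ (n : ℕ) (X : DerivedCategory A) (a c : ℤ), c - a < n → X.IsGE a → X.IsLE c →
      (∀ j : ℤ, a ≤ j → j ≤ c → ∀ Z : DerivedCategory A, Z.IsGE j → Z.IsLE j →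
        Nonempty ((homologyFunctor A j).obj Z ≅ (homologyFunctor A j).obj X) →
        ∀ g : E ⟶ Z⟦(1 : ℤ)⟧, g = 0) →
      ∀ f : E ⟶ X⟦(1 : ℤ)⟧, f = 0 := by
  intro n
  induction n with
  | zero =>
    intro X a c hn hGE hLE _ f
    have : IsZero X := t.isZero X c a (by omega)
    exact (Functor.map_isZero (shiftFunctor (DerivedCategory A) (1 : ℤ)) this).eq_of_tgt _ _
  | succ n ih =>
    intro X a c hn hGE hLE hyp f
    by_cases hca : c < a
    · have : IsZero X := t.isZero X c a hca
      exact (Functor.map_isZero (shiftFunctor (DerivedCategory A) (1 : ℤ)) this).eq_of_tgt _ _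
    · have hT := t.triangleLTGE_distinguished c X
      have hTT := rot_of_distTriang _ (rot_of_distTriang _ hT)
      have h1 : f ≫ ((t.truncGEπ c).app X)⟦(1 : ℤ)⟧' = 0 := by
        apply hyp c (by omega) le_rfl ((t.truncGE c).obj X) inferInstance inferInstance
        haveI := isIso_homologyMap_truncGEπ X c c le_rfl
        exact ⟨(asIso ((homologyFunctor A c).map ((t.truncGEπ c).app X))).symm⟩
      obtain ⟨g, hg⟩ := Triangle.coyoneda_exact₃ _ hTT f (by
        change f ≫ (-((t.truncGEπ c).app X)⟦(1 : ℤ)⟧') = 0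
        rw [Preadditive.comp_neg, h1, neg_zero])
      have hg0 : g = 0 := by
        apply ih ((t.truncLT c).obj X) a (c - 1) (by omega) inferInstance inferInstance
        intro j haj hjc Z hZGE hZLE ⟨e⟩ g'
        haveI := isIso_homologyMap_truncLTι X c j (by omega)
        exact hyp j haj (by omega) Z hZGE hZLE
          ⟨e ≪≫ asIso ((homologyFunctor A j).map ((t.truncLTι c).app X))⟩ g'
      rw [hg, hg0]
      exact zero_comp

lemma single_hom_shift_eq_zero (M N : A) (i j : ℤ) (p : ℕ) (hp : (p : ℤ) = i - j + 1)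
    (h : ∀ f : (singleFunctor A 0).obj M ⟶ ((singleFunctor A 0).obj N)⟦(p : ℤ)⟧, f = 0)
    (g : (singleFunctor A i).obj M ⟶ ((singleFunctor A j).obj N)⟦(1 : ℤ)⟧) : g = 0 := by
  let e₁ : ((singleFunctor A i).obj M)⟦i⟧ ≅ (singleFunctor A 0).obj M :=
    ((singleFunctors A).shiftIso i 0 i (by simp)).app M
  let e₂ : ((singleFunctor A j).obj N)⟦(1 : ℤ)⟧ ≅ (singleFunctor A (j - 1)).obj N :=
    ((singleFunctors A).shiftIso 1 (j - 1) j (by omega)).app N
  let e₃ : ((singleFunctor A (j - 1)).obj N)⟦i⟧ ≅ (singleFunctor A (j - 1 - i)).obj N :=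
    ((singleFunctors A).shiftIso i (j - 1 - i) (j - 1) (by omega)).app N
  let e₄ : ((singleFunctor A 0).obj N)⟦(p : ℤ)⟧ ≅ (singleFunctor A (j - 1 - i)).obj N :=
    ((singleFunctors A).shiftIso p (j - 1 - i) 0 (by omega)).app N
  let W : (((singleFunctor A j).obj N)⟦(1 : ℤ)⟧)⟦i⟧ ≅ ((singleFunctor A 0).obj N)⟦(p : ℤ)⟧ :=
    (shiftFunctor (DerivedCategory A) i).mapIso e₂ ≪≫ e₃ ≪≫ e₄.symm
  have hz := h (e₁.inv ≫ g⟦i⟧' ≫ W.hom)
  have h0 : g⟦i⟧' = 0 := by
    rw [← cancel_epi e₁.inv, ← cancel_mono W.hom, Category.assoc, hz, comp_zero, zero_comp]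
  exact (shiftFunctor (DerivedCategory A) i).map_injective (by rw [h0, Functor.map_zero])

end Groth.Agent.H56
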