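import Groth.Prelude.Def_DRing2
import Groth.Agent.H56.ConeLift
import Groth.Agent.H56.DerCat
import Mathlib.Algebra.Category.ModuleCat.Biproducts
import Mathlib.Algebra.Category.ModuleCat.Projective
import Mathlib.RingTheory.Finiteness.Prod
import Mathlib.LinearAlgebra.FreeModule.Basic

set_option autoImplicit false
universe u
open CategoryTheory CategoryTheory.Limits Pretriangulated
attribute [local instance] HasDerivedCategory.standard

namespace Groth.Agent.H56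

open DRing DerivedCategory DerivedCategory.TStructure

variable {R : Type u} [CommRing R]

lemma isPseudoCoherent'_of_iso {K L : Dual.D R} (e : K ≅ L) (h : IsPseudoCoherent' R K) :
    IsPseudoCoherent' R L := by
  obtain ⟨E, b, h1, h2, ⟨e'⟩⟩ := h
  exact ⟨E, b, h1, h2, ⟨e' ≪≫ e⟩⟩

lemma isPseudoCoherent'_shift {K : Dual.D R} (h : IsPseudoCoherent' R K) (n : ℤ) :
    IsPseudoCoherent' R (K⟦n⟧) := by
  obtain ⟨E, b, h1, h2, ⟨e⟩⟩ := h
  refine ⟨E⟦n⟧, b - n, ?_, ?_,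
    ⟨(Q.commShiftIso n).app E ≪≫ (shiftFunctor (Dual.D R) n).mapIso e⟩⟩
  · intro i hi
    exact h1 (i + n) (by omega)
  · intro i
    exact h2 (i + n)

lemma termwiseFiniteFree_mappingCone {E₁ E₂ : Cx R} (φ : E₁ ⟶ E₂) (b₁ b₂ : ℤ)
    (h1 : VanishesAbove E₁ b₁) (h1' : TermwiseFiniteFree E₁)
    (h2 : VanishesAbove E₂ b₂) (h2' : TermwiseFiniteFree E₂) :
    VanishesAbove (CochainComplex.mappingCone φ) (max (b₁ - 1) b₂) ∧
      TermwiseFiniteFree (CochainComplex.mappingCone φ) := by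
  have eX : ∀ i : ℤ, (CochainComplex.mappingCone φ).X i ≅ E₁.X (i + 1) ⊞ E₂.X i := fun i =>
    HomologicalComplex.homotopyCofiber.XIsoBiprod φ i (i + 1) rfl
  constructor
  · intro i hi
    refine IsZero.of_iso ?_ (eX i)
    rw [biprod_isZero_iff]
    have := max_lt_iff.mp hi
    exact ⟨h1 (i + 1) (by omega), h2 i (by omega)⟩
  · intro i
    have e : (CochainComplex.mappingCone φ).X i ≃ₗ[R] (E₁.X (i + 1) × E₂.X i) :=
      ((eX i) ≪≫ ModuleCat.biprodIsoProd (E₁.X (i + 1)) (E₂.X i)).toLinearEquiv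
    haveI := (h1' (i + 1)).1
    haveI := (h1' (i + 1)).2
    haveI := (h2' i).1
    haveI := (h2' i).2
    exact ⟨Module.Finite.equiv e.symm, Module.Free.of_equiv e.symm⟩

lemma isPseudoCoherent'_obj₃ (T : Triangle (Dual.D R)) (hT : T ∈ distTriang _)
    (h₁ : IsPseudoCoherent' R T.obj₁) (h₂ : IsPseudoCoherent' R T.obj₂) :
    IsPseudoCoherent' R T.obj₃ := by
  obtain ⟨E₁, b₁, v₁, p₁, ⟨e₁⟩⟩ := h₁
  obtain ⟨E₂, b₂, v₂, p₂, ⟨e₂⟩⟩ := h₂
  haveI : E₁.IsStrictlyLE b₁ := by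
    rw [CochainComplex.isStrictlyLE_iff]
    intro i hi
    exact v₁ i hi
  haveI : ∀ n, Projective (E₁.X n) := fun n => by
    haveI : Module.Free R (E₁.X n) := (p₁ n).2
    have hp : Module.Projective R (E₁.X n) := Module.Projective.of_free
    exact (IsProjective.iff_projective _).mp hp
  haveI : E₁.IsKProjective := CochainComplex.isKProjective_of_projective E₁ b₁
  obtain ⟨φ, hφ⟩ := exists_chainMap_of_isKProjective E₁ E₂ (e₁.hom ≫ T.mor₁ ≫ e₂.inv)
  obtain ⟨e₃⟩ := nonempty_obj₃_iso_mappingCone T hT e₁.symm e₂.symm φ hφ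
  obtain ⟨hv, hp⟩ := termwiseFiniteFree_mappingCone φ b₁ b₂ v₁ p₁ v₂ p₂
  exact ⟨_, _, hv, hp, ⟨e₃.symm⟩⟩

lemma isPseudoCoherent'_obj₂ (T : Triangle (Dual.D R)) (hT : T ∈ distTriang _)
    (h₁ : IsPseudoCoherent' R T.obj₁) (h₃ : IsPseudoCoherent' R T.obj₃) :
    IsPseudoCoherent' R T.obj₂ :=
  isPseudoCoherent'_obj₃ T.invRotate (inv_rot_of_distTriang T hT)
    (isPseudoCoherent'_shift h₃ (-1)) h₁

lemma isPseudoCoherent'_obj₁ (T : Triangle (Dual.D R)) (hT : T ∈ distTriang _)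
    (h₂ : IsPseudoCoherent' R T.obj₂) (h₃ : IsPseudoCoherent' R T.obj₃) :
    IsPseudoCoherent' R T.obj₁ := by
  have h := isPseudoCoherent'_obj₃ T.rotate (rot_of_distTriang T hT) h₂ h₃
  exact isPseudoCoherent'_of_iso
    ((shiftFunctorCompIsoId (Dual.D R) (1 : ℤ) (-1) (by norm_num)).app T.obj₁)
    (isPseudoCoherent'_shift h (-1))

end Groth.Agent.H56
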