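import Groth.Agent.H56.DerCat6
import Mathlib.Algebra.Homology.DerivedCategory.Ext.EnoughProjectives
import Mathlib.Algebra.Homology.DerivedCategory.SingleTriangle

set_option autoImplicit false
universe w v u
open CategoryTheory CategoryTheory.Limits Pretriangulated

namespace Groth.Agent.H56

open DerivedCategory DerivedCategory.TStructure

variable {A : Type u} [Category.{v} A] [Abelian A] [HasDerivedCategory.{w} A]

/-- maps from a projective object in degree `0` to an object `≤ n < 0` vanish. -/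
lemma hom_single_projective_eq_zero (P : A) [Projective P] (W : DerivedCategory A) (n : ℤ)
    (hn : n < 0) [W.IsLE n] (φ : (singleFunctor A 0).obj P ⟶ W) : φ = 0 := by
  obtain ⟨L, hL, ⟨e⟩⟩ := W.exists_iso_Q_obj_of_isLE n
  have h0 : (singleFunctorIsoCompQ A 0).inv.app P ≫ φ ≫ e.hom = 0 :=
    from_singleFunctor_obj_eq_zero_of_projective (P := P) (L := L) (i := 0) _ n hn
  have h1 : φ ≫ e.hom = 0 := by
    rw [← cancel_epi ((singleFunctorIsoCompQ A 0).inv.app P), h0, comp_zero]
  rw [← cancel_mono e.hom, h1, zero_comp]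

/-- `truncGEπ b` is "epi" with respect to targets in `D^{≥ b-1}`. -/
lemma eq_zero_of_truncGEπ_comp (Y Z : DerivedCategory A) (b : ℤ)
    [Z.IsGE (b - 1)] (u : (t.truncGE b).obj Y ⟶ Z)
    (h0 : (t.truncGEπ b).app Y ≫ u = 0) : u = 0 := by
  obtain ⟨v, hv⟩ := Triangle.yoneda_exact₃ _ (t.triangleLTGE_distinguished b Y) u h0
  have : t.IsLE (((t.truncLT b).obj Y)⟦(1 : ℤ)⟧) (b - 2) :=
    t.isLE_shift _ (b - 1) 1 (b - 2) (by omega)
  have hv0 : v = 0 := t.zero_of_isLE_of_isGE v (b - 2) (b - 1) (by omega) this inferInstance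
  rw [hv, hv0]
  exact comp_zero

/-- `Ext^1(P, -) = 0` (as morphisms in the derived category) implies `P` projective. -/
lemma projective_of_hom_single_shift_eq_zero [EnoughProjectives A] (P : A)
    (h : ∀ (M : A) (ψ : (singleFunctor A 0).obj P ⟶ ((singleFunctor A 0).obj M)⟦(1 : ℤ)⟧),
      ψ = 0) : Projective P := by
  let S : ShortComplex A := ShortComplex.mk (kernel.ι (Projective.π P)) (Projective.π P)
    (kernel.condition _)
  have hS : S.ShortExact :=
    { exact := ShortComplex.exact_of_f_is_kernel _ (kernelIsKernel _) }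
  have hT := hS.singleTriangle_distinguished
  obtain ⟨g, hg⟩ : ∃ g : (singleFunctor A 0).obj P ⟶ (singleFunctor A 0).obj (Projective.over P),
      𝟙 ((singleFunctor A 0).obj P) = g ≫ (singleFunctor A 0).map (Projective.π P) :=
    Triangle.coyoneda_exact₃ _ hT (𝟙 ((singleFunctor A 0).obj P)) (h _ _)
  have hg' : g ≫ (singleFunctor A 0).map (Projective.π P) = 𝟙 _ := hg.symm
  have hs : (singleFunctor A 0).preimage g ≫ Projective.π P = 𝟙 P := by
    apply (singleFunctor A 0).map_injective
    rw [Functor.map_comp, Functor.map_preimage, hg', CategoryTheory.Functor.map_id]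
  exact (Retract.mk ((singleFunctor A 0).preimage g) (Projective.π P) hs).projective

/-- a distinguished triangle with a section of `mor₂` and no morphisms `obj₂ ⟶ obj₁`
has `mor₂` an isomorphism. -/
lemma isIso_mor₂_of_section (T : Triangle (DerivedCategory A)) (hT : T ∈ distTriang _)
    (s : T.obj₃ ⟶ T.obj₂) (hs : s ≫ T.mor₂ = 𝟙 _)
    (h : ∀ r : T.obj₂ ⟶ T.obj₁, r = 0) : IsIso T.mor₂ := by
  have h0 : (𝟙 T.obj₂ - T.mor₂ ≫ s) ≫ T.mor₂ = 0 := by
    rw [Preadditive.sub_comp, Category.id_comp, Category.assoc, hs, Category.comp_id, sub_self]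
  obtain ⟨r, hr⟩ := Triangle.coyoneda_exact₂ _ hT _ h0
  rw [h r, zero_comp] at hr
  exact ⟨⟨s, (sub_eq_zero.mp hr).symm, hs⟩⟩

end Groth.Agent.H56
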