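import Groth.Agent.H56.DerCat7
import Mathlib.Algebra.Homology.DerivedCategory.KInjective
import Mathlib.Algebra.Homology.Factorizations.CM5a
import Mathlib.CategoryTheory.Abelian.GrothendieckCategory.EnoughInjectives

set_option autoImplicit false
universe w v u
open CategoryTheory CategoryTheory.Limits Pretriangulated

namespace Groth.Agent.H56

open DerivedCategory DerivedCategory.TStructure

variable {A : Type u} [Category.{v} A] [Abelian A] [HasDerivedCategory.{w} A]

/-- `Hom(Y[0], X[i]) = 0` iff `Hom(Y[-i], X) = 0`. -/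
lemma single_hom_shift_vanishing_iff (Y : A) (X : DerivedCategory A) (i : ℤ) :
    (∀ φ : (singleFunctor A 0).obj Y ⟶ X⟦i⟧, φ = 0) ↔
      ∀ ψ : (singleFunctor A i).obj Y ⟶ X, ψ = 0 := by
  let e₁ : ((singleFunctor A i).obj Y)⟦i⟧ ≅ (singleFunctor A 0).obj Y :=
    ((singleFunctors A).shiftIso i 0 i (by simp)).app Y
  constructor
  · intro h ψ
    have h1 : e₁.inv ≫ ψ⟦i⟧' = 0 := h _
    have h2 : ψ⟦i⟧' = 0 := by
      rw [← cancel_epi e₁.inv, h1, comp_zero]
    exact (shiftFunctor (DerivedCategory A) i).map_injective (by rw [h2, Functor.map_zero])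
  · intro h φ
    obtain ⟨ψ, hψ⟩ := (shiftFunctor (DerivedCategory A) i).map_surjective (e₁.hom ≫ φ)
    rw [h ψ, Functor.map_zero] at hψ
    rw [← cancel_epi e₁.hom, ← hψ, comp_zero]

/-- a chain map to a K-injective complex which vanishes in the derived category is
null-homotopic. -/
lemma homotopy_zero_of_Q_map_eq_zero {M J : CochainComplex A ℤ} [J.IsKInjective] (g : M ⟶ J)
    (hg : Q.map g = 0) : Nonempty (Homotopy g 0) := by
  have h1 : Qh.map ((HomotopyCategory.quotient A (ComplexShape.up ℤ)).map g) = 0 := by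
    have nat := (quotientCompQhIso A).hom.naturality g
    rw [hg, comp_zero] at nat
    rw [← cancel_mono ((quotientCompQhIso A).hom.app J), zero_comp]
    exact nat
  have h2 : (HomotopyCategory.quotient A (ComplexShape.up ℤ)).map g = 0 := by
    apply (CochainComplex.IsKInjective.Qh_map_bijective _ J).injective
    rw [h1, Functor.map_zero]
  exact ⟨HomotopyCategory.homotopyOfEq _ _ (by rw [h2, Functor.map_zero])⟩

/-- if all chain maps `S ⟶ I` vanish and `I` is K-injective, then `Hom_D(S, I) = 0`. -/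
lemma Q_hom_eq_zero_of_chainMaps_eq_zero (S I : CochainComplex A ℤ) [I.IsKInjective]
    (hS : ∀ g : S ⟶ I, g = 0) (ψ : Q.obj S ⟶ Q.obj I) : ψ = 0 := by
  obtain ⟨g', hg'⟩ := (CochainComplex.IsKInjective.Qh_map_bijective
    ((HomotopyCategory.quotient A (ComplexShape.up ℤ)).obj S) I).surjective
    ((quotientCompQhIso A).hom.app S ≫ ψ ≫ (quotientCompQhIso A).inv.app I)
  obtain ⟨g, rfl⟩ := (HomotopyCategory.quotient A (ComplexShape.up ℤ)).map_surjective g'
  have h3 : (quotientCompQhIso A).hom.app S ≫ ψ ≫ (quotientCompQhIso A).inv.app I = 0 := by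
    rw [← hg', hS g, Functor.map_zero, Functor.map_zero]
  have h4 : ψ ≫ (quotientCompQhIso A).inv.app I = 0 := by
    rw [← cancel_epi ((quotientCompQhIso A).hom.app S), h3, comp_zero]
  rw [← cancel_mono ((quotientCompQhIso A).inv.app I), h4, zero_comp]

/-- `Hom_D(Y[-i], I) = 0` if `I` is K-injective with `I^i = 0`. -/
lemma single_hom_Q_eq_zero_of_isZero (I : CochainComplex A ℤ) [I.IsKInjective] (Y : A) (i : ℤ)
    (hI : IsZero (I.X i)) (ψ : (singleFunctor A i).obj Y ⟶ Q.obj I) : ψ = 0 :=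
  Q_hom_eq_zero_of_chainMaps_eq_zero
    ((HomologicalComplex.single A (ComplexShape.up ℤ) i).obj Y) I
    (fun _ => HomologicalComplex.from_single_hom_ext (hI.eq_of_tgt _ _)) ψ

/-- cocycles are coboundaries when `Hom_D(Y[-i], J) = 0` and `J` is K-injective. -/
lemma exists_lift_of_single_hom_eq_zero (J : CochainComplex A ℤ) [J.IsKInjective] (Y : A)
    (j i k : ℤ) (hji : j + 1 = i) (hik : i + 1 = k)
    (hv : ∀ ψ : (singleFunctor A i).obj Y ⟶ Q.obj J, ψ = 0)
    (z : Y ⟶ J.X i) (hz : z ≫ J.d i k = 0) :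
    ∃ ψ : Y ⟶ J.X j, ψ ≫ J.d j i = z := by
  subst hji hik
  obtain ⟨g, hg_def⟩ : ∃ g : (HomologicalComplex.single A (ComplexShape.up ℤ) (j + 1)).obj Y ⟶ J,
      g.f (j + 1) = (HomologicalComplex.singleObjXSelf (ComplexShape.up ℤ) (j + 1) Y).hom ≫ z :=
    ⟨HomologicalComplex.mkHomFromSingle z (fun k hk => by
      have hk' : j + 1 + 1 = k := hk
      subst hk'
      exact hz), HomologicalComplex.mkHomFromSingle_f _ _⟩
  have hg : Q.map g = 0 := hv (Q.map g)
  obtain ⟨h⟩ := homotopy_zero_of_Q_map_eq_zero g hg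
  have h1 := h.comm (j + 1)
  rw [dNext_eq h.hom (show (ComplexShape.up ℤ).Rel (j + 1) (j + 1 + 1) from rfl),
    prevD_eq h.hom (show (ComplexShape.up ℤ).Rel j (j + 1) from rfl),
    HomologicalComplex.single_obj_d, zero_comp, zero_add, HomologicalComplex.zero_f, add_zero,
    hg_def] at h1
  refine ⟨(HomologicalComplex.singleObjXSelf (ComplexShape.up ℤ) (j + 1) Y).inv ≫
    h.hom (j + 1) j, ?_⟩
  rw [Category.assoc, ← h1, Iso.inv_hom_id_assoc]

lemma exactAt_of_single_hom_eq_zero (J : CochainComplex A ℤ) [J.IsKInjective] (i : ℤ)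
    (hv : ∀ (Y : A) (ψ : (singleFunctor A i).obj Y ⟶ Q.obj J), ψ = 0) : J.ExactAt i := by
  obtain ⟨ψ, hψ⟩ := exists_lift_of_single_hom_eq_zero J (J.cycles i) (i - 1) i (i + 1)
    (by omega) rfl (hv _) (J.iCycles i) (J.iCycles_d i (i + 1))
  have h1 : ψ ≫ J.toCycles (i - 1) i = 𝟙 _ := by
    rw [← cancel_mono (J.iCycles i), Category.assoc, J.toCycles_i, hψ, Category.id_comp]
  rw [HomologicalComplex.exactAt_iff_isZero_homology]
  apply IsZero.of_epi_eq_zero (J.homologyπ i)
  have h2 : J.homologyπ i = (ψ ≫ J.toCycles (i - 1) i) ≫ J.homologyπ i := by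
    rw [h1, Category.id_comp]
  rw [h2, Category.assoc, J.toCycles_comp_homologyπ, comp_zero]

lemma injective_cycles_of_single_hom_eq_zero (J : CochainComplex A ℤ) [J.IsKInjective] (n : ℤ)
    [Injective (J.X n)]
    (hv : ∀ (Y : A) (ψ : (singleFunctor A (n + 1)).obj Y ⟶ Q.obj J), ψ = 0) :
    Injective (J.cycles n) := by
  obtain ⟨ψ, hψ⟩ := exists_lift_of_single_hom_eq_zero J (J.cycles (n + 1)) n (n + 1) (n + 1 + 1)
    rfl rfl (hv _) (J.iCycles (n + 1)) (J.iCycles_d (n + 1) (n + 1 + 1))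
  have hp : J.iCycles n ≫ J.toCycles n (n + 1) = 0 := by
    rw [← cancel_mono (J.iCycles (n + 1)), Category.assoc, J.toCycles_i, J.iCycles_d, zero_comp]
  have hq : (𝟙 (J.X n) - J.toCycles n (n + 1) ≫ ψ) ≫ J.d n (n + 1) = 0 := by
    rw [Preadditive.sub_comp, Category.id_comp, Category.assoc, hψ, J.toCycles_i, sub_self]
  obtain ⟨r, hr⟩ : ∃ r : J.X n ⟶ J.cycles n,
      r ≫ J.iCycles n = 𝟙 (J.X n) - J.toCycles n (n + 1) ≫ ψ :=
    ⟨J.liftCycles _ (n + 1) (by simp) hq, J.liftCycles_i _ _ _ _⟩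
  have hr' : J.iCycles n ≫ r = 𝟙 _ := by
    rw [← cancel_mono (J.iCycles n), Category.assoc, hr, Preadditive.comp_sub,
      Category.comp_id, reassoc_of% hp, zero_comp, sub_zero, Category.id_comp]
  exact Retract.injective { i := J.iCycles n, r := r, retract := hr' }

lemma truncLE_props (J : CochainComplex A ℤ) (a n : ℤ) [J.IsStrictlyGE a]
    [∀ q, Injective (J.X q)]
    (hv : ∀ (Y : A) (i : ℤ), n < i → ∀ ψ : (singleFunctor A i).obj Y ⟶ Q.obj J, ψ = 0) :
    (∀ q, Injective ((J.truncLE n).X q)) ∧ QuasiIso (J.ιTruncLE n) := by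
  have : J.IsKInjective := CochainComplex.isKInjective_of_injective J a
  have hLE : J.IsLE n := by
    rw [CochainComplex.isLE_iff]
    intro i hi
    exact exactAt_of_single_hom_eq_zero J i (fun Y ψ => hv Y i hi ψ)
  have hcyc : Injective (J.cycles n) :=
    injective_cycles_of_single_hom_eq_zero J n (fun Y ψ => hv Y (n + 1) (by omega) ψ)
  refine ⟨fun q => ?_, inferInstance⟩
  obtain h | rfl | h := lt_trichotomy q n
  · exact Injective.of_iso (J.truncLEXIso n q h).symm inferInstance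
  · exact Injective.of_iso (J.truncLEXIsoCycles q).symm hcyc
  · exact (CochainComplex.isZero_of_isStrictlyLE _ n _ h).injective

/-- a bounded below complex with `Hom_D(Y[-i], K) = 0` for `i > n` admits a quasi-isomorphism to
a complex of injectives concentrated in degrees `[a, n]`. -/
lemma exists_quasiIso_bounded_injective [EnoughInjectives A] (K : CochainComplex A ℤ) (a n : ℤ)
    [K.IsStrictlyGE a]
    (hv : ∀ (Y : A) (i : ℤ), n < i → ∀ ψ : (singleFunctor A i).obj Y ⟶ Q.obj K, ψ = 0) :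
    ∃ (I : CochainComplex A ℤ) (f : K ⟶ I), I.IsStrictlyGE a ∧ I.IsStrictlyLE n ∧
      (∀ q, Injective (I.X q)) ∧ QuasiIso f := by
  obtain ⟨J, j, hj, hJ, hJa⟩ :=
    CochainComplex.Plus.modelCategoryQuillen.exists_quasiIso_injective K a
  have : IsIso (Q.map j) := by rw [isIso_Q_map_iff_quasiIso]; exact hj
  have hvJ : ∀ (Y : A) (i : ℤ), n < i → ∀ ψ : (singleFunctor A i).obj Y ⟶ Q.obj J, ψ = 0 := by
    intro Y i hi ψ
    have h0 := hv Y i hi (ψ ≫ inv (Q.map j))
    rw [← cancel_mono (inv (Q.map j)), h0, zero_comp]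
  obtain ⟨hinj, hqi⟩ := truncLE_props J a n hvJ
  have : J.IsKInjective := CochainComplex.isKInjective_of_injective J a
  haveI : ∀ q, Injective ((J.truncLE n).X q) := hinj
  have : (J.truncLE n).IsKInjective := CochainComplex.isKInjective_of_injective _ a
  obtain ⟨e, he⟩ := (CochainComplex.IsKInjective.quasiIso_iff (J.ιTruncLE n)).1 hqi
  exact ⟨J.truncLE n, j ≫ e.inv, inferInstance, inferInstance, hinj, inferInstance⟩

/-- if `W ∈ D^{≤ m}` and `Hom(F[-m], W) = 0` for all `F`, then `W ∈ D^{≤ m-1}`. -/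
lemma isLE_pred_of_single_hom_eq_zero (W : DerivedCategory A) (m : ℤ) [W.IsLE m]
    (hv : ∀ (F : A) (ψ : (singleFunctor A m).obj F ⟶ W), ψ = 0) : W.IsLE (m - 1) := by
  obtain ⟨L, _, ⟨e⟩⟩ := W.exists_iso_Q_obj_of_isLE m
  have hzero : IsZero (L.X (m + 1)) := L.isZero_of_isStrictlyLE m (m + 1) (by omega)
  obtain ⟨g, hg⟩ : ∃ g : (HomologicalComplex.single A (ComplexShape.up ℤ) m).obj (L.X m) ⟶ L,
      g.f m = (HomologicalComplex.singleObjXSelf (ComplexShape.up ℤ) m (L.X m)).hom ≫ 𝟙 _ :=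
    ⟨HomologicalComplex.mkHomFromSingle (𝟙 (L.X m)) (fun k hk => by
      have hk' : m + 1 = k := hk
      subst hk'
      exact hzero.eq_of_tgt _ _), HomologicalComplex.mkHomFromSingle_f _ _⟩
  have hQg : Q.map g = 0 := by
    have h0 := hv (L.X m) (Q.map g ≫ e.inv)
    rw [← cancel_mono e.inv, zero_comp]
    exact h0
  have h1 : (homologyFunctor A m).map (Q.map g) = 0 := by rw [hQg, Functor.map_zero]
  have h2 := homologyFunctorFactors_hom_naturality g m
  rw [h1, zero_comp] at h2
  have hH : HomologicalComplex.homologyMap g m = 0 :=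
    (cancel_epi ((homologyFunctorFactors A m).hom.app _)).1 (h2.symm.trans comp_zero.symm)
  have hc : IsIso (HomologicalComplex.cyclesMap g m) := by
    have i1 : IsIso (L.iCycles m) :=
      HomologicalComplex.isIso_iCycles L m (m + 1) (by simp) (hzero.eq_of_tgt _ _)
    have i2 : IsIso (((HomologicalComplex.single A (ComplexShape.up ℤ) m).obj (L.X m)).iCycles m) :=
      HomologicalComplex.isIso_iCycles _ m (m + 1) (by simp) (by simp)
    have i3 : IsIso (g.f m) := by rw [hg]; infer_instance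
    have i4 := HomologicalComplex.cyclesMap_i g m
    have i5 : IsIso (HomologicalComplex.cyclesMap g m ≫ L.iCycles m) := by
      rw [i4]; infer_instance
    exact IsIso.of_isIso_comp_right _ (L.iCycles m)
  have hπ : L.homologyπ m = 0 := by
    have nat := HomologicalComplex.homologyπ_naturality g m
    rw [hH, comp_zero] at nat
    rw [← cancel_epi (HomologicalComplex.cyclesMap g m), ← nat, comp_zero]
  have hHm : IsZero (L.homology m) := IsZero.of_epi_eq_zero _ hπ
  have hL : L.IsLE (m - 1) := by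
    rw [CochainComplex.isLE_iff]
    intro i hi
    by_cases him : i = m
    · subst him
      rw [HomologicalComplex.exactAt_iff_isZero_homology]
      exact hHm
    · exact L.exactAt_of_isLE m i (by omega)
  have : (Q.obj L).IsLE (m - 1) := by rw [isLE_Q_obj_iff]; exact hL
  exact t.isLE_of_iso e.symm (m - 1)

/-- if `Hom(F[-i], X) = 0` for all `F` and all `i < a`, then `X ∈ D^{≥ a}`. -/
lemma isGE_of_single_hom_eq_zero (X : DerivedCategory A) (a : ℤ)
    (hv : ∀ (F : A) (i : ℤ), i < a → ∀ ψ : (singleFunctor A i).obj F ⟶ X, ψ = 0) :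
    X.IsGE a := by
  have hW : ∀ (F : A) (i : ℤ), i < a →
      ∀ ψ : (singleFunctor A i).obj F ⟶ (t.truncLT a).obj X, ψ = 0 := by
    intro F i hi ψ
    have : ((singleFunctor A i).obj F).IsLE a := t.isLE_of_le _ i a (by omega)
    exact eq_zero_of_comp_truncLTι _ X a ψ (hv F i hi _)
  have hk : ∀ k : ℕ, ((t.truncLT a).obj X).IsLE (a - 1 - k) := by
    intro k
    induction k with
    | zero =>
      have h0 : t.IsLE ((t.truncLT a).obj X) (a - 1) := inferInstance
      have e : a - 1 - ((0 : ℕ) : ℤ) = a - 1 := by simp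
      rw [e]
      exact h0
    | succ k ih =>
      have h0 := isLE_pred_of_single_hom_eq_zero ((t.truncLT a).obj X) (a - 1 - k)
        (fun F ψ => hW F _ (by omega) ψ)
      have e : a - 1 - ((k + 1 : ℕ) : ℤ) = a - 1 - k - 1 := by omega
      rw [e]
      exact h0
  rw [isGE_iff]
  intro i hi
  have := isIso_homologyMap_truncLTι X a i hi
  have hz : IsZero ((homologyFunctor A i).obj ((t.truncLT a).obj X)) := by
    obtain ⟨k, hk'⟩ : ∃ k : ℕ, a - 1 - (k : ℤ) < i := ⟨(a - i).toNat, by omega⟩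
    have := hk k
    exact isZero_of_isLE _ (a - 1 - k) i hk'
  exact hz.of_iso (asIso ((homologyFunctor A i).map ((t.truncLTι a).app X))).symm

end Groth.Agent.H56
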