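import Groth.Prelude.Def_DRing2
import Groth.Agent.H56.InjAmp
import Groth.Agent.H56.ConeLift
import Mathlib.Algebra.Category.ModuleCat.Injective
import Mathlib.Algebra.Category.ModuleCat.Projective
import Mathlib.Algebra.Category.ModuleCat.EnoughInjectives
import Mathlib.Algebra.Homology.DerivedCategory.KProjective
import Mathlib.Algebra.Module.Injective

set_option autoImplicit false
universe w v u
open CategoryTheory CategoryTheory.Limits Pretriangulated

namespace Groth.Agent.H56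

open DerivedCategory DerivedCategory.TStructure

section General

variable {A : Type u} [Category.{v} A] [Abelian A] [HasDerivedCategory.{w} A]

omit [HasDerivedCategory.{w} A] in
lemma projective_of_isZero {X : A} (h : IsZero X) : Projective X :=
  ⟨fun _ _ _ => ⟨0, h.eq_of_src _ _⟩⟩

omit [HasDerivedCategory.{w} A] in
lemma isKProjective_single (Y : A) [Projective Y] (i : ℤ) :
    CochainComplex.IsKProjective ((HomologicalComplex.single A (ComplexShape.up ℤ) i).obj Y) := by
  haveI : ∀ n, Projective (((HomologicalComplex.single A (ComplexShape.up ℤ) i).obj Y).X n) :=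
    fun n => by
      by_cases hn : n = i
      · subst hn
        exact Projective.of_iso
          (HomologicalComplex.singleObjXSelf (ComplexShape.up ℤ) n Y).symm inferInstance
      · exact projective_of_isZero (HomologicalComplex.isZero_single_obj_X _ _ _ _ hn)
  exact CochainComplex.isKProjective_of_projective _ i

/-- a chain map from a K-projective complex which vanishes in the derived category is
null-homotopic. -/
lemma homotopy_zero_of_Q_map_eq_zero' {M J : CochainComplex A ℤ} [M.IsKProjective] (g : M ⟶ J)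
    (hg : Q.map g = 0) : Nonempty (Homotopy g 0) := by
  have h1 : Qh.map ((HomotopyCategory.quotient A (ComplexShape.up ℤ)).map g) = 0 := by
    have nat := (quotientCompQhIso A).hom.naturality g
    rw [hg, comp_zero] at nat
    rw [← cancel_mono ((quotientCompQhIso A).hom.app J), zero_comp]
    exact nat
  have h2 : (HomotopyCategory.quotient A (ComplexShape.up ℤ)).map g = 0 := by
    apply (CochainComplex.IsKProjective.Qh_map_bijective M _).injective
    rw [h1, Functor.map_zero]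
  exact ⟨HomotopyCategory.homotopyOfEq _ _ (by rw [h2, Functor.map_zero])⟩

/-- cocycles `Y ⟶ Lⁱ` from a projective object are coboundaries when `Hom_D(Y[-i], L) = 0`. -/
lemma exists_lift_of_single_hom_eq_zero' (L : CochainComplex A ℤ) (Y : A) [Projective Y]
    (j i k : ℤ) (hji : j + 1 = i) (hik : i + 1 = k)
    (hv : ∀ ψ : (singleFunctor A i).obj Y ⟶ Q.obj L, ψ = 0)
    (z : Y ⟶ L.X i) (hz : z ≫ L.d i k = 0) :
    ∃ ψ : Y ⟶ L.X j, ψ ≫ L.d j i = z := by
  subst hji hik
  haveI := isKProjective_single Y (j + 1)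
  obtain ⟨g, hg_def⟩ : ∃ g : (HomologicalComplex.single A (ComplexShape.up ℤ) (j + 1)).obj Y ⟶ L,
      g.f (j + 1) = (HomologicalComplex.singleObjXSelf (ComplexShape.up ℤ) (j + 1) Y).hom ≫ z :=
    ⟨HomologicalComplex.mkHomFromSingle z (fun k hk => by
      have hk' : j + 1 + 1 = k := hk
      subst hk'
      exact hz), HomologicalComplex.mkHomFromSingle_f _ _⟩
  have hg : Q.map g = 0 := hv (Q.map g)
  obtain ⟨h⟩ := homotopy_zero_of_Q_map_eq_zero' g hg
  have h1 := h.comm (j + 1)
  rw [dNext_eq h.hom (show (ComplexShape.up ℤ).Rel (j + 1) (j + 1 + 1) from rfl),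
    prevD_eq h.hom (show (ComplexShape.up ℤ).Rel j (j + 1) from rfl),
    HomologicalComplex.single_obj_d, zero_comp, zero_add, HomologicalComplex.zero_f, add_zero,
    hg_def] at h1
  refine ⟨(HomologicalComplex.singleObjXSelf (ComplexShape.up ℤ) (j + 1) Y).inv ≫
    h.hom (j + 1) j, ?_⟩
  rw [Category.assoc, ← h1, Iso.inv_hom_id_assoc]

end General

section Ring

attribute [local instance] HasDerivedCategory.standard

open DRing

variable {R : Type u} [CommRing R]

lemma hom_apply_of_comp_eq {M N P : ModuleCat.{u} R} (f : M ⟶ N) (g : N ⟶ P) (h : M ⟶ P)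
    (w : f ≫ g = h) (x : M) : g.hom (f.hom x) = h.hom x := by
  subst w; rfl

lemma hom_apply_of_comp_eq_zero {M N P : ModuleCat.{u} R} (f : M ⟶ N) (g : N ⟶ P)
    (w : f ≫ g = 0) (x : M) : g.hom (f.hom x) = 0 := by
  rw [hom_apply_of_comp_eq f g 0 w x]; rfl

/-- a complex of modules is exact at `i` if `Hom_D(R[-i], L) = 0`. -/
lemma exactAt_of_single_ring_hom_eq_zero (L : Cx R) (i : ℤ)
    (hv : ∀ ψ : (singleFunctor (ModuleCat.{u} R) i).obj (ModuleCat.of R R) ⟶ Q.obj L, ψ = 0) :
    L.ExactAt i := by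
  haveI : Projective (ModuleCat.of R R) := (IsProjective.iff_projective _).mp inferInstance
  rw [HomologicalComplex.exactAt_iff_isZero_homology]
  apply IsZero.of_epi_eq_zero (L.homologyπ i)
  have key : ∀ c : L.cycles i, (L.homologyπ i).hom c = 0 := by
    intro c
    have hcd : (L.d i (i + 1)).hom ((L.iCycles i).hom c) = 0 :=
      hom_apply_of_comp_eq_zero _ _ (L.iCycles_d i (i + 1)) c
    obtain ⟨z, hz1⟩ : ∃ z : ModuleCat.of R R ⟶ L.X i, z.hom (1 : R) = (L.iCycles i).hom c :=
      ⟨ModuleCat.ofHom (LinearMap.toSpanSingleton R _ ((L.iCycles i).hom c)), by simp⟩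
    have hz : z ≫ L.d i (i + 1) = 0 := by
      apply ModuleCat.hom_ext
      apply LinearMap.ext_ring
      simp [hz1, hcd]
    obtain ⟨ψ, hψ⟩ := exists_lift_of_single_hom_eq_zero' L (ModuleCat.of R R) (i - 1) i (i + 1)
      (by omega) rfl hv z hz
    have h1 : (L.d (i - 1) i).hom (ψ.hom (1 : R)) = (L.iCycles i).hom c :=
      (hom_apply_of_comp_eq ψ (L.d (i - 1) i) z hψ (1 : R)).trans hz1
    have h2 : (L.toCycles (i - 1) i).hom (ψ.hom (1 : R)) = c := by
      apply (ModuleCat.mono_iff_injective (L.iCycles i)).1 inferInstance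
      exact (hom_apply_of_comp_eq _ _ _ (L.toCycles_i (i - 1) i) (ψ.hom (1 : R))).trans h1
    have h3 : (L.homologyπ i).hom ((L.toCycles (i - 1) i).hom (ψ.hom (1 : R))) = 0 :=
      hom_apply_of_comp_eq_zero _ _ (L.toCycles_comp_homologyπ (i - 1) i) (ψ.hom (1 : R))
    rw [h2] at h3
    exact h3
  apply ModuleCat.hom_ext
  apply LinearMap.ext
  intro c
  exact key c

/-- Baer's criterion for the cycles of a K-injective complex. -/
lemma injective_cycles_of_cyclic (J : Cx R) [J.IsKInjective] (n : ℤ) [Injective (J.X n)]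
    (hv : ∀ (I : Ideal R) (ψ : (singleFunctor (ModuleCat.{u} R) (n + 1)).obj
      (ModuleCat.of R (R ⧸ I)) ⟶ Q.obj J), ψ = 0) :
    Injective (J.cycles n) := by
  haveI hinjX : Module.Injective R (J.X n) := Module.injective_module_of_injective_object R (J.X n)
  have hB : Module.Baer R (J.X n) := Module.Baer.of_injective hinjX
  suffices Module.Baer R (J.cycles n) by
    haveI := this.injective
    exact Module.injective_object_of_injective_module R (J.cycles n)
  intro I g
  obtain ⟨gt, hgt⟩ := hB I ((J.iCycles n).hom ∘ₗ g)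
  have hcd : ∀ c : J.cycles n, (J.d n (n + 1)).hom ((J.iCycles n).hom c) = 0 := fun c =>
    hom_apply_of_comp_eq_zero _ _ (J.iCycles_d n (n + 1)) c
  have hker : I ≤ LinearMap.ker ((J.d n (n + 1)).hom ∘ₗ gt) := by
    intro x hx
    rw [LinearMap.mem_ker, LinearMap.comp_apply, hgt x hx, LinearMap.comp_apply, hcd]
  obtain ⟨z, hz1⟩ : ∃ z : ModuleCat.of R (R ⧸ I) ⟶ J.X (n + 1),
      ∀ x : R, z.hom (Ideal.Quotient.mk I x) = (J.d n (n + 1)).hom (gt x) :=
    ⟨ModuleCat.ofHom (Submodule.liftQ I ((J.d n (n + 1)).hom ∘ₗ gt) hker), fun x => rfl⟩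
  have hz : z ≫ J.d (n + 1) (n + 1 + 1) = 0 := by
    apply ModuleCat.hom_ext
    apply LinearMap.ext
    intro y
    obtain ⟨x, rfl⟩ := Ideal.Quotient.mk_surjective (I := I) y
    have hdd : (J.d (n + 1) (n + 1 + 1)).hom ((J.d n (n + 1)).hom (gt x)) = 0 :=
      hom_apply_of_comp_eq_zero _ _ (J.d_comp_d n (n + 1) (n + 1 + 1)) (gt x)
    show (J.d (n + 1) (n + 1 + 1)).hom (z.hom (Ideal.Quotient.mk I x)) = 0
    rw [hz1, hdd]
  obtain ⟨ψ, hψ⟩ := exists_lift_of_single_hom_eq_zero J (ModuleCat.of R (R ⧸ I)) n (n + 1)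
    (n + 1 + 1) rfl rfl (hv I) z hz
  have hψx : ∀ x : R, (J.d n (n + 1)).hom (ψ.hom (Ideal.Quotient.mk I x)) =
      (J.d n (n + 1)).hom (gt x) := fun x =>
    (hom_apply_of_comp_eq ψ (J.d n (n + 1)) z hψ (Ideal.Quotient.mk I x)).trans (hz1 x)
  obtain ⟨g', hg'⟩ : ∃ g' : ModuleCat.of R R ⟶ J.X n,
      ∀ x : R, g'.hom x = gt x - ψ.hom (Ideal.Quotient.mk I x) :=
    ⟨ModuleCat.ofHom (gt - ψ.hom ∘ₗ Submodule.mkQ I), fun x => rfl⟩
  have hg'd : g' ≫ J.d n (n + 1) = 0 := by
    apply ModuleCat.hom_ext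
    apply LinearMap.ext
    intro x
    show (J.d n (n + 1)).hom (g'.hom x) = 0
    rw [hg', map_sub, hψx, sub_self]
  refine ⟨(J.liftCycles g' (n + 1) (by simp) hg'd).hom, fun x hx => ?_⟩
  apply (ModuleCat.mono_iff_injective (J.iCycles n)).1 inferInstance
  have h1 : (J.iCycles n).hom ((J.liftCycles g' (n + 1) (by simp) hg'd).hom x) = g'.hom x :=
    hom_apply_of_comp_eq _ _ _ (J.liftCycles_i g' (n + 1) (by simp) hg'd) x
  have h2 : (Ideal.Quotient.mk I x) = 0 := Ideal.Quotient.eq_zero_iff_mem.2 hx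
  show (J.iCycles n).hom ((J.liftCycles g' (n + 1) (by simp) hg'd).hom x) =
    (J.iCycles n).hom (g ⟨x, hx⟩)
  rw [h1, hg', h2, map_zero, sub_zero, hgt x hx, LinearMap.comp_apply]

/-- (1) ⇒ (2) for injective amplitude. -/
lemma single_hom_eq_zero_of_hasInjAmplitudeIn (K : Dual.D R) (a b : ℤ)
    (h : HasInjAmplitudeIn R a b K) (N : ModuleCat.{u} R) (i : ℤ) (hi : i < a ∨ b < i)
    (ψ : (singleFunctor (ModuleCat.{u} R) i).obj N ⟶ K) : ψ = 0 := by
  obtain ⟨E, hE, hinj, ⟨e⟩⟩ := h
  haveI : E.IsStrictlyGE a := (E.isStrictlyGE_iff a).2 (fun i hi => hE i (Or.inl hi))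
  haveI : ∀ n, Injective (E.X n) := fun n =>
    Module.injective_object_of_injective_module R _ (inj := hinj n)
  haveI : E.IsKInjective := CochainComplex.isKInjective_of_injective E a
  have h0 := single_hom_Q_eq_zero_of_isZero E N i (hE i hi) (ψ ≫ e.inv)
  exact (cancel_mono e.inv).1 (h0.trans zero_comp.symm)

/-- (3) ⇒ (1) for injective amplitude: vanishing of `Ext^i(R/I, K)` outside `[a, b]` for all
ideals `I` implies injective amplitude in `[a, b]`. -/
theorem hasInjAmplitudeIn_of_cyclic (K : Dual.D R) (a b : ℤ)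
    (hv : ∀ (I : Ideal R) (i : ℤ), (i < a ∨ b < i) →
      ∀ ψ : (singleFunctor (ModuleCat.{u} R) i).obj (ModuleCat.of R (R ⧸ I)) ⟶ K, ψ = 0) :
    HasInjAmplitudeIn R a b K := by
  have hvR : ∀ (i : ℤ), (i < a ∨ b < i) →
      ∀ ψ : (singleFunctor (ModuleCat.{u} R) i).obj (ModuleCat.of R R) ⟶ K, ψ = 0 := by
    intro i hi ψ
    let eR : ModuleCat.of R (R ⧸ (⊥ : Ideal R)) ≅ ModuleCat.of R R :=
      (Submodule.quotEquivOfEqBot (⊥ : Ideal R) rfl).toModuleIso
    have h0 := hv ⊥ i hi ((singleFunctor (ModuleCat.{u} R) i).map eR.hom ≫ ψ)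
    exact (cancel_epi _).1 (h0.trans comp_zero.symm)
  obtain ⟨L, ⟨e⟩⟩ : ∃ L : Cx R, Nonempty (Q.obj L ≅ K) := ⟨_, ⟨Q.objObjPreimageIso K⟩⟩
  haveI : K.IsGE a := by
    rw [isGE_iff]
    intro i hi
    have hex := exactAt_of_single_ring_hom_eq_zero L i (fun ψ => by
      have h0 := hvR i (Or.inl hi) (ψ ≫ e.hom)
      exact (cancel_mono e.hom).1 (h0.trans zero_comp.symm))
    exact hex.isZero_homology.of_iso ((homologyFunctor (ModuleCat.{u} R) i).mapIso e.symm ≪≫
      (homologyFunctorFactors (ModuleCat.{u} R) i).app L)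
  obtain ⟨L', hL', ⟨e'⟩⟩ := K.exists_iso_Q_obj_of_isGE a
  obtain ⟨J, j, hj, hJ, hJa⟩ :=
    CochainComplex.Plus.modelCategoryQuillen.exists_quasiIso_injective L' a
  haveI : IsIso (Q.map j) := by rw [isIso_Q_map_iff_quasiIso]; exact hj
  haveI : J.IsKInjective := CochainComplex.isKInjective_of_injective J a
  obtain ⟨eJ⟩ : Nonempty (K ≅ Q.obj J) := ⟨e' ≪≫ asIso (Q.map j)⟩
  have hvJ : ∀ (I : Ideal R) (i : ℤ), (i < a ∨ b < i) →
      ∀ ψ : (singleFunctor (ModuleCat.{u} R) i).obj (ModuleCat.of R (R ⧸ I)) ⟶ Q.obj J,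
        ψ = 0 := by
    intro I i hi ψ
    have h0 := hv I i hi (ψ ≫ eJ.inv)
    exact (cancel_mono eJ.inv).1 (h0.trans zero_comp.symm)
  have hvJR : ∀ (i : ℤ), (i < a ∨ b < i) →
      ∀ ψ : (singleFunctor (ModuleCat.{u} R) i).obj (ModuleCat.of R R) ⟶ Q.obj J, ψ = 0 := by
    intro i hi ψ
    have h0 := hvR i hi (ψ ≫ eJ.inv)
    exact (cancel_mono eJ.inv).1 (h0.trans zero_comp.symm)
  haveI hLE : J.IsLE b := by
    rw [CochainComplex.isLE_iff]
    intro i hi
    exact exactAt_of_single_ring_hom_eq_zero J i (hvJR i (Or.inr hi))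
  have hcyc : Injective (J.cycles b) :=
    injective_cycles_of_cyclic J b (fun I ψ => hvJ I (b + 1) (Or.inr (by omega)) ψ)
  have hinj : ∀ q, Injective ((J.truncLE b).X q) := by
    intro q
    obtain h | h | h := lt_trichotomy q b
    · exact Injective.of_iso (J.truncLEXIso b q h).symm inferInstance
    · rw [h]
      exact Injective.of_iso (J.truncLEXIsoCycles b).symm hcyc
    · exact (CochainComplex.isZero_of_isStrictlyLE _ b _ h).injective
  haveI hqi : QuasiIso (J.ιTruncLE b) := inferInstance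
  haveI : IsIso (Q.map (J.ιTruncLE b)) := by rw [isIso_Q_map_iff_quasiIso]; exact hqi
  refine ⟨J.truncLE b, ?_, ?_, ⟨asIso (Q.map (J.ιTruncLE b)) ≪≫ eJ.symm⟩⟩
  · intro i hi
    rcases hi with hi | hi
    · exact (J.truncLE b).isZero_of_isStrictlyGE a i hi
    · exact (J.truncLE b).isZero_of_isStrictlyLE b i hi
  · intro i
    haveI := hinj i
    exact Module.injective_module_of_injective_object R _

end Ring

end Groth.Agent.H56
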