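import Mathlib.Algebra.Homology.DerivedCategory.ShortExact
import Mathlib.Algebra.Homology.DerivedCategory.TStructure
import Mathlib.Algebra.Homology.HomologicalComplexAbelian
import Mathlib.CategoryTheory.ObjectProperty.ClosedUnderIsomorphisms

set_option autoImplicit false
universe w v u
open CategoryTheory CategoryTheory.Limits Pretriangulated

namespace Groth.Agent.H56

open DerivedCategory

variable {A : Type u} [Category.{v} A] [Abelian A] [HasDerivedCategory.{w} A]

lemma isZero_Q_obj_of_isZero_X (E : CochainComplex A ℤ) (h : ∀ i, IsZero (E.X i)) :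
    IsZero (Q.obj E) := by
  have hE : IsZero E := by
    rw [IsZero.iff_id_eq_zero]
    ext i
    exact (h i).eq_of_src _ _
  exact Q.map_isZero hE

/-- splitting off the top cell of a complex with `E^{b+1} = 0`. -/
lemma exists_top_cell_ses (E : CochainComplex A ℤ) (b : ℤ) (hb : IsZero (E.X (b + 1))) :
    ∃ (E' : CochainComplex A ℤ)
      (g : (HomologicalComplex.single A (ComplexShape.up ℤ) b).obj (E.X b) ⟶ E) (p : E ⟶ E')
      (w : g ≫ p = 0), (ShortComplex.mk g p w).ShortExact ∧ IsZero (E'.X b) ∧
        ∀ i, i ≠ b → Nonempty (E.X i ≅ E'.X i) := by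
  obtain ⟨g, hg⟩ : ∃ g : (HomologicalComplex.single A (ComplexShape.up ℤ) b).obj (E.X b) ⟶ E,
      g.f b = (HomologicalComplex.singleObjXSelf (ComplexShape.up ℤ) b (E.X b)).hom ≫ 𝟙 _ :=
    ⟨HomologicalComplex.mkHomFromSingle (𝟙 (E.X b)) (fun k hk => by
      have hk' : b + 1 = k := hk
      subst hk'
      exact hb.eq_of_tgt _ _), HomologicalComplex.mkHomFromSingle_f _ _⟩
  have hiso : IsIso (g.f b) := by rw [hg]; infer_instance
  have hmono : Mono g := by
    apply HomologicalComplex.mono_of_mono_f
    intro i
    by_cases hi : i = b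
    · subst hi; infer_instance
    · exact ⟨fun _ _ _ =>
        (HomologicalComplex.isZero_single_obj_X (ComplexShape.up ℤ) b (E.X b) i hi).eq_of_tgt _ _⟩
  have hT : (ShortComplex.mk g (cokernel.π g) (cokernel.condition g)).ShortExact :=
    { exact := ShortComplex.exact_cokernel g
      mono_f := hmono
      epi_g := by dsimp; infer_instance }
  have hdeg := (HomologicalComplex.shortExact_iff_degreewise_shortExact _).1 hT
  refine ⟨cokernel g, g, cokernel.π g, cokernel.condition g, hT, ?_, ?_⟩
  · have hepi : Epi ((cokernel.π g).f b) := (hdeg b).epi_g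
    have h0 : (cokernel.π g).f b = 0 := by
      rw [← cancel_epi (g.f b), comp_zero, ← HomologicalComplex.comp_f, cokernel.condition,
        HomologicalComplex.zero_f]
    exact IsZero.of_epi_eq_zero _ h0
  · intro i hi
    have hz := HomologicalComplex.isZero_single_obj_X (ComplexShape.up ℤ) b (E.X b) i hi
    have hepi : Epi ((cokernel.π g).f i) := (hdeg i).epi_g
    have hmono' : Mono ((cokernel.π g).f i) := (hdeg i).exact.mono_g (hz.eq_of_src _ _)
    have : IsIso ((cokernel.π g).f i) := isIso_of_mono_of_epi _
    exact ⟨asIso ((cokernel.π g).f i)⟩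

/-- induction on bounded complexes via stupid truncations. -/
theorem prop_Q_obj_of_bounded (P : ObjectProperty (DerivedCategory A))
    [P.IsClosedUnderIsomorphisms]
    (hzero : ∀ Z : DerivedCategory A, IsZero Z → P Z)
    (hext : ∀ T : Triangle (DerivedCategory A), T ∈ distTriang _ → P T.obj₁ → P T.obj₃ →
      P T.obj₂) :
    ∀ (n : ℕ) (E : CochainComplex A ℤ) (a b : ℤ), b < a + n →
      (∀ i, i < a ∨ b < i → IsZero (E.X i)) →
      (∀ i, P ((singleFunctor A i).obj (E.X i))) → P (Q.obj E) := by
  intro n
  induction n with
  | zero =>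
    intro E a b hab hvan _
    apply hzero
    apply isZero_Q_obj_of_isZero_X
    intro i
    apply hvan
    omega
  | succ n ih =>
    intro E a b hab hvan hterm
    obtain ⟨E', g, p, w, hT, hb, hiso⟩ :=
      exists_top_cell_ses E b (hvan (b + 1) (Or.inr (by omega)))
    have hdist := triangleOfSES_distinguished hT
    have h1 : P (triangleOfSES hT).obj₁ := hterm b
    have h3 : P (triangleOfSES hT).obj₃ := by
      apply ih E' a (b - 1) (by omega)
      · intro i hi
        by_cases hib : i = b
        · subst hib; exact hb
        · obtain ⟨e⟩ := hiso i hib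
          exact (hvan i (by omega)).of_iso e.symm
      · intro i
        by_cases hib : i = b
        · subst hib
          exact hzero _ ((singleFunctor A i).map_isZero hb)
        · obtain ⟨e⟩ := hiso i hib
          exact P.prop_of_iso ((singleFunctor A i).mapIso e) (hterm i)
    exact hext _ hdist h1 h3

end Groth.Agent.H56
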