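import Groth.Prelude.Def_DRing2
import Groth.Agent.H56.ConeLift
import Groth.Agent.H56.StupidInd
import Groth.Agent.H56.DerCat
import Mathlib.Algebra.Category.ModuleCat.Biproducts
import Mathlib.Algebra.Category.ModuleCat.Projective
import Mathlib.RingTheory.Finiteness.Prod

set_option autoImplicit false
universe u
open CategoryTheory CategoryTheory.Limits Pretriangulated
attribute [local instance] HasDerivedCategory.standard

namespace Groth.Agent.H56

open DRing DerivedCategory DerivedCategory.TStructure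

variable {R : Type u} [CommRing R]

lemma isPerfect_of_iso {K L : Dual.D R} (e : K ≅ L) (h : IsPerfect R K) : IsPerfect R L := by
  obtain ⟨E, a, b, h1, h2, ⟨e'⟩⟩ := h
  exact ⟨E, a, b, h1, h2, ⟨e' ≪≫ e⟩⟩

lemma isPerfect_shift {K : Dual.D R} (h : IsPerfect R K) (n : ℤ) : IsPerfect R (K⟦n⟧) := by
  obtain ⟨E, a, b, h1, h2, ⟨e⟩⟩ := h
  refine ⟨E⟦n⟧, a - n, b - n, ?_, ?_,
    ⟨(Q.commShiftIso n).app E ≪≫ (shiftFunctor (Dual.D R) n).mapIso e⟩⟩
  · intro i hi
    exact h1 (i + n) (by omega)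
  · intro i
    exact h2 (i + n)

lemma moduleFinite_projective_of_isZero (N : ModuleCat.{u} R) (h : IsZero N) :
    Module.Finite R N ∧ Module.Projective R N := by
  haveI := ModuleCat.subsingleton_of_isZero h
  exact ⟨inferInstance, inferInstance⟩

lemma isPerfect_of_isZero {Z : Dual.D R} (hZ : IsZero Z) : IsPerfect R Z := by
  refine ⟨HomologicalComplex.zero, 0, 0, ?_, ?_, ⟨?_⟩⟩
  · intro i _
    exact isZero_zero _
  · intro i
    exact moduleFinite_projective_of_isZero _ (isZero_zero _)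
  · exact (Q.map_isZero HomologicalComplex.isZero_zero).iso hZ

lemma isPerfect_mappingCone {E₁ E₂ : Cx R} (φ : E₁ ⟶ E₂) (a₁ b₁ a₂ b₂ : ℤ)
    (h1 : VanishesOutside E₁ a₁ b₁) (h1' : TermwiseFiniteProjective E₁)
    (h2 : VanishesOutside E₂ a₂ b₂) (h2' : TermwiseFiniteProjective E₂) :
    VanishesOutside (CochainComplex.mappingCone φ) (min (a₁ - 1) a₂) (max (b₁ - 1) b₂) ∧
      TermwiseFiniteProjective (CochainComplex.mappingCone φ) := by
  have eX : ∀ i : ℤ, (CochainComplex.mappingCone φ).X i ≅ E₁.X (i + 1) ⊞ E₂.X i := fun i =>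
    HomologicalComplex.homotopyCofiber.XIsoBiprod φ i (i + 1) rfl
  constructor
  · intro i hi
    refine IsZero.of_iso ?_ (eX i)
    rw [biprod_isZero_iff]
    rcases hi with hi | hi
    · have := lt_min_iff.mp hi
      exact ⟨h1 (i + 1) (Or.inl (by omega)), h2 i (Or.inl (by omega))⟩
    · have := max_lt_iff.mp hi
      exact ⟨h1 (i + 1) (Or.inr (by omega)), h2 i (Or.inr (by omega))⟩
  · intro i
    have e : (CochainComplex.mappingCone φ).X i ≃ₗ[R] (E₁.X (i + 1) × E₂.X i) :=
      ((eX i) ≪≫ ModuleCat.biprodIsoProd (E₁.X (i + 1)) (E₂.X i)).toLinearEquiv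
    haveI := (h1' (i + 1)).1
    haveI := (h1' (i + 1)).2
    haveI := (h2' i).1
    haveI := (h2' i).2
    exact ⟨Module.Finite.equiv e.symm, Module.Projective.of_equiv e.symm⟩

lemma isPerfect_obj₃ (T : Triangle (Dual.D R)) (hT : T ∈ distTriang _)
    (h₁ : IsPerfect R T.obj₁) (h₂ : IsPerfect R T.obj₂) : IsPerfect R T.obj₃ := by
  obtain ⟨E₁, a₁, b₁, v₁, p₁, ⟨e₁⟩⟩ := h₁
  obtain ⟨E₂, a₂, b₂, v₂, p₂, ⟨e₂⟩⟩ := h₂
  haveI : E₁.IsStrictlyLE b₁ := by
    rw [CochainComplex.isStrictlyLE_iff]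
    intro i hi
    exact v₁ i (Or.inr hi)
  haveI : ∀ n, Projective (E₁.X n) := fun n => (IsProjective.iff_projective _).mp (p₁ n).2
  haveI : E₁.IsKProjective := CochainComplex.isKProjective_of_projective E₁ b₁
  obtain ⟨φ, hφ⟩ := exists_chainMap_of_isKProjective E₁ E₂ (e₁.hom ≫ T.mor₁ ≫ e₂.inv)
  obtain ⟨e₃⟩ := nonempty_obj₃_iso_mappingCone T hT e₁.symm e₂.symm φ hφ
  obtain ⟨hv, hp⟩ := isPerfect_mappingCone φ a₁ b₁ a₂ b₂ v₁ p₁ v₂ p₂
  exact ⟨_, _, _, hv, hp, ⟨e₃.symm⟩⟩

lemma isPerfect_obj₂ (T : Triangle (Dual.D R)) (hT : T ∈ distTriang _)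
    (h₁ : IsPerfect R T.obj₁) (h₃ : IsPerfect R T.obj₃) : IsPerfect R T.obj₂ :=
  isPerfect_obj₃ T.invRotate (inv_rot_of_distTriang T hT) (isPerfect_shift h₃ (-1)) h₁

lemma isPerfect_obj₁ (T : Triangle (Dual.D R)) (hT : T ∈ distTriang _)
    (h₂ : IsPerfect R T.obj₂) (h₃ : IsPerfect R T.obj₃) : IsPerfect R T.obj₁ := by
  have h := isPerfect_obj₃ T.rotate (rot_of_distTriang T hT) h₂ h₃
  exact isPerfect_of_iso ((shiftFunctorCompIsoId (Dual.D R) (1 : ℤ) (-1) (by norm_num)).app T.obj₁)
    (isPerfect_shift h (-1))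

lemma isPerfect_single (N : ModuleCat.{u} R) (j : ℤ)
    (h : IsPerfect R ((singleFunctor (ModuleCat.{u} R) 0).obj N)) :
    IsPerfect R ((singleFunctor (ModuleCat.{u} R) j).obj N) :=
  isPerfect_of_iso (((singleFunctors (ModuleCat.{u} R)).shiftIso (-j) j 0 (by omega)).app N)
    (isPerfect_shift h (-j))

theorem isPerfect_of_bounded_perfect_homology :
    ∀ (n : ℕ) (K : Dual.D R) (a b : ℤ), b < a + n →
      (∀ i : ℤ, i < a ∨ b < i → IsZero ((homologyFunctor (ModuleCat.{u} R) i).obj K)) →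
      (∀ i : ℤ, IsPerfect R ((singleFunctor (ModuleCat.{u} R) 0).obj
        ((homologyFunctor (ModuleCat.{u} R) i).obj K))) →
      IsPerfect R K := by
  intro n
  induction n with
  | zero =>
    intro K a b hab hz _
    have h1 : K.IsLE (a - 1) := by
      rw [isLE_iff]
      intro i hi
      exact hz i (by omega)
    have h2 : K.IsGE a := by
      rw [isGE_iff]
      intro i hi
      exact hz i (Or.inl hi)
    exact isPerfect_of_isZero (t.isZero K (a - 1) a (by omega))
  | succ n ih =>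
    intro K a b hab hz hp
    have hLE : K.IsLE b := by
      rw [isLE_iff]
      intro i hi
      exact hz i (Or.inr hi)
    have hT := t.triangleLTGE_distinguished b K
    have g1 : ((t.truncGE b).obj K).IsGE b := inferInstanceAs (t.IsGE ((t.truncGE b).obj K) b)
    have g2 : ((t.truncGE b).obj K).IsLE b := inferInstanceAs (t.IsLE ((t.truncGE b).obj K) b)
    obtain ⟨eZ⟩ := nonempty_iso_single ((t.truncGE b).obj K) b
    have hiso := isIso_homologyMap_truncGEπ K b b le_rfl
    have h3 : IsPerfect R ((t.truncGE b).obj K) := by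
      refine isPerfect_of_iso eZ.symm ?_
      apply isPerfect_single
      exact isPerfect_of_iso ((singleFunctor (ModuleCat.{u} R) 0).mapIso
        (asIso ((homologyFunctor (ModuleCat.{u} R) b).map ((t.truncGEπ b).app K)))) (hp b)
    have l1 : ((t.truncLT b).obj K).IsLE (b - 1) :=
      inferInstanceAs (t.IsLE ((t.truncLT b).obj K) (b - 1))
    have h1 : IsPerfect R ((t.truncLT b).obj K) := by
      apply ih _ a (b - 1) (by omega)
      · intro i hi
        by_cases hib : i < b
        · have := isIso_homologyMap_truncLTι K b i hib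
          exact (hz i (by omega)).of_iso
            (asIso ((homologyFunctor (ModuleCat.{u} R) i).map ((t.truncLTι b).app K)))
        · exact isZero_of_isLE _ (b - 1) i (by omega)
      · intro i
        by_cases hib : i < b
        · have := isIso_homologyMap_truncLTι K b i hib
          exact isPerfect_of_iso ((singleFunctor (ModuleCat.{u} R) 0).mapIso
            (asIso ((homologyFunctor (ModuleCat.{u} R) i).map ((t.truncLTι b).app K))).symm) (hp i)
        · exact isPerfect_of_isZero ((singleFunctor (ModuleCat.{u} R) 0).map_isZero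
            (isZero_of_isLE _ (b - 1) i (by omega)))
    exact isPerfect_obj₂ _ hT h1 h3

end Groth.Agent.H56
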