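import Groth.Agent.H56.DerCat7
import Groth.Agent.H56.ConeLift

set_option autoImplicit false
universe w v u
open CategoryTheory CategoryTheory.Limits Pretriangulated

namespace Groth.Agent.H56

open DerivedCategory DerivedCategory.TStructure

variable {A : Type u} [Category.{v} A] [Abelian A] [HasDerivedCategory.{w} A]

lemma exists_lift_truncGEπ' (K X : DerivedCategory A) (b : ℤ) (g : X ⟶ (t.truncGE b).obj K)
    (h0 : g ≫ (t.truncGEδLT b).app K = 0) : ∃ f : X ⟶ K, g = f ≫ (t.truncGEπ b).app K :=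
  Triangle.coyoneda_exact₃ _ (t.triangleLTGE_distinguished b K) g h0

/-- an epimorphism from a projective object onto `H^0(K)` lifts to `F[0] ⟶ K` when `K ≤ 0`. -/
lemma exists_lift_single_projective_epi (K : DerivedCategory A) [K.IsLE 0] (F : A) [Projective F]
    (π : F ⟶ (homologyFunctor A 0).obj K) [Epi π] :
    ∃ f : (singleFunctor A 0).obj F ⟶ K, Epi ((homologyFunctor A 0).map f) := by
  have g1 : ((t.truncGE 0).obj K).IsGE 0 := inferInstanceAs (t.IsGE ((t.truncGE 0).obj K) 0)
  have g2 : ((t.truncGE 0).obj K).IsLE 0 := inferInstanceAs (t.IsLE ((t.truncGE 0).obj K) 0)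
  obtain ⟨eZ⟩ := nonempty_iso_single ((t.truncGE 0).obj K) 0
  have hiso := isIso_homologyMap_truncGEπ K 0 0 le_rfl
  have hπ'' : Epi (π ≫ (homologyFunctor A 0).map ((t.truncGEπ 0).app K)) := epi_comp _ _
  generalize π ≫ (homologyFunctor A 0).map ((t.truncGEπ 0).app K) = π'' at hπ''
  have hLE : (((t.truncLT 0).obj K)⟦(1 : ℤ)⟧).IsLE (-2) :=
    t.isLE_shift _ (0 - 1) 1 (-2) (by omega)
  have h0 : ((singleFunctor A 0).map π'' ≫ eZ.inv) ≫ (t.truncGEδLT 0).app K = 0 :=
    hom_single_projective_eq_zero F (((t.truncLT 0).obj K)⟦(1 : ℤ)⟧) (-2) (by omega) _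
  obtain ⟨f, hf⟩ := exists_lift_truncGEπ' K _ 0 _ h0
  refine ⟨f, ?_⟩
  have e1 : Epi ((homologyFunctor A 0).map ((singleFunctor A 0).map π'')) := by
    show Epi ((singleFunctor A 0 ⋙ homologyFunctor A 0).map π'')
    rw [← NatIso.naturality_2 (singleFunctorCompHomologyFunctorIso A 0) π'', Functor.id_map]
    infer_instance
  have e2 : Epi ((homologyFunctor A 0).map ((singleFunctor A 0).map π'' ≫ eZ.inv)) := by
    rw [Functor.map_comp]
    infer_instance
  rw [hf, Functor.map_comp] at e2
  have e3 : (homologyFunctor A 0).map f = ((homologyFunctor A 0).map f ≫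
      (homologyFunctor A 0).map ((t.truncGEπ 0).app K)) ≫
        inv ((homologyFunctor A 0).map ((t.truncGEπ 0).app K)) := by
    rw [Category.assoc, IsIso.hom_inv_id, Category.comp_id]
  rw [e3]
  exact epi_comp _ _

/-- an object of `D^{[-1,0]}` is the cone of a map of objects `N ⟶ F` with `F` a projective
cover of `H^0`. -/
theorem exists_twoTerm_of_projective_cover (K : DerivedCategory A) [K.IsLE 0] [K.IsGE (-1)]
    (F : A) [Projective F] (π : F ⟶ (homologyFunctor A 0).obj K) [Epi π] :
    ∃ (N : A) (d' : N ⟶ F) (u : (homologyFunctor A (-1)).obj K ⟶ N)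
      (v : N ⟶ (homologyFunctor A 0).obj ((singleFunctor A 0).obj F)) (w : u ≫ v = 0),
      (ShortComplex.mk u v w).Exact ∧
      Nonempty (K ≅ Q.obj (CochainComplex.mappingCone
        ((HomologicalComplex.single A (ComplexShape.up ℤ) 0).map d'))) := by
  obtain ⟨f, hf⟩ := exists_lift_single_projective_epi K F π
  obtain ⟨C, g, h, hT⟩ := distinguished_cocone_triangle f
  have hLE : C.IsLE (-1) := by
    have h1 := isLE_obj₃_of_epi_mono (Triangle.mk f g h) hT 0 ?_ ?_
    · have e : (0 : ℤ) - 1 = -1 := by norm_num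
      rw [e] at h1
      exact h1
    · intro j hj
      by_cases hj0 : j = 0
      · subst hj0
        exact hf
      · have hz : IsZero ((homologyFunctor A j).obj K) := isZero_of_isLE K 0 j (by omega)
        exact ⟨fun _ _ _ => hz.eq_of_src _ _⟩
    · intro j hj
      have hz : IsZero ((homologyFunctor A j).obj ((singleFunctor A 0).obj F)) :=
        isZero_of_isLE _ 0 j hj
      exact ⟨fun _ _ _ => hz.eq_of_tgt _ _⟩
  have hGE : C.IsGE (-1) := by
    have h3 : t.IsGE (((singleFunctor A 0).obj F)⟦(1 : ℤ)⟧) (-1) :=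
      t.isGE_shift _ 0 1 (-1) (by omega)
    have hK : t.IsGE K (-1) := inferInstanceAs (K.IsGE (-1))
    exact t.isGE₂ (Triangle.mk f g h).rotate (rot_of_distTriang _ hT) (-1) hK h3
  obtain ⟨eC⟩ := nonempty_iso_single C (-1)
  have hT' := inv_rot_of_distTriang _ hT
  let e₁ : (Triangle.mk f g h).invRotate.obj₁ ≅
      Q.obj ((HomologicalComplex.single A (ComplexShape.up ℤ) 0).obj
        ((homologyFunctor A (-1)).obj C)) :=
    (shiftFunctor (DerivedCategory A) (-1 : ℤ)).mapIso eC ≪≫
      ((singleFunctors A).shiftIso (-1) 0 (-1) (by norm_num)).app _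
  let e₂ : (Triangle.mk f g h).invRotate.obj₂ ≅
      Q.obj ((HomologicalComplex.single A (ComplexShape.up ℤ) 0).obj F) := Iso.refl _
  obtain ⟨d', hd'⟩ := (singleFunctor A 0).map_surjective
    (e₁.inv ≫ (Triangle.mk f g h).invRotate.mor₁ ≫ e₂.hom)
  obtain ⟨e⟩ := nonempty_obj₃_iso_mappingCone _ hT' e₁ e₂
    ((HomologicalComplex.single A (ComplexShape.up ℤ) 0).map d') hd'
  exact ⟨_, d', _, _, _, HomologySequence.exact₃ _ hT (-1) 0 (by norm_num), ⟨e⟩⟩

omit [HasDerivedCategory.{w} A] in
/-- terms of the mapping cone of a map of complexes concentrated in degree `0`. -/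
lemma mappingCone_single_map_terms (N F : A) (d' : N ⟶ F) :
    (∀ i : ℤ, i < -1 ∨ 0 < i → IsZero ((CochainComplex.mappingCone
      ((HomologicalComplex.single A (ComplexShape.up ℤ) 0).map d')).X i)) ∧
    Nonempty ((CochainComplex.mappingCone
      ((HomologicalComplex.single A (ComplexShape.up ℤ) 0).map d')).X 0 ≅ F) ∧
    Nonempty ((CochainComplex.mappingCone
      ((HomologicalComplex.single A (ComplexShape.up ℤ) 0).map d')).X (-1) ≅ N) := by
  have eX : ∀ i j : ℤ, (i + 1 = j) → ((CochainComplex.mappingCone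
      ((HomologicalComplex.single A (ComplexShape.up ℤ) 0).map d')).X i ≅
      ((HomologicalComplex.single A (ComplexShape.up ℤ) 0).obj N).X j ⊞
        ((HomologicalComplex.single A (ComplexShape.up ℤ) 0).obj F).X i) := fun i j h =>
    HomologicalComplex.homotopyCofiber.XIsoBiprod
      ((HomologicalComplex.single A (ComplexShape.up ℤ) 0).map d') i j h
  refine ⟨?_, ?_, ?_⟩
  · intro i hi
    refine IsZero.of_iso ?_ (eX i (i + 1) rfl)
    rw [biprod_isZero_iff]
    exact ⟨HomologicalComplex.isZero_single_obj_X (ComplexShape.up ℤ) 0 N (i + 1) (by omega),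
      HomologicalComplex.isZero_single_obj_X (ComplexShape.up ℤ) 0 F i (by omega)⟩
  · exact ⟨eX 0 1 (by norm_num) ≪≫
      (isoZeroBiprod (HomologicalComplex.isZero_single_obj_X (ComplexShape.up ℤ) 0 N 1
        (by norm_num))).symm ≪≫ HomologicalComplex.singleObjXSelf (ComplexShape.up ℤ) 0 F⟩
  · exact ⟨eX (-1) 0 (by norm_num) ≪≫
      (isoBiprodZero (HomologicalComplex.isZero_single_obj_X (ComplexShape.up ℤ) 0 F (-1)
        (by norm_num))).symm ≪≫ HomologicalComplex.singleObjXSelf (ComplexShape.up ℤ) 0 N⟩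

end Groth.Agent.H56
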