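import Groth.Prelude.Def_DRing2
import Groth.Agent.H56.TwoTerm
import Groth.Agent.H56.InjAmp
import Groth.Agent.H56.StupidInd
import Groth.Agent.H56.PerfectCx
import Mathlib.Algebra.Homology.SingleHomology
import Mathlib.Algebra.Category.ModuleCat.EnoughInjectives

set_option autoImplicit false
universe w v u
open CategoryTheory CategoryTheory.Limits Pretriangulated

namespace Groth.Agent.H56

open DerivedCategory DerivedCategory.TStructure

section General

variable {A : Type u} [Category.{v} A] [Abelian A] [HasDerivedCategory.{w} A]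

/-- injective objects detect cohomology: if all morphisms `K ⟶ I[-n]` vanish for injective `I`
then `H^n(K) = 0`. -/
lemma isZero_homology_of_hom_single_injective_eq_zero [EnoughInjectives A]
    (K : DerivedCategory A) (n : ℤ)
    (h : ∀ (I : A), Injective I → ∀ ξ : K ⟶ (singleFunctor A n).obj I, ξ = 0) :
    IsZero ((homologyFunctor A n).obj K) := by
  obtain ⟨L, ⟨e⟩⟩ : ∃ L : CochainComplex A ℤ, Nonempty (Q.obj L ≅ K) :=
    ⟨_, ⟨Q.objObjPreimageIso K⟩⟩
  obtain ⟨I, hI, u, hu⟩ : ∃ (I : A) (_ : Injective I) (u : L.homology n ⟶ I), Mono u :=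
    ⟨Injective.under (L.homology n), inferInstance, Injective.ι _, inferInstance⟩
  obtain ⟨ext, hext⟩ : ∃ ext : L.opcycles n ⟶ I, L.homologyι n ≫ ext = u :=
    ⟨Injective.factorThru u (L.homologyι n), Injective.comp_factorThru _ _⟩
  obtain ⟨ψ, hψ⟩ : ∃ ψ : L ⟶ (HomologicalComplex.single A (ComplexShape.up ℤ) n).obj I,
      ψ.f n = (L.pOpcycles n ≫ ext) ≫
        (HomologicalComplex.singleObjXSelf (ComplexShape.up ℤ) n I).inv :=
    ⟨HomologicalComplex.mkHomToSingle (L.pOpcycles n ≫ ext) (by
      intro i hi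
      rw [← Category.assoc, HomologicalComplex.d_pOpcycles, zero_comp]),
      HomologicalComplex.mkHomToSingle_f _ _⟩
  let s : Q.obj ((HomologicalComplex.single A (ComplexShape.up ℤ) n).obj I) ≅
      (singleFunctor A n).obj I := ((singleFunctorIsoCompQ A n).app I).symm
  have hQ : Q.map ψ = 0 := by
    have h0 := h I hI (e.inv ≫ Q.map ψ ≫ s.hom)
    have h1 : Q.map ψ ≫ s.hom = 0 := (cancel_epi e.inv).1 (h0.trans comp_zero.symm)
    exact (cancel_mono s.hom).1 (h1.trans zero_comp.symm)
  have hH : HomologicalComplex.homologyMap ψ n = 0 := by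
    have h2 := homologyFunctorFactors_hom_naturality ψ n
    rw [hQ, Functor.map_zero, zero_comp] at h2
    exact (cancel_epi ((homologyFunctorFactors A n).hom.app L)).1 (h2.symm.trans comp_zero.symm)
  have h3 : L.homologyι n ≫ HomologicalComplex.opcyclesMap ψ n = 0 := by
    rw [← HomologicalComplex.homologyι_naturality, hH, zero_comp]
  have h4 : HomologicalComplex.opcyclesMap ψ n =
      ext ≫ (HomologicalComplex.singleObjXSelf (ComplexShape.up ℤ) n I).inv ≫
        ((HomologicalComplex.single A (ComplexShape.up ℤ) n).obj I).pOpcycles n := by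
    rw [← cancel_epi (L.pOpcycles n), HomologicalComplex.p_opcyclesMap, hψ, Category.assoc,
      Category.assoc]
  haveI h5 : IsIso (((HomologicalComplex.single A (ComplexShape.up ℤ) n).obj I).pOpcycles n) :=
    HomologicalComplex.isIso_pOpcycles _ (n - 1) n (by simp) (by simp)
  have h6 : u ≫ ((HomologicalComplex.singleObjXSelf (ComplexShape.up ℤ) n I).inv ≫
      ((HomologicalComplex.single A (ComplexShape.up ℤ) n).obj I).pOpcycles n) = 0 := by
    rw [← hext, Category.assoc, ← h4, h3]
  have h7 : u = 0 := (cancel_mono _).1 (h6.trans zero_comp.symm)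
  have hz : IsZero (L.homology n) := by
    rw [IsZero.iff_id_eq_zero]
    exact (cancel_mono u).1 (by rw [Category.id_comp, h7, zero_comp])
  exact hz.of_iso ((homologyFunctor A n).mapIso e.symm ≪≫ (homologyFunctorFactors A n).app L)

/-- maps from a projective object in degree `b` to an object `≤ n < b` vanish. -/
lemma hom_single_projective_eq_zero' (P : A) [Projective P] (W : DerivedCategory A) (b n : ℤ)
    (hn : n < b) [W.IsLE n] (ψ : (singleFunctor A b).obj P ⟶ W) : ψ = 0 := by
  haveI : (W⟦b⟧).IsLE (n - b) := t.isLE_shift W n b (n - b) (by omega)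
  exact (single_hom_shift_vanishing_iff P W b).1
    (fun φ => hom_single_projective_eq_zero P (W⟦b⟧) (n - b) (by omega) φ) ψ

/-- an epimorphism from a projective object onto `H^b(K)` lifts to `F[-b] ⟶ K` when `K ≤ b`. -/
lemma exists_lift_single_projective_epi' (K : DerivedCategory A) (b : ℤ) [K.IsLE b] (F : A)
    [Projective F] (π : F ⟶ (homologyFunctor A b).obj K) [Epi π] :
    ∃ f : (singleFunctor A b).obj F ⟶ K, Epi ((homologyFunctor A b).map f) := by
  have g1 : ((t.truncGE b).obj K).IsGE b := inferInstanceAs (t.IsGE ((t.truncGE b).obj K) b)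
  have g2 : ((t.truncGE b).obj K).IsLE b := inferInstanceAs (t.IsLE ((t.truncGE b).obj K) b)
  obtain ⟨eZ⟩ := nonempty_iso_single ((t.truncGE b).obj K) b
  have hiso := isIso_homologyMap_truncGEπ K b b le_rfl
  have hπ'' : Epi (π ≫ (homologyFunctor A b).map ((t.truncGEπ b).app K)) := epi_comp _ _
  generalize π ≫ (homologyFunctor A b).map ((t.truncGEπ b).app K) = π'' at hπ''
  have hLE : (((t.truncLT b).obj K)⟦(1 : ℤ)⟧).IsLE (b - 2) :=
    t.isLE_shift _ (b - 1) 1 (b - 2) (by omega)
  have h0 : ((singleFunctor A b).map π'' ≫ eZ.inv) ≫ (t.truncGEδLT b).app K = 0 :=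
    hom_single_projective_eq_zero' F (((t.truncLT b).obj K)⟦(1 : ℤ)⟧) b (b - 2) (by omega) _
  obtain ⟨f, hf⟩ := exists_lift_truncGEπ' K _ b _ h0
  refine ⟨f, ?_⟩
  have e1 : Epi ((homologyFunctor A b).map ((singleFunctor A b).map π'')) := by
    show Epi ((singleFunctor A b ⋙ homologyFunctor A b).map π'')
    rw [← NatIso.naturality_2 (singleFunctorCompHomologyFunctorIso A b) π'', Functor.id_map]
    infer_instance
  have e2 : Epi ((homologyFunctor A b).map ((singleFunctor A b).map π'' ≫ eZ.inv)) := by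
    rw [Functor.map_comp]
    infer_instance
  rw [hf, Functor.map_comp] at e2
  have e3 : (homologyFunctor A b).map f = ((homologyFunctor A b).map f ≫
      (homologyFunctor A b).map ((t.truncGEπ b).app K)) ≫
        inv ((homologyFunctor A b).map ((t.truncGEπ b).app K)) := by
    rw [Category.assoc, IsIso.hom_inv_id, Category.comp_id]
  rw [e3]
  exact epi_comp _ _

end General

section Ring

attribute [local instance] HasDerivedCategory.standard

open DRing

variable {R : Type u} [CommRing R]

/-- `Hom(P, N[i]) = 0` for `P` a complex of projectives in `[a, b]` and `i ∉ [-b, -a]`. -/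
lemma hom_projCx_shift_single_eq_zero (P : Cx R) (a b : ℤ) (hP : VanishesOutside P a b)
    (hproj : ∀ i : ℤ, Module.Projective R (P.X i)) (N : ModuleCat.{u} R) (i : ℤ)
    (hi : i < -b ∨ -a < i) (g : Q.obj P ⟶ ((singleFunctor (ModuleCat.{u} R) 0).obj N)⟦i⟧) :
    g = 0 := by
  let Pr : ObjectProperty (Dual.D R) :=
    fun X => ∀ g : X ⟶ ((singleFunctor (ModuleCat.{u} R) 0).obj N)⟦i⟧, g = 0
  haveI : Pr.IsClosedUnderIsomorphisms := ⟨fun {X Y} e h g => by
    have := h (e.hom ≫ g)
    rw [← cancel_epi e.hom, this, comp_zero]⟩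
  have hWLE : (((singleFunctor (ModuleCat.{u} R) 0).obj N)⟦i⟧).IsLE (-i) :=
    t.isLE_shift _ 0 i (-i) (by omega)
  have hWGE : (((singleFunctor (ModuleCat.{u} R) 0).obj N)⟦i⟧).IsGE (-i) :=
    t.isGE_shift _ 0 i (-i) (by omega)
  have key : Pr (Q.obj P) := by
    refine prop_Q_obj_of_bounded Pr ?hzero ?hext (b - a + 1).toNat P a b (by omega) hP ?hterm
    case hzero =>
      intro Z hZ g
      exact hZ.eq_of_src _ _
    case hext =>
      intro T hT h1 h3 g
      obtain ⟨g', hg'⟩ := Triangle.yoneda_exact₂ T hT g (h1 _)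
      rw [hg', h3 g', comp_zero]
    case hterm =>
      intro j g
      by_cases hj : j < a ∨ b < j
      · exact ((singleFunctor _ j).map_isZero (hP j hj)).eq_of_src _ _
      · haveI : Projective (P.X j) := (IsProjective.iff_projective _).mp (hproj j)
        rcases hi with hi | hi
        · exact t.zero_of_isLE_of_isGE g j (-i) (by omega) inferInstance hWGE
        · exact hom_single_projective_eq_zero' (P.X j) _ j (-i) (by omega) g
  exact key g

/-- if `Hom(K, N[i]) = 0` for all modules `N`, then `H^{-i}(K) = 0`. -/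
lemma isZero_homology_of_ext_single_eq_zero (K : Dual.D R) (i : ℤ)
    (h : ∀ (N : ModuleCat.{u} R) (ξ : K ⟶ ((singleFunctor (ModuleCat.{u} R) 0).obj N)⟦i⟧),
      ξ = 0) : IsZero ((homologyFunctor (ModuleCat.{u} R) (-i)).obj K) := by
  apply isZero_homology_of_hom_single_injective_eq_zero K (-i)
  intro I _ ξ
  have h0 := h I (ξ ≫
    (((singleFunctors (ModuleCat.{u} R)).shiftIso i (-i) 0 (by omega)).app I).inv)
  exact (cancel_mono _).1 (h0.trans zero_comp.symm)

lemma projective_mappingCone {E₁ E₂ : Cx R} (φ : E₁ ⟶ E₂) (a₁ b₁ a₂ b₂ a b : ℤ)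
    (h1 : VanishesOutside E₁ a₁ b₁) (h1' : ∀ i : ℤ, Module.Projective R (E₁.X i))
    (h2 : VanishesOutside E₂ a₂ b₂) (h2' : ∀ i : ℤ, Module.Projective R (E₂.X i))
    (ha1 : a ≤ a₁ - 1) (ha2 : a ≤ a₂) (hb1 : b₁ - 1 ≤ b) (hb2 : b₂ ≤ b) :
    VanishesOutside (CochainComplex.mappingCone φ) a b ∧
      ∀ i : ℤ, Module.Projective R ((CochainComplex.mappingCone φ).X i) := by
  have eX : ∀ i : ℤ, (CochainComplex.mappingCone φ).X i ≅ E₁.X (i + 1) ⊞ E₂.X i := fun i =>
    HomologicalComplex.homotopyCofiber.XIsoBiprod φ i (i + 1) rfl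
  constructor
  · intro i hi
    refine IsZero.of_iso ?_ (eX i)
    rw [biprod_isZero_iff]
    rcases hi with hi | hi
    · exact ⟨h1 (i + 1) (Or.inl (by omega)), h2 i (Or.inl (by omega))⟩
    · exact ⟨h1 (i + 1) (Or.inr (by omega)), h2 i (Or.inr (by omega))⟩
  · intro i
    have e : (CochainComplex.mappingCone φ).X i ≃ₗ[R] (E₁.X (i + 1) × E₂.X i) :=
      ((eX i) ≪≫ ModuleCat.biprodIsoProd (E₁.X (i + 1)) (E₂.X i)).toLinearEquiv
    haveI := h1' (i + 1)
    haveI := h2' i
    exact Module.Projective.of_equiv e.symm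

lemma single_cx_props (a : ℤ) (H : ModuleCat.{u} R) (hH : Module.Projective R H) :
    (∀ i : ℤ, i ≠ a →
      IsZero (((HomologicalComplex.single (ModuleCat.{u} R) (ComplexShape.up ℤ) a).obj H).X i)) ∧
    (∀ i : ℤ, Module.Projective R
      (((HomologicalComplex.single (ModuleCat.{u} R) (ComplexShape.up ℤ) a).obj H).X i)) := by
  constructor
  · intro i hi
    exact HomologicalComplex.isZero_single_obj_X _ _ _ _ hi
  · intro i
    by_cases hi : i = a
    · subst hi
      exact Module.Projective.of_equiv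
        (HomologicalComplex.singleObjXSelf (ComplexShape.up ℤ) i H).toLinearEquiv.symm
    · exact (moduleFinite_projective_of_isZero _
        (HomologicalComplex.isZero_single_obj_X _ _ _ _ hi)).2

/-- base case: `K ∈ D^{[a-1, b]}` with `b ≤ a` and `Ext^{-a+1}(K, -) = 0` is a projective module
in degree `a`. -/
lemma exists_projective_cx_base (K : Dual.D R) (a b : ℤ) (hba : b ≤ a)
    (hz : ∀ n : ℤ, (n < a - 1 ∨ b < n) →
      IsZero ((homologyFunctor (ModuleCat.{u} R) n).obj K))
    (hext : ∀ (N : ModuleCat.{u} R)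
      (ξ : K ⟶ ((singleFunctor (ModuleCat.{u} R) 0).obj N)⟦-a + 1⟧), ξ = 0) :
    ∃ P : Cx R, VanishesOutside P a b ∧ (∀ i : ℤ, Module.Projective R (P.X i)) ∧
      Nonempty (Q.obj P ≅ K) := by
  have hz1 : IsZero ((homologyFunctor (ModuleCat.{u} R) (a - 1)).obj K) := by
    have h0 := isZero_homology_of_ext_single_eq_zero K (-a + 1) hext
    have e : -(-a + 1) = a - 1 := by ring
    rwa [e] at h0
  haveI : K.IsLE a := by
    rw [isLE_iff]
    intro i hi
    exact hz i (Or.inr (by omega))
  haveI : K.IsGE a := by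
    rw [isGE_iff]
    intro i hi
    by_cases h : i = a - 1
    · subst h
      exact hz1
    · exact hz i (Or.inl (by omega))
  obtain ⟨eK⟩ := nonempty_iso_single K a
  have hproj : Projective ((homologyFunctor (ModuleCat.{u} R) a).obj K) := by
    apply projective_of_hom_single_shift_eq_zero
    intro M ψ
    have h1 : ∀ ψ' : (singleFunctor (ModuleCat.{u} R) a).obj
        ((homologyFunctor (ModuleCat.{u} R) a).obj K) ⟶
        ((singleFunctor (ModuleCat.{u} R) 0).obj M)⟦-a + 1⟧, ψ' = 0 := fun ψ' => by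
      have h0 := hext M (eK.hom ≫ ψ')
      exact (cancel_epi eK.hom).1 (h0.trans comp_zero.symm)
    have h2 := (single_hom_shift_vanishing_iff ((homologyFunctor (ModuleCat.{u} R) a).obj K)
      (((singleFunctor (ModuleCat.{u} R) 0).obj M)⟦-a + 1⟧) a).2 h1
    have h3 := h2 (ψ ≫ (shiftFunctorAdd' (Dual.D R) (-a + 1) a 1 (by omega)).hom.app _)
    exact (cancel_mono _).1 (h3.trans zero_comp.symm)
  have hproj' : Module.Projective R ((homologyFunctor (ModuleCat.{u} R) a).obj K) :=
    (IsProjective.iff_projective _).mpr hproj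
  obtain ⟨hv, hp⟩ := single_cx_props a ((homologyFunctor (ModuleCat.{u} R) a).obj K) hproj'
  refine ⟨(HomologicalComplex.single (ModuleCat.{u} R) (ComplexShape.up ℤ) a).obj
    ((homologyFunctor (ModuleCat.{u} R) a).obj K), ?_, hp, ⟨?_⟩⟩
  · intro i hi
    by_cases hia : i = a
    · subst hia
      exact (hz i (Or.inr (by omega))).of_iso
        (HomologicalComplex.singleObjXSelf (ComplexShape.up ℤ) i _)
    · exact hv i hia
  · exact ((singleFunctorIsoCompQ (ModuleCat.{u} R) a).app _).symm ≪≫ eK.symm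

/-- (4) ⇒ (1): `K ∈ D^{[a-1, b]}` with `Ext^{-a+1}(K, -) = 0` has projective amplitude in
`[a, b]`. -/
theorem exists_projective_cx_of_ext_vanishing :
    ∀ (k : ℕ) (K : Dual.D R) (a b : ℤ), b < a + 1 + k →
      (∀ n : ℤ, (n < a - 1 ∨ b < n) → IsZero ((homologyFunctor (ModuleCat.{u} R) n).obj K)) →
      (∀ (N : ModuleCat.{u} R)
        (ξ : K ⟶ ((singleFunctor (ModuleCat.{u} R) 0).obj N)⟦-a + 1⟧), ξ = 0) →
      ∃ P : Cx R, VanishesOutside P a b ∧ (∀ i : ℤ, Module.Projective R (P.X i)) ∧
        Nonempty (Q.obj P ≅ K) := by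
  intro k
  induction k with
  | zero =>
    intro K a b hab hz hext
    exact exists_projective_cx_base K a b (by omega) hz hext
  | succ k ih =>
    intro K a b hab hz hext
    by_cases hba : b ≤ a
    · exact exists_projective_cx_base K a b hba hz hext
    · have hab' : a < b := by omega
      haveI hLE : K.IsLE b := by
        rw [isLE_iff]
        intro i hi
        exact hz i (Or.inr hi)
      haveI hGE : K.IsGE (a - 1) := by
        rw [isGE_iff]
        intro i hi
        exact hz i (Or.inl hi)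
      obtain ⟨F, hF, π, hπ⟩ : ∃ (F : ModuleCat.{u} R) (_ : Projective F)
          (π : F ⟶ (homologyFunctor (ModuleCat.{u} R) b).obj K), Epi π :=
        ⟨Projective.over _, inferInstance, Projective.π _, inferInstance⟩
      obtain ⟨f, hf⟩ := exists_lift_single_projective_epi' K b F π
      obtain ⟨C, g, h, hT⟩ := distinguished_cocone_triangle f
      have hCLE : C.IsLE (b - 1) := by
        refine isLE_obj₃_of_epi_mono (Triangle.mk f g h) hT b ?_ ?_
        · intro j hj
          by_cases hjb : j = b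
          · subst hjb
            exact hf
          · have hzz : IsZero ((homologyFunctor (ModuleCat.{u} R) j).obj K) :=
              isZero_of_isLE K b j (by omega)
            exact ⟨fun _ _ _ => hzz.eq_of_src _ _⟩
        · intro j hj
          have hzz : IsZero ((homologyFunctor (ModuleCat.{u} R) j).obj
              ((singleFunctor (ModuleCat.{u} R) b).obj F)) := isZero_of_isLE _ b j hj
          exact ⟨fun _ _ _ => hzz.eq_of_tgt _ _⟩
      have hCGE : C.IsGE (a - 1) := by
        have h3' : t.IsGE (((singleFunctor (ModuleCat.{u} R) b).obj F)⟦(1 : ℤ)⟧) (b - 1) :=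
          t.isGE_shift _ b 1 (b - 1) (by omega)
        have h3 : t.IsGE (((singleFunctor (ModuleCat.{u} R) b).obj F)⟦(1 : ℤ)⟧) (a - 1) :=
          t.isGE_of_ge _ (a - 1) (b - 1) (by omega)
        have hK : t.IsGE K (a - 1) := inferInstanceAs (K.IsGE (a - 1))
        exact t.isGE₂ (Triangle.mk f g h).rotate (rot_of_distTriang _ hT) (a - 1) hK h3
      have hCext : ∀ (N : ModuleCat.{u} R)
          (ξ : C ⟶ ((singleFunctor (ModuleCat.{u} R) 0).obj N)⟦-a + 1⟧), ξ = 0 := by
        intro N ξ
        have h1 : g ≫ ξ = 0 := hext N (g ≫ ξ)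
        obtain ⟨ζ, hζ⟩ := Triangle.yoneda_exact₃ _ hT ξ h1
        haveI hW : (((singleFunctor (ModuleCat.{u} R) 0).obj N)⟦-a + 1⟧).IsLE (a - 1) :=
          t.isLE_shift _ 0 (-a + 1) (a - 1) (by omega)
        have h2 := hom_single_projective_eq_zero' F
          (((singleFunctor (ModuleCat.{u} R) 0).obj N)⟦-a + 1⟧) (b - 1) (a - 1) (by omega)
          ((((singleFunctors (ModuleCat.{u} R)).shiftIso 1 (b - 1) b (by omega)).app F).inv ≫ ζ)
        have h3 : ζ = 0 := (cancel_epi _).1 (h2.trans comp_zero.symm)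
        rw [hζ, h3]
        exact comp_zero
      obtain ⟨P', hP', hproj', ⟨e'⟩⟩ := ih C a (b - 1) (by push_cast at hab; omega)
        (fun n hn => by
          rcases hn with hn | hn
          · exact isZero_of_isGE C (a - 1) n hn
          · exact isZero_of_isLE C (b - 1) n hn) hCext
      have hT' := inv_rot_of_distTriang _ hT
      let e₁ : (Triangle.mk f g h).invRotate.obj₁ ≅ Q.obj (P'⟦(-1 : ℤ)⟧) :=
        (shiftFunctor (Dual.D R) (-1 : ℤ)).mapIso e'.symm ≪≫
          ((Q.commShiftIso (-1 : ℤ)).app P').symm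
      let e₂ : (Triangle.mk f g h).invRotate.obj₂ ≅
          Q.obj ((HomologicalComplex.single (ModuleCat.{u} R) (ComplexShape.up ℤ) b).obj F) :=
        Iso.refl _
      have hv₁ : VanishesOutside (P'⟦(-1 : ℤ)⟧) (a + 1) b := by
        intro i hi
        exact hP' (i + -1) (by omega)
      have hp₁ : ∀ i : ℤ, Module.Projective R ((P'⟦(-1 : ℤ)⟧).X i) := fun i => hproj' (i + -1)
      haveI : (P'⟦(-1 : ℤ)⟧).IsStrictlyLE b := by
        rw [CochainComplex.isStrictlyLE_iff]
        intro i hi
        exact hv₁ i (Or.inr hi)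
      haveI : ∀ n, Projective ((P'⟦(-1 : ℤ)⟧).X n) := fun n =>
        (IsProjective.iff_projective _).mp (hp₁ n)
      haveI : (P'⟦(-1 : ℤ)⟧).IsKProjective := CochainComplex.isKProjective_of_projective _ b
      obtain ⟨φ, hφ⟩ := exists_chainMap_of_isKProjective (P'⟦(-1 : ℤ)⟧)
        ((HomologicalComplex.single (ModuleCat.{u} R) (ComplexShape.up ℤ) b).obj F)
        (e₁.inv ≫ (Triangle.mk f g h).invRotate.mor₁ ≫ e₂.hom)
      obtain ⟨e₃⟩ := nonempty_obj₃_iso_mappingCone _ hT' e₁ e₂ φ hφ
      obtain ⟨hv₂, hp₂⟩ := single_cx_props b F ((IsProjective.iff_projective _).mpr hF)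
      obtain ⟨hv, hp⟩ := projective_mappingCone φ (a + 1) b b b a b hv₁ hp₁
        (fun i hi => hv₂ i (by omega)) hp₂ (by omega) (by omega) (by omega) le_rfl
      exact ⟨_, hv, hp, ⟨e₃.symm⟩⟩

end Ring

end Groth.Agent.H56
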