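import Groth.Prelude.Def_DRing2
import Groth.Agent.H56.PerfectCx
import Mathlib.Algebra.Homology.ShortComplex.ModuleCat
import Mathlib.Algebra.Module.FinitePresentation

set_option autoImplicit false
universe u
open CategoryTheory CategoryTheory.Limits
attribute [local instance] HasDerivedCategory.standard

namespace Groth.Agent.H56

open DRing DerivedCategory

variable {R : Type u} [CommRing R]

lemma epi_toCycles_of_exactAt (E : Cx R) (i j : ℤ) (hij : i + 1 = j) (h : E.ExactAt j) :
    Epi (E.toCycles i j) := by
  have hz : IsZero (E.homology j) := h.isZero_homology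
  have hS : (ShortComplex.mk (E.toCycles i j) (E.homologyπ j) (by simp)).Exact :=
    ShortComplex.exact_of_g_is_cokernel _ (E.homologyIsCokernel i j (by subst hij; simp))
  exact hS.epi_f (hz.eq_of_tgt _ _)

lemma range_toCycles_eq_ker_homologyπ (E : Cx R) (i j : ℤ) (hij : i + 1 = j) :
    LinearMap.range (E.toCycles i j).hom = LinearMap.ker (E.homologyπ j).hom := by
  have hS : (ShortComplex.mk (E.toCycles i j) (E.homologyπ j) (by simp)).Exact :=
    ShortComplex.exact_of_g_is_cokernel _ (E.homologyIsCokernel i j (by subst hij; simp))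
  exact hS.moduleCat_range_eq_ker

/-- cycles of a bounded above complex of finite projectives are finite projective in the range
where the complex is exact above. -/
lemma finite_projective_cycles (E : Cx R) (b : ℤ) (hb : ∀ i : ℤ, b < i → IsZero (E.X i))
    (hfp : ∀ i : ℤ, Module.Finite R (E.X i) ∧ Module.Projective R (E.X i)) (n : ℤ)
    (hex : ∀ i : ℤ, n < i → E.ExactAt i) :
    ∀ (k : ℕ) (i : ℤ), n ≤ i → b < i + k →
      Module.Finite R (E.cycles i) ∧ Module.Projective R (E.cycles i) := by
  intro k
  induction k with
  | zero =>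
    intro i _ hi
    have hz : IsZero (E.cycles i) := IsZero.of_mono (E.iCycles i) (hb i (by simpa using hi))
    exact moduleFinite_projective_of_isZero _ hz
  | succ k ih =>
    intro i hni hi
    obtain ⟨hf1, hp1⟩ := ih (i + 1) (by omega) (by push_cast at hi; omega)
    haveI : Epi (E.toCycles i (i + 1)) := epi_toCycles_of_exactAt E i (i + 1) rfl (hex _ (by omega))
    haveI : Projective (E.cycles (i + 1)) := (IsProjective.iff_projective _).mp hp1
    obtain ⟨s, hs⟩ : ∃ s : E.cycles (i + 1) ⟶ E.X i, s ≫ E.toCycles i (i + 1) = 𝟙 _ :=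
      ⟨Projective.factorThru (𝟙 _) (E.toCycles i (i + 1)), Projective.factorThru_comp _ _⟩
    have hsd : s ≫ E.d i (i + 1) = E.iCycles (i + 1) := by
      rw [← E.toCycles_i i (i + 1), ← Category.assoc, hs, Category.id_comp]
    have hit : E.iCycles i ≫ E.toCycles i (i + 1) = 0 := by
      rw [← cancel_mono (E.iCycles (i + 1)), Category.assoc, HomologicalComplex.toCycles_i,
        HomologicalComplex.iCycles_d, zero_comp]
    obtain ⟨r, hr⟩ : ∃ r : E.X i ⟶ E.cycles i, E.iCycles i ≫ r = 𝟙 _ := by
      refine ⟨E.liftCycles (𝟙 (E.X i) - E.toCycles i (i + 1) ≫ s) (i + 1) (by simp) (by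
        rw [Preadditive.sub_comp, Category.id_comp, Category.assoc, hsd,
          HomologicalComplex.toCycles_i, sub_self]), ?_⟩
      rw [← cancel_mono (E.iCycles i), Category.assoc, HomologicalComplex.liftCycles_i,
        Preadditive.comp_sub, Category.comp_id, Category.id_comp, ← Category.assoc, hit,
        zero_comp, sub_zero]
    have hri : ∀ y, r.hom ((E.iCycles i).hom y) = y := fun y => by
      have := congrArg (fun f : E.cycles i ⟶ E.cycles i => f.hom y) hr
      simpa using this
    haveI := (hfp i).1
    haveI := (hfp i).2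
    constructor
    · exact Module.Finite.of_surjective r.hom (fun y => ⟨(E.iCycles i).hom y, hri y⟩)
    · exact Module.Projective.of_split (E.iCycles i).hom r.hom (LinearMap.ext hri)

/-- finiteness of `H^m` of a bounded-above complex of finite projectives exact above `m`. -/
lemma finite_homology_of_exact_above (E : Cx R) (b : ℤ) (hb : ∀ i : ℤ, b < i → IsZero (E.X i))
    (hfp : ∀ i : ℤ, Module.Finite R (E.X i) ∧ Module.Projective R (E.X i)) (m : ℤ)
    (hex : ∀ i : ℤ, m < i → E.ExactAt i) : Module.Finite R (E.homology m) := by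
  obtain ⟨hf, -⟩ := finite_projective_cycles E b hb hfp m hex (b - m + 1).toNat m le_rfl (by omega)
  exact Module.Finite.of_surjective (E.homologyπ m).hom
    ((ModuleCat.epi_iff_surjective _).1 inferInstance)

/-- finite presentation of `H^{m+1}` of a bounded-above complex of finite projectives exact
above `m+1`. -/
lemma finitePresentation_homology_of_exact_above (E : Cx R) (b : ℤ)
    (hb : ∀ i : ℤ, b < i → IsZero (E.X i))
    (hfp : ∀ i : ℤ, Module.Finite R (E.X i) ∧ Module.Projective R (E.X i)) (m : ℤ)
    (hex : ∀ i : ℤ, m + 1 < i → E.ExactAt i) :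
    Module.FinitePresentation R (E.homology (m + 1)) := by
  obtain ⟨hf, hp⟩ := finite_projective_cycles E b hb hfp (m + 1) hex (b - m + 1).toNat (m + 1)
    le_rfl (by omega)
  haveI : Module.FinitePresentation R (E.cycles (m + 1)) :=
    Module.finitePresentation_of_projective R _
  haveI := (hfp m).1
  refine Module.finitePresentation_of_surjective (E.homologyπ (m + 1)).hom
    ((ModuleCat.epi_iff_surjective _).1 inferInstance) ?_
  rw [← range_toCycles_eq_ker_homologyπ E m (m + 1) rfl, LinearMap.range_eq_map]
  exact Module.Finite.fg_top.map _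

end Groth.Agent.H56
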