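import Groth.Agent.H56.PCohAll

set_option autoImplicit false
universe u
open CategoryTheory CategoryTheory.Limits Pretriangulated

namespace Groth.Agent.H56

open DerivedCategory DerivedCategory.TStructure DRing
open scoped ZeroObject

attribute [local instance] HasDerivedCategory.standard

variable {R : Type u} [CommRing R]

lemma isPseudoCoherent_mono {K : Dual.D R} {m m' : ℤ} (h : IsPseudoCoherent R m K)
    (hm : m ≤ m') : IsPseudoCoherent R m' K := by
  obtain ⟨E, a, b, α, hv, hf, hiso, hepi⟩ := h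
  refine ⟨E, a, b, α, hv, hf, fun i hi => hiso i (by omega), ?_⟩
  by_cases h : m' = m
  · rw [h]; exact hepi
  · haveI := hiso m' (by omega)
    infer_instance

lemma isPseudoCoherent_of_isPseudoCoherent' {K : Dual.D R} (h : IsPseudoCoherent' R K) (m : ℤ) :
    IsPseudoCoherent R m K := by
  obtain ⟨E, b, hv, hf, ⟨e⟩⟩ := h
  exact isPseudoCoherent_of_iso e m
    (isPseudoCoherent_of_bddAbove_finite_projective E b hv
      (termwiseFiniteProjective_of_free hf) m)

lemma isPseudoCoherent'_iff_forall {K : Dual.D R} :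
    IsPseudoCoherent' R K ↔ ∀ m : ℤ, IsPseudoCoherent R m K :=
  ⟨isPseudoCoherent_of_isPseudoCoherent', isPseudoCoherent'_of_forall_isPseudoCoherent K⟩

lemma exists_isLE_of_isPseudoCoherent {K : Dual.D R} {m : ℤ} (h : IsPseudoCoherent R m K) :
    ∃ c : ℤ, K.IsLE c := by
  obtain ⟨E, a, b, α, hv, hf, hiso, hepi⟩ := h
  obtain ⟨c, hc1, hc2⟩ : ∃ c : ℤ, b ≤ c ∧ m ≤ c :=
    ⟨max b m, le_max_left _ _, le_max_right _ _⟩
  refine ⟨c, ?_⟩
  rw [isLE_iff]
  intro i hi
  haveI : E.IsStrictlyLE b := by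
    rw [CochainComplex.isStrictlyLE_iff]
    exact fun j hj => hv j (Or.inr hj)
  haveI := hiso i (by omega)
  exact IsZero.of_iso (isZero_of_isLE (Q.obj E) b i (by omega))
    (asIso ((homologyFunctor (ModuleCat.{u} R) i).map α)).symm

lemma isLE_of_retract {K X : Dual.D R} (i : K ⟶ X) (r : X ⟶ K) (h : i ≫ r = 𝟙 K) (c : ℤ)
    (hX : X.IsLE c) : K.IsLE c := by
  rw [isLE_iff] at hX ⊢
  intro j hj
  have hz := hX j hj
  rw [IsZero.iff_id_eq_zero]
  have h1 : 𝟙 ((homologyFunctor (ModuleCat.{u} R) j).obj K) =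
      (homologyFunctor (ModuleCat.{u} R) j).map i ≫
        (homologyFunctor (ModuleCat.{u} R) j).map r := by
    rw [← Functor.map_comp, h, CategoryTheory.Functor.map_id]
  rw [h1, hz.eq_of_tgt ((homologyFunctor (ModuleCat.{u} R) j).map i) 0, zero_comp]

lemma isGE_of_retract {K X : Dual.D R} (i : K ⟶ X) (r : X ⟶ K) (h : i ≫ r = 𝟙 K) (c : ℤ)
    (hX : X.IsGE c) : K.IsGE c := by
  rw [isGE_iff] at hX ⊢
  intro j hj
  have hz := hX j hj
  rw [IsZero.iff_id_eq_zero]
  have h1 : 𝟙 ((homologyFunctor (ModuleCat.{u} R) j).obj K) =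
      (homologyFunctor (ModuleCat.{u} R) j).map i ≫
        (homologyFunctor (ModuleCat.{u} R) j).map r := by
    rw [← Functor.map_comp, h, CategoryTheory.Functor.map_id]
  rw [h1, hz.eq_of_tgt ((homologyFunctor (ModuleCat.{u} R) j).map i) 0, zero_comp]

lemma isPseudoCoherent_of_biprod_aux (K L : Dual.D R) (m c : ℤ)
    (hX : IsPseudoCoherent R m (K ⊞ L)) (hK : K.IsLE c) (hL : L.IsLE c) (j : ℕ)
    (hj : m ≤ c + 1 - j) :
    IsPseudoCoherent R (c + 1 - j) K ∧ IsPseudoCoherent R (c + 1 - j) L := by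
  induction j with
  | zero =>
    exact ⟨isPseudoCoherent_of_isLE K _ c (by omega) hK,
      isPseudoCoherent_of_isLE L _ c (by omega) hL⟩
  | succ j ih =>
    obtain ⟨h1, h2⟩ := ih (by push_cast at hj ⊢; omega)
    have e : c + 1 - ((j + 1 : ℕ) : ℤ) + 1 = c + 1 - j := by push_cast; ring
    have hX' : IsPseudoCoherent R (c + 1 - ((j + 1 : ℕ) : ℤ)) (K ⊞ L) :=
      isPseudoCoherent_mono hX hj
    have hX'' : IsPseudoCoherent R (c + 1 - ((j + 1 : ℕ) : ℤ)) (L ⊞ K) :=
      isPseudoCoherent_of_iso (biprod.braiding K L) _ hX'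
    constructor
    · exact isPseudoCoherent_obj₃ (binaryBiproductTriangle L K)
        (binaryBiproductTriangle_distinguished L K) _ (by rw [e]; exact h2) hX''
    · exact isPseudoCoherent_obj₃ (binaryBiproductTriangle K L)
        (binaryBiproductTriangle_distinguished K L) _ (by rw [e]; exact h1) hX'

/-- direct summands of `m`-pseudo-coherent objects are `m`-pseudo-coherent. -/
theorem isPseudoCoherent_of_biprod (K L : Dual.D R) (m : ℤ)
    (hX : IsPseudoCoherent R m (K ⊞ L)) :
    IsPseudoCoherent R m K ∧ IsPseudoCoherent R m L := by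
  obtain ⟨c, hc⟩ := exists_isLE_of_isPseudoCoherent hX
  have hK : K.IsLE c := isLE_of_retract biprod.inl biprod.fst biprod.inl_fst c hc
  have hL : L.IsLE c := isLE_of_retract biprod.inr biprod.snd biprod.inr_snd c hc
  by_cases h : m ≤ c + 1
  · have := isPseudoCoherent_of_biprod_aux K L m c hX hK hL (c + 1 - m).toNat (by omega)
    have e : c + 1 - ((c + 1 - m).toNat : ℤ) = m := by omega
    rw [e] at this
    exact this
  · exact ⟨isPseudoCoherent_of_isLE K m c (by omega) hK,
      isPseudoCoherent_of_isLE L m c (by omega) hL⟩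

theorem isPseudoCoherent'_of_biprod (K L : Dual.D R) (hX : IsPseudoCoherent' R (K ⊞ L)) :
    IsPseudoCoherent' R K ∧ IsPseudoCoherent' R L := by
  rw [isPseudoCoherent'_iff_forall] at hX
  exact ⟨isPseudoCoherent'_iff_forall.2 fun m => (isPseudoCoherent_of_biprod K L m (hX m)).1,
    isPseudoCoherent'_iff_forall.2 fun m => (isPseudoCoherent_of_biprod K L m (hX m)).2⟩

lemma isPseudoCoherent_of_isZero {K : Dual.D R} (hK : IsZero K) (m : ℤ) :
    IsPseudoCoherent R m K :=
  isPseudoCoherent_of_iso (IsZero.iso (Q.map_isZero (isZero_zero (Cx R))) hK) m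
    (isPseudoCoherent_Q_obj_of_bounded_ff 0 0 0 (zero_cx_vanishes 0 0) zero_cx_ff m)

lemma isPseudoCoherent_of_termwise_aux (m : ℤ) (n : ℕ) :
    ∀ (K : Cx R) (b : ℤ), VanishesAbove K b →
      (∀ i : ℤ, IsPseudoCoherent R (m - i)
        ((singleFunctor (ModuleCat.{u} R) 0).obj (K.X i))) →
      b < m + n → IsPseudoCoherent R m (Q.obj K) := by
  induction n with
  | zero =>
    intro E b hv hp hb
    haveI : E.IsStrictlyLE b := by
      rw [CochainComplex.isStrictlyLE_iff]
      exact hv
    exact isPseudoCoherent_of_isLE _ m b (by omega) inferInstance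
  | succ n ih =>
    intro K b hv hp hb
    obtain ⟨K', g, p, w, hSE, hz, hiso⟩ := exists_top_cell_ses K b (hv (b + 1) (by omega))
    have hv' : VanishesAbove K' (b - 1) := by
      intro i hi
      by_cases hib : i = b
      · rw [hib]; exact hz
      · obtain ⟨e⟩ := hiso i hib
        exact IsZero.of_iso (hv i (by omega)) e.symm
    have hp' : ∀ i : ℤ, IsPseudoCoherent R (m - i)
        ((singleFunctor (ModuleCat.{u} R) 0).obj (K'.X i)) := by
      intro i
      by_cases hib : i = b
      · rw [hib]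
        exact isPseudoCoherent_of_isZero
          ((singleFunctor (ModuleCat.{u} R) 0).map_isZero hz) _
      · obtain ⟨e⟩ := hiso i hib
        exact isPseudoCoherent_of_iso ((singleFunctor (ModuleCat.{u} R) 0).mapIso e) _ (hp i)
    have h₃ : IsPseudoCoherent R m (Q.obj K') :=
      ih K' (b - 1) hv' hp' (by push_cast at hb; omega)
    have h₁ : IsPseudoCoherent R m (Q.obj ((HomologicalComplex.single (ModuleCat.{u} R)
        (ComplexShape.up ℤ) b).obj (K.X b))) := by
      have h := hp b
      have e : m - b = -b + m := by ring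
      rw [e] at h
      exact isPseudoCoherent_of_iso ((singleFunctorIsoCompQ (ModuleCat.{u} R) b).app (K.X b)) m
        (isPseudoCoherent_of_iso
          (((singleFunctors (ModuleCat.{u} R)).shiftIso (-b) b 0 (by omega)).app (K.X b)) m
          (isPseudoCoherent_shift (-b + m) h (-b) m rfl))
    exact isPseudoCoherent_obj₂ (triangleOfSES hSE) (triangleOfSES_distinguished hSE) m h₁ h₃

/-- a bounded above complex whose terms `K^i` are `(m-i)`-pseudo-coherent is
`m`-pseudo-coherent. -/
theorem isPseudoCoherent_of_termwise (m : ℤ) (K : Cx R) (b : ℤ) (hv : VanishesAbove K b)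
    (hp : ∀ i : ℤ, IsPseudoCoherent R (m - i)
      ((singleFunctor (ModuleCat.{u} R) 0).obj (K.X i))) :
    IsPseudoCoherent R m (Q.obj K) :=
  isPseudoCoherent_of_termwise_aux m (b + 1 - m).toNat K b hv hp (by omega)

end Groth.Agent.H56
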