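import Groth.Agent.H56.PCohHom
import Groth.Agent.S2068
import Groth.Prelude.Def_DDual2
import Mathlib.Algebra.Homology.DerivedCategory.ExactFunctor
import Mathlib.Algebra.Category.ModuleCat.Biproducts
import Mathlib.Algebra.Category.ModuleCat.ChangeOfRings
import Mathlib.LinearAlgebra.Pi
import Mathlib.LinearAlgebra.FreeModule.Finite.Basic

set_option autoImplicit false
universe w₁ w₂ v₁ v₂ u₁ u₂ u
open CategoryTheory CategoryTheory.Limits Pretriangulated

namespace Groth.Agent.H56

open DerivedCategory DerivedCategory.TStructure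

section General

variable {C₁ : Type u₁} {C₂ : Type u₂} [Category.{v₁} C₁] [Category.{v₂} C₂] [Abelian C₁]
  [Abelian C₂] [HasDerivedCategory.{w₁} C₁] [HasDerivedCategory.{w₂} C₂]
  (F : C₁ ⥤ C₂) [F.Additive] [PreservesFiniteLimits F] [PreservesFiniteColimits F]

/-- an exact functor commutes with the homology of cochain complexes. -/
noncomputable def mapHCHomologyIso (i : ℤ) :
    F.mapHomologicalComplex (ComplexShape.up ℤ) ⋙
      HomologicalComplex.homologyFunctor C₂ (ComplexShape.up ℤ) i ≅
      HomologicalComplex.homologyFunctor C₁ (ComplexShape.up ℤ) i ⋙ F :=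
  NatIso.ofComponents (fun K => (K.sc i).mapHomologyIso F)
    (fun f => ShortComplex.mapHomologyIso_hom_naturality
      ((HomologicalComplex.shortComplexFunctor C₁ (ComplexShape.up ℤ) i).map f) F)

/-- an exact functor commutes with the homology functors on derived categories. -/
noncomputable def mapDerivedCategoryHomologyIso (i : ℤ) :
    F.mapDerivedCategory ⋙ DerivedCategory.homologyFunctor C₂ i ≅
      DerivedCategory.homologyFunctor C₁ i ⋙ F :=
  letI : Localization.Lifting Q (HomologicalComplex.quasiIso C₁ (ComplexShape.up ℤ))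
      (F.mapHomologicalComplex (ComplexShape.up ℤ) ⋙
        HomologicalComplex.homologyFunctor C₂ (ComplexShape.up ℤ) i)
      (F.mapDerivedCategory ⋙ DerivedCategory.homologyFunctor C₂ i) :=
    ⟨(Functor.associator _ _ _).symm ≪≫
      Functor.isoWhiskerRight F.mapDerivedCategoryFactors _ ≪≫ Functor.associator _ _ _ ≪≫
      Functor.isoWhiskerLeft _ (homologyFunctorFactors C₂ i)⟩
  letI : Localization.Lifting Q (HomologicalComplex.quasiIso C₁ (ComplexShape.up ℤ))
      (HomologicalComplex.homologyFunctor C₁ (ComplexShape.up ℤ) i ⋙ F)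
      (DerivedCategory.homologyFunctor C₁ i ⋙ F) :=
    ⟨(Functor.associator _ _ _).symm ≪≫
      Functor.isoWhiskerRight (homologyFunctorFactors C₁ i) F⟩
  Localization.liftNatIso Q (HomologicalComplex.quasiIso C₁ (ComplexShape.up ℤ)) _ _ _ _
    (mapHCHomologyIso F i)

lemma isZero_of_isZero_obj_of_faithful [F.Faithful] (X : C₁) (h : IsZero (F.obj X)) :
    IsZero X := by
  rw [IsZero.iff_id_eq_zero]
  apply F.map_injective
  rw [CategoryTheory.Functor.map_id, Functor.map_zero]
  exact (IsZero.iff_id_eq_zero _).1 h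

lemma isLE_mapDerivedCategory_obj_iff [F.Faithful] (K : DerivedCategory C₁) (c : ℤ) :
    (F.mapDerivedCategory.obj K).IsLE c ↔ K.IsLE c := by
  rw [isLE_iff, isLE_iff]
  have key : ∀ i : ℤ, IsZero ((homologyFunctor C₂ i).obj (F.mapDerivedCategory.obj K)) ↔
      IsZero ((homologyFunctor C₁ i).obj K) := by
    intro i
    have e : (homologyFunctor C₂ i).obj (F.mapDerivedCategory.obj K) ≅
        F.obj ((homologyFunctor C₁ i).obj K) := (mapDerivedCategoryHomologyIso F i).app K
    constructor
    · intro h
      exact isZero_of_isZero_obj_of_faithful F _ (IsZero.of_iso h e.symm)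
    · intro h
      exact IsZero.of_iso (F.map_isZero h) e
  exact ⟨fun h i hi => (key i).1 (h i hi), fun h i hi => (key i).2 (h i hi)⟩

end General

section Ring

attribute [local instance] HasDerivedCategory.standard

open DRing

variable {R : Type u} [CommRing R]

lemma isPseudoCoherent_biprod (X Y : Dual.D R) (m : ℤ) (hX : IsPseudoCoherent R m X)
    (hY : IsPseudoCoherent R m Y) : IsPseudoCoherent R m (X ⊞ Y) :=
  isPseudoCoherent_obj₂ (binaryBiproductTriangle X Y)
    (binaryBiproductTriangle_distinguished X Y) m hX hY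

variable {A B : Type u} [CommRing A] [CommRing B] [Algebra A B]

/-- the `B`-module `M` is pseudo-coherent as an `A`-module. -/
def PcRestr (A : Type u) {B : Type u} [CommRing A] [CommRing B] [Algebra A B]
    (M : ModuleCat.{u} B) : Prop :=
  ∀ m' : ℤ, IsPseudoCoherent A m' ((singleFunctor (ModuleCat.{u} A) 0).obj
    ((ModuleCat.restrictScalars.{u} (algebraMap A B)).obj M))

lemma pcRestr_of_iso {M N : ModuleCat.{u} B} (e : M ≅ N) (h : PcRestr A M) : PcRestr A N :=
  fun m' => isPseudoCoherent_of_iso ((singleFunctor (ModuleCat.{u} A) 0).mapIso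
    ((ModuleCat.restrictScalars.{u} (algebraMap A B)).mapIso e)) m' (h m')

lemma pcRestr_of_isZero {M : ModuleCat.{u} B} (h : IsZero M) : PcRestr A M :=
  fun m' => isPseudoCoherent_of_isZero ((singleFunctor (ModuleCat.{u} A) 0).map_isZero
    ((ModuleCat.restrictScalars.{u} (algebraMap A B)).map_isZero h)) m'

lemma pcRestr_biprod {M N : ModuleCat.{u} B} (hM : PcRestr A M) (hN : PcRestr A N) :
    PcRestr A (M ⊞ N) := by
  intro m'
  haveI : PreservesBinaryBiproducts (ModuleCat.restrictScalars.{u} (algebraMap A B) ⋙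
      singleFunctor (ModuleCat.{u} A) 0) :=
    preservesBinaryBiproducts_of_preservesBiproducts _
  exact isPseudoCoherent_of_iso
    ((ModuleCat.restrictScalars.{u} (algebraMap A B) ⋙
      singleFunctor (ModuleCat.{u} A) 0).mapBiprod M N).symm m'
    (isPseudoCoherent_biprod _ _ m' (hM m') (hN m'))

lemma pcRestr_self (hB : IsPseudoCoherentModule' A B) : PcRestr A (ModuleCat.of B B) := by
  intro m'
  have e : ModuleCat.of A B ≅
      (ModuleCat.restrictScalars.{u} (algebraMap A B)).obj (ModuleCat.of B B) :=
    @LinearEquiv.toModuleIso A _ B B _ _ Algebra.toModule (Module.compHom B (algebraMap A B))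
      (@LinearEquiv.mk A A _ _ (RingHom.id A) (RingHom.id A) _ _ B B _ _ Algebra.toModule
        (Module.compHom B (algebraMap A B))
        (@LinearMap.mk A A _ _ (RingHom.id A) B B _ _ Algebra.toModule
          (Module.compHom B (algebraMap A B))
          ⟨fun b => b, fun _ _ => rfl⟩ (fun a b => Algebra.smul_def a b))
        (fun b => b) (fun _ => rfl) (fun _ => rfl))
  exact isPseudoCoherent_of_iso ((singleFunctor (ModuleCat.{u} A) 0).mapIso e) m'
    (isPseudoCoherent_of_isPseudoCoherent' hB m')

lemma pcRestr_pi (hB : IsPseudoCoherentModule' A B) (k : ℕ) :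
    PcRestr A (ModuleCat.of B (Fin k → B)) := by
  induction k with
  | zero => exact pcRestr_of_isZero (ModuleCat.isZero_of_subsingleton _)
  | succ k ih =>
    have e : ModuleCat.of B B ⊞ ModuleCat.of B (Fin k → B) ≅
        ModuleCat.of B (Fin (k + 1) → B) :=
      ModuleCat.biprodIsoProd _ _ ≪≫
        LinearEquiv.toModuleIso (Fin.consLinearEquiv B (fun _ : Fin (k + 1) => B))
    exact pcRestr_of_iso e (pcRestr_biprod (pcRestr_self hB) ih)

lemma pcRestr_of_finite_free (hB : IsPseudoCoherentModule' A B) (M : ModuleCat.{u} B)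
    (h1 : Module.Finite B M) (h2 : Module.Free B M) : PcRestr A M := by
  obtain ⟨n, ⟨e⟩⟩ : ∃ n : ℕ, Nonempty (M ≃ₗ[B] (Fin n → B)) :=
    ⟨_, ⟨((Module.Free.chooseBasis B M).reindex (Fintype.equivFin _)).equivFun⟩⟩
  exact pcRestr_of_iso (LinearEquiv.toModuleIso e.symm) (pcRestr_pi hB n)

lemma finite_of_finite_restrictScalars (M : ModuleCat.{u} B)
    (h : Module.Finite A ((ModuleCat.restrictScalars.{u} (algebraMap A B)).obj M)) :
    Module.Finite B M := by
  letI : Module A M := Module.compHom M (algebraMap A B)
  haveI : IsScalarTower A B M := IsScalarTower.of_algebraMap_smul (fun _ _ => rfl)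
  haveI : Module.Finite A M := h
  exact Module.Finite.of_restrictScalars_finite A B M

lemma isLE_restrictD_iff (K : Dual.D B) (c : ℤ) :
    ((restrictD (algebraMap A B)).obj K).IsLE c ↔ K.IsLE c :=
  isLE_mapDerivedCategory_obj_iff (ModuleCat.restrictScalars.{u} (algebraMap A B)) K c

/-- restriction of scalars along `A → B` with `B` a pseudo-coherent `A`-module preserves
`m`-pseudo-coherence. -/
theorem isPseudoCoherent_restrictD (hB : IsPseudoCoherentModule' A B) (K : Dual.D B) (m : ℤ)
    (h : IsPseudoCoherent B m K) :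
    IsPseudoCoherent A m ((restrictD (algebraMap A B)).obj K) := by
  obtain ⟨E, a, b, α, hv, hf, hiso, hepi⟩ := h
  obtain ⟨C, u, v, hT⟩ := distinguished_cocone_triangle α
  have hC : C.IsLE (m - 1) := isLE_cone_of_homology α u v hT m (m - 1) (by omega) hiso hepi
  have hT' := (restrictD (algebraMap A B)).map_distinguished _ hT
  have h₁ : IsPseudoCoherent A m ((restrictD (algebraMap A B)).obj (Q.obj E)) := by
    refine isPseudoCoherent_of_iso
      ((ModuleCat.restrictScalars.{u} (algebraMap A B)).mapDerivedCategoryFactors.app E).symm m ?_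
    show IsPseudoCoherent A m (Q.obj (((ModuleCat.restrictScalars.{u}
      (algebraMap A B)).mapHomologicalComplex (ComplexShape.up ℤ)).obj E))
    apply isPseudoCoherent_of_termwise m _ b
    · intro i hi
      exact (ModuleCat.restrictScalars.{u} (algebraMap A B)).map_isZero (hv i (Or.inr hi))
    · intro i
      exact pcRestr_of_finite_free hB (E.X i) (hf i).1 (hf i).2 (m - i)
  have h₃ : IsPseudoCoherent A m ((restrictD (algebraMap A B)).obj C) :=
    isPseudoCoherent_of_isLE _ m (m - 1) (by omega) ((isLE_restrictD_iff C (m - 1)).2 hC)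
  exact isPseudoCoherent_obj₂ _ hT' m h₁ h₃

lemma isPseudoCoherent_of_restrictD_aux (hB : IsPseudoCoherentModule' A B) (m : ℤ) (n : ℕ) :
    ∀ (K : Dual.D B) (c : ℤ), K.IsLE c → c < m + n →
      IsPseudoCoherent A m ((restrictD (algebraMap A B)).obj K) → IsPseudoCoherent B m K := by
  induction n with
  | zero =>
    intro K c hK hc _
    exact isPseudoCoherent_of_isLE K m c (by omega) hK
  | succ n ih =>
    intro K c hK hc hGK
    by_cases hcm : c < m
    · exact isPseudoCoherent_of_isLE K m c hcm hK
    haveI := hK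
    haveI hGle : ((restrictD (algebraMap A B)).obj K).IsLE c := (isLE_restrictD_iff K c).2 hK
    have hfinA : Module.Finite A ((homologyFunctor (ModuleCat.{u} A) c).obj
        ((restrictD (algebraMap A B)).obj K)) :=
      (Groth.Agent.S2068.result _ c (isPseudoCoherent_mono hGK (by omega))).1
        (fun i hi => isZero_of_isLE _ c i hi)
    have hfinB : Module.Finite B ((homologyFunctor (ModuleCat.{u} B) c).obj K) := by
      apply finite_of_finite_restrictScalars (A := A)
      haveI hfinA' : Module.Finite A (((ModuleCat.restrictScalars.{u}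
          (algebraMap A B)).mapDerivedCategory ⋙
          homologyFunctor (ModuleCat.{u} A) c).obj K) := hfinA
      exact Module.Finite.equiv ((mapDerivedCategoryHomologyIso
        (ModuleCat.restrictScalars.{u} (algebraMap A B)) c).app K).toLinearEquiv
    obtain ⟨k, π, hπ⟩ :=
      Module.Finite.exists_fin' B ((homologyFunctor (ModuleCat.{u} B) c).obj K)
    obtain ⟨F, hFfin, hFfree, πF, hπF⟩ : ∃ (F : ModuleCat.{u} B) (_ : Module.Finite B F)
        (_ : Module.Free B F) (πF : F ⟶ (homologyFunctor (ModuleCat.{u} B) c).obj K),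
        Epi πF :=
      ⟨ModuleCat.of B (Fin k → B), inferInstance, inferInstance, ModuleCat.ofHom π,
        (ModuleCat.epi_iff_surjective _).2 hπ⟩
    haveI hFproj : Projective F := (IsProjective.iff_projective _).mp Module.Projective.of_free
    haveI := hπF
    obtain ⟨ζ, hζ⟩ := exists_lift_single_projective_epi' K c F πF
    obtain ⟨L, u, v, hT⟩ := distinguished_cocone_triangle ζ
    have hL : L.IsLE (c - 1) := isLE_cone_of_homology ζ u v hT c (c - 1) (by omega)
      (fun i hi => ⟨⟨0, (isZero_of_isLE ((singleFunctor (ModuleCat.{u} B) c).obj F) c i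
        hi).eq_of_src _ _, (isZero_of_isLE K c i hi).eq_of_src _ _⟩⟩) hζ
    have hT' := (restrictD (algebraMap A B)).map_distinguished _ hT
    have h₁ : IsPseudoCoherent A (m + 1) ((restrictD (algebraMap A B)).obj
        ((singleFunctor (ModuleCat.{u} B) c).obj F)) :=
      isPseudoCoherent_of_iso (((ModuleCat.restrictScalars.{u}
        (algebraMap A B)).mapDerivedCategorySingleFunctor c).app F).symm (m + 1)
        (isPseudoCoherent_single_shift _ c (m + 1) (pcRestr_of_finite_free hB F hFfin hFfree _))
    have hGL : IsPseudoCoherent A m ((restrictD (algebraMap A B)).obj L) :=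
      isPseudoCoherent_obj₃ _ hT' m h₁ hGK
    have hLpc : IsPseudoCoherent B m L := ih L (c - 1) hL (by push_cast at hc; omega) hGL
    exact isPseudoCoherent_obj₂ (Triangle.mk ζ u v) hT m
      (isPseudoCoherent_single_free c F hFfin hFfree m) hLpc

theorem isPseudoCoherent_of_restrictD (hB : IsPseudoCoherentModule' A B) (K : Dual.D B) (m : ℤ)
    (h : IsPseudoCoherent A m ((restrictD (algebraMap A B)).obj K)) :
    IsPseudoCoherent B m K := by
  obtain ⟨c, hc⟩ := exists_isLE_of_isPseudoCoherent h
  have hK : K.IsLE c := (isLE_restrictD_iff K c).1 hc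
  exact isPseudoCoherent_of_restrictD_aux hB m (c + 1 - m).toNat K c hK (by omega) h

end Ring

end Groth.Agent.H56
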