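import Groth.Agent.H56.DerCat5

set_option autoImplicit false
universe w v u
open CategoryTheory CategoryTheory.Limits Pretriangulated

namespace Groth.Agent.H56

open DerivedCategory DerivedCategory.TStructure

variable {A : Type u} [Category.{v} A] [Abelian A] [HasDerivedCategory.{w} A]

/-- vanishing of `H^{n₀}` of the third vertex of a distinguished triangle. -/
lemma isZero_homology_obj₃ (T : Triangle (DerivedCategory A)) (hT : T ∈ distTriang _)
    (n₀ n₁ : ℤ) (h : n₀ + 1 = n₁)
    (h2 : (homologyFunctor A n₀).map T.mor₂ = 0) (hδ : HomologySequence.δ T n₀ n₁ h = 0) :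
    IsZero ((homologyFunctor A n₀).obj T.obj₃) :=
  (HomologySequence.exact₃ T hT n₀ n₁ h).isZero_of_both_zeros h2 hδ

/-- vanishing of `H^{n₁}` of the first vertex of a distinguished triangle. -/
lemma isZero_homology_obj₁ (T : Triangle (DerivedCategory A)) (hT : T ∈ distTriang _)
    (n₀ n₁ : ℤ) (h : n₀ + 1 = n₁)
    (h1 : (homologyFunctor A n₁).map T.mor₁ = 0) (hδ : HomologySequence.δ T n₀ n₁ h = 0) :
    IsZero ((homologyFunctor A n₁).obj T.obj₁) :=
  (HomologySequence.exact₁ T hT n₀ n₁ h).isZero_of_both_zeros hδ h1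

/-- vanishing of `H^{n}` of the second vertex of a distinguished triangle. -/
lemma isZero_homology_obj₂ (T : Triangle (DerivedCategory A)) (hT : T ∈ distTriang _)
    (n : ℤ)
    (h1 : (homologyFunctor A n).map T.mor₁ = 0) (h2 : (homologyFunctor A n).map T.mor₂ = 0) :
    IsZero ((homologyFunctor A n).obj T.obj₂) :=
  (HomologySequence.exact₂ T hT n).isZero_of_both_zeros h1 h2

/-- if `H^j(mor₁)` is epi for `j ≥ c`, and mono for `j > c` then the cone is `≤ c - 1`. -/
lemma isLE_obj₃_of_epi_mono (T : Triangle (DerivedCategory A)) (hT : T ∈ distTriang _) (c : ℤ)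
    (hepi : ∀ j, c ≤ j → Epi ((homologyFunctor A j).map T.mor₁))
    (hmono : ∀ j, c < j → Mono ((homologyFunctor A j).map T.mor₁)) :
    T.obj₃.IsLE (c - 1) := by
  rw [isLE_iff]
  intro j hj
  refine isZero_homology_obj₃ T hT j (j + 1) rfl ?_ ?_
  · exact (HomologySequence.epi_homologyMap_mor₁_iff T hT j).mp (hepi j (by omega))
  · exact (HomologySequence.mono_homologyMap_mor₁_iff T hT j (j + 1) rfl).mp
      (hmono (j + 1) (by omega))

end Groth.Agent.H56
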