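import Groth.Agent.H56.DerCat3

set_option autoImplicit false
universe w v u
open CategoryTheory CategoryTheory.Limits Pretriangulated

namespace Groth.Agent.H56

open DerivedCategory DerivedCategory.TStructure

variable {A : Type u} [Category.{v} A] [Abelian A] [HasDerivedCategory.{w} A]

lemma isIso_of_isZero' {C : Type*} [Category C] [HasZeroMorphisms C] {X Y : C} (f : X ⟶ Y)
    (hX : IsZero X) (hY : IsZero Y) : IsIso f :=
  ⟨⟨0, hX.eq_of_src _ _, hY.eq_of_src _ _⟩⟩

lemma homologyMap_truncGE_map_eq_zero {Y Y' : DerivedCategory A} (φ : Y ⟶ Y') (a j : ℤ)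
    (hj : a ≤ j) (h : (homologyFunctor A j).map φ = 0) :
    (homologyFunctor A j).map ((t.truncGE a).map φ) = 0 := by
  have := isIso_homologyMap_truncGEπ Y a j hj
  rw [← cancel_epi ((homologyFunctor A j).map ((t.truncGEπ a).app Y)), comp_zero,
    ← Functor.map_comp, t.truncGEπ_naturality, Functor.map_comp, h, zero_comp]

lemma homologyMap_truncLT_map_eq_zero {K K' : DerivedCategory A} (f : K ⟶ K') (c j : ℤ)
    (hj : j < c) (h : (homologyFunctor A j).map f = 0) :
    (homologyFunctor A j).map ((t.truncLT c).map f) = 0 := by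
  have := isIso_homologyMap_truncLTι K' c j hj
  have nat : (t.truncLT c).map f ≫ (t.truncLTι c).app K' = (t.truncLTι c).app K ≫ f :=
    (t.truncLTι c).naturality f
  rw [← cancel_mono ((homologyFunctor A j).map ((t.truncLTι c).app K')), zero_comp,
    ← Functor.map_comp, nat, Functor.map_comp, h, comp_zero]

lemma isIso_homologyMap_natTransTruncGEOfLE (Y : DerivedCategory A) (a b j : ℤ) (hab : a ≤ b)
    (hj : b ≤ j) :
    IsIso ((homologyFunctor A j).map ((t.natTransTruncGEOfLE a b hab).app Y)) := by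
  have h1 := isIso_homologyMap_truncGEπ Y a j (by omega)
  have h2 := isIso_homologyMap_truncGEπ Y b j hj
  have w : (homologyFunctor A j).map ((t.truncGEπ a).app Y) ≫
      (homologyFunctor A j).map ((t.natTransTruncGEOfLE a b hab).app Y) =
      (homologyFunctor A j).map ((t.truncGEπ b).app Y) := by
    rw [← Functor.map_comp, t.π_natTransTruncGEOfLE_app]
  exact IsIso.of_isIso_fac_left w

lemma isIso_homologyMap_natTransTruncLTOfLE (K : DerivedCategory A) (b c j : ℤ) (hbc : b ≤ c)
    (hj : j < b) :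
    IsIso ((homologyFunctor A j).map ((t.natTransTruncLTOfLE b c hbc).app K)) := by
  have h1 := isIso_homologyMap_truncLTι K b j hj
  have h2 := isIso_homologyMap_truncLTι K c j (by omega)
  have w : (homologyFunctor A j).map ((t.natTransTruncLTOfLE b c hbc).app K) ≫
      (homologyFunctor A j).map ((t.truncLTι c).app K) =
      (homologyFunctor A j).map ((t.truncLTι b).app K) := by
    rw [← Functor.map_comp, t.natTransTruncLTOfLE_ι_app]
  exact IsIso.of_isIso_fac_right w

lemma isIso_homologyMap_truncGE_map {Y Y' : DerivedCategory A} (ψ : Y ⟶ Y') (a j : ℤ)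
    (hj : a ≤ j) (h : IsIso ((homologyFunctor A j).map ψ)) :
    IsIso ((homologyFunctor A j).map ((t.truncGE a).map ψ)) := by
  have h1 := isIso_homologyMap_truncGEπ Y a j hj
  have h2 := isIso_homologyMap_truncGEπ Y' a j hj
  have w : (homologyFunctor A j).map ((t.truncGEπ a).app Y) ≫
      (homologyFunctor A j).map ((t.truncGE a).map ψ) =
      (homologyFunctor A j).map ψ ≫ (homologyFunctor A j).map ((t.truncGEπ a).app Y') := by
    rw [← Functor.map_comp, ← Functor.map_comp, t.truncGEπ_naturality]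
  exact IsIso.of_isIso_fac_left w

/-- `natTransTruncGEOfLE a b` is "epi" with respect to targets in `D^{≥ b-1}`. -/
lemma eq_zero_of_natTransTruncGEOfLE_comp (Y Z : DerivedCategory A) (a b : ℤ) (hab : a ≤ b)
    [Z.IsGE (b - 1)] (u : (t.truncGE b).obj Y ⟶ Z)
    (hu : (t.natTransTruncGEOfLE a b hab).app Y ≫ u = 0) : u = 0 := by
  have h0 : (t.truncGEπ b).app Y ≫ u = 0 := by
    rw [← t.π_natTransTruncGEOfLE_app a b hab, Category.assoc, hu, comp_zero]
  obtain ⟨v, hv⟩ := Triangle.yoneda_exact₃ _ (t.triangleLTGE_distinguished b Y) u h0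
  have : t.IsLE (((t.truncLT b).obj Y)⟦(1 : ℤ)⟧) (b - 2) :=
    t.isLE_shift _ (b - 1) 1 (b - 2) (by omega)
  have hv0 : v = 0 := t.zero_of_isLE_of_isGE v (b - 2) (b - 1) (by omega) this inferInstance
  rw [hv, hv0]
  exact comp_zero

/-- `truncLTι b` is "mono" with respect to sources in `D^{≤ b}`. -/
lemma eq_zero_of_comp_truncLTι (W X : DerivedCategory A) (b : ℤ) [W.IsLE b]
    (u : W ⟶ (t.truncLT b).obj X) (hu : u ≫ (t.truncLTι b).app X = 0) : u = 0 := by
  obtain ⟨g, hg⟩ := Triangle.coyoneda_exact₂ _ (inv_rot_of_distTriang _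
    (t.triangleLTGE_distinguished b X)) u hu
  have hg' := t.zero_of_isLE_of_isGE g b (b + 1) (by omega) inferInstance
    (by apply (t.isGE_shift _ b (-1) (b + 1) (by omega)))
  rw [hg, hg']
  exact zero_comp

lemma isIso_liftTruncLT {F X : DerivedCategory A} (b : ℤ) [F.IsLE (b - 1)] (i : F ⟶ X)
    (hi : ∀ j, j < b → IsIso ((homologyFunctor A j).map i)) :
    IsIso (t.liftTruncLT i (b - 1) b (by omega)) := by
  rw [isIso_iff]
  intro j
  by_cases hj : j < b
  · have h1 := hi j hj
    have h2 := isIso_homologyMap_truncLTι X b j hj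
    have w : (homologyFunctor A j).map (t.liftTruncLT i (b - 1) b (by omega)) ≫
        (homologyFunctor A j).map ((t.truncLTι b).app X) = (homologyFunctor A j).map i := by
      rw [← Functor.map_comp, t.liftTruncLT_ι]
    exact IsIso.of_isIso_fac_right w
  · have : ((t.truncLT b).obj X).IsLE (b - 1) :=
      inferInstanceAs (t.IsLE ((t.truncLT b).obj X) (b - 1))
    exact isIso_of_isZero' _ (isZero_of_isLE F (b - 1) j (by omega))
      (isZero_of_isLE ((t.truncLT b).obj X) (b - 1) j (by omega))

end Groth.Agent.H56
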