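import Groth.Agent.H56.DerCat4

set_option autoImplicit false
universe w v u
open CategoryTheory CategoryTheory.Limits Pretriangulated

namespace Groth.Agent.H56

open DerivedCategory DerivedCategory.TStructure

variable {A : Type u} [Category.{v} A] [Abelian A] [HasDerivedCategory.{w} A]

lemma exists_desc_truncGEπ (Y Z : DerivedCategory A) (b : ℤ) (u : Y ⟶ Z)
    (hu : (t.truncLTι b).app Y ≫ u = 0) :
    ∃ u' : (t.truncGE b).obj Y ⟶ Z, u = (t.truncGEπ b).app Y ≫ u' :=
  Triangle.yoneda_exact₂ _ (t.triangleLTGE_distinguished b Y) u hu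

lemma exists_lift_truncLTι (W X : DerivedCategory A) (b : ℤ) (u : W ⟶ X)
    (hu : u ≫ (t.truncGEπ b).app X = 0) :
    ∃ u' : W ⟶ (t.truncLT b).obj X, u = u' ≫ (t.truncLTι b).app X :=
  Triangle.coyoneda_exact₂ _ (t.triangleLTGE_distinguished b X) u hu

/-- abstract form of the "linking morphism" lemma. -/
theorem existsUnique_link (Y A' F' : DerivedCategory A) (a : ℤ) (haa : a ≤ a + 1)
    [Y.IsLE (a + 1)] [A'.IsGE a] [F'.IsLE a]
    (i : F' ⟶ A') (hi : ∀ j, j < a + 1 → IsIso ((homologyFunctor A j).map i))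
    (g : (t.truncGE a).obj Y ⟶ A')
    (hga : (homologyFunctor A a).map g = 0) (hgb : (homologyFunctor A (a + 1)).map g = 0) :
    ∃! L : (t.truncGE (a + 1)).obj Y ⟶ F',
      g = (t.natTransTruncGEOfLE a (a + 1) haa).app Y ≫ L ≫ i := by
  have hF' : F'.IsLE (a + 1 - 1) := by
    have : a + 1 - 1 = a := by omega
    rw [this]; infer_instance
  obtain ⟨ℓ, hℓ, hfac⟩ : ∃ ℓ : F' ⟶ (t.truncLT (a + 1)).obj A', IsIso ℓ ∧
      ℓ ≫ (t.truncLTι (a + 1)).app A' = i :=
    ⟨_, isIso_liftTruncLT (a + 1) i hi, t.liftTruncLT_ι i (a + 1 - 1) (a + 1) (by omega)⟩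
  have hBLE : ((t.truncGE (a + 1)).obj Y).IsLE (a + 1) :=
    inferInstanceAs (t.IsLE ((t.truncGE (a + 1)).obj Y) (a + 1))
  have hA'GE : A'.IsGE (a + 1 - 1) := by
    have : a + 1 - 1 = a := by omega
    rw [this]; infer_instance
  refine existsUnique_of_exists_of_unique ?_ ?_
  · -- existence
    have h1LE : ((t.truncLT (a + 1)).obj Y).IsLE a :=
      inferInstanceAs (t.IsLE ((t.truncLT (a + 1)).obj Y) a)
    have h0 : (t.truncLTι (a + 1)).app Y ≫ (t.truncGEπ a).app Y ≫ g = 0 := by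
      apply hom_eq_zero_of_homologyMap_eq_zero a
      rw [Functor.map_comp, Functor.map_comp, hga, comp_zero, comp_zero]
    obtain ⟨g₂, hg₂⟩ := exists_desc_truncGEπ Y A' (a + 1) ((t.truncGEπ a).app Y ≫ g) h0
    have hpg : (t.natTransTruncGEOfLE a (a + 1) haa).app Y ≫ g₂ = g := by
      apply t.from_truncGE_obj_ext (n := a)
      have e1 := t.π_natTransTruncGEOfLE_app a (a + 1) haa Y
      calc (t.truncGEπ a).app Y ≫ (t.natTransTruncGEOfLE a (a + 1) haa).app Y ≫ g₂
          = ((t.truncGEπ a).app Y ≫ (t.natTransTruncGEOfLE a (a + 1) haa).app Y) ≫ g₂ :=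
            (Category.assoc _ _ _).symm
        _ = (t.truncGEπ (a + 1)).app Y ≫ g₂ := by rw [e1]
        _ = (t.truncGEπ a).app Y ≫ g := hg₂.symm
    have hg₂b : (homologyFunctor A (a + 1)).map g₂ = 0 := by
      have := isIso_homologyMap_natTransTruncGEOfLE Y a (a + 1) (a + 1) haa le_rfl
      rw [← cancel_epi ((homologyFunctor A (a + 1)).map
        ((t.natTransTruncGEOfLE a (a + 1) haa).app Y)), comp_zero, ← Functor.map_comp, hpg, hgb]
    have h3GE : ((t.truncGE (a + 1)).obj A').IsGE (a + 1) :=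
      inferInstanceAs (t.IsGE ((t.truncGE (a + 1)).obj A') (a + 1))
    have h0' : g₂ ≫ (t.truncGEπ (a + 1)).app A' = 0 := by
      apply hom_eq_zero_of_homologyMap_eq_zero (a + 1)
      rw [Functor.map_comp, hg₂b, zero_comp]
    obtain ⟨L', hL'⟩ := exists_lift_truncLTι _ A' (a + 1) g₂ h0'
    refine ⟨L' ≫ inv ℓ, ?_⟩
    rw [← hpg, hL', ← hfac]
    simp only [Category.assoc, IsIso.inv_hom_id_assoc]
  · -- uniqueness
    intro L₁ L₂ h₁ h₂
    have h : (t.natTransTruncGEOfLE a (a + 1) haa).app Y ≫ ((L₁ - L₂) ≫ i) = 0 := by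
      rw [Preadditive.sub_comp, Preadditive.comp_sub, ← h₁, ← h₂, sub_self]
    have k1 := eq_zero_of_natTransTruncGEOfLE_comp Y A' a (a + 1) haa _ h
    rw [← hfac, ← Category.assoc] at k1
    have k2 := eq_zero_of_comp_truncLTι _ A' (a + 1) _ k1
    have k3 : L₁ - L₂ = 0 := by
      rw [← cancel_mono ℓ, k2, zero_comp]
    exact sub_eq_zero.mp k3

/-- the linking morphism `τ_[b,b] K ⟶ τ_[a,a] K'` of a morphism inducing zero on `H^a`, `H^b`. -/
theorem existsUnique_truncMap {K K' : DerivedCategory A} (f : K ⟶ K') (a : ℤ)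
    (hab : a ≤ a + 1) (hbc : a + 1 ≤ a + 1 + 1)
    (hfa : (homologyFunctor A a).map f = 0) (hfb : (homologyFunctor A (a + 1)).map f = 0) :
    ∃! L : (t.truncGELT (a + 1) (a + 1 + 1)).obj K ⟶ (t.truncGELT a (a + 1)).obj K',
      (t.truncGELT a (a + 1 + 1)).map f =
        (t.natTransTruncGEOfLE a (a + 1) hab).app ((t.truncLT (a + 1 + 1)).obj K) ≫ L ≫
          (t.truncGE a).map ((t.natTransTruncLTOfLE (a + 1) (a + 1 + 1) hbc).app K') := by
  have hY : ((t.truncLT (a + 1 + 1)).obj K).IsLE (a + 1) :=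
    inferInstanceAs (t.IsLE ((t.truncLT (a + 1 + 1)).obj K) (a + 1))
  have hA' : ((t.truncGE a).obj ((t.truncLT (a + 1 + 1)).obj K')).IsGE a :=
    inferInstanceAs (t.IsGE ((t.truncGE a).obj ((t.truncLT (a + 1 + 1)).obj K')) a)
  have hF'0 : t.IsLE ((t.truncLT (a + 1)).obj K') a := inferInstance
  have hF' : ((t.truncGE a).obj ((t.truncLT (a + 1)).obj K')).IsLE a :=
    inferInstanceAs (t.IsLE ((t.truncGE a).obj ((t.truncLT (a + 1)).obj K')) a)
  have hF'GE : ((t.truncGE a).obj ((t.truncLT (a + 1)).obj K')).IsGE a :=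
    inferInstanceAs (t.IsGE ((t.truncGE a).obj ((t.truncLT (a + 1)).obj K')) a)
  refine existsUnique_link ((t.truncLT (a + 1 + 1)).obj K)
    ((t.truncGE a).obj ((t.truncLT (a + 1 + 1)).obj K'))
    ((t.truncGE a).obj ((t.truncLT (a + 1)).obj K')) a hab
    ((t.truncGE a).map ((t.natTransTruncLTOfLE (a + 1) (a + 1 + 1) hbc).app K')) ?_
    ((t.truncGE a).map ((t.truncLT (a + 1 + 1)).map f)) ?_ ?_
  · intro j hj
    by_cases hja : a ≤ j
    · exact isIso_homologyMap_truncGE_map _ a j hja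
        (isIso_homologyMap_natTransTruncLTOfLE K' (a + 1) (a + 1 + 1) j hbc hj)
    · exact isIso_of_isZero' _
        (isZero_of_isGE ((t.truncGE a).obj ((t.truncLT (a + 1)).obj K')) a j (by omega))
        (isZero_of_isGE ((t.truncGE a).obj ((t.truncLT (a + 1 + 1)).obj K')) a j (by omega))
  · exact homologyMap_truncGE_map_eq_zero _ a a le_rfl
      (homologyMap_truncLT_map_eq_zero f (a + 1 + 1) a (by omega) hfa)
  · exact homologyMap_truncGE_map_eq_zero _ a (a + 1) (by omega)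
      (homologyMap_truncLT_map_eq_zero f (a + 1 + 1) (a + 1) (by omega) hfb)

theorem existsUnique_truncMap' {K K' : DerivedCategory A} (f : K ⟶ K') (a b c : ℤ)
    (h1 : a + 1 = b) (h2 : b + 1 = c) (hab : a ≤ b) (hbc : b ≤ c)
    (hfa : (homologyFunctor A a).map f = 0) (hfb : (homologyFunctor A b).map f = 0) :
    ∃! L : (t.truncGELT b c).obj K ⟶ (t.truncGELT a b).obj K',
      (t.truncGELT a c).map f =
        (t.natTransTruncGEOfLE a b hab).app ((t.truncLT c).obj K) ≫ L ≫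
          (t.truncGE a).map ((t.natTransTruncLTOfLE b c hbc).app K') := by
  subst h1 h2
  exact existsUnique_truncMap f a hab hbc hfa hfb

end Groth.Agent.H56
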