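import Groth.Agent.H56.ProjAmp
import Groth.Agent.H56.DerCat5
import Mathlib.Algebra.Homology.DerivedCategory.Ext.EnoughInjectives

set_option autoImplicit false
universe w v u
open CategoryTheory CategoryTheory.Limits Pretriangulated

namespace Groth.Agent.H56

open DerivedCategory DerivedCategory.TStructure

section General

variable {A : Type u} [Category.{v} A] [Abelian A] [HasDerivedCategory.{w} A]

/-- maps from an object `≥ n` to an injective object placed in degree `i < n` vanish. -/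
lemma hom_to_single_injective_eq_zero (I : A) [Injective I] (X : DerivedCategory A) (i n : ℤ)
    (hn : i < n) [X.IsGE n] (φ : X ⟶ (singleFunctor A i).obj I) : φ = 0 := by
  obtain ⟨L, hL, ⟨e⟩⟩ := X.exists_iso_Q_obj_of_isGE n
  have h0 : e.inv ≫ φ ≫ (singleFunctorIsoCompQ A i).hom.app I = 0 :=
    to_singleFunctor_obj_eq_zero_of_injective (I := I) (K := L) (i := i) _ n hn
  have h1 : φ ≫ (singleFunctorIsoCompQ A i).hom.app I = 0 :=
    (cancel_epi e.inv).1 (h0.trans comp_zero.symm)
  exact (cancel_mono ((singleFunctorIsoCompQ A i).hom.app I)).1 (h1.trans zero_comp.symm)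

end General

section Ring

attribute [local instance] HasDerivedCategory.standard

open DRing

variable {R : Type u} [CommRing R]

/-- `Hom(P, W) = 0` for `P` a complex of projectives in `[a, b]` and `W ∈ D^{≤ a-1}`. -/
lemma hom_projCx_eq_zero_of_isLE (P : Cx R) (a b : ℤ) (hP : VanishesOutside P a b)
    (hproj : ∀ i : ℤ, Module.Projective R (P.X i)) (W : Dual.D R) [W.IsLE (a - 1)]
    (f : Q.obj P ⟶ W) : f = 0 := by
  let Pr : ObjectProperty (Dual.D R) := fun X => ∀ g : X ⟶ W, g = 0
  haveI : Pr.IsClosedUnderIsomorphisms := ⟨fun {X Y} e h g => by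
    have := h (e.hom ≫ g)
    rw [← cancel_epi e.hom, this, comp_zero]⟩
  have key : Pr (Q.obj P) := by
    refine prop_Q_obj_of_bounded Pr ?hzero ?hext (b - a + 1).toNat P a b (by omega) hP ?hterm
    case hzero =>
      intro Z hZ g
      exact hZ.eq_of_src _ _
    case hext =>
      intro T hT h1 h3 g
      obtain ⟨g', hg'⟩ := Triangle.yoneda_exact₂ T hT g (h1 _)
      rw [hg', h3 g', comp_zero]
    case hterm =>
      intro j g
      by_cases hj : j < a ∨ b < j
      · exact ((singleFunctor _ j).map_isZero (hP j hj)).eq_of_src _ _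
      · haveI : Projective (P.X j) := (IsProjective.iff_projective _).mp (hproj j)
        exact hom_single_projective_eq_zero' (P.X j) W j (a - 1) (by omega) g
  exact key f

/-- if `τ_{≥ a+1} K` is bounded above by `b` and has no maps to `M[-a]`, it is a complex of
projectives in `[a+1, b]` and the truncation triangle splits. -/
theorem split_truncGE_of_ext_vanishing (K : Dual.D R) (a b : ℤ)
    (hKb : ∀ i : ℤ, b < i → IsZero ((homologyFunctor (ModuleCat.{u} R) i).obj K))
    (hext : ∀ (M : ModuleCat.{u} R)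
      (ξ : (t.truncGE (a + 1)).obj K ⟶ ((singleFunctor (ModuleCat.{u} R) 0).obj M)⟦-a⟧), ξ = 0)
    [HasBinaryBiproduct ((t.truncLT (a + 1)).obj K) ((t.truncGE (a + 1)).obj K)] :
    (∃ e : K ≅ (t.truncLT (a + 1)).obj K ⊞ (t.truncGE (a + 1)).obj K,
      (t.truncLTι (a + 1)).app K ≫ e.hom = biprod.inl ∧
        e.hom ≫ biprod.snd = (t.truncGEπ (a + 1)).app K) ∧
    ∃ P : Cx R, VanishesOutside P (a + 1) b ∧ (∀ i : ℤ, Module.Projective R (P.X i)) ∧
      Nonempty (Q.obj P ≅ (t.truncGE (a + 1)).obj K) := by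
  have hGE : ((t.truncGE (a + 1)).obj K).IsGE (a + 1) :=
    inferInstanceAs (t.IsGE ((t.truncGE (a + 1)).obj K) (a + 1))
  have hz : ∀ n : ℤ, (n < a + 1 - 1 ∨ b < n) →
      IsZero ((homologyFunctor (ModuleCat.{u} R) n).obj ((t.truncGE (a + 1)).obj K)) := by
    intro n hn
    by_cases h : n < a + 1
    · exact isZero_of_isGE _ (a + 1) n h
    · have := isIso_homologyMap_truncGEπ K (a + 1) n (by omega)
      exact (hKb n (by omega)).of_iso
        (asIso ((homologyFunctor (ModuleCat.{u} R) n).map ((t.truncGEπ (a + 1)).app K))).symm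
  have e1 : -(a + 1) + 1 = -a := by ring
  obtain ⟨P, hP, hproj, ⟨e'⟩⟩ := exists_projective_cx_of_ext_vanishing (b - a + 1).toNat
    ((t.truncGE (a + 1)).obj K) (a + 1) b (by omega) hz (by rw [e1]; exact hext)
  refine ⟨?_, P, hP, hproj, ⟨e'⟩⟩
  have hW' : (((t.truncLT (a + 1)).obj K)⟦(1 : ℤ)⟧).IsLE (a - 1) :=
    t.isLE_shift _ (a + 1 - 1) 1 (a - 1) (by omega)
  have hW : (((t.truncLT (a + 1)).obj K)⟦(1 : ℤ)⟧).IsLE (a + 1 - 1) :=
    t.isLE_of_le _ (a - 1) (a + 1 - 1) (by omega)
  have hδ : (t.truncGEδLT (a + 1)).app K = 0 := by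
    have h0 := hom_projCx_eq_zero_of_isLE P (a + 1) b hP hproj
      (((t.truncLT (a + 1)).obj K)⟦(1 : ℤ)⟧) (e'.hom ≫ (t.truncGEδLT (a + 1)).app K)
    exact (cancel_epi e'.hom).1 (h0.trans comp_zero.symm)
  obtain ⟨e, he1, he2⟩ := exists_iso_binaryBiproduct_of_distTriang _
    (t.triangleLTGE_distinguished (a + 1) K) hδ
  exact ⟨e, he1, he2.symm⟩

end Ring

end Groth.Agent.H56
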