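import Mathlib
import Groth.Prelude.Def_DRing2
import Groth.Agent.H56.SplitTrunc
import Groth.Agent.H56.DerCat4
import Groth.Agent.H35.Devissage
import Groth.Agent.S0563
import Groth.Agent.S5791
import Groth.Agent.S5804

/-!
Regular rings of finite Krull dimension: global dimension bound, vanishing of morphisms across a
cohomological gap of length `> d`, splitting of perfect complexes across a gap (helper56).
The global dimension bound follows the proof of `Groth.Agent.S7069` (helper59).
-/

set_option autoImplicit false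
set_option linter.style.haveILetI false
universe u
open CategoryTheory CategoryTheory.Limits Pretriangulated DerivedCategory
attribute [local instance] HasDerivedCategory.standard

namespace Groth.Agent.H56.RegGap

open DRing Groth.Agent.H56

variable (R : Type u) [CommRing R]

/-- a regular Noetherian ring of Krull dimension `d` has global dimension `≤ d`. -/
lemma projDim_of_regular [IsNoetherianRing R]
    (hreg : ∀ p : PrimeSpectrum R, IsRegularLocalRing (Localization.AtPrime p.asIdeal)) (d : ℕ)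
    (hd : ringKrullDim R = d) (M : Type u) [AddCommGroup M] [Module R M] :
    HasProjectiveDimensionLT (ModuleCat.of R M) (d + 1) := by
  have hloc : ∀ (p : PrimeSpectrum R) (M : Type u) [AddCommGroup M]
      [Module (Localization.AtPrime p.asIdeal) M],
      HasProjectiveDimensionLT (ModuleCat.of (Localization.AtPrime p.asIdeal) M) (d + 1) := by
    intro p M _ _
    haveI : IsRegularLocalRing (Localization.AtPrime p.asIdeal) := hreg p
    have hdp : ringKrullDim (Localization.AtPrime p.asIdeal) =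
        ((IsLocalRing.maximalIdeal (Localization.AtPrime p.asIdeal)).spanFinrank : ℕ) :=
      (IsRegularLocalRing.spanFinrank_maximalIdeal).symm
    have hle : ringKrullDim (Localization.AtPrime p.asIdeal) ≤ d := by
      rw [IsLocalization.AtPrime.ringKrullDim_eq_height p.asIdeal]
      exact (Ideal.height_le_ringKrullDim_of_isPrime).trans hd.le
    have hdn : (IsLocalRing.maximalIdeal (Localization.AtPrime p.asIdeal)).spanFinrank ≤ d := by
      rw [hdp] at hle
      exact_mod_cast hle
    haveI := Groth.Agent.S0563.result (Localization.AtPrime p.asIdeal) _ hdp M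
    exact hasProjectiveDimensionLT_of_ge _
      ((IsLocalRing.maximalIdeal (Localization.AtPrime p.asIdeal)).spanFinrank + 1) (d + 1)
      (by omega)
  have hcyc : ∀ I : Ideal R, HasProjectiveDimensionLT (ModuleCat.of R (R ⧸ I)) (d + 1) := by
    intro I
    rw [Groth.Agent.S5791.result R (R ⧸ I) d]
    intro p
    exact hloc p _
  exact Groth.Agent.S5804.result R d hcyc M

variable {R}

lemma hom_single_zero_shift_eq_zero (M N : ModuleCat.{u} R) (n : ℕ)
    [HasProjectiveDimensionLT M n] (q : ℕ) (hq : n ≤ q)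
    (f : (singleFunctor (ModuleCat.{u} R) 0).obj M ⟶
      ((singleFunctor (ModuleCat.{u} R) 0).obj N)⟦(q : ℤ)⟧) : f = 0 := by
  letI : HasExt.{u + 1} (ModuleCat.{u} R) := HasExt.standard (ModuleCat.{u} R)
  have h : ∀ e : Abelian.Ext.{u + 1} M N q, e = 0 :=
    fun e => e.eq_zero_of_hasProjectiveDimensionLT n hq
  let E : Abelian.Ext.{u + 1} M N q ≃ ((singleFunctor (ModuleCat.{u} R) 0).obj M ⟶
      ((singleFunctor (ModuleCat.{u} R) 0).obj N)⟦(q : ℤ)⟧) :=
    Abelian.Ext.homEquiv
  have h1 : f = E (E.symm f) := (Equiv.apply_symm_apply _ _).symm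
  rw [h1, h (E.symm f)]
  exact Abelian.Ext.zero_hom M N q

lemma hom_single_shift_eq_zero_of_projDim (M N : ModuleCat.{u} R) (n : ℕ)
    [HasProjectiveDimensionLT M n] (i j : ℤ) (hij : (n : ℤ) ≤ i + j)
    (g : (singleFunctor (ModuleCat.{u} R) i).obj M ⟶
      ((singleFunctor (ModuleCat.{u} R) 0).obj N)⟦j⟧) : g = 0 := by
  let e₁ : ((singleFunctor (ModuleCat.{u} R) 0).obj N)⟦j⟧ ≅
      (singleFunctor (ModuleCat.{u} R) (-j)).obj N :=
    ((singleFunctors (ModuleCat.{u} R)).shiftIso j (-j) 0 (by omega)).app N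
  let e₂ : ((singleFunctor (ModuleCat.{u} R) (1 - j)).obj N)⟦(1 : ℤ)⟧ ≅
      (singleFunctor (ModuleCat.{u} R) (-j)).obj N :=
    ((singleFunctors (ModuleCat.{u} R)).shiftIso 1 (-j) (1 - j) (by omega)).app N
  have h0 := single_hom_shift_eq_zero M N i (1 - j) (i + j).toNat (by omega)
    (fun f => hom_single_zero_shift_eq_zero M N n (i + j).toNat (by omega) f)
    (g ≫ e₁.hom ≫ e₂.inv)
  have h1 : g ≫ (e₁ ≪≫ e₂.symm).hom = 0 := by
    simpa using h0
  exact (cancel_mono (e₁ ≪≫ e₂.symm).hom).1 (h1.trans zero_comp.symm)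

/-- over a ring of global dimension `≤ d`, there are no nonzero maps from `D^{≥ k+1}` (bounded
above) to `D^{≤ k-d}`. -/
theorem hom_eq_zero_of_gap (d : ℕ)
    (hgd : ∀ M : ModuleCat.{u} R, HasProjectiveDimensionLT M (d + 1))
    (K L : Dual.D R) (bK k : ℤ)
    (hKb : ∀ i : ℤ, bK < i → IsZero ((homologyFunctor (ModuleCat.{u} R) i).obj K))
    (hK : ∀ i : ℤ, i ≤ k → IsZero ((homologyFunctor (ModuleCat.{u} R) i).obj K))
    (hL : ∀ i : ℤ, k - d + 1 ≤ i → IsZero ((homologyFunctor (ModuleCat.{u} R) i).obj L))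
    (f : K ⟶ L) : f = 0 := by
  have hzK : ∀ i : ℤ, (i < k + 1 ∨ bK < i) →
      IsZero ((homologyFunctor (ModuleCat.{u} R) i).obj K) := by
    intro i hi
    rcases hi with hi | hi
    · exact hK i (by omega)
    · exact hKb i hi
  have hext : ∀ (N : ModuleCat.{u} R)
      (ξ : K ⟶ ((singleFunctor (ModuleCat.{u} R) 0).obj N)⟦-(k + 1 - (d : ℤ)) + 1⟧),
      ξ = 0 := by
    intro N
    have hPr : Groth.Agent.H35.Devissage.IsExtClosed
        (fun X : DerivedCategory (ModuleCat.{u} R) =>
          ∀ ξ : X ⟶ ((singleFunctor (ModuleCat.{u} R) 0).obj N)⟦-(k + 1 - (d : ℤ)) + 1⟧,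
            ξ = 0) :=
      { iso := fun e h ξ => by
          have h' := h (e.hom ≫ ξ)
          rw [← cancel_epi e.hom, h', comp_zero]
        zero := fun hZ ξ => hZ.eq_of_src _ _
        ext := fun T hT h1 h3 ξ => by
          obtain ⟨ξ', hξ'⟩ := Triangle.yoneda_exact₂ T hT ξ (h1 _)
          rw [hξ', h3 ξ', comp_zero] }
    refine Groth.Agent.H35.Devissage.of_homology hPr (k + 1) (bK - (k + 1) + 1).toNat K bK hzK
      (by omega) ?_
    intro i ξ
    by_cases hi : i < k + 1 ∨ bK < i
    · exact ((singleFunctor (ModuleCat.{u} R) i).map_isZero (hzK i hi)).eq_of_src _ _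
    · haveI := hgd ((homologyFunctor (ModuleCat.{u} R) i).obj K)
      exact hom_single_shift_eq_zero_of_projDim _ N (d + 1) i _ (by push_cast; omega) ξ
  obtain ⟨P, hP, hproj, ⟨e⟩⟩ := exists_projective_cx_of_ext_vanishing
    (bK - (k + 1 - (d : ℤ)) + 1).toNat K (k + 1 - (d : ℤ)) bK (by omega)
    (fun n hn => hzK n (hn.elim (fun h => Or.inl (by omega)) Or.inr)) hext
  haveI : L.IsLE (k + 1 - (d : ℤ) - 1) := by
    rw [isLE_iff]
    intro i hi
    exact hL i (by omega)
  have h0 := hom_projCx_eq_zero_of_isLE P (k + 1 - (d : ℤ)) bK hP hproj L (e.hom ≫ f)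
  exact (cancel_epi e.hom).1 (h0.trans comp_zero.symm)

open DerivedCategory.TStructure in
/-- over a ring of global dimension `≤ d` (`d ≥ 1`), a bounded above complex with no cohomology
in `[k-d+2, k]` splits as `τ_{<k-d+2} ⊕ τ_{≥ k+1}`. -/
theorem split_of_gap (d : ℕ) (hd1 : 1 ≤ d)
    (hgd : ∀ M : ModuleCat.{u} R, HasProjectiveDimensionLT M (d + 1))
    (K : Dual.D R) (bK k : ℤ)
    (hKb : ∀ i : ℤ, bK < i → IsZero ((homologyFunctor (ModuleCat.{u} R) i).obj K))
    (hgap : ∀ i : ℤ, k - d + 2 ≤ i → i ≤ k →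
      IsZero ((homologyFunctor (ModuleCat.{u} R) i).obj K))
    [HasBinaryBiproduct
      (((t : Triangulated.TStructure (Dual.D R)).truncLT (k - d + 2)).obj K)
      (((t : Triangulated.TStructure (Dual.D R)).truncGE (k + 1)).obj K)] :
    ∃ e : K ≅
      ((t : Triangulated.TStructure (Dual.D R)).truncLT (k - d + 2)).obj K ⊞
        ((t : Triangulated.TStructure (Dual.D R)).truncGE (k + 1)).obj K,
      ((t : Triangulated.TStructure (Dual.D R)).truncLTι (k - d + 2)).app K ≫ e.hom =
          biprod.inl ∧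
        e.hom ≫ biprod.snd =
          ((t : Triangulated.TStructure (Dual.D R)).truncGEπ (k + 1)).app K := by
  have hK'b : ∀ i : ℤ, bK < i → IsZero ((homologyFunctor (ModuleCat.{u} R) i).obj
      ((t.truncGE (k + 1)).obj K)) := by
    intro i hi
    by_cases h : k + 1 ≤ i
    · haveI := isIso_homologyMap_truncGEπ K (k + 1) i h
      exact IsZero.of_iso (hKb i hi)
        (asIso ((homologyFunctor (ModuleCat.{u} R) i).map ((t.truncGEπ (k + 1)).app K))).symm
    · exact isZero_of_isGE _ (k + 1) i (by omega)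
  have hK'lo : ∀ i : ℤ, i ≤ k → IsZero ((homologyFunctor (ModuleCat.{u} R) i).obj
      ((t.truncGE (k + 1)).obj K)) :=
    fun i hi => isZero_of_isGE _ (k + 1) i (by omega)
  haveI hLE1 : t.IsLE ((t.truncLT (k + 1)).obj K) (k - d + 1) := by
    change ((t.truncLT (k + 1)).obj K).IsLE (k - d + 1)
    rw [isLE_iff]
    intro i hi
    by_cases h : i < k + 1
    · haveI := isIso_homologyMap_truncLTι K (k + 1) i h
      exact IsZero.of_iso (hgap i (by omega) (by omega))
        (asIso ((homologyFunctor (ModuleCat.{u} R) i).map ((t.truncLTι (k + 1)).app K)))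
    · haveI : t.IsLE ((t.truncLT (k + 1)).obj K) k := t.isLE_truncLT_obj K (k + 1) k
      exact isZero_of_isLE _ k i (by omega)
  haveI hLE2 : t.IsLE (((t.truncLT (k + 1)).obj K)⟦(1 : ℤ)⟧) (k - d) :=
    t.isLE_shift _ (k - d + 1) 1 (k - d) (by omega)
  have hδ : (t.truncGEδLT (k + 1)).app K = 0 :=
    hom_eq_zero_of_gap d hgd ((t.truncGE (k + 1)).obj K)
      (((t.truncLT (k + 1)).obj K)⟦(1 : ℤ)⟧) bK k hK'b hK'lo
      (fun i hi => isZero_of_isLE _ (k - d) i (by omega)) _
  obtain ⟨e, he1, he2⟩ : ∃ e : K ≅ (t.truncLT (k + 1)).obj K ⊞ (t.truncGE (k + 1)).obj K,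
      (t.truncLTι (k + 1)).app K ≫ e.hom = biprod.inl ∧
        (t.truncGEπ (k + 1)).app K = e.hom ≫ biprod.snd :=
    exists_iso_binaryBiproduct_of_distTriang _ (t.triangleLTGE_distinguished (k + 1) K) hδ
  have hle : k - (d : ℤ) + 2 ≤ k + 1 := by omega
  haveI hφ : IsIso ((t.natTransTruncLTOfLE (k - d + 2) (k + 1) hle).app K) := by
    rw [DerivedCategory.isIso_iff]
    intro j
    by_cases hj : j < k - d + 2
    · exact isIso_homologyMap_natTransTruncLTOfLE K (k - d + 2) (k + 1) j hle hj
    · refine isIso_of_isZero' _ ?_ ?_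
      · haveI : t.IsLE ((t.truncLT (k - d + 2)).obj K) (k - d + 1) :=
          t.isLE_truncLT_obj K (k - d + 2) (k - d + 1)
        exact isZero_of_isLE _ (k - d + 1) j (by omega)
      · exact isZero_of_isLE _ (k - d + 1) j (by omega)
  refine ⟨e ≪≫ biprod.mapIso (asIso ((t.natTransTruncLTOfLE (k - d + 2) (k + 1) hle).app K)).symm
    (Iso.refl _), ?_, ?_⟩
  · have h1 : (t.truncLTι (k - d + 2)).app K =
        (t.natTransTruncLTOfLE (k - d + 2) (k + 1) hle).app K ≫ (t.truncLTι (k + 1)).app K :=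
      (t.natTransTruncLTOfLE_ι_app (k - d + 2) (k + 1) hle K).symm
    rw [h1]
    simp only [Iso.trans_hom, biprod.mapIso_hom, Iso.symm_hom, asIso_inv, Iso.refl_hom,
      Category.assoc]
    rw [reassoc_of% he1, biprod.inl_map, IsIso.hom_inv_id_assoc]
  · simp only [Iso.trans_hom, biprod.mapIso_hom, Iso.symm_hom, asIso_inv, Iso.refl_hom,
      Category.assoc, biprod.map_snd, Category.comp_id]
    exact he2.symm

end Groth.Agent.H56.RegGap
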