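import Groth.Agent.H56.PCohLim
import Groth.Agent.H56.StupidInd
import Groth.Agent.H56.PerfectCx
import Mathlib.Algebra.Homology.DerivedCategory.SingleTriangle

set_option autoImplicit false
universe u
open CategoryTheory CategoryTheory.Limits Pretriangulated

namespace Groth.Agent.H56

open DerivedCategory DerivedCategory.TStructure DRing
open scoped ZeroObject

attribute [local instance] HasDerivedCategory.standard

variable {R : Type u} [CommRing R]

lemma zero_cx_vanishes (a b : ℤ) : VanishesOutside (0 : Cx R) a b :=
  fun i _ => (HomologicalComplex.eval _ _ i).map_isZero (isZero_zero _)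

lemma zero_cx_ff : TermwiseFiniteFree (0 : Cx R) := fun i => by
  haveI : Subsingleton ((0 : Cx R).X i) :=
    ModuleCat.subsingleton_of_isZero
      ((HomologicalComplex.eval _ _ i).map_isZero (isZero_zero _))
  exact ⟨inferInstance, inferInstance⟩

/-- an object of `D^{≤ n}` is `m`-pseudo-coherent for `m > n`. -/
lemma isPseudoCoherent_of_isLE (K : Dual.D R) (m n : ℤ) (hn : n < m) (hK : K.IsLE n) :
    IsPseudoCoherent R m K := by
  have h1 : ∀ i : ℤ, IsZero ((homologyFunctor (ModuleCat.{u} R) i).obj (Q.obj (0 : Cx R))) :=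
    fun i => (homologyFunctor (ModuleCat.{u} R) i).map_isZero (Q.map_isZero (isZero_zero _))
  refine ⟨0, 0, 0, 0, zero_cx_vanishes 0 0, zero_cx_ff, fun i hi => ?_, ?_⟩
  · exact ⟨⟨0, (h1 i).eq_of_src _ _, (isZero_of_isLE K n i (by omega)).eq_of_src _ _⟩⟩
  · exact ⟨fun _ _ _ => (isZero_of_isLE K n m hn).eq_of_src _ _⟩

lemma single_cx_ff (j : ℤ) (F : ModuleCat.{u} R) (h1 : Module.Finite R F)
    (h2 : Module.Free R F) :
    VanishesOutside
      ((HomologicalComplex.single (ModuleCat.{u} R) (ComplexShape.up ℤ) j).obj F) j j ∧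
    TermwiseFiniteFree
      ((HomologicalComplex.single (ModuleCat.{u} R) (ComplexShape.up ℤ) j).obj F) := by
  constructor
  · intro i hi
    exact HomologicalComplex.isZero_single_obj_X _ _ _ _ (by omega)
  · intro i
    by_cases hi : i = j
    · subst hi
      exact ⟨Module.Finite.equiv (HomologicalComplex.singleObjXSelf (ComplexShape.up ℤ) i
          F).toLinearEquiv.symm,
        Module.Free.of_equiv (HomologicalComplex.singleObjXSelf (ComplexShape.up ℤ) i
          F).toLinearEquiv.symm⟩
    · haveI : Subsingleton (((HomologicalComplex.single (ModuleCat.{u} R)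
          (ComplexShape.up ℤ) j).obj F).X i) :=
        ModuleCat.subsingleton_of_isZero (HomologicalComplex.isZero_single_obj_X _ _ _ _ hi)
      exact ⟨inferInstance, inferInstance⟩

lemma isPseudoCoherent_Q_obj_of_bounded_ff (E : Cx R) (a b : ℤ) (hv : VanishesOutside E a b)
    (hf : TermwiseFiniteFree E) (m : ℤ) : IsPseudoCoherent R m (Q.obj E) :=
  ⟨E, a, b, 𝟙 _, hv, hf, fun i _ => inferInstance, inferInstance⟩

lemma isPseudoCoherent_single_free (j : ℤ) (F : ModuleCat.{u} R) (h1 : Module.Finite R F)
    (h2 : Module.Free R F) (m : ℤ) :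
    IsPseudoCoherent R m ((singleFunctor (ModuleCat.{u} R) j).obj F) := by
  obtain ⟨hv, hf⟩ := single_cx_ff j F h1 h2
  exact isPseudoCoherent_of_iso ((singleFunctorIsoCompQ (ModuleCat.{u} R) j).app F).symm m
    (isPseudoCoherent_Q_obj_of_bounded_ff _ j j hv hf m)

lemma isPseudoCoherent_single_projective_aux (n : ℕ) :
    ∀ (P : ModuleCat.{u} R), Module.Finite R P → Module.Projective R P →
      IsPseudoCoherent R (1 - n) ((singleFunctor (ModuleCat.{u} R) 0).obj P) := by
  induction n with
  | zero =>
    intro P _ _
    exact isPseudoCoherent_of_isLE _ _ 0 (by omega) inferInstance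
  | succ n ih =>
    intro P hfin hproj
    obtain ⟨k, f, hf⟩ := Module.Finite.exists_fin' R P
    obtain ⟨F, hFfin, hFfree, π, hπ⟩ : ∃ (F : ModuleCat.{u} R) (_ : Module.Finite R F)
        (_ : Module.Free R F) (π : F ⟶ P), Epi π :=
      ⟨ModuleCat.of R (Fin k → R), inferInstance, inferInstance, ModuleCat.ofHom f,
        (ModuleCat.epi_iff_surjective _).2 hf⟩
    haveI := hπ
    haveI hPproj : Projective P := (IsProjective.iff_projective _).mp hproj
    obtain ⟨s, hs⟩ : ∃ s : P ⟶ F, s ≫ π = 𝟙 P :=
      ⟨Projective.factorThru (𝟙 P) π, Projective.factorThru_comp _ _⟩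
    obtain ⟨r, hr⟩ : ∃ r : F ⟶ kernel π, kernel.ι π ≫ r = 𝟙 _ := by
      refine ⟨kernel.lift π (𝟙 F - π ≫ s) ?_, ?_⟩
      · rw [Preadditive.sub_comp, Category.id_comp, Category.assoc, hs, Category.comp_id,
          sub_self]
      · rw [← cancel_mono (kernel.ι π), Category.assoc, kernel.lift_ι, Preadditive.comp_sub,
          Category.comp_id, Category.id_comp, kernel.condition_assoc, zero_comp, sub_zero]
    have hH : r.hom.comp (kernel.ι π).hom = LinearMap.id := by
      rw [← ModuleCat.hom_comp, hr, ModuleCat.hom_id]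
    haveI hFproj : Module.Projective R F := Module.Projective.of_free
    have hQproj : Module.Projective R (kernel π : ModuleCat.{u} R) :=
      Module.Projective.of_split (kernel.ι π).hom r.hom hH
    have hQfin : Module.Finite R (kernel π : ModuleCat.{u} R) :=
      Module.Finite.of_surjective r.hom
        (fun x => ⟨(kernel.ι π).hom x, LinearMap.congr_fun hH x⟩)
    have hS : (ShortComplex.mk (kernel.ι π) π (kernel.condition π)).ShortExact :=
      { exact := ShortComplex.exact_kernel π
        mono_f := by dsimp; infer_instance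
        epi_g := hπ }
    have e : (1 - ((n + 1 : ℕ) : ℤ)) + 1 = 1 - n := by push_cast; ring
    have h₁ : IsPseudoCoherent R ((1 - ((n + 1 : ℕ) : ℤ)) + 1) hS.singleTriangle.obj₁ := by
      rw [e]; exact ih _ hQfin hQproj
    exact isPseudoCoherent_obj₃ hS.singleTriangle hS.singleTriangle_distinguished _ h₁
      (isPseudoCoherent_single_free 0 F hFfin hFfree _)

/-- a finite projective module placed in any degree is `m`-pseudo-coherent for all `m`. -/
lemma isPseudoCoherent_single_projective (j : ℤ) (P : ModuleCat.{u} R)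
    (hfin : Module.Finite R P) (hproj : Module.Projective R P) (m : ℤ) :
    IsPseudoCoherent R m ((singleFunctor (ModuleCat.{u} R) j).obj P) := by
  have h0 : ∀ m' : ℤ,
      IsPseudoCoherent R m' ((singleFunctor (ModuleCat.{u} R) 0).obj P) := by
    intro m'
    by_cases hm : 1 ≤ m'
    · exact isPseudoCoherent_of_isLE _ _ 0 (by omega) inferInstance
    · have := isPseudoCoherent_single_projective_aux (1 - m').toNat P hfin hproj
      have e : 1 - (((1 - m').toNat : ℕ) : ℤ) = m' := by omega
      rw [e] at this
      exact this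
  exact isPseudoCoherent_of_iso
    (((singleFunctors (ModuleCat.{u} R)).shiftIso (-j) j 0 (by omega)).app P) m
    (isPseudoCoherent_shift (-j + m) (h0 _) (-j) m rfl)

lemma isPseudoCoherent_of_bddAbove_aux (m : ℤ) (n : ℕ) :
    ∀ (E : Cx R) (b : ℤ), VanishesAbove E b → TermwiseFiniteProjective E → b < m + n →
      IsPseudoCoherent R m (Q.obj E) := by
  induction n with
  | zero =>
    intro E b hv hp hb
    haveI : E.IsStrictlyLE b := by
      rw [CochainComplex.isStrictlyLE_iff]
      exact hv
    exact isPseudoCoherent_of_isLE _ m b (by omega) inferInstance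
  | succ n ih =>
    intro E b hv hp hb
    obtain ⟨E', g, p, w, hSE, hz, hiso⟩ := exists_top_cell_ses E b (hv (b + 1) (by omega))
    have hv' : VanishesAbove E' (b - 1) := by
      intro i hi
      by_cases hib : i = b
      · rw [hib]; exact hz
      · obtain ⟨e⟩ := hiso i hib
        exact IsZero.of_iso (hv i (by omega)) e.symm
    have hp' : TermwiseFiniteProjective E' := by
      intro i
      by_cases hib : i = b
      · rw [hib]
        exact moduleFinite_projective_of_isZero _ hz
      · obtain ⟨e⟩ := hiso i hib
        haveI := (hp i).1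
        haveI := (hp i).2
        exact ⟨Module.Finite.equiv e.toLinearEquiv, Module.Projective.of_equiv e.toLinearEquiv⟩
    have h₃ : IsPseudoCoherent R m (Q.obj E') :=
      ih E' (b - 1) hv' hp' (by push_cast at hb; omega)
    have h₁ : IsPseudoCoherent R m (Q.obj ((HomologicalComplex.single (ModuleCat.{u} R)
        (ComplexShape.up ℤ) b).obj (E.X b))) :=
      isPseudoCoherent_of_iso ((singleFunctorIsoCompQ (ModuleCat.{u} R) b).app (E.X b)) m
        (isPseudoCoherent_single_projective b (E.X b) (hp b).1 (hp b).2 m)
    exact isPseudoCoherent_obj₂ (triangleOfSES hSE) (triangleOfSES_distinguished hSE) m h₁ h₃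

/-- a bounded above complex of finite projective modules is `m`-pseudo-coherent for all `m`. -/
theorem isPseudoCoherent_of_bddAbove_finite_projective (E : Cx R) (b : ℤ)
    (hv : VanishesAbove E b) (hp : TermwiseFiniteProjective E) (m : ℤ) :
    IsPseudoCoherent R m (Q.obj E) :=
  isPseudoCoherent_of_bddAbove_aux m (b + 1 - m).toNat E b hv hp (by omega)

lemma termwiseFiniteProjective_of_free {E : Cx R} (h : TermwiseFiniteFree E) :
    TermwiseFiniteProjective E := fun i =>
  ⟨(h i).1, by haveI := (h i).2; exact Module.Projective.of_free⟩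

end Groth.Agent.H56
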