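import Mathlib
import Groth.Prelude.Def_MoreMor
import Groth.Agent.H82.TorBC2
import Groth.Agent.H82.TorSymm
import Groth.Agent.H35.TorBridge
import Groth.Agent.H35.RestrictTor
import Groth.Agent.H35.FlatBC

/-!
Finite tor dimension of an algebra: locality on the target, transitivity, flat base change and
faithfully flat descent (helper56).  Uses helper82's Tor library and helper35's bridge between
`HasTorDimLE` and `HasTorAmplitudeIn`.
-/

set_option autoImplicit false
set_option linter.style.haveILetI false
set_option linter.unusedSectionVars false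
universe u
open CategoryTheory CategoryTheory.Limits MonoidalCategory TensorProduct
attribute [local instance] HasDerivedCategory.standard

namespace Groth.Agent.H56.TorLoc

open DRing Groth.Agent.H82.TorBC2 Groth.Agent.H82.TorLib Groth.Agent.H82.LDer

section LA

variable {R : Type u} [CommRing R]

/-- exactness of a sequence of `R`-modules can be tested after localizing at a spanning set. -/
lemma exact_of_forall_lTensor_away (s : Set R) (hs : Ideal.span s = ⊤)
    (S : s → Type u) [∀ r, CommRing (S r)] [∀ r, Algebra R (S r)]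
    [∀ r : s, IsLocalization.Away r.1 (S r)]
    {M₁ M₂ M₃ : Type u} [AddCommGroup M₁] [Module R M₁] [AddCommGroup M₂] [Module R M₂]
    [AddCommGroup M₃] [Module R M₃] (u : M₁ →ₗ[R] M₂) (v : M₂ →ₗ[R] M₃)
    (h : ∀ r, Function.Exact (u.lTensor (S r)) (v.lTensor (S r))) : Function.Exact u v := by
  haveI inst : ∀ (M : Type u) [AddCommGroup M] [Module R M] (x : s),
      IsLocalizedModule.Away x.1 (TensorProduct.mk R (S x) M 1) := fun M _ _ x =>
    (isLocalizedModule_iff_isBaseChange (Submonoid.powers x.1) (S x) _).2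
      (TensorProduct.isBaseChange R M _)
  refine exact_of_isLocalized_span s hs
    (fun x => S x ⊗[R] M₁) (fun x => TensorProduct.mk R (S x) M₁ 1)
    (fun x => S x ⊗[R] M₂) (fun x => TensorProduct.mk R (S x) M₂ 1)
    (fun x => S x ⊗[R] M₃) (fun x => TensorProduct.mk R (S x) M₃ 1) u v ?_
  intro x
  have key : ∀ {N₁ N₂ : Type u} [AddCommGroup N₁] [Module R N₁] [AddCommGroup N₂] [Module R N₂]
      (w : N₁ →ₗ[R] N₂),
      IsLocalizedModule.map (Submonoid.powers x.1)
        (TensorProduct.mk R (S x) N₁ 1) (TensorProduct.mk R (S x) N₂ 1) w = w.lTensor (S x) := by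
    intro N₁ N₂ _ _ _ _ w
    refine IsLocalizedModule.linearMap_ext (Submonoid.powers x.1)
      (TensorProduct.mk R (S x) N₁ 1) (TensorProduct.mk R (S x) N₂ 1) ?_
    rw [IsLocalizedModule.map_comp]
    ext m
    simp
  rw [key u, key v]
  exact h x

end LA

section LA2

variable {A B : Type u} [CommRing A] [CommRing B] [Algebra A B]

lemma exact_rTensor_of_exact_baseChange {X₂ X₁ X₀ : Type u} [AddCommGroup X₂] [Module A X₂]
    [AddCommGroup X₁] [Module A X₁] [AddCommGroup X₀] [Module A X₀] (f : X₂ →ₗ[A] X₁)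
    (g : X₁ →ₗ[A] X₀) (h : Function.Exact (f.baseChange B) (g.baseChange B)) :
    Function.Exact (f.rTensor B) (g.rTensor B) := by
  refine exact_of_ladder (f.baseChange B) (g.baseChange B) _ _
    (TensorProduct.comm A B X₂).toEquiv (TensorProduct.comm A B X₁).toEquiv
    (TensorProduct.comm A B X₀).toEquiv (map_zero (TensorProduct.comm A B X₀)) ?_ ?_ h
  · intro t
    induction t using TensorProduct.induction_on with
    | zero => simp
    | tmul x q => simp
    | add s t hs ht => simp only [map_add, LinearEquiv.coe_toEquiv] at hs ht ⊢; rw [hs, ht]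
  · intro t
    induction t using TensorProduct.induction_on with
    | zero => simp
    | tmul x q => simp
    | add s t hs ht => simp only [map_add, LinearEquiv.coe_toEquiv] at hs ht ⊢; rw [hs, ht]

/-- exactness of `- ⊗_A B` can be tested on localizations `- ⊗_A B_g` for a spanning set. -/
lemma exact_rTensor_of_forall_away (s : Set B) (hs : Ideal.span s = ⊤)
    (S : s → Type u) [∀ r, CommRing (S r)] [∀ r, Algebra B (S r)]
    [∀ r : s, IsLocalization.Away r.1 (S r)] [∀ r, Algebra A (S r)]
    [∀ r, IsScalarTower A B (S r)]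
    {X₂ X₁ X₀ : Type u} [AddCommGroup X₂] [Module A X₂]
    [AddCommGroup X₁] [Module A X₁] [AddCommGroup X₀] [Module A X₀] (f : X₂ →ₗ[A] X₁)
    (g : X₁ →ₗ[A] X₀) (h : ∀ r, Function.Exact (f.rTensor (S r)) (g.rTensor (S r))) :
    Function.Exact (f.rTensor B) (g.rTensor B) := by
  have h1 : ∀ r, Function.Exact ((f.baseChange B).lTensor (S r))
      ((g.baseChange B).lTensor (S r)) := by
    intro r
    refine exact_of_ladder (f.rTensor (S r)) (g.rTensor (S r)) _ _
      (swapEquiv (A := A) (A' := B) X₂ (S r)) (swapEquiv (A := A) (A' := B) X₁ (S r))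
      (swapEquiv (A := A) (A' := B) X₀ (S r)) (swapEquiv_zero (A := A) (A' := B) X₀ (S r))
      (fun t => swapEquiv_natural f (S r) t) (fun t => swapEquiv_natural g (S r) t) (h r)
  exact exact_rTensor_of_exact_baseChange f g
    (exact_of_forall_lTensor_away s hs S (f.baseChange B) (g.baseChange B) h1)

set_option backward.isDefEq.respectTransparency false in
/-- vanishing of `Tor^A(P, B)` is local on `B`. -/
theorem isZero_tor_of_forall_away (s : Set B) (hs : Ideal.span s = ⊤)
    (S : s → Type u) [∀ r, CommRing (S r)] [∀ r, Algebra B (S r)]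
    [∀ r : s, IsLocalization.Away r.1 (S r)] [∀ r, Algebra A (S r)]
    [∀ r, IsScalarTower A B (S r)] (P : ModuleCat.{u} A) (n : ℕ)
    (h : ∀ r, IsZero (((Tor (ModuleCat.{u} A) (n+1)).obj P).obj (ModuleCat.of A (S r)))) :
    IsZero (((Tor (ModuleCat.{u} A) (n+1)).obj P).obj (ModuleCat.of A B)) := by
  let F := projectiveResolution P
  obtain ⟨e⟩ := nonempty_tor_iso_U F (n+1) (ModuleCat.of A B)
  refine IsZero.of_iso ?_ e
  have h0 : ∀ r, Function.Exact ((F.complex.d (n+2) (n+1)).hom.rTensor (S r))
      ((F.complex.d (n+1) n).hom.rTensor (S r)) := by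
    intro r
    obtain ⟨e'⟩ := nonempty_tor_iso_U F (n+1) (ModuleCat.of A (S r))
    have hz : IsZero ((U F (n+1)).obj (ModuleCat.of A (S r))) := (h r).of_iso e'.symm
    have h0' : ((((tensorRight (ModuleCat.of A (S r))).mapHomologicalComplex
        (ComplexShape.down ℕ)).obj F.complex).sc' (n+2) (n+1) n).Exact := by
      rw [← HomologicalComplex.exactAt_iff' _ (n+2) (n+1) n (by simp) (by simp),
        HomologicalComplex.exactAt_iff_isZero_homology]
      exact hz
    rw [ShortComplex.ShortExact.moduleCat_exact_iff_function_exact] at h0'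
    exact h0'
  show IsZero ((((tensorRight (ModuleCat.of A B)).mapHomologicalComplex
    (ComplexShape.down ℕ)).obj F.complex).homology (n+1))
  rw [← HomologicalComplex.exactAt_iff_isZero_homology,
    HomologicalComplex.exactAt_iff' _ (n+2) (n+1) n (by simp) (by simp)]
  rw [ShortComplex.ShortExact.moduleCat_exact_iff_function_exact]
  exact exact_rTensor_of_forall_away s hs S (F.complex.d (n+2) (n+1)).hom
    (F.complex.d (n+1) n).hom h0

/-- tor dimension of an algebra is local on the target. -/
theorem hasTorDimLE_of_forall_away (s : Set B) (hs : Ideal.span s = ⊤)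
    (S : s → Type u) [∀ r, CommRing (S r)] [∀ r, Algebra B (S r)]
    [∀ r : s, IsLocalization.Away r.1 (S r)] [∀ r, Algebra A (S r)]
    [∀ r, IsScalarTower A B (S r)] (d : ℕ) (h : ∀ r, HasTorDimLE A d (S r)) :
    HasTorDimLE A d B := by
  intro N _ _ p hp
  obtain ⟨n, rfl⟩ : ∃ n, p = n + 1 := ⟨p - 1, by omega⟩
  obtain ⟨φ⟩ := Groth.Agent.H82.TorSymm.nonempty_tor_iso_flip (A := A) (n+1)
  have hz : IsZero (((Tor (ModuleCat.{u} A) (n+1)).obj (ModuleCat.of A N)).obj
      (ModuleCat.of A B)) := by
    refine isZero_tor_of_forall_away s hs S (ModuleCat.of A N) n (fun r => ?_)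
    have hs' : Subsingleton (((Tor (ModuleCat.{u} A) (n+1)).obj (ModuleCat.of A (S r))).obj
        (ModuleCat.of A N)) := h r N (n+1) hp
    have hz' : IsZero (((Tor (ModuleCat.{u} A) (n+1)).obj (ModuleCat.of A (S r))).obj
        (ModuleCat.of A N)) := ModuleCat.isZero_of_subsingleton _
    exact IsZero.of_iso hz' ((φ.app (ModuleCat.of A N)).app (ModuleCat.of A (S r)))
  have e1 := (φ.app (ModuleCat.of A B)).app (ModuleCat.of A N)
  exact ModuleCat.subsingleton_of_isZero (IsZero.of_iso hz e1)

end LA2

section Transport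

variable {A : Type u} [CommRing A]

lemma hasTorDimLE_of_linearEquiv {M M' : Type u} [AddCommGroup M] [Module A M] [AddCommGroup M']
    [Module A M'] (e : M ≃ₗ[A] M') {d : ℕ} (h : HasTorDimLE A d M) : HasTorDimLE A d M' := by
  intro N _ _ p hp
  haveI hs : Subsingleton (DRing.Tor A p M N) := h N p hp
  have e' := ((CategoryTheory.Tor (ModuleCat.{u} A) p).mapIso e.toModuleIso).app
    (ModuleCat.of A N)
  exact e'.toLinearEquiv.symm.toEquiv.subsingleton

lemma hasFiniteTorDim_of_linearEquiv {M M' : Type u} [AddCommGroup M] [Module A M]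
    [AddCommGroup M'] [Module A M'] (e : M ≃ₗ[A] M') (h : HasFiniteTorDim A M) :
    HasFiniteTorDim A M' := by
  obtain ⟨d, hd⟩ := h
  exact ⟨d, hasTorDimLE_of_linearEquiv e hd⟩

lemma hasFiniteTorDim_of_flat (M : Type u) [AddCommGroup M] [Module A M] [Module.Flat A M] :
    HasFiniteTorDim A M :=
  ⟨0, (Groth.Agent.H35.TorAmp.hasTorDimLE_zero_iff_flat M).2 inferInstance⟩

end Transport

end Groth.Agent.H56.TorLoc
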