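import Mathlib
import Groth.Prelude.Def_MoreMor
import Groth.Agent.H56.TorLoc
import Groth.Agent.H82.TorBC

/-!
Finite tor dimension of an algebra: transitivity, flat base change, faithfully flat descent
(helper56).
-/

set_option autoImplicit false
set_option linter.style.haveILetI false
set_option linter.unusedSectionVars false
universe u
open CategoryTheory CategoryTheory.Limits MonoidalCategory TensorProduct
attribute [local instance] HasDerivedCategory.standard

namespace Groth.Agent.H56.TorLoc

open DRing DerivedCategory Groth.Agent.H35.TorAmp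

section Trans

variable (A B C : Type u) [CommRing A] [CommRing B] [CommRing C] [Algebra A B] [Algebra B C]
  [Algebra A C] [IsScalarTower A B C]

/-- `C` with its `A`-module structure through `B`. -/
noncomputable def restrictIso :
    (ModuleCat.restrictScalars.{u} (algebraMap A B)).obj (ModuleCat.of B C) ≅ ModuleCat.of A C :=
  @LinearEquiv.toModuleIso A _ C C _ _ (Module.compHom C (algebraMap A B)) Algebra.toModule
    (@LinearEquiv.mk A A _ _ (RingHom.id A) (RingHom.id A) _ _ C C _ _
      (Module.compHom C (algebraMap A B)) Algebra.toModule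
      (@LinearMap.mk A A _ _ (RingHom.id A) C C _ _ (Module.compHom C (algebraMap A B))
        Algebra.toModule
        ⟨fun c => c, fun _ _ => rfl⟩ (fun a c => IsScalarTower.algebraMap_smul B a c))
      (fun c => c) (fun _ => rfl) (fun _ => rfl))

/-- transitivity of finite tor dimension. -/
theorem hasFiniteTorDim_trans (hB : HasFiniteTorDim A B) (hC : HasFiniteTorDim B C) :
    HasFiniteTorDim A C := by
  obtain ⟨d, hd⟩ := hB
  obtain ⟨e, he⟩ := hC
  refine ⟨e + d, ?_⟩
  have h1 := (hasTorDimLE_iff B d).1 hd
  have h2 := (hasTorDimLE_iff C e).1 he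
  have h3 := hasTorAmplitudeIn_restrictD A B d h1 (Dual.inD B C) (-(e : ℤ)) 0 h2
  rw [hasTorDimLE_iff]
  have iso1 : (restrictD (algebraMap A B)).obj (Dual.inD B C) ≅
      (singleFunctor (ModuleCat.{u} A) 0).obj
        ((ModuleCat.restrictScalars.{u} (algebraMap A B)).obj (ModuleCat.of B C)) :=
    ((ModuleCat.restrictScalars.{u} (algebraMap A B)).mapDerivedCategorySingleFunctor 0).app
      (ModuleCat.of B C)
  have h4 := hasTorAmplitudeIn_of_iso
    (iso1 ≪≫ (singleFunctor (ModuleCat.{u} A) 0).mapIso (restrictIso A B C)) h3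
  have e1 : (-((e + d : ℕ) : ℤ)) = -(e : ℤ) - (d : ℤ) := by push_cast; ring
  rw [e1]
  exact h4

end Trans

section BaseChange

variable (R S R' S' : Type u) [CommRing R] [CommRing S] [CommRing R'] [CommRing S']
  [Algebra R S] [Algebra R R'] [Algebra R S'] [Algebra S S'] [Algebra R' S']
  [IsScalarTower R S S'] [IsScalarTower R R' S'] [Algebra.IsPushout R S R' S']

/-- `S' ≅ R' ⊗_R S` as `R'`-modules. -/
noncomputable def pushoutEquiv : R' ⊗[R] S ≃ₗ[R'] S' :=
  ((Algebra.IsPushout.symm (inferInstance : Algebra.IsPushout R S R' S')).out :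
    IsBaseChange R' (IsScalarTower.toAlgHom R S S').toLinearMap).equiv

/-- flat base change of finite tor dimension. -/
theorem hasFiniteTorDim_baseChange [Module.Flat R R'] (h : HasFiniteTorDim R S) :
    HasFiniteTorDim R' S' := by
  obtain ⟨d, hd⟩ := h
  refine ⟨d, ?_⟩
  have h1 := (hasTorDimLE_iff S d).1 hd
  have h2 := Groth.Agent.H35.FlatBC.hasTorAmplitudeIn_baseChange (A := R) (B := R')
    (-(d : ℤ)) 0 S h1
  rw [hasTorDimLE_iff]
  exact hasTorAmplitudeIn_of_iso
    ((singleFunctor (ModuleCat.{u} R') 0).mapIso (pushoutEquiv R S R' S').toModuleIso) h2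

/-- faithfully flat descent of finite tor dimension. -/
theorem hasFiniteTorDim_of_baseChange [Module.FaithfullyFlat R R'] (h : HasFiniteTorDim R' S') :
    HasFiniteTorDim R S := by
  obtain ⟨d, hd⟩ := h
  refine ⟨d, ?_⟩
  have hd' : HasTorDimLE R' d (R' ⊗[R] S) :=
    hasTorDimLE_of_linearEquiv (pushoutEquiv R S R' S').symm hd
  intro N _ _ p hp
  obtain ⟨e⟩ := Groth.Agent.H82.TorBC.nonempty_tor_baseChange R R' S N p
  haveI hs : Subsingleton (((Tor (ModuleCat.{u} R') p).obj
      (ModuleCat.of R' (TensorProduct R R' S))).obj (ModuleCat.of R' (TensorProduct R R' N))) :=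
    hd' (TensorProduct R R' N) p hp
  haveI : Subsingleton (TensorProduct R R' (((Tor (ModuleCat.{u} R) p).obj
      (ModuleCat.of R S)).obj (ModuleCat.of R N))) := e.toEquiv.subsingleton
  exact Module.FaithfullyFlat.lTensor_reflects_triviality R R' _

end BaseChange

end Groth.Agent.H56.TorLoc
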