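import Groth.Agent.H48.TotAdjA
import Groth.Agent.H45.TotAdjB
import Groth.Agent.H6.TensorQCoh
import Groth.Agent.H28.LpullLoc2
import Groth.Agent.H28.PerfLocal
import Groth.Agent.H31.Invertible
import Groth.Agent.H31.FlatSite

/-!
# Dualizability of bounded complexes of finite free modules on a scheme (helper56 library)

* `rhoFlip Z : - ⊗ O_Z ≅ 𝟭`;
* `eq_zero_of_flip_map_eq_zero` : `A ↦ (- ⊗ A)` is faithful on morphisms;
* `exists_dual_adj` : for a bounded complex `P` of finite free `O_Z`-modules there is a bounded complex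
  `D` of finite free modules and a chain-level adjunction `Tot(- ⊗ P) ⊣ Tot(- ⊗ D)`;
* `derivedAdj` : a chain-level adjunction `Tot(- ⊗ E) ⊣ Tot(- ⊗ D)` between K-flat complexes descends to
  `(- ⊗^L E) ⊣ (- ⊗^L D)` on `D(O_Z)`;
* `exists_derived_dual` : the combination.
-/

set_option autoImplicit false
universe u
open CategoryTheory CategoryTheory.Limits AlgebraicGeometry HomologicalComplex
attribute [local instance] HasDerivedCategory.standard

namespace Groth.Agent.H56.PerfDual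

open Groth.Agent.H31 Groth.Agent.H31.Stalk

variable {Z : Scheme.{u}}

/-- `- ⊗ O_Z ≅ 𝟭`. -/
noncomputable def rhoFlip (Z : Scheme.{u}) :
    (DCoh.tensorBi (X := Z)).flip.obj (Coh.structureModule Z) ≅ 𝟭 Z.Modules :=
  (braidIso (O := shX Z) (ModSite.unit (shX Z))).symm ≪≫ tensorUnitNatIso (shX Z)

/-- `O_Z ⊗ - ≅ 𝟭`. -/
noncomputable def lamb (Z : Scheme.{u}) :
    (DCoh.tensorBi (X := Z)).obj (Coh.structureModule Z) ≅ 𝟭 Z.Modules :=
  tensorUnitNatIso (shX Z)

theorem eq_zero_of_flip_map_eq_zero {A B : Z.Modules} (s : A ⟶ B)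
    (h : (DCoh.tensorBi (X := Z)).flip.map s = 0) : s = 0 := by
  have h1 : ((DCoh.tensorBi (X := Z)).obj (Coh.structureModule Z)).map s = 0 := by
    have h2 := congrArg (fun τ => τ.app (Coh.structureModule Z)) h
    exact h2
  have nat := (lamb Z).hom.naturality s
  rw [h1, zero_comp] at nat
  have h3 : (lamb Z).hom.app A ≫ s = 0 := nat.symm
  have h4 : (lamb Z).inv.app A ≫ (lamb Z).hom.app A ≫ s = 0 := by rw [h3, comp_zero]
  simpa using h4

instance additive_flip_obj' (A : Z.Modules) : ((DCoh.tensorBi (X := Z)).flip.obj A).Additive where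
  map_add {P Q f g} := by
    show ((DCoh.tensorBi (X := Z)).map (f + g)).app A = _
    rw [Functor.map_add]
    rfl

theorem exists_dual_adj (P : CochainComplex Z.Modules ℤ) (a b : ℤ)
    (hP : DCoh.VanishesOutside P a b)
    (hfree : ∀ i : ℤ, ∃ n : ℕ, Nonempty (P.X i ≅ FlatMod.freeMod Z n)) :
    ∃ D : CochainComplex Z.Modules ℤ, DCoh.VanishesOutside D (-b) (-a) ∧
      (∀ i : ℤ, ∃ n : ℕ, Nonempty (D.X i ≅ FlatMod.freeMod Z n)) ∧
      Nonempty ((DCoh.tensorCx (X := Z)).flip.obj P ⊣ (DCoh.tensorCx (X := Z)).flip.obj D) := by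
  classical
  choose n hn using hfree
  let e : ∀ i, P.X i ≅ FlatMod.freeMod Z (n i) := fun i => (hn i).some
  obtain ⟨adjF, hadjF⟩ := Groth.Agent.TotAdjB.exists_free_adj (DCoh.tensorBi (X := Z))
    (Coh.structureModule Z) (rhoFlip Z)
  let B : ℤ → Z.Modules := fun q => FlatMod.freeMod Z (n q)
  let adj : ∀ q, (DCoh.tensorBi (X := Z)).flip.obj (P.X q) ⊣
      (DCoh.tensorBi (X := Z)).flip.obj (B q) := fun q => adjF (P.X q) (n q) (e q)
  choose t ht using fun q => hadjF (P.X q) (P.X (q + 1)) (n q) (n (q + 1)) (e q) (e (q + 1))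
    (P.d q (q + 1))
  have hB : ∀ q, q < a ∨ b < q → IsZero (B q) := fun q hq => IsZero.of_iso (hP q hq) (e q).symm
  have htt : ∀ q, t (q + 1) ≫ t q = 0 := by
    intro q
    apply eq_zero_of_flip_map_eq_zero
    rw [Functor.map_comp, ← ht q, ← ht (q + 1), conjugateEquiv_comp, ← Functor.map_comp,
      HomologicalComplex.d_comp_d, Functor.map_zero]
    ext d
    rw [conjugateEquiv_apply_app]
    simp
  obtain ⟨D, hD, ⟨adjC⟩⟩ := Groth.Agent.TotAdjA.exists_adjunction (DCoh.tensorBi (X := Z)) P a b hP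
    B hB adj t htt ht
  refine ⟨D, ?_, ?_, ⟨adjC⟩⟩
  · intro i hi
    obtain ⟨f⟩ := hD i
    exact IsZero.of_iso (hB (-i) (by omega)) f
  · intro i
    exact ⟨n (-i), hD i⟩

/-- A chain-level adjunction between K-flat complexes descends to the derived category. -/
noncomputable def derivedAdj (E D : CochainComplex Z.Modules ℤ) (hE : DCoh.IsKFlat E)
    (hD : DCoh.IsKFlat D) [DCoh.HasLTensorCx E] [DCoh.HasLTensorCx D]
    (adjC : (DCoh.tensorCx (X := Z)).flip.obj E ⊣ (DCoh.tensorCx (X := Z)).flip.obj D) :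
    DCoh.LTensorCx E ⊣ DCoh.LTensorCx D := by
  haveI : ModSite.HasLTensorCx (O := shX Z) E := ‹DCoh.HasLTensorCx E›
  haveI : ModSite.HasLTensorCx (O := shX Z) D := ‹DCoh.HasLTensorCx D›
  haveI hεE : IsIso (Groth.Agent.H40.LTensorInv.ε (O := shX Z) E) :=
    Groth.Agent.H40.LTensorInv.isIso_ε_of_isKFlat (O := shX Z) E hE
  haveI hεD : IsIso (Groth.Agent.H40.LTensorInv.ε (O := shX Z) D) :=
    Groth.Agent.H40.LTensorInv.isIso_ε_of_isKFlat (O := shX Z) D hD
  let iE : DerivedCategory.Q ⋙ DCoh.LTensorCx E ≅ (DCoh.tensorCx (X := Z)).flip.obj E ⋙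
      DerivedCategory.Q := @asIso _ _ _ _ (Groth.Agent.H40.LTensorInv.ε (O := shX Z) E) hεE
  let iD : DerivedCategory.Q ⋙ DCoh.LTensorCx D ≅ (DCoh.tensorCx (X := Z)).flip.obj D ⋙
      DerivedCategory.Q := @asIso _ _ _ _ (Groth.Agent.H40.LTensorInv.ε (O := shX Z) D) hεD
  letI : CatCommSq ((DCoh.tensorCx (X := Z)).flip.obj E) DerivedCategory.Q DerivedCategory.Q
      (DCoh.LTensorCx E) := ⟨iE.symm⟩
  letI : CatCommSq ((DCoh.tensorCx (X := Z)).flip.obj D) DerivedCategory.Q DerivedCategory.Q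
      (DCoh.LTensorCx D) := ⟨iD.symm⟩
  exact adjC.localization DerivedCategory.Q
    (HomologicalComplex.quasiIso Z.Modules (ComplexShape.up ℤ)) DerivedCategory.Q
    (HomologicalComplex.quasiIso Z.Modules (ComplexShape.up ℤ)) (DCoh.LTensorCx E)
    (DCoh.LTensorCx D)

/-- A bounded complex of finite free modules is strictly perfect. -/
theorem isStrictlyPerfect_of_free (P : CochainComplex Z.Modules ℤ) (a b : ℤ)
    (hP : DCoh.VanishesOutside P a b)
    (hfree : ∀ i : ℤ, ∃ n : ℕ, Nonempty (P.X i ≅ FlatMod.freeMod Z n)) :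
    DCoh.IsStrictlyPerfect P :=
  ⟨⟨a, b, hP⟩, fun i => by
    obtain ⟨n, ⟨e⟩⟩ := hfree i
    exact Groth.Agent.H28.LpullLoc.isFinLocFree_of_iso_freeMod e⟩

/-- For a bounded complex `P` of finite free modules, `- ⊗^L P` has a right adjoint of the form
`- ⊗^L D` with `D` a bounded complex of finite free modules. -/
theorem exists_derived_dual (P : CochainComplex Z.Modules ℤ) (a b : ℤ)
    (hP : DCoh.VanishesOutside P a b)
    (hfree : ∀ i : ℤ, ∃ n : ℕ, Nonempty (P.X i ≅ FlatMod.freeMod Z n)) [DCoh.HasLTensorCx P] :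
    ∃ (D : CochainComplex Z.Modules ℤ) (_ : DCoh.HasLTensorCx D), DCoh.IsStrictlyPerfect D ∧
      Nonempty (DCoh.LTensorCx P ⊣ DCoh.LTensorCx D) := by
  obtain ⟨D, hDab, hDfree, ⟨adjC⟩⟩ := exists_dual_adj P a b hP hfree
  have hPsp := isStrictlyPerfect_of_free P a b hP hfree
  have hDsp := isStrictlyPerfect_of_free D (-b) (-a) hDab hDfree
  have iD : DCoh.HasLTensorCx D := Groth.Agent.H6.TensorQCoh.hasLTensorCx D
  exact ⟨D, iD, hDsp, ⟨derivedAdj P D
    (Groth.Agent.H28.LpullLoc.isKFlat_of_isStrictlyPerfect hPsp)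
    (Groth.Agent.H28.LpullLoc.isKFlat_of_isStrictlyPerfect hDsp) adjC⟩⟩

end Groth.Agent.H56.PerfDual
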