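import Groth.Prelude.Def_DRing2
import Groth.Agent.H56.PCohCx
import Groth.Agent.H56.SplitTrunc
import Groth.Agent.H56.StupidInd
import Mathlib.Algebra.Homology.DerivedCategory.HomologySequence
import Mathlib.Algebra.Homology.SingleHomology
import Mathlib.CategoryTheory.Triangulated.Triangulated

set_option autoImplicit false
universe w v u
open CategoryTheory CategoryTheory.Limits Pretriangulated

namespace Groth.Agent.H56

open DerivedCategory DerivedCategory.TStructure

section General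

variable {A : Type u} [Category.{v} A] [Abelian A] [HasDerivedCategory.{w} A]

omit [HasDerivedCategory.{w} A] in
/-- splitting off the bottom cell of a complex with `E^{a-1} = 0`. -/
lemma exists_bottom_cell_ses (E : CochainComplex A ℤ) (a : ℤ) (ha : IsZero (E.X (a - 1))) :
    ∃ (E' : CochainComplex A ℤ) (ι : E' ⟶ E)
      (p : E ⟶ (HomologicalComplex.single A (ComplexShape.up ℤ) a).obj (E.X a))
      (w : ι ≫ p = 0), (ShortComplex.mk ι p w).ShortExact ∧ IsZero (E'.X a) ∧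
        ∀ i, i ≠ a → Nonempty (E'.X i ≅ E.X i) := by
  obtain ⟨p, hp⟩ : ∃ p : E ⟶ (HomologicalComplex.single A (ComplexShape.up ℤ) a).obj (E.X a),
      p.f a = 𝟙 _ ≫ (HomologicalComplex.singleObjXSelf (ComplexShape.up ℤ) a (E.X a)).inv :=
    ⟨HomologicalComplex.mkHomToSingle (𝟙 (E.X a)) (fun k hk => by
      have hk' : k = a - 1 := by
        have : k + 1 = a := hk
        omega
      subst hk'
      exact ha.eq_of_src _ _), HomologicalComplex.mkHomToSingle_f _ _⟩
  have hiso : IsIso (p.f a) := by rw [hp]; infer_instance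
  have hepi : Epi p := by
    apply HomologicalComplex.epi_of_epi_f
    intro i
    by_cases hi : i = a
    · subst hi; infer_instance
    · exact ⟨fun _ _ _ =>
        (HomologicalComplex.isZero_single_obj_X (ComplexShape.up ℤ) a (E.X a) i hi).eq_of_src _ _⟩
  have hT : (ShortComplex.mk (kernel.ι p) p (kernel.condition p)).ShortExact :=
    { exact := ShortComplex.exact_kernel p
      mono_f := by dsimp; infer_instance
      epi_g := hepi }
  have hdeg := (HomologicalComplex.shortExact_iff_degreewise_shortExact _).1 hT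
  refine ⟨kernel p, kernel.ι p, p, kernel.condition p, hT, ?_, ?_⟩
  · have hmono : Mono ((kernel.ι p).f a) := (hdeg a).mono_f
    have h0 : (kernel.ι p).f a = 0 := by
      rw [← cancel_mono (p.f a), zero_comp, ← HomologicalComplex.comp_f, kernel.condition,
        HomologicalComplex.zero_f]
    exact IsZero.of_mono_eq_zero _ h0
  · intro i hi
    have hz := HomologicalComplex.isZero_single_obj_X (ComplexShape.up ℤ) a (E.X a) i hi
    have hmono : Mono ((kernel.ι p).f i) := (hdeg i).mono_f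
    have hepi' : Epi ((kernel.ι p).f i) := (hdeg i).exact.epi_f (hz.eq_of_tgt _ _)
    have : IsIso ((kernel.ι p).f i) := isIso_of_mono_of_epi _
    exact ⟨asIso ((kernel.ι p).f i)⟩

lemma isZero_homology_Q_single (X : A) (a j : ℤ) (hj : j ≠ a) :
    IsZero ((homologyFunctor A j).obj
      (Q.obj ((HomologicalComplex.single A (ComplexShape.up ℤ) a).obj X))) :=
  (HomologicalComplex.isZero_single_obj_homology (ComplexShape.up ℤ) a X j hj).of_iso
    ((homologyFunctorFactors A j).app _)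

/-- the inclusion of the complement of the bottom cell is an isomorphism on `H^i` for
`i > a + 1` and an epimorphism for `i = a + 1`. -/
lemma bottom_cell_homology {E E' : CochainComplex A ℤ} (a : ℤ) (ι : E' ⟶ E)
    (p : E ⟶ (HomologicalComplex.single A (ComplexShape.up ℤ) a).obj (E.X a)) (w : ι ≫ p = 0)
    (hS : (ShortComplex.mk ι p w).ShortExact) (i : ℤ) (hi : a < i) :
    Epi ((homologyFunctor A i).map (Q.map ι)) ∧
      (a + 1 < i → IsIso ((homologyFunctor A i).map (Q.map ι))) := by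
  have hT := triangleOfSES_distinguished hS
  have hepi : Epi ((homologyFunctor A i).map (Q.map ι)) := by
    apply (HomologySequence.epi_homologyMap_mor₁_iff (triangleOfSES hS) hT i).2
    exact (isZero_homology_Q_single (E.X a) a i (by omega)).eq_of_tgt _ _
  refine ⟨hepi, fun hi' => ?_⟩
  have hmono : Mono ((homologyFunctor A i).map (Q.map ι)) := by
    apply (HomologySequence.mono_homologyMap_mor₁_iff (triangleOfSES hS) hT (i - 1) i
      (by omega)).2
    exact (isZero_homology_Q_single (E.X a) a (i - 1) (by omega)).eq_of_src _ _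
  exact isIso_of_mono_of_epi _

/-- the cone of a morphism which is an isomorphism on `H^i` for `i > m` and an epimorphism on
`H^m` lies in `D^{≤ m-1}`. -/
lemma isLE_cone_of_homology {X K Z : DerivedCategory A} (α : X ⟶ K) (g : K ⟶ Z)
    (h : Z ⟶ X⟦(1 : ℤ)⟧) (hT : Triangle.mk α g h ∈ distTriang _) (m n : ℤ) (hn : n + 1 = m)
    (hiso : ∀ i, m < i → IsIso ((homologyFunctor A i).map α))
    (hepi : Epi ((homologyFunctor A m).map α)) : Z.IsLE n := by
  rw [isLE_iff]
  intro i hi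
  have hepi' : Epi ((homologyFunctor A i).map α) := by
    by_cases him : i = m
    · rw [him]; exact hepi
    · haveI := hiso i (by omega)
      infer_instance
  haveI := hiso (i + 1) (by omega)
  have hmono : Mono ((homologyFunctor A (i + 1)).map α) := inferInstance
  have h1 : (homologyFunctor A i).map g = 0 :=
    (HomologySequence.epi_homologyMap_mor₁_iff _ hT i).1 hepi'
  have h2 : HomologySequence.δ (Triangle.mk α g h) i (i + 1) rfl = 0 :=
    (HomologySequence.mono_homologyMap_mor₁_iff _ hT i (i + 1) rfl).1 hmono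
  exact (HomologySequence.exact₃ _ hT i (i + 1) rfl).isZero_X₂ h1 h2

/-- converse of `isLE_cone_of_homology`. -/
lemma homology_of_isLE_cone {X K Z : DerivedCategory A} (α : X ⟶ K) (g : K ⟶ Z)
    (h : Z ⟶ X⟦(1 : ℤ)⟧) (hT : Triangle.mk α g h ∈ distTriang _) (m n : ℤ) (hn : n + 1 = m)
    [Z.IsLE n] :
    (∀ i, m < i → IsIso ((homologyFunctor A i).map α)) ∧ Epi ((homologyFunctor A m).map α) := by
  have hz : ∀ i, n < i → IsZero ((homologyFunctor A i).obj Z) := (isLE_iff Z n).1 inferInstance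
  have hepi : ∀ i, n < i → Epi ((homologyFunctor A i).map α) := fun i hi =>
    (HomologySequence.epi_homologyMap_mor₁_iff _ hT i).2 ((hz i hi).eq_of_tgt _ _)
  refine ⟨fun i hi => ?_, hepi m (by omega)⟩
  haveI := hepi i (by omega)
  haveI : Mono ((homologyFunctor A i).map α) :=
    (HomologySequence.mono_homologyMap_mor₁_iff _ hT (i - 1) i (by omega)).2
      ((hz (i - 1) (by omega)).eq_of_src _ _)
  exact isIso_of_mono_of_epi _

/-- the cone of a composite of morphisms with cones in `D^{≤ n}` lies in `D^{≤ n}`. -/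
lemma isLE_cone_comp {X₁ X₂ X₃ Z₁₂ Z₂₃ Z₁₃ : DerivedCategory A}
    {u₁₂ : X₁ ⟶ X₂} {u₂₃ : X₂ ⟶ X₃} {u₁₃ : X₁ ⟶ X₃} (comm : u₁₂ ≫ u₂₃ = u₁₃)
    {v₁₂ : X₂ ⟶ Z₁₂} {w₁₂ : Z₁₂ ⟶ X₁⟦(1 : ℤ)⟧}
    (h₁₂ : Triangle.mk u₁₂ v₁₂ w₁₂ ∈ distTriang (DerivedCategory A))
    {v₂₃ : X₃ ⟶ Z₂₃} {w₂₃ : Z₂₃ ⟶ X₂⟦(1 : ℤ)⟧}
    (h₂₃ : Triangle.mk u₂₃ v₂₃ w₂₃ ∈ distTriang (DerivedCategory A))
    {v₁₃ : X₃ ⟶ Z₁₃} {w₁₃ : Z₁₃ ⟶ X₁⟦(1 : ℤ)⟧}
    (h₁₃ : Triangle.mk u₁₃ v₁₃ w₁₃ ∈ distTriang (DerivedCategory A))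
    (n : ℤ) (hle₁₂ : Z₁₂.IsLE n) (hle₂₃ : Z₂₃.IsLE n) : Z₁₃.IsLE n := by
  have o := Triangulated.someOctahedron comm h₁₂ h₂₃ h₁₃
  exact t.isLE₂ _ o.mem n hle₁₂ hle₂₃

/-- the arrow `H^i(f[n])` is isomorphic to the arrow `H^{n+i}(f)`. -/
noncomputable def homologyShiftArrowIso {X Y : DerivedCategory A} (f : X ⟶ Y) (n i i' : ℤ)
    (h : n + i = i') :
    Arrow.mk ((homologyFunctor A i).map (f⟦n⟧')) ≅ Arrow.mk ((homologyFunctor A i').map f) :=
  Arrow.isoMk (((homologyFunctor A 0).shiftIso n i i' h).app X)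
    (((homologyFunctor A 0).shiftIso n i i' h).app Y)
    (((homologyFunctor A 0).shiftIso n i i' h).hom.naturality f).symm

end General

section Ring

attribute [local instance] HasDerivedCategory.standard

open DRing

variable {R : Type u} [CommRing R]

lemma isPseudoCoherent_of_iso {K L : Dual.D R} (e : K ≅ L) (m : ℤ)
    (h : IsPseudoCoherent R m K) : IsPseudoCoherent R m L := by
  obtain ⟨E, a, b, α, hv, hf, hiso, hepi⟩ := h
  refine ⟨E, a, b, α ≫ e.hom, hv, hf, fun i hi => ?_, ?_⟩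
  · haveI := hiso i hi
    rw [Functor.map_comp]
    infer_instance
  · haveI := hepi
    rw [Functor.map_comp]
    exact epi_comp _ _

lemma isPseudoCoherent_shift {K : Dual.D R} (m : ℤ) (h : IsPseudoCoherent R m K) (n m' : ℤ)
    (hm : n + m' = m) : IsPseudoCoherent R m' (K⟦n⟧) := by
  obtain ⟨E, a, b, α, hv, hf, hiso, hepi⟩ := h
  have hiso' : ∀ i i' : ℤ, n + i = i' → IsIso ((homologyFunctor (ModuleCat.{u} R) i').map α) →
      IsIso ((homologyFunctor (ModuleCat.{u} R) i).map (α⟦n⟧')) := fun i i' h hi =>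
    ((MorphismProperty.isomorphisms _).arrow_mk_iso_iff (homologyShiftArrowIso α n i i' h)).2 hi
  have hepi' : ∀ i i' : ℤ, n + i = i' → Epi ((homologyFunctor (ModuleCat.{u} R) i').map α) →
      Epi ((homologyFunctor (ModuleCat.{u} R) i).map (α⟦n⟧')) := fun i i' h hi =>
    ((MorphismProperty.epimorphisms _).arrow_mk_iso_iff (homologyShiftArrowIso α n i i' h)).2 hi
  refine ⟨E⟦n⟧, a - n, b - n, (Q.commShiftIso n).hom.app E ≫ α⟦n⟧', ?_, ?_, fun i hi => ?_, ?_⟩
  · intro i hi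
    exact hv (i + n) (by omega)
  · intro i
    exact hf (i + n)
  · haveI := hiso' i (n + i) rfl (hiso (n + i) (by omega))
    rw [Functor.map_comp]
    infer_instance
  · haveI := hepi' m' m hm hepi
    rw [Functor.map_comp]
    exact epi_comp _ _

/-- one may assume that the approximating complex of an `m`-pseudo-coherent object vanishes in
degrees `< m`. -/
lemma exists_truncated_pc_data (m : ℤ) (K : Dual.D R) :
    ∀ (n : ℕ) (E : Cx R) (a b : ℤ) (α : Q.obj E ⟶ K), m ≤ a + n →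
      VanishesOutside E a b → TermwiseFiniteFree E →
      (∀ i : ℤ, m < i → IsIso ((homologyFunctor (ModuleCat.{u} R) i).map α)) →
      Epi ((homologyFunctor (ModuleCat.{u} R) m).map α) →
      ∃ (E' : Cx R) (b' : ℤ) (α' : Q.obj E' ⟶ K), VanishesOutside E' m b' ∧
        TermwiseFiniteFree E' ∧
        (∀ i : ℤ, m < i → IsIso ((homologyFunctor (ModuleCat.{u} R) i).map α')) ∧
        Epi ((homologyFunctor (ModuleCat.{u} R) m).map α') := by
  intro n
  induction n with
  | zero =>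
    intro E a b α han hv hf hiso hepi
    exact ⟨E, b, α, fun i hi => hv i (by omega), hf, hiso, hepi⟩
  | succ n ih =>
    intro E a b α han hv hf hiso hepi
    by_cases hma : m ≤ a
    · exact ⟨E, b, α, fun i hi => hv i (by omega), hf, hiso, hepi⟩
    · obtain ⟨E', ι, p, w, hS, hz, hX⟩ :=
        exists_bottom_cell_ses E a (hv (a - 1) (Or.inl (by omega)))
      have hv' : VanishesOutside E' (a + 1) b := by
        intro i hi
        by_cases hia : i = a
        · rw [hia]; exact hz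
        · obtain ⟨e⟩ := hX i hia
          exact (hv i (by omega)).of_iso e
      have hf' : TermwiseFiniteFree E' := by
        intro i
        by_cases hia : i = a
        · rw [hia]
          haveI : Subsingleton (E'.X a) := ModuleCat.subsingleton_of_isZero hz
          exact ⟨inferInstance, inferInstance⟩
        · obtain ⟨e⟩ := hX i hia
          haveI := (hf i).1
          haveI := (hf i).2
          exact ⟨Module.Finite.equiv e.toLinearEquiv.symm,
            Module.Free.of_equiv e.toLinearEquiv.symm⟩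
      have hB := fun i hi => bottom_cell_homology a ι p w hS i hi
      refine ih E' (a + 1) b (Q.map ι ≫ α) (by omega) hv' hf' (fun i hi => ?_) ?_
      · haveI := hiso i hi
        haveI := (hB i (by omega)).2 (by omega)
        rw [Functor.map_comp]
        infer_instance
      · haveI := hepi
        haveI := (hB m (by omega)).1
        rw [Functor.map_comp]
        exact epi_comp _ _

lemma vanishesOutside_mappingCone {E₁ E₂ : Cx R} (φ : E₁ ⟶ E₂) (a₁ b₁ a₂ b₂ : ℤ)
    (h1 : VanishesOutside E₁ a₁ b₁) (h2 : VanishesOutside E₂ a₂ b₂) :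
    VanishesOutside (CochainComplex.mappingCone φ) (min (a₁ - 1) a₂) (max (b₁ - 1) b₂) := by
  intro i hi
  refine IsZero.of_iso ?_ (HomologicalComplex.homotopyCofiber.XIsoBiprod φ i (i + 1) rfl)
  rw [biprod_isZero_iff]
  have h3 : i < a₁ - 1 ∧ i < a₂ ∨ b₁ - 1 < i ∧ b₂ < i := by
    rcases hi with hi | hi
    · exact Or.inl (lt_min_iff.mp hi)
    · exact Or.inr (max_lt_iff.mp hi)
  exact ⟨h1 (i + 1) (by omega), h2 i (by omega)⟩

/-- In a distinguished triangle `K → L → M`, if `K` is `(m+1)`-pseudo-coherent and `L` is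
`m`-pseudo-coherent then `M` is `m`-pseudo-coherent. -/
theorem isPseudoCoherent_obj₃ (T : Triangle (Dual.D R)) (hT : T ∈ distTriang _) (m : ℤ)
    (h₁ : IsPseudoCoherent R (m + 1) T.obj₁) (h₂ : IsPseudoCoherent R m T.obj₂) :
    IsPseudoCoherent R m T.obj₃ := by
  obtain ⟨E₀, a₀, b₀, α₀, v₀, f₀, hi₀, he₀⟩ := h₁
  obtain ⟨E₁, b₁, α₁, v₁, p₁, hi₁, he₁⟩ := exists_truncated_pc_data (m + 1) T.obj₁
    (m + 1 - a₀).toNat E₀ a₀ b₀ α₀ (by omega) v₀ f₀ hi₀ he₀
  obtain ⟨E₂, a₂, b₂, α₂, v₂, p₂, hi₂, he₂⟩ := h₂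
  obtain ⟨C₁, g₁, k₁, hC₁⟩ := distinguished_cocone_triangle α₁
  obtain ⟨C₂, g₂, k₂, hC₂⟩ := distinguished_cocone_triangle α₂
  haveI hC₁le : C₁.IsLE m := isLE_cone_of_homology α₁ g₁ k₁ hC₁ (m + 1) m rfl hi₁ he₁
  haveI hC₂le : C₂.IsLE (m - 1) :=
    isLE_cone_of_homology α₂ g₂ k₂ hC₂ m (m - 1) (by omega) hi₂ he₂
  have hproj₁ : ∀ i, Module.Projective R (E₁.X i) := fun i => by
    haveI := (p₁ i).2
    exact Module.Projective.of_free
  haveI : C₂.IsLE (m + 1 - 1) := t.isLE_of_le C₂ (m - 1) (m + 1 - 1) (by omega)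
  have h0 : (α₁ ≫ T.mor₁) ≫ g₂ = 0 :=
    hom_projCx_eq_zero_of_isLE E₁ (m + 1) b₁ v₁ hproj₁ C₂ _
  obtain ⟨γ', hγ'⟩ := Triangle.coyoneda_exact₂ _ hC₂ (α₁ ≫ T.mor₁) h0
  haveI : E₁.IsStrictlyLE b₁ := by
    rw [CochainComplex.isStrictlyLE_iff]
    intro i hi
    exact v₁ i (Or.inr hi)
  haveI : ∀ n, Projective (E₁.X n) := fun n => (IsProjective.iff_projective _).mp (hproj₁ n)
  haveI : E₁.IsKProjective := CochainComplex.isKProjective_of_projective E₁ b₁
  obtain ⟨γ, hγ⟩ := exists_chainMap_of_isKProjective E₁ E₂ γ'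
  subst hγ
  have hcomm : Q.map γ ≫ α₂ = α₁ ≫ T.mor₁ := hγ'.symm
  obtain ⟨F, vF, wF, hF, hFv, hFf⟩ : ∃ (F : Cx R) (vF : Q.obj E₂ ⟶ Q.obj F)
      (wF : Q.obj F ⟶ (Q.obj E₁)⟦(1 : ℤ)⟧),
      Triangle.mk (Q.map γ) vF wF ∈ distTriang (Dual.D R) ∧
      VanishesOutside F (min (m + 1 - 1) a₂) (max (b₁ - 1) b₂) ∧ TermwiseFiniteFree F :=
    ⟨CochainComplex.mappingCone γ, _, _, mappingCone_triangle_distinguished γ,
      vanishesOutside_mappingCone γ (m + 1) b₁ a₂ b₂ v₁ v₂,
      (termwiseFiniteFree_mappingCone γ b₁ b₂ (fun i hi => v₁ i (Or.inr hi)) p₁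
        (fun i hi => v₂ i (Or.inr hi)) p₂).2⟩
  obtain ⟨N, gN, kN, hN⟩ := distinguished_cocone_triangle (α₁ ≫ T.mor₁)
  have hT' : Triangle.mk T.mor₁ T.mor₂ T.mor₃ ∈ distTriang (Dual.D R) := hT
  have o₁ := Triangulated.someOctahedron (rfl : α₁ ≫ T.mor₁ = α₁ ≫ T.mor₁) hC₁ hT' hN
  have o₂ := Triangulated.someOctahedron hcomm hF hC₂ hN
  have hrot : Triangle.mk o₁.m₃ (T.mor₃ ≫ (shiftFunctor (Dual.D R) (1 : ℤ)).map g₁)
      (-((shiftFunctor (Dual.D R) (1 : ℤ)).map o₁.m₁)) ∈ distTriang (Dual.D R) :=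
    rot_of_distTriang _ o₁.mem
  obtain ⟨Cβ, gβ, kβ, hβ⟩ := distinguished_cocone_triangle (o₂.m₁ ≫ o₁.m₃)
  have hle₁ : (C₁⟦(1 : ℤ)⟧).IsLE (m - 1) := t.isLE_shift C₁ m 1 (m - 1) (by omega)
  haveI : Cβ.IsLE (m - 1) := isLE_cone_comp rfl o₂.mem hrot hβ (m - 1) hC₂le hle₁
  obtain ⟨hiβ, heβ⟩ := homology_of_isLE_cone (o₂.m₁ ≫ o₁.m₃) gβ kβ hβ m (m - 1) (by omega)
  exact ⟨F, _, _, o₂.m₁ ≫ o₁.m₃, hFv, hFf, hiβ, heβ⟩

theorem isPseudoCoherent_obj₂ (T : Triangle (Dual.D R)) (hT : T ∈ distTriang _) (m : ℤ)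
    (h₁ : IsPseudoCoherent R m T.obj₁) (h₃ : IsPseudoCoherent R m T.obj₃) :
    IsPseudoCoherent R m T.obj₂ :=
  isPseudoCoherent_obj₃ T.invRotate (inv_rot_of_distTriang T hT) m
    (isPseudoCoherent_shift m h₃ (-1) (m + 1) (by omega)) h₁

theorem isPseudoCoherent_obj₁ (T : Triangle (Dual.D R)) (hT : T ∈ distTriang _) (m : ℤ)
    (h₂ : IsPseudoCoherent R (m + 1) T.obj₂) (h₃ : IsPseudoCoherent R m T.obj₃) :
    IsPseudoCoherent R (m + 1) T.obj₁ :=
  isPseudoCoherent_obj₃ T.invRotate.invRotate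
    (inv_rot_of_distTriang _ (inv_rot_of_distTriang T hT)) (m + 1)
    (isPseudoCoherent_shift (m + 1) h₂ (-1) (m + 1 + 1) (by omega))
    (isPseudoCoherent_shift m h₃ (-1) (m + 1) (by omega))

end Ring

end Groth.Agent.H56
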