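import Groth.Agent.H56.PcHom
import Groth.Prelude.Def_DerCA

set_option autoImplicit false
universe u
open CategoryTheory CategoryTheory.Limits Pretriangulated

namespace Groth.Agent.H56

open DerivedCategory DerivedCategory.TStructure DRing

attribute [local instance] HasDerivedCategory.standard

section Single

variable {P : Type u} [CommRing P]

/-- if `F → N` is an epimorphism from a finite free module with kernel `K` such that `K[0]` is
`(m+1)`-pseudo-coherent then `N[0]` is `m`-pseudo-coherent. -/
lemma isPseudoCoherent_single_of_epi (N F : ModuleCat.{u} P) (hFfin : Module.Finite P F)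
    (hFfree : Module.Free P F) (π : F ⟶ N) [Epi π] (m : ℤ)
    (hK : IsPseudoCoherent P (m + 1) ((singleFunctor (ModuleCat.{u} P) 0).obj (kernel π))) :
    IsPseudoCoherent P m ((singleFunctor (ModuleCat.{u} P) 0).obj N) := by
  have hS : (ShortComplex.mk (kernel.ι π) π (kernel.condition π)).ShortExact :=
    { exact := ShortComplex.exact_kernel π
      mono_f := by dsimp; infer_instance
      epi_g := by dsimp; infer_instance }
  exact isPseudoCoherent_obj₃ hS.singleTriangle hS.singleTriangle_distinguished m hK
    (isPseudoCoherent_single_free 0 F hFfin hFfree m)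

lemma exists_finite_free_epi (N : ModuleCat.{u} P) (hN : Module.Finite P N) :
    ∃ (F : ModuleCat.{u} P) (_ : Module.Finite P F) (_ : Module.Free P F) (π : F ⟶ N),
      Epi π := by
  obtain ⟨k, f, hf⟩ := Module.Finite.exists_fin' P N
  exact ⟨ModuleCat.of P (Fin k → P), inferInstance, inferInstance, ModuleCat.ofHom f,
    (ModuleCat.epi_iff_surjective _).2 hf⟩

lemma finite_of_iso_single_homology (N : ModuleCat.{u} P)
    (h : Module.Finite P ((homologyFunctor (ModuleCat.{u} P) 0).obj
      ((singleFunctor (ModuleCat.{u} P) 0).obj N))) : Module.Finite P N := by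
  haveI : Module.Finite P ((singleFunctor (ModuleCat.{u} P) 0 ⋙
      homologyFunctor (ModuleCat.{u} P) 0).obj N) := h
  exact Module.Finite.equiv
    ((singleFunctorCompHomologyFunctorIso (ModuleCat.{u} P) 0).app N).toLinearEquiv

theorem isPseudoCoherent_zero_single_iff (N : ModuleCat.{u} P) :
    IsPseudoCoherent P 0 ((singleFunctor (ModuleCat.{u} P) 0).obj N) ↔ Module.Finite P N := by
  constructor
  · intro h
    exact finite_of_iso_single_homology N
      ((Groth.Agent.S2068.result _ 0 h).1 (fun i hi => isZero_of_isLE _ 0 i hi))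
  · intro h
    obtain ⟨F, hFfin, hFfree, π, hπ⟩ := exists_finite_free_epi N h
    exact isPseudoCoherent_single_of_epi N F hFfin hFfree π 0
      (isPseudoCoherent_of_isLE _ _ 0 (by omega) inferInstance)

theorem isPseudoCoherent_negOne_single_iff (N : ModuleCat.{u} P) :
    IsPseudoCoherent P (-1) ((singleFunctor (ModuleCat.{u} P) 0).obj N) ↔
      Module.FinitePresentation P N := by
  constructor
  · intro h
    have h2 := (Groth.Agent.S2068.result _ (-1) h).2
      (fun i hi => isZero_of_isLE _ 0 i (by omega))
    have h3 : Module.FinitePresentation P ((singleFunctor (ModuleCat.{u} P) 0 ⋙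
        homologyFunctor (ModuleCat.{u} P) 0).obj N) := h2
    exact Module.finitePresentation_of_surjective
      ((singleFunctorCompHomologyFunctorIso (ModuleCat.{u} P) 0).app N).toLinearEquiv.toLinearMap
      ((singleFunctorCompHomologyFunctorIso (ModuleCat.{u} P) 0).app N).toLinearEquiv.surjective
      (by
        rw [LinearEquiv.ker]
        exact Submodule.fg_bot)
  · intro h
    haveI := h
    obtain ⟨F, hFfin, hFfree, π, hπ⟩ := exists_finite_free_epi N inferInstance
    haveI := hπ
    haveI := hFfin
    have hker : (LinearMap.ker π.hom).FG :=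
      Module.FinitePresentation.fg_ker π.hom ((ModuleCat.epi_iff_surjective _).1 hπ)
    -- the categorical kernel is finite
    have hKfin : Module.Finite P (kernel π : ModuleCat.{u} P) := by
      haveI : Module.Finite P (LinearMap.ker π.hom) := Module.Finite.iff_fg.2 hker
      exact Module.Finite.equiv (ModuleCat.kernelIsoKer π).toLinearEquiv.symm
    exact isPseudoCoherent_single_of_epi N F hFfin hFfree π (-1)
      ((isPseudoCoherent_zero_single_iff _).2 hKfin)

end Single

section RingHom

variable {P A : Type u} [CommRing P] [CommRing A] (φ : P →+* A)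

lemma isPseudoCoherent_restrictD_single_iff (N : ModuleCat.{u} A) (m : ℤ) :
    IsPseudoCoherent P m ((restrictD φ).obj ((singleFunctor (ModuleCat.{u} A) 0).obj N)) ↔
      IsPseudoCoherent P m ((singleFunctor (ModuleCat.{u} P) 0).obj
        ((ModuleCat.restrictScalars.{u} φ).obj N)) :=
  ⟨isPseudoCoherent_of_iso
      (((ModuleCat.restrictScalars.{u} φ).mapDerivedCategorySingleFunctor 0).app N) m,
    isPseudoCoherent_of_iso
      (((ModuleCat.restrictScalars.{u} φ).mapDerivedCategorySingleFunctor 0).app N).symm m⟩

lemma isPseudoCoherent_restrictD_termwise (m : ℤ) (K : Cx A) (b : ℤ) (hb : VanishesAbove K b)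
    (h : ∀ i : ℤ, IsPseudoCoherent P (m - i)
      ((restrictD φ).obj ((singleFunctor (ModuleCat.{u} A) 0).obj (K.X i)))) :
    IsPseudoCoherent P m ((restrictD φ).obj (Q.obj K)) := by
  refine isPseudoCoherent_of_iso
    ((ModuleCat.restrictScalars.{u} φ).mapDerivedCategoryFactors.app K).symm m ?_
  show IsPseudoCoherent P m (Q.obj (((ModuleCat.restrictScalars.{u}
    φ).mapHomologicalComplex (ComplexShape.up ℤ)).obj K))
  apply isPseudoCoherent_of_termwise m _ b
  · intro i hi
    exact (ModuleCat.restrictScalars.{u} φ).map_isZero (hb i hi)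
  · intro i
    exact (isPseudoCoherent_restrictD_single_iff φ (K.X i) (m - i)).1 (h i)

lemma isPseudoCoherent_restrictD_homology (m : ℤ) (K : Dual.D A) (b : ℤ) (hK : K.IsLE b)
    (h : ∀ i : ℤ, IsPseudoCoherent P (m - i) ((restrictD φ).obj
      ((singleFunctor (ModuleCat.{u} A) 0).obj ((homologyFunctor (ModuleCat.{u} A) i).obj K)))) :
    IsPseudoCoherent P m ((restrictD φ).obj K) := by
  apply isPseudoCoherent_of_homology m _ b
    ((isLE_mapDerivedCategory_obj_iff (ModuleCat.restrictScalars.{u} φ) K b).2 hK)
  intro i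
  have e₂ : (homologyFunctor (ModuleCat.{u} P) i).obj ((restrictD φ).obj K) ≅
      (ModuleCat.restrictScalars.{u} φ).obj ((homologyFunctor (ModuleCat.{u} A) i).obj K) :=
    (mapDerivedCategoryHomologyIso (ModuleCat.restrictScalars.{u} φ) i).app K
  exact isPseudoCoherent_of_iso ((singleFunctor (ModuleCat.{u} P) 0).mapIso e₂.symm) _
    ((isPseudoCoherent_restrictD_single_iff φ _ (m - i)).1 (h i))

lemma isPseudoCoherent_restrictD_biprod (m : ℤ) (K L : Dual.D A)
    (h : IsPseudoCoherent P m ((restrictD φ).obj (K ⊞ L))) :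
    IsPseudoCoherent P m ((restrictD φ).obj K) ∧ IsPseudoCoherent P m ((restrictD φ).obj L) := by
  haveI : PreservesBinaryBiproducts (restrictD φ) :=
    preservesBinaryBiproducts_of_preservesBiproducts _
  exact isPseudoCoherent_of_biprod _ _ m
    (isPseudoCoherent_of_iso ((restrictD φ).mapBiprod K L) m h)

lemma finite_restrictScalars_iff_of_surjective (hφ : Function.Surjective φ)
    (M : ModuleCat.{u} A) :
    Module.Finite P ((ModuleCat.restrictScalars.{u} φ).obj M) ↔ Module.Finite A M := by
  constructor
  · intro h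
    letI : Algebra P A := φ.toAlgebra
    exact finite_of_finite_restrictScalars (A := P) M h
  · intro h
    letI : Algebra P A := φ.toAlgebra
    letI : Module P M := Module.compHom M φ
    haveI : IsScalarTower P A M := IsScalarTower.of_algebraMap_smul (fun _ _ => rfl)
    haveI : Module.Finite P A := Module.Finite.of_surjective (Algebra.linearMap P A) hφ
    haveI : Module.Finite A M := h
    have h' := @Module.Finite.trans P A M _ _ _ _ _ _ _ _ _
    exact h'

theorem isPseudoCoherent_restrictD_iff_of_noetherian [IsNoetherianRing P]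
    (hφ : Function.Surjective φ) (m : ℤ) (K : Dual.D A) :
    IsPseudoCoherent P m ((restrictD φ).obj K) ↔ (∃ c : ℤ, K.IsLE c) ∧
      ∀ i : ℤ, m ≤ i → Module.Finite A ((homologyFunctor (ModuleCat.{u} A) i).obj K) := by
  rw [isPseudoCoherent_iff_of_noetherian]
  have e : ∀ i : ℤ, (homologyFunctor (ModuleCat.{u} P) i).obj ((restrictD φ).obj K) ≅
      (ModuleCat.restrictScalars.{u} φ).obj ((homologyFunctor (ModuleCat.{u} A) i).obj K) :=
    fun i => (mapDerivedCategoryHomologyIso (ModuleCat.restrictScalars.{u} φ) i).app K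
  constructor
  · rintro ⟨⟨c, hc⟩, hfin⟩
    refine ⟨⟨c, (isLE_mapDerivedCategory_obj_iff _ K c).1 hc⟩, fun i hi => ?_⟩
    apply (finite_restrictScalars_iff_of_surjective φ hφ _).1
    haveI := hfin i hi
    exact Module.Finite.equiv (e i).toLinearEquiv
  · rintro ⟨⟨c, hc⟩, hfin⟩
    refine ⟨⟨c, (isLE_mapDerivedCategory_obj_iff _ K c).2 hc⟩, fun i hi => ?_⟩
    haveI := (finite_restrictScalars_iff_of_surjective φ hφ _).2 (hfin i hi)
    exact Module.Finite.equiv (e i).toLinearEquiv.symm

end RingHom

section Rel

variable {R A : Type u} [CommRing R] [CommRing A] [Algebra R A]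

lemma isRelPseudoCoherent_iff_via {n : ℕ} (α : MvPolynomial (Fin n) R →ₐ[R] A)
    (hα : Function.Surjective α) (m : ℤ) (K : Dual.D A) :
    DerCA.IsRelPseudoCoherent R A m K ↔ IsPseudoCoherent (MvPolynomial (Fin n) R) m
      ((restrictD (α : MvPolynomial (Fin n) R →+* A)).obj K) :=
  ⟨fun ⟨_, α', hα', h⟩ => (via_iff_via α' hα' α hα K m).1 h, fun h => ⟨n, α, hα, h⟩⟩

end Rel

end Groth.Agent.H56
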