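import Mathlib
import Groth.Agent.H59.Kosz
import Groth.Agent.H59.KoszTop

/-!
Koszul complexes in the mapping-cone model (helper56): coordinates on cones, the swap isomorphism
`cone(a on cone(b on K)) ≅ cone(b on cone(a on K))`, permutation invariance of `kz`, elementwise
acyclicity, and the comparison lemma: if `g` is "Koszul-regular over `K₀`", every `g_i` lies in the
ideal generated by `f` and `length f ≤ length g`, then `f` is Koszul-regular over `K₀`.
-/

set_option autoImplicit false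
universe u
open CategoryTheory CochainComplex HomologicalComplex Limits

namespace Groth.Agent.H56.KzSwap

open Groth.Agent.H59.Kosz

variable {A : Type u} [CommRing A]

section coords
variable (f : A) (K : Cx A)

lemma d_fst_apply (i j k : ℤ) (hij : i + 1 = j) (hjk : j + 1 = k)
    (z : (mappingCone (f • 𝟙 K)).X i) :
    (mappingCone.fst (f • 𝟙 K)).1.v j k hjk ((mappingCone (f • 𝟙 K)).d i j z) =
      -(K.d j k ((mappingCone.fst (f • 𝟙 K)).1.v i j hij z)) := by
  have := congrArg (fun g => (ConcreteCategory.hom g) z)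
    (mappingCone.d_fst_v (f • 𝟙 K) i j k hij hjk)
  simpa using this

/-- coordinates on the cone of `f • 𝟙 K` in degree `n` (with `n + 1 = m`). -/
noncomputable def cE (n m : ℤ) (h : n + 1 = m) :
    (mappingCone (f • 𝟙 K)).X n ≃ₗ[A] (K.X m × K.X n) :=
  LinearEquiv.ofLinear
    (LinearMap.prod ((mappingCone.fst (f • 𝟙 K)).1.v n m h).hom
      ((mappingCone.snd (f • 𝟙 K)).v n n (add_zero n)).hom)
    (LinearMap.coprod ((mappingCone.inl (f • 𝟙 K)).v m n (by omega)).hom
      ((mappingCone.inr (f • 𝟙 K)).f n).hom)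
    (by
      apply LinearMap.ext
      rintro ⟨x, y⟩
      show ((mappingCone.fst (f • 𝟙 K)).1.v n m h
          ((mappingCone.inl (f • 𝟙 K)).v m n (by omega) x + (mappingCone.inr (f • 𝟙 K)).f n y),
        (mappingCone.snd (f • 𝟙 K)).v n n (add_zero n)
          ((mappingCone.inl (f • 𝟙 K)).v m n (by omega) x + (mappingCone.inr (f • 𝟙 K)).f n y))
        = (x, y)
      rw [map_add, map_add, fst_inl' f K m n h x, fst_inr' f K m n h y, snd_inl' f K m n h x,
        snd_inr f K n y, add_zero, zero_add])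
    (by
      apply LinearMap.ext
      intro z
      exact decomp' f K m n h z)

lemma cE_apply (n m : ℤ) (h : n + 1 = m) (z : (mappingCone (f • 𝟙 K)).X n) :
    cE f K n m h z = ((mappingCone.fst (f • 𝟙 K)).1.v n m h z,
      (mappingCone.snd (f • 𝟙 K)).v n n (add_zero n) z) := rfl

lemma cE_d (i j k : ℤ) (hij : i + 1 = j) (hjk : j + 1 = k) (z : (mappingCone (f • 𝟙 K)).X i) :
    cE f K j k hjk ((mappingCone (f • 𝟙 K)).d i j z) =
      (-(K.d j k (cE f K i j hij z).1),
        f • (cE f K i j hij z).1 + K.d i j (cE f K i j hij z).2) := by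
  apply Prod.ext
  · exact d_fst_apply f K i j k hij hjk z
  · exact d_snd_apply f K i j hij z

lemma cE_d_symm (i j k : ℤ) (hij : i + 1 = j) (hjk : j + 1 = k) (p : K.X j × K.X i) :
    cE f K j k hjk ((mappingCone (f • 𝟙 K)).d i j ((cE f K i j hij).symm p)) =
      (-(K.d j k p.1), f • p.1 + K.d i j p.2) := by
  rw [cE_d f K i j k hij hjk, LinearEquiv.apply_symm_apply]

end coords

section swap
variable (a b : A) (K : Cx A)

/-- coordinates on `cone(a on cone(b on K))`. -/
noncomputable def cE2 (n m k : ℤ) (h : n + 1 = m) (h' : m + 1 = k) :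
    (mappingCone (a • 𝟙 (mappingCone (b • 𝟙 K)))).X n ≃ₗ[A]
      ((K.X k × K.X m) × (K.X m × K.X n)) :=
  (cE a (mappingCone (b • 𝟙 K)) n m h).trans
    (LinearEquiv.prodCongr (cE b K m k h') (cE b K n m h))

lemma cE2_apply (n m k : ℤ) (h : n + 1 = m) (h' : m + 1 = k)
    (z : (mappingCone (a • 𝟙 (mappingCone (b • 𝟙 K)))).X n) :
    cE2 a b K n m k h h' z =
      (cE b K m k h' (cE a (mappingCone (b • 𝟙 K)) n m h z).1,
        cE b K n m h (cE a (mappingCone (b • 𝟙 K)) n m h z).2) := rfl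

lemma cE2_d (i j k l : ℤ) (hij : i + 1 = j) (hjk : j + 1 = k) (hkl : k + 1 = l)
    (z : (mappingCone (a • 𝟙 (mappingCone (b • 𝟙 K)))).X i) :
    cE2 a b K j k l hjk hkl ((mappingCone (a • 𝟙 (mappingCone (b • 𝟙 K)))).d i j z) =
      ((K.d k l (cE2 a b K i j k hij hjk z).1.1,
          -(b • (cE2 a b K i j k hij hjk z).1.1) - K.d j k (cE2 a b K i j k hij hjk z).1.2),
        (a • (cE2 a b K i j k hij hjk z).1.1 - K.d j k (cE2 a b K i j k hij hjk z).2.1,
          a • (cE2 a b K i j k hij hjk z).1.2 + b • (cE2 a b K i j k hij hjk z).2.1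
            + K.d i j (cE2 a b K i j k hij hjk z).2.2)) := by
  rw [cE2_apply, cE_d a (mappingCone (b • 𝟙 K)) i j k hij hjk z]
  simp only [map_neg, map_add, map_smul]
  rw [cE_d b K j k l hjk hkl, cE_d b K i j k hij hjk, cE2_apply]
  refine Prod.ext (Prod.ext ?_ ?_) (Prod.ext ?_ ?_)
  · simp
  · simp only [Prod.neg_mk]
    abel
  · simp only [Prod.fst_add, Prod.smul_fst]
    abel
  · simp only [Prod.snd_add, Prod.smul_snd]
    abel

end swap

section swL
variable {P Q R : Type*} [AddCommGroup P] [AddCommGroup Q] [AddCommGroup R]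
  [Module A P] [Module A Q] [Module A R]

/-- the swap in coordinates. -/
def swL : ((P × Q) × (Q × R)) →ₗ[A] ((P × Q) × (Q × R)) where
  toFun p := ((-p.1.1, p.2.1), (p.1.2, p.2.2))
  map_add' p q := by
    refine Prod.ext (Prod.ext ?_ ?_) (Prod.ext ?_ ?_) <;> simp [neg_add, add_comm]
  map_smul' c p := by
    refine Prod.ext (Prod.ext ?_ ?_) (Prod.ext ?_ ?_) <;> simp

@[simp] lemma swL_apply (p : (P × Q) × (Q × R)) :
    swL (A := A) p = ((-p.1.1, p.2.1), (p.1.2, p.2.2)) := rfl

lemma swL_swL (p : (P × Q) × (Q × R)) : swL (A := A) (swL (A := A) p) = p := by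
  simp

end swL

section swapHom
variable (a b : A) (K : Cx A)

/-- the swap morphism `cone(a on cone(b on K)) ⟶ cone(b on cone(a on K))`. -/
noncomputable def swapHom :
    mappingCone (a • 𝟙 (mappingCone (b • 𝟙 K))) ⟶ mappingCone (b • 𝟙 (mappingCone (a • 𝟙 K))) where
  f n := ModuleCat.ofHom
    ((cE2 b a K n (n + 1) (n + 1 + 1) rfl rfl).symm.toLinearMap ∘ₗ swL (A := A) ∘ₗ
      (cE2 a b K n (n + 1) (n + 1 + 1) rfl rfl).toLinearMap)
  comm' i j hij := by
    have hij' : i + 1 = j := hij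
    subst hij'
    apply ModuleCat.hom_ext
    apply LinearMap.ext
    intro z
    show (mappingCone (b • 𝟙 (mappingCone (a • 𝟙 K)))).d i (i + 1)
        ((cE2 b a K i (i + 1) (i + 1 + 1) rfl rfl).symm
          (swL (A := A) (cE2 a b K i (i + 1) (i + 1 + 1) rfl rfl z))) =
      (cE2 b a K (i + 1) (i + 1 + 1) (i + 1 + 1 + 1) rfl rfl).symm
        (swL (A := A) (cE2 a b K (i + 1) (i + 1 + 1) (i + 1 + 1 + 1) rfl rfl
          ((mappingCone (a • 𝟙 (mappingCone (b • 𝟙 K)))).d i (i + 1) z)))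
    apply (cE2 b a K (i + 1) (i + 1 + 1) (i + 1 + 1 + 1) rfl rfl).injective
    rw [LinearEquiv.apply_symm_apply, cE2_d b a K i (i + 1) (i + 1 + 1) (i + 1 + 1 + 1) rfl rfl rfl,
      LinearEquiv.apply_symm_apply, cE2_d a b K i (i + 1) (i + 1 + 1) (i + 1 + 1 + 1) rfl rfl rfl]
    generalize cE2 a b K i (i + 1) (i + 1 + 1) rfl rfl z = p
    obtain ⟨⟨x11, x12⟩, ⟨x21, x22⟩⟩ := p
    simp only [swL_apply]
    refine Prod.ext (Prod.ext ?_ ?_) (Prod.ext ?_ ?_)
    · simp
    · simp only [smul_neg]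
      abel
    · simp
    · simp only
      abel

lemma swapHom_f_apply (n : ℤ) (z : (mappingCone (a • 𝟙 (mappingCone (b • 𝟙 K)))).X n) :
    (swapHom a b K).f n z = (cE2 b a K n (n + 1) (n + 1 + 1) rfl rfl).symm
      (swL (A := A) (cE2 a b K n (n + 1) (n + 1 + 1) rfl rfl z)) := rfl

lemma swapHom_comp : swapHom a b K ≫ swapHom b a K = 𝟙 _ := by
  apply HomologicalComplex.hom_ext
  intro n
  apply ModuleCat.hom_ext
  apply LinearMap.ext
  intro z
  show (swapHom b a K).f n ((swapHom a b K).f n z) = z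
  rw [swapHom_f_apply, swapHom_f_apply, LinearEquiv.apply_symm_apply, swL_swL,
    LinearEquiv.symm_apply_apply]

/-- the swap isomorphism. -/
noncomputable def swapIso :
    mappingCone (a • 𝟙 (mappingCone (b • 𝟙 K))) ≅ mappingCone (b • 𝟙 (mappingCone (a • 𝟙 K))) where
  hom := swapHom a b K
  inv := swapHom b a K
  hom_inv_id := swapHom_comp a b K
  inv_hom_id := swapHom_comp b a K

end swapHom

section perm

lemma coneMap_id (a : A) (K : Cx A) : coneMap a (𝟙 K) = 𝟙 _ := by
  have h := coneMap_smul_id a (1 : A) K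
  rwa [one_smul, one_smul] at h

/-- functoriality of the cone in isomorphisms. -/
noncomputable def coneIso (a : A) {K L : Cx A} (e : K ≅ L) :
    mappingCone (a • 𝟙 K) ≅ mappingCone (a • 𝟙 L) where
  hom := coneMap a e.hom
  inv := coneMap a e.inv
  hom_inv_id := by rw [← coneMap_comp, e.hom_inv_id, coneMap_id]
  inv_hom_id := by rw [← coneMap_comp, e.inv_hom_id, coneMap_id]

theorem nonempty_kz_iso_of_perm (K : Cx A) {l l' : List A} (h : l.Perm l') :
    Nonempty (kz K l ≅ kz K l') := by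
  induction h with
  | nil => exact ⟨Iso.refl _⟩
  | cons x _ ih =>
    obtain ⟨e⟩ := ih
    exact ⟨coneIso x e⟩
  | swap x y l => exact ⟨swapIso y x (kz K l)⟩
  | trans _ _ ih₁ ih₂ =>
    obtain ⟨e₁⟩ := ih₁
    obtain ⟨e₂⟩ := ih₂
    exact ⟨e₁ ≪≫ e₂⟩

lemma kz_append (K : Cx A) (l₁ l₂ : List A) : kz K (l₁ ++ l₂) = kz (kz K l₂) l₁ := by
  induction l₁ with
  | nil => rfl
  | cons a l ih =>
    show mappingCone (a • 𝟙 (kz K (l ++ l₂))) = mappingCone (a • 𝟙 (kz (kz K l₂) l))
    rw [ih]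

end perm

section acyc

/-- elementwise exactness of `K` in degree `j`. -/
def Acyc (K : Cx A) (j : ℤ) : Prop :=
  ∀ (i k : ℤ) (_ : i + 1 = j) (_ : j + 1 = k) (x : K.X j), K.d j k x = 0 →
    ∃ y : K.X i, K.d i j y = x

/-- multiplication by `a` kills the cohomology of `K` in degree `j`. -/
def Kills (a : A) (K : Cx A) (j : ℤ) : Prop :=
  ∀ (i k : ℤ) (_ : i + 1 = j) (_ : j + 1 = k) (x : K.X j), K.d j k x = 0 →
    ∃ y : K.X i, K.d i j y = a • x

lemma acyc_iff (K : Cx A) (j : ℤ) : Acyc K j ↔ IsZero (K.homology j) := by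
  rw [← HomologicalComplex.exactAt_iff_isZero_homology,
    HomologicalComplex.exactAt_iff' K (j - 1) j (j + 1) (by simp) (by simp),
    ShortComplex.moduleCat_exact_iff]
  constructor
  · intro h x hx
    exact h (j - 1) (j + 1) (by omega) rfl x hx
  · intro h i k hij hjk x hx
    obtain rfl : i = j - 1 := by omega
    obtain rfl : k = j + 1 := by omega
    exact h x hx

lemma hom_comm_apply {K L : Cx A} (φ : K ⟶ L) (i j : ℤ) (x : K.X i) :
    L.d i j (φ.f i x) = φ.f j (K.d i j x) := by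
  rw [← ConcreteCategory.comp_apply, φ.comm i j, ConcreteCategory.comp_apply]

lemma iso_hom_inv_apply {K L : Cx A} (e : K ≅ L) (j : ℤ) (x : L.X j) :
    e.hom.f j (e.inv.f j x) = x := by
  rw [← ConcreteCategory.comp_apply, ← HomologicalComplex.comp_f, e.inv_hom_id,
    HomologicalComplex.id_f]
  rfl

lemma Acyc.of_iso {K L : Cx A} (e : K ≅ L) {j : ℤ} (h : Acyc K j) : Acyc L j := by
  intro i k hij hjk x hx
  have hx' : K.d j k (e.inv.f j x) = 0 := by
    rw [hom_comm_apply, hx, map_zero]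
  obtain ⟨y, hy⟩ := h i k hij hjk _ hx'
  refine ⟨e.hom.f i y, ?_⟩
  rw [hom_comm_apply, hy, iso_hom_inv_apply]

lemma Kills.of_iso {a : A} {K L : Cx A} (e : K ≅ L) {j : ℤ} (h : Kills a K j) : Kills a L j := by
  intro i k hij hjk x hx
  have hx' : K.d j k (e.inv.f j x) = 0 := by
    rw [hom_comm_apply, hx, map_zero]
  obtain ⟨y, hy⟩ := h i k hij hjk _ hx'
  refine ⟨e.hom.f i y, ?_⟩
  rw [hom_comm_apply, hy, map_smul, iso_hom_inv_apply]

lemma Kills.zero (K : Cx A) (j : ℤ) : Kills (0 : A) K j := by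
  intro i k _ _ x _
  exact ⟨0, by rw [map_zero, zero_smul]⟩

lemma Kills.add {a a' : A} {K : Cx A} {j : ℤ} (h : Kills a K j) (h' : Kills a' K j) :
    Kills (a + a') K j := by
  intro i k hij hjk x hx
  obtain ⟨y, hy⟩ := h i k hij hjk x hx
  obtain ⟨y', hy'⟩ := h' i k hij hjk x hx
  exact ⟨y + y', by rw [map_add, hy, hy', add_smul]⟩

lemma Kills.mul {a : A} {K : Cx A} {j : ℤ} (c : A) (h : Kills a K j) : Kills (c * a) K j := by
  intro i k hij hjk x hx
  obtain ⟨y, hy⟩ := h i k hij hjk x hx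
  exact ⟨c • y, by rw [map_smul, hy, mul_smul]⟩

lemma kills_of_mem_span {S : Set A} {K : Cx A} {j : ℤ} (h : ∀ s ∈ S, Kills s K j) {a : A}
    (ha : a ∈ Ideal.span S) : Kills a K j := by
  induction ha using Submodule.span_induction with
  | mem x hx => exact h x hx
  | zero => exact Kills.zero K j
  | add x y _ _ hx hy => exact hx.add hy
  | smul c x _ hx => exact hx.mul c

/-- `a` kills the cohomology of the cone of `a • 𝟙`. -/
lemma kills_cone (a : A) (K : Cx A) (j : ℤ) : Kills a (mappingCone (a • 𝟙 K)) j := by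
  intro i k hij hjk z hz
  have h1 := cE_d a K j k (k + 1) hjk rfl z
  rw [hz, map_zero] at h1
  have h2 : a • (cE a K j k hjk z).1 + K.d j k (cE a K j k hjk z).2 = 0 :=
    (congrArg Prod.snd h1).symm
  refine ⟨(cE a K i j hij).symm ((cE a K j k hjk z).2, 0), ?_⟩
  apply (cE a K j k hjk).injective
  rw [cE_d_symm a K i j k hij hjk, map_smul]
  apply Prod.ext
  · show -(K.d j k (cE a K j k hjk z).2) = a • (cE a K j k hjk z).1
    rw [eq_neg_of_add_eq_zero_left h2]
  · show a • (cE a K j k hjk z).2 + K.d i j 0 = a • (cE a K j k hjk z).2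
    rw [map_zero, add_zero]

/-- every element of `l` kills the cohomology of `kz K l`. -/
lemma kills_kz_of_mem (K : Cx A) (l : List A) {x : A} (hx : x ∈ l) (j : ℤ) :
    Kills x (kz K l) j := by
  classical
  obtain ⟨e⟩ := nonempty_kz_iso_of_perm K (List.perm_cons_erase hx)
  exact Kills.of_iso e.symm (kills_cone x (kz K (l.erase x)) j)

/-- the cone of `a • 𝟙 K` is exact in degree `j` if `K` is exact in degrees `j` and `j + 1`. -/
lemma acyc_cone (a : A) (K : Cx A) (j k : ℤ) (hjk : j + 1 = k) (h1 : Acyc K j) (h2 : Acyc K k) :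
    Acyc (mappingCone (a • 𝟙 K)) j := by
  intro i k' hij hjk' z hz
  obtain rfl : k = k' := by omega
  have hd := cE_d a K j k (k + 1) hjk rfl z
  rw [hz, map_zero] at hd
  have hd1 : K.d k (k + 1) (cE a K j k hjk z).1 = 0 := by
    have := (congrArg Prod.fst hd).symm
    exact neg_eq_zero.1 this
  have hd2 : a • (cE a K j k hjk z).1 + K.d j k (cE a K j k hjk z).2 = 0 :=
    (congrArg Prod.snd hd).symm
  obtain ⟨x', hx'⟩ := h2 j (k + 1) hjk rfl _ hd1
  have hcoc : K.d j k ((cE a K j k hjk z).2 + a • x') = 0 := by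
    rw [map_add, map_smul, hx', add_comm]
    exact hd2
  obtain ⟨v, hv⟩ := h1 i k hij hjk _ hcoc
  refine ⟨(cE a K i j hij).symm (-x', v), ?_⟩
  apply (cE a K j k hjk).injective
  rw [cE_d_symm a K i j k hij hjk]
  apply Prod.ext
  · show -(K.d j k (-x')) = (cE a K j k hjk z).1
    rw [map_neg, neg_neg, hx']
  · show a • (-x') + K.d i j v = (cE a K j k hjk z).2
    rw [hv, smul_neg]
    abel

/-- if `a` kills the cohomology of `K` in degree `k = j + 1` and the cone of `a • 𝟙 K` is exact in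
degree `j`, then `K` is exact in degree `k`. -/
lemma acyc_of_cone (a : A) (K : Cx A) (j k : ℤ) (hjk : j + 1 = k) (hk : Kills a K k)
    (hc : Acyc (mappingCone (a • 𝟙 K)) j) : Acyc K k := by
  intro j' k' hj'k hkk' x hx
  obtain rfl : j' = j := by omega
  obtain ⟨y', hy'⟩ := hk j' k' hjk hkk' x hx
  have hdz : (mappingCone (a • 𝟙 K)).d j' k ((cE a K j' k hjk).symm (x, -y')) = 0 := by
    apply (cE a K k k' hkk').injective
    rw [cE_d_symm a K j' k k' hjk hkk', map_zero]
    apply Prod.ext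
    · show -(K.d k k' x) = 0
      rw [hx, neg_zero]
    · show a • x + K.d j' k (-y') = 0
      rw [map_neg, hy', add_neg_cancel]
  obtain ⟨w, hw⟩ := hc (j' - 1) k (by omega) hjk _ hdz
  have h3 := cE_d a K (j' - 1) j' k (by omega) hjk w
  rw [hw, LinearEquiv.apply_symm_apply] at h3
  refine ⟨-(cE a K (j' - 1) j' (by omega) w).1, ?_⟩
  rw [map_neg]
  exact (congrArg Prod.fst h3).symm

lemma acycBelow_kz (K : Cx A) (c : ℤ) (h : ∀ j < c, Acyc K j) (l : List A) :
    ∀ j < c - l.length, Acyc (kz K l) j := by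
  induction l with
  | nil =>
    intro j hj
    exact h j (by simpa using hj)
  | cons a l ih =>
    intro j hj
    have hlen : ((a :: l).length : ℤ) = l.length + 1 := by simp
    exact acyc_cone a (kz K l) j (j + 1) rfl (ih j (by omega)) (ih (j + 1) (by omega))

lemma acycBelow_of_kz (K : Cx A) (c : ℤ) (l : List A)
    (hk : ∀ (l₂ : List A) (a : A), (a :: l₂) <:+ l → ∀ j, Kills a (kz K l₂) j)
    (h : ∀ j < c - l.length, Acyc (kz K l) j) : ∀ j < c, Acyc K j := by
  induction l with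
  | nil =>
    intro j hj
    exact h j (by simpa using hj)
  | cons a l ih =>
    have hlen : ((a :: l).length : ℤ) = l.length + 1 := by simp
    apply ih
    · intro l₂ b hb j
      exact hk l₂ b (hb.trans (List.suffix_cons a l)) j
    · intro k hk'
      exact acyc_of_cone a (kz K l) (k - 1) k (by omega)
        (hk l a (List.suffix_refl _) k) (h (k - 1) (by omega))

/-- comparison of "Koszul-regularity over `K₀`". -/
theorem acycBelow_of_le (K₀ : Cx A) (f g : List A) (hg : ∀ j < 0, Acyc (kz K₀ g) j)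
    (hgf : ∀ x ∈ g, x ∈ Ideal.span {y | y ∈ f}) (hlen : f.length ≤ g.length) :
    ∀ j < 0, Acyc (kz K₀ f) j := by
  have h1 := acycBelow_kz (kz K₀ g) 0 hg f
  rw [← kz_append] at h1
  obtain ⟨e⟩ := nonempty_kz_iso_of_perm K₀ (List.perm_append_comm (l₁ := f) (l₂ := g))
  have h2 : ∀ j < (0 : ℤ) - g.length, Acyc (kz (kz K₀ f) g) j := by
    intro j hj
    rw [← kz_append]
    exact (h1 j (by omega)).of_iso e
  refine acycBelow_of_kz (kz K₀ f) 0 g ?_ h2
  intro l₂ b hb j
  rw [← kz_append]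
  have hbg : b ∈ g := hb.subset (List.mem_cons_self)
  refine kills_of_mem_span (S := {y | y ∈ f}) ?_ (hgf b hbg)
  intro s hs
  exact kills_kz_of_mem K₀ (l₂ ++ f) (List.mem_append_right l₂ hs) j

end acyc

end Groth.Agent.H56.KzSwap
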