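import Mathlib
import Groth.Prelude.Def_LCI2
import Groth.Agent.H56.KzSwap
import Groth.Agent.S15821
import Groth.Agent.H12.TorBC

/-!
Koszul-regular sequences (helper56): quasi-isomorphism invariance of iterated cones, the
augmentation of a complex acyclic in negative degrees, compatibility with additive functors,
flat base change, and concatenation `f ++ g` with `f` Koszul-regular.
-/

set_option autoImplicit false
set_option linter.style.haveILetI false
universe u
open CategoryTheory CochainComplex HomologicalComplex Limits Pretriangulated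
attribute [local instance] HasDerivedCategory.standard

namespace Groth.Agent.H56.KzSwap

open Groth.Agent.H59.Kosz

variable {A : Type u} [CommRing A]

section quasiIso

lemma quasiIso_coneMap (a : A) {K L : Cx A} (φ : K ⟶ L) (hφ : QuasiIso φ) :
    QuasiIso (coneMap a φ) := by
  have comm : (a • 𝟙 K) ≫ φ = φ ≫ (a • 𝟙 L) := by
    simp [Linear.smul_comp, Linear.comp_smul]
  let ψ := (DerivedCategory.Q (C := ModuleCat.{u} A)).mapTriangle.map
    (mappingCone.triangleMap (a • 𝟙 K) (a • 𝟙 L) φ φ comm)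
  have hQ : IsIso (DerivedCategory.Q.map φ) := (DerivedCategory.isIso_Q_map_iff_quasiIso _ φ).2 hφ
  have h₃ : IsIso ψ.hom₃ := isIso₃_of_isIso₁₂ ψ
    ((DerivedCategory.mem_distTriang_iff _).2 ⟨_, _, _, ⟨Iso.refl _⟩⟩)
    ((DerivedCategory.mem_distTriang_iff _).2 ⟨_, _, _, ⟨Iso.refl _⟩⟩) hQ hQ
  exact (DerivedCategory.isIso_Q_map_iff_quasiIso _ _).1 h₃

lemma quasiIso_kzMap {K L : Cx A} (φ : K ⟶ L) (hφ : QuasiIso φ) (l : List A) :
    QuasiIso (kzMap φ l) := by
  induction l with
  | nil => exact hφ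
  | cons a l ih => exact quasiIso_coneMap a (kzMap φ l) ih

lemma acyc_iff_of_quasiIso {K L : Cx A} (φ : K ⟶ L) (hφ : QuasiIso φ) (j : ℤ) :
    Acyc K j ↔ Acyc L j := by
  rw [acyc_iff, acyc_iff]
  haveI := hφ
  exact (asIso (HomologicalComplex.homologyMap φ j)).isZero_iff

lemma acyc_iff_of_iso {K L : Cx A} (e : K ≅ L) (j : ℤ) : Acyc K j ↔ Acyc L j :=
  ⟨fun h => h.of_iso e, fun h => h.of_iso e.symm⟩

lemma kzMap_id (K : Cx A) (l : List A) : kzMap (𝟙 K) l = 𝟙 _ := by
  have h := kzMap_smul_id (1 : A) K l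
  rwa [one_smul, one_smul] at h

/-- `kz` is functorial in isomorphisms of the base complex. -/
noncomputable def kzIso {K L : Cx A} (e : K ≅ L) (l : List A) : kz K l ≅ kz L l where
  hom := kzMap e.hom l
  inv := kzMap e.inv l
  hom_inv_id := by rw [← kzMap_comp, e.hom_inv_id, kzMap_id]
  inv_hom_id := by rw [← kzMap_comp, e.inv_hom_id, kzMap_id]

end quasiIso

section aug
variable (M : Cx A)

/-- the cokernel of `d : M⁻¹ → M⁰`. -/
noncomputable def H0 : ModuleCat.{u} A :=
  ModuleCat.of A (M.X 0 ⧸ LinearMap.range (M.d (-1) 0).hom)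

/-- the augmentation `M ⟶ H0 M [0]`. -/
noncomputable def aug : M ⟶ sgl (H0 M) :=
  HomologicalComplex.mkHomToSingle
    (ModuleCat.ofHom (Submodule.mkQ (LinearMap.range (M.d (-1) 0).hom)))
    (by
      intro i hi
      have hi' : i + 1 = 0 := hi
      obtain rfl : i = -1 := by omega
      apply ModuleCat.hom_ext
      apply LinearMap.ext
      intro x
      exact (Submodule.Quotient.mk_eq_zero _).2 ⟨x, rfl⟩)

lemma aug_f_zero : (aug M).f 0 =
    ModuleCat.ofHom (Submodule.mkQ (LinearMap.range (M.d (-1) 0).hom)) ≫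
      (HomologicalComplex.singleObjXSelf (ComplexShape.up ℤ) 0 (H0 M)).inv :=
  HomologicalComplex.mkHomToSingle_f _ _

lemma quasiIso_aug (hpos : ∀ j : ℤ, 0 < j → IsZero (M.X j)) (hneg : ∀ j < 0, Acyc M j) :
    QuasiIso (aug M) := by
  rw [quasiIso_iff]
  intro i
  rcases lt_trichotomy i 0 with hi | rfl | hi
  · rw [quasiIsoAt_iff_exactAt' (aug M) i
      (HomologicalComplex.exactAt_single_obj _ _ _ _ hi.ne),
      HomologicalComplex.exactAt_iff_isZero_homology, ← acyc_iff]
    exact hneg i hi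
  · rw [quasiIsoAt_iff' (aug M) (-1) 0 1 (by simp) (by simp),
      ShortComplex.quasiIso_iff_of_zeros' _ ((hpos 1 one_pos).eq_of_tgt _ _)
        (HomologicalComplex.single_obj_d (ComplexShape.up ℤ) 0 (H0 M) (-1) 0)
        (HomologicalComplex.single_obj_d (ComplexShape.up ℤ) 0 (H0 M) 0 1)]
    constructor
    · rw [ShortComplex.moduleCat_exact_iff]
      intro x hx
      have hx' : (aug M).f 0 x = 0 := hx
      rw [aug_f_zero] at hx'
      have hinj : Function.Injective
          (HomologicalComplex.singleObjXSelf (ComplexShape.up ℤ) 0 (H0 M)).inv :=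
        (ModuleCat.mono_iff_injective _).1 inferInstance
      have h2 : Submodule.mkQ (LinearMap.range (M.d (-1) 0).hom) x = 0 :=
        hinj (hx'.trans (map_zero _).symm)
      obtain ⟨y, hy⟩ := (Submodule.Quotient.mk_eq_zero _).1 h2
      exact ⟨y, hy⟩
    · have hs : Function.Surjective ((aug M).f 0) := by
        rw [aug_f_zero]
        intro z
        obtain ⟨x, hx⟩ := Submodule.mkQ_surjective (LinearMap.range (M.d (-1) 0).hom)
          ((HomologicalComplex.singleObjXSelf (ComplexShape.up ℤ) 0 (H0 M)).hom z)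
        refine ⟨x, ?_⟩
        show (HomologicalComplex.singleObjXSelf (ComplexShape.up ℤ) 0 (H0 M)).inv
          (Submodule.mkQ _ x) = z
        rw [hx]
        simp
      exact (ModuleCat.epi_iff_surjective _).2 hs
  · rw [quasiIsoAt_iff_exactAt' (aug M) i
      (HomologicalComplex.exactAt_single_obj _ _ _ _ hi.ne')]
    exact ShortComplex.exact_of_isZero_X₂ _ (hpos i hi)

end aug

section functor

variable {R S : Type u} [CommRing R] [CommRing S] (H : ModuleCat.{u} R ⥤ ModuleCat.{u} S)
  [H.Additive]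

lemma map_smul_id_cx (r : R) (s : S)
    (hrs : ∀ M : ModuleCat.{u} R, H.map (r • 𝟙 M) = s • 𝟙 (H.obj M)) (X : Cx R) :
    (H.mapHomologicalComplex (ComplexShape.up ℤ)).map (r • 𝟙 X) =
      s • 𝟙 ((H.mapHomologicalComplex (ComplexShape.up ℤ)).obj X) := by
  apply HomologicalComplex.hom_ext
  intro n
  exact hrs (X.X n)

theorem nonempty_map_kz_iso (X : Cx R) {l : List R} {l' : List S}
    (h : List.Forall₂ (fun r s => ∀ M : ModuleCat.{u} R, H.map (r • 𝟙 M) = s • 𝟙 (H.obj M))
      l l') :
    Nonempty ((H.mapHomologicalComplex (ComplexShape.up ℤ)).obj (kz X l) ≅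
      kz ((H.mapHomologicalComplex (ComplexShape.up ℤ)).obj X) l') := by
  induction h with
  | nil => exact ⟨Iso.refl _⟩
  | @cons r s l l' hrs _ ih =>
    obtain ⟨e⟩ := ih
    have h1 := map_smul_id_cx H r s hrs (kz X l)
    refine ⟨mappingCone.mapHomologicalComplexIso (r • 𝟙 (kz X l)) H ≪≫ ?_⟩
    rw [h1]
    exact coneIso s e

lemma isZero_homology_map [H.PreservesHomology] (X : Cx R) (j : ℤ)
    (h : IsZero (X.homology j)) :
    IsZero (((H.mapHomologicalComplex (ComplexShape.up ℤ)).obj X).homology j) :=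
  IsZero.of_iso (H.map_isZero h) (ShortComplex.mapHomologyIso (X.sc j) H)

end functor

section bridge

lemma acyc_of_isZero (K : Cx A) (j : ℤ) (h : IsZero (K.X j)) : Acyc K j := by
  intro i k _ _ x _
  haveI : Subsingleton (K.X j) := ModuleCat.subsingleton_of_isZero h
  exact ⟨0, Subsingleton.elim _ _⟩

lemma isKoszulRegularSeq_iff (l : List A) :
    LCI.IsKoszulRegularSeq A l ↔ ∀ j < 0, Acyc (kz (sgl (ModuleCat.of A A)) l) j := by
  have e : Koszul.koszul A l = kz (sgl (ModuleCat.of A A)) l := Groth.Agent.S15821.koszul_eq l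
  have hpos : ∀ i : ℤ, 0 < i → IsZero ((Koszul.koszul A l).X i) := by
    rw [e]
    exact fun i hi => isZero_kz_pos _ l i hi
  rw [← e]
  unfold LCI.IsKoszulRegularSeq
  constructor
  · intro h j hj
    exact (acyc_iff _ j).2 (h j hj.ne)
  · intro h i hi
    rcases lt_or_gt_of_ne hi with hi' | hi'
    · exact (acyc_iff _ i).1 (h i hi')
    · exact (acyc_iff _ i).1 (acyc_of_isZero _ i (hpos i hi'))

end bridge

end Groth.Agent.H56.KzSwap
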