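import Mathlib
import Groth.Prelude.Def_LCI2
import Groth.Agent.H56.KzBC
import Groth.Agent.H12.TorBC
import Groth.Agent.H12.FlatCxRank

/-!
Koszul-regular sequences (helper56): flat base change and faithfully flat descent.
-/

set_option autoImplicit false
set_option linter.style.haveILetI false
universe u
open CategoryTheory CochainComplex HomologicalComplex Limits

namespace Groth.Agent.H56.KzSwap

open Groth.Agent.H59.Kosz ChangeOfRings

section flat

variable (R S : Type u) [CommRing R] [CommRing S] [Algebra R S]

set_option backward.isDefEq.respectTransparency false in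
lemma extend_map_smul (r : R) (M : ModuleCat.{u} R) :
    (ModuleCat.extendScalars.{u, u, u} (algebraMap R S)).map (r • 𝟙 M) =
      algebraMap R S r • 𝟙 ((ModuleCat.extendScalars.{u, u, u} (algebraMap R S)).obj M) := by
  apply ModuleCat.ExtendScalars.hom_ext
  intro m
  rw [ModuleCat.ExtendScalars.map_tmul]
  show (1 : S) ⊗ₜ[R, algebraMap R S] (r • m) =
    algebraMap R S r • ((1 : S) ⊗ₜ[R, algebraMap R S] m)
  rw [ModuleCat.ExtendScalars.smul_tmul, mul_one]
  have h1 := TensorProduct.smul_tmul (R := R) (R' := R) r
    (show ↑((ModuleCat.restrictScalars (algebraMap R S)).obj (ModuleCat.of S S)) from (1 : S)) m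
  refine h1.symm.trans ?_
  congr 1
  show algebraMap R S r * (1 : S) = _
  exact mul_one _

/-- `S ⊗_R R ≅ S`. -/
noncomputable def extendSelfIso :
    (ModuleCat.extendScalars.{u, u, u} (algebraMap R S)).obj (ModuleCat.of R R) ≅
      ModuleCat.of S S :=
  ((Groth.Agent.H12.FlatCx.extendScalarsEquiv S (ModuleCat.of R R)).trans
    (TensorProduct.AlgebraTensorModule.rid R S S)).toModuleIso

/-- the base change of the stalk complex `R[0]`. -/
noncomputable def extendSglIso :
    ((ModuleCat.extendScalars.{u, u, u} (algebraMap R S)).mapHomologicalComplex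
        (ComplexShape.up ℤ)).obj (sgl (ModuleCat.of R R)) ≅ sgl (ModuleCat.of S S) :=
  (HomologicalComplex.singleMapHomologicalComplex
      (ModuleCat.extendScalars.{u, u, u} (algebraMap R S)) (ComplexShape.up ℤ) 0).app
    (ModuleCat.of R R) ≪≫
    (HomologicalComplex.single (ModuleCat.{u} S) (ComplexShape.up ℤ) 0).mapIso (extendSelfIso R S)

theorem nonempty_extend_kz_iso (l : List R) :
    Nonempty (((ModuleCat.extendScalars.{u, u, u} (algebraMap R S)).mapHomologicalComplex
        (ComplexShape.up ℤ)).obj (kz (sgl (ModuleCat.of R R)) l) ≅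
      kz (sgl (ModuleCat.of S S)) (l.map (algebraMap R S))) := by
  obtain ⟨e1⟩ := nonempty_map_kz_iso (ModuleCat.extendScalars.{u, u, u} (algebraMap R S))
    (sgl (ModuleCat.of R R)) (l := l) (l' := l.map (algebraMap R S))
    (by
      rw [List.forall₂_map_right_iff, List.forall₂_same]
      intro r _ M
      exact extend_map_smul R S r M)
  exact ⟨e1 ≪≫ kzIso (extendSglIso R S) _⟩

variable {R S}

/-- Flat base change of Koszul-regular sequences. -/
theorem isKoszulRegularSeq_map_of_flat [Module.Flat R S] (l : List R)
    (h : LCI.IsKoszulRegularSeq R l) :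
    LCI.IsKoszulRegularSeq S (l.map (algebraMap R S)) := by
  rw [isKoszulRegularSeq_iff] at h ⊢
  intro j hj
  haveI := Groth.Agent.H12.TorBC.preservesHomology_extendScalars_of_flat (A := R) (A' := S)
  have h1 := isZero_homology_map (ModuleCat.extendScalars.{u, u, u} (algebraMap R S)) _ j
    ((acyc_iff _ j).1 (h j hj))
  obtain ⟨e⟩ := nonempty_extend_kz_iso R S l
  exact ((acyc_iff _ j).2 h1).of_iso e

/-- Faithfully flat descent of Koszul-regular sequences. -/
theorem isKoszulRegularSeq_of_map_of_faithfullyFlat [Module.FaithfullyFlat R S] (l : List R)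
    (h : LCI.IsKoszulRegularSeq S (l.map (algebraMap R S))) :
    LCI.IsKoszulRegularSeq R l := by
  rw [isKoszulRegularSeq_iff] at h ⊢
  intro j hj
  haveI := Groth.Agent.H12.TorBC.preservesHomology_extendScalars_of_flat (A := R) (A' := S)
  obtain ⟨e⟩ := nonempty_extend_kz_iso R S l
  have h1 : IsZero ((((ModuleCat.extendScalars.{u, u, u} (algebraMap R S)).mapHomologicalComplex
        (ComplexShape.up ℤ)).obj (kz (sgl (ModuleCat.of R R)) l)).homology j) :=
    (acyc_iff _ j).1 ((h j hj).of_iso e.symm)
  have h2 : IsZero ((ModuleCat.extendScalars.{u, u, u} (algebraMap R S)).obj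
      ((kz (sgl (ModuleCat.of R R)) l).homology j)) :=
    IsZero.of_iso h1 (ShortComplex.mapHomologyIso ((kz (sgl (ModuleCat.of R R)) l).sc j)
      (ModuleCat.extendScalars.{u, u, u} (algebraMap R S))).symm
  rw [acyc_iff]
  have h3 : Subsingleton (TensorProduct R S ((kz (sgl (ModuleCat.of R R)) l).homology j)) := by
    have := ModuleCat.subsingleton_of_isZero h2
    exact (Groth.Agent.H12.FlatCx.extendScalarsEquiv S _).symm.toEquiv.subsingleton
  have h4 := Module.FaithfullyFlat.lTensor_reflects_triviality R S
    ((kz (sgl (ModuleCat.of R R)) l).homology j)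
  exact ModuleCat.isZero_of_subsingleton _

end flat

end Groth.Agent.H56.KzSwap
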