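import Mathlib
import Groth.Prelude.Def_LCI2
import Groth.Agent.H56.KzBC

/-!
Koszul-regular sequences (helper56): permutation invariance and the concatenation criterion
`g ++ f` Koszul-regular in `R` iff `g` Koszul-regular in `R/(f)` (for `f` Koszul-regular).
-/

set_option autoImplicit false
set_option linter.style.haveILetI false
universe u
open CategoryTheory CochainComplex HomologicalComplex Limits

namespace Groth.Agent.H56.KzSwap

open Groth.Agent.H59.Kosz

section perm

lemma isKoszulRegularSeq_of_perm {A : Type u} [CommRing A] {l l' : List A} (h : l.Perm l')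
    (hl : LCI.IsKoszulRegularSeq A l) : LCI.IsKoszulRegularSeq A l' := by
  rw [isKoszulRegularSeq_iff] at hl ⊢
  obtain ⟨e⟩ := nonempty_kz_iso_of_perm (sgl (ModuleCat.of A A)) h
  exact fun j hj => (hl j hj).of_iso e

lemma isKoszulRegularSeq_perm_iff {A : Type u} [CommRing A] {l l' : List A} (h : l.Perm l') :
    LCI.IsKoszulRegularSeq A l ↔ LCI.IsKoszulRegularSeq A l' :=
  ⟨isKoszulRegularSeq_of_perm h, isKoszulRegularSeq_of_perm h.symm⟩

end perm

section quot

variable {R R' : Type u} [CommRing R] [CommRing R'] (π : R →+* R')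

lemma restrict_map_smul (r : R) (M : ModuleCat.{u} R') :
    (ModuleCat.restrictScalars π).map (π r • 𝟙 M) =
      r • 𝟙 ((ModuleCat.restrictScalars π).obj M) := by
  apply ModuleCat.hom_ext
  apply LinearMap.ext
  intro x
  rfl

lemma acyc_restrict_iff (Y : Cx R') (j : ℤ) :
    Acyc (((ModuleCat.restrictScalars π).mapHomologicalComplex (ComplexShape.up ℤ)).obj Y) j ↔
      Acyc Y j :=
  ⟨fun h i k hi hk x hx => h i k hi hk x hx, fun h i k hi hk x hx => h i k hi hk x hx⟩

/-- `π` as an `R`-linear map `R → R'`. -/
noncomputable def piLin :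
    R →ₗ[R] ((ModuleCat.restrictScalars π).obj (ModuleCat.of R' R')) where
  toFun x := π x
  map_add' x y := map_add π x y
  map_smul' r x := by
    show π (r * x) = π r * π x
    exact map_mul π r x

lemma piLin_ker : LinearMap.ker (piLin π) = RingHom.ker π := by
  ext x
  exact Iff.rfl

noncomputable def quotIso (hπ : Function.Surjective π) (f : List R)
    (hker : RingHom.ker π = Ideal.ofList f) :
    ModuleCat.of R (R ⧸ (Ideal.ofList f • (⊤ : Submodule R R))) ≅
      (ModuleCat.restrictScalars π).obj (ModuleCat.of R' R') :=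
  ((Submodule.quotEquivOfEq _ _
      (by rw [smul_eq_mul, Ideal.mul_top, ← hker, piLin_ker])).trans
    ((piLin π).quotKerEquivOfSurjective hπ)).toModuleIso

/-- If `f` is Koszul-regular and `R' = R/(f)`, then `g ++ f` is Koszul-regular in `R` iff the image
of `g` is Koszul-regular in `R'`. -/
theorem isKoszulRegularSeq_append_iff (hπ : Function.Surjective π) (f : List R)
    (hf : LCI.IsKoszulRegularSeq R f) (hker : RingHom.ker π = Ideal.ofList f) (g : List R) :
    LCI.IsKoszulRegularSeq R (g ++ f) ↔ LCI.IsKoszulRegularSeq R' (g.map π) := by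
  rw [isKoszulRegularSeq_iff, isKoszulRegularSeq_iff, kz_append]
  rw [isKoszulRegularSeq_iff] at hf
  have hq : QuasiIso (aug (kz (sgl (ModuleCat.of R R)) f)) :=
    quasiIso_aug _ (fun j hj => isZero_kz_pos _ f j hj) hf
  have hq' := quasiIso_kzMap _ hq g
  obtain ⟨e, he⟩ := exists_top R f
  let e0 : H0 (kz (sgl (ModuleCat.of R R)) f) ≅
      (ModuleCat.restrictScalars π).obj (ModuleCat.of R' R') :=
    (Submodule.Quotient.equiv _ _ e he).toModuleIso ≪≫ quotIso π hπ f hker
  let e1 : sgl (H0 (kz (sgl (ModuleCat.of R R)) f)) ≅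
      ((ModuleCat.restrictScalars π).mapHomologicalComplex (ComplexShape.up ℤ)).obj
        (sgl (ModuleCat.of R' R')) :=
    (HomologicalComplex.single _ (ComplexShape.up ℤ) 0).mapIso e0 ≪≫
      ((HomologicalComplex.singleMapHomologicalComplex (ModuleCat.restrictScalars π)
        (ComplexShape.up ℤ) 0).app (ModuleCat.of R' R')).symm
  obtain ⟨e2⟩ := nonempty_map_kz_iso (ModuleCat.restrictScalars π) (sgl (ModuleCat.of R' R'))
    (l := g.map π) (l' := g)
    (by
      rw [List.forall₂_map_left_iff, List.forall₂_same]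
      intro r _ M
      exact restrict_map_smul π r M)
  have key : ∀ j, Acyc (kz (kz (sgl (ModuleCat.of R R)) f) g) j ↔
      Acyc (kz (sgl (ModuleCat.of R' R')) (g.map π)) j := fun j =>
    (acyc_iff_of_quasiIso _ hq' j).trans
      ((acyc_iff_of_iso (kzIso e1 g ≪≫ e2.symm) j).trans (acyc_restrict_iff π _ j))
  exact forall₂_congr (fun j _ => key j)

/-- Variant with the Koszul-regular part first. -/
theorem isKoszulRegularSeq_append_iff' (hπ : Function.Surjective π) (f : List R)
    (hf : LCI.IsKoszulRegularSeq R f) (hker : RingHom.ker π = Ideal.ofList f) (g : List R) :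
    LCI.IsKoszulRegularSeq R (f ++ g) ↔ LCI.IsKoszulRegularSeq R' (g.map π) :=
  (isKoszulRegularSeq_perm_iff List.perm_append_comm).trans
    (isKoszulRegularSeq_append_iff π hπ f hf hker g)

lemma ofList_append (f g : List R) : Ideal.ofList (f ++ g) = Ideal.ofList f ⊔ Ideal.ofList g := by
  show Ideal.span _ = Ideal.span _ ⊔ Ideal.span _
  rw [← Ideal.span_union]
  congr 1
  ext x
  simp [List.mem_append]

lemma ofList_map (g : List R) : Ideal.ofList (g.map π) = (Ideal.ofList g).map π := by
  show Ideal.span _ = Ideal.map π (Ideal.span _)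
  rw [Ideal.map_span]
  congr 1
  ext x
  simp [List.mem_map]

/-- kernel of a composite of surjections in terms of generators -/
lemma ker_comp_eq_ofList {R'' : Type u} [CommRing R''] (ψ : R' →+* R'')
    (hπ : Function.Surjective π) (f g : List R)
    (hker : RingHom.ker π = Ideal.ofList f) (hker' : RingHom.ker ψ = Ideal.ofList (g.map π)) :
    RingHom.ker (ψ.comp π) = Ideal.ofList (f ++ g) := by
  rw [← RingHom.comap_ker, hker', ofList_map, Ideal.comap_map_of_surjective π hπ, ofList_append,
    ← RingHom.ker_eq_comap_bot, hker, sup_comm]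

end quot

end Groth.Agent.H56.KzSwap
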