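import Mathlib
import Groth.Prelude.Def_RegImm
import Groth.Agent.H56.KzFlat
import Groth.Agent.H56.KzQuot

/-!
Composition of Koszul-regular immersions (helper56).
-/

set_option autoImplicit false
set_option linter.style.haveILetI false
universe u
open CategoryTheory AlgebraicGeometry

namespace Groth.Agent.H56.RegImmComp

open Groth.Agent.H56.KzSwap

section ring

/-- kernel of a localized map -/
lemma ker_loc {A B A' B' : Type u} [CommRing A] [CommRing B] [CommRing A'] [CommRing B']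
    [Algebra A A'] [Algebra B B'] (φ : A →+* B) (φ' : A' →+* B') (b : A)
    [IsLocalization.Away b A'] [IsLocalization.Away (φ b) B']
    (h : φ'.comp (algebraMap A A') = (algebraMap B B').comp φ) :
    RingHom.ker φ' = (RingHom.ker φ).map (algebraMap A A') := by
  have h' : ∀ a, φ' (algebraMap A A' a) = algebraMap B B' (φ a) := fun a => RingHom.congr_fun h a
  apply le_antisymm
  · intro x hx
    rw [RingHom.mem_ker] at hx
    obtain ⟨n, a, hxa⟩ := IsLocalization.Away.surj b x
    have h1 : algebraMap B B' (φ a) = 0 := by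
      rw [← h', ← hxa, map_mul, hx, zero_mul]
    obtain ⟨⟨_, k, rfl⟩, hk⟩ := (IsLocalization.map_eq_zero_iff (Submonoid.powers (φ b)) B' _).1 h1
    have h2 : b ^ k * a ∈ RingHom.ker φ := by
      rw [RingHom.mem_ker, map_mul, map_pow]
      exact hk
    have hu : IsUnit (algebraMap A A' b ^ (k + n)) :=
      (IsLocalization.Away.algebraMap_isUnit b).pow _
    rw [← Ideal.unit_mul_mem_iff_mem _ hu]
    have h3 : algebraMap A A' b ^ (k + n) * x = algebraMap A A' (b ^ k * a) := by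
      rw [map_mul, map_pow, ← hxa, pow_add]
      ring
    rw [h3]
    exact Ideal.mem_map_of_mem _ h2
  · rw [Ideal.map_le_iff_le_comap]
    intro a ha
    rw [RingHom.mem_ker] at ha
    rw [Ideal.mem_comap, RingHom.mem_ker, h', ha, map_zero]

end ring

variable {X Y Z : Scheme.{u}}

/-- local data of a Koszul-regular immersion of codimension `d` over the open `U`. -/
def PK (i : Z ⟶ X) (U : X.Opens) (d : ℕ) : Prop :=
  IsClosedImmersion (i ∣_ U) ∧ ∃ rs : List Γ(X, U), rs.length = d ∧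
    LCI.IsKoszulRegularSeq Γ(X, U) rs ∧ RingHom.ker (i.app U).hom = Ideal.ofList rs

lemma app_surj_of_eq (i : Z ⟶ X) {W U : X.Opens} (h : W = U)
    (hs : Function.Surjective (i.app W).hom) : Function.Surjective (i.app U).hom := by
  subst h; exact hs

lemma isAffineOpen_preimage (i : Z ⟶ X) {U : X.Opens} (hU : IsAffineOpen U)
    (hcl : IsClosedImmersion (i ∣_ U)) : IsAffineOpen (i ⁻¹ᵁ U) := by
  haveI : IsAffine U := hU
  exact (IsClosedImmersion.isAffine_surjective_of_isAffine (i ∣_ U)).1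

lemma app_surjective (i : Z ⟶ X) {U : X.Opens} (hU : IsAffineOpen U)
    (hcl : IsClosedImmersion (i ∣_ U)) : Function.Surjective (i.app U).hom := by
  haveI : IsAffine U := hU
  have h1 := (IsClosedImmersion.isAffine_surjective_of_isAffine (i ∣_ U)).2
  rw [morphismRestrict_appTop] at h1
  have h2 : Function.Surjective (i.app (U.ι ''ᵁ ⊤)).hom := by
    intro y
    obtain ⟨x, hx⟩ := h1 ((Z.presheaf.map
      (eqToHom (image_morphismRestrict_preimage i U ⊤)).op).hom y)
    refine ⟨x, ?_⟩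
    have hinj : Function.Injective ((Z.presheaf.map
      (eqToHom (image_morphismRestrict_preimage i U ⊤)).op).hom) :=
      (ConcreteCategory.bijective_of_isIso _).1
    exact hinj hx
  exact app_surj_of_eq i (by simp) h2

lemma PK.basicOpen {i : Z ⟶ X} {U : X.Opens} (hU : IsAffineOpen U) {d : ℕ} (h : PK i U d)
    (b : Γ(X, U)) : PK i (X.basicOpen b) d := by
  obtain ⟨hcl, rs, hlen, hreg, hker⟩ := h
  have hU' : IsAffineOpen (i ⁻¹ᵁ U) := isAffineOpen_preimage i hU hcl
  haveI : IsLocalization.Away b Γ(X, X.basicOpen b) := hU.isLocalization_basicOpen b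
  refine ⟨?_, rs.map (algebraMap Γ(X, U) Γ(X, X.basicOpen b)), by simp [hlen], ?_, ?_⟩
  · have h1 := IsZariskiLocalAtTarget.restrict (P := @IsClosedImmersion) hcl
      (U.toScheme.basicOpen (X.presheaf.map (eqToHom U.isOpenEmbedding_obj_top).op b))
    exact (MorphismProperty.arrow_mk_iso_iff @IsClosedImmersion
      (morphismRestrictRestrictBasicOpen i U b)).1 h1
  · haveI : Module.Flat Γ(X, U) Γ(X, X.basicOpen b) :=
      IsLocalization.flat _ (Submonoid.powers b)
    exact isKoszulRegularSeq_map_of_flat rs hreg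
  · have hle : i ⁻¹ᵁ X.basicOpen b ≤ i ⁻¹ᵁ U := by
      intro x hx
      exact X.basicOpen_le b hx
    letI : Algebra Γ(Z, i ⁻¹ᵁ U) Γ(Z, i ⁻¹ᵁ X.basicOpen b) :=
      (Z.presheaf.map (homOfLE hle).op).hom.toAlgebra
    haveI : IsLocalization.Away ((i.app U).hom b) Γ(Z, i ⁻¹ᵁ X.basicOpen b) :=
      hU'.isLocalization_of_eq_basicOpen ((i.app U).hom b) (homOfLE hle)
        (Scheme.preimage_basicOpen i b)
    have hcomm : (i.app (X.basicOpen b)).hom.comp (algebraMap Γ(X, U) Γ(X, X.basicOpen b)) =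
        (algebraMap Γ(Z, i ⁻¹ᵁ U) Γ(Z, i ⁻¹ᵁ X.basicOpen b)).comp (i.app U).hom := by
      have := i.naturality (homOfLE (X.basicOpen_le b)).op
      exact congrArg CommRingCat.Hom.hom this
    rw [ker_loc (i.app U).hom (i.app (X.basicOpen b)).hom b hcomm, hker, ofList_map]

lemma ofList_append' {R : Type u} [CommRing R] (g f : List R) :
    Ideal.ofList (g ++ f) = Ideal.ofList f ⊔ Ideal.ofList g := by
  rw [ofList_append, sup_comm]

lemma PK.comp {i : Y ⟶ X} {j : Z ⟶ Y} {U : X.Opens} (hU : IsAffineOpen U) {d e : ℕ}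
    (hi : PK i U d) (hj : PK j (i ⁻¹ᵁ U) e) : PK (j ≫ i) U (e + d) := by
  obtain ⟨hcl, f, hflen, hf, hkf⟩ := hi
  obtain ⟨hcl', g, hglen, hg, hkg⟩ := hj
  have hsurj : Function.Surjective (i.app U).hom := app_surjective i hU hcl
  obtain ⟨g', rfl⟩ := List.map_surjective_iff.2 hsurj g
  refine ⟨?_, g' ++ f, ?_, ?_, ?_⟩
  · rw [morphismRestrict_comp]
    exact @IsClosedImmersion.comp _ _ _ _ _ hcl' hcl
  · rw [List.length_append, hflen, ← hglen, List.length_map]
  · exact (isKoszulRegularSeq_append_iff (i.app U).hom hsurj f hf hkf g').2 hg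
  · show RingHom.ker ((j.app (i ⁻¹ᵁ U)).hom.comp (i.app U).hom) = _
    rw [ker_comp_eq_ofList (i.app U).hom (j.app (i ⁻¹ᵁ U)).hom hsurj f g' hkf hkg,
      ofList_append, ofList_append, sup_comm]

/-- the key local statement. -/
theorem pk_comp_at (i : Y ⟶ X) (j : Z ⟶ Y) (z : Z) (U : X.affineOpens) (V : Y.affineOpens)
    (hzU : i (j z) ∈ U.1) (hzV : j z ∈ V.1) {n m : ℕ} (hPi : PK i U.1 n) (hPj : PK j V.1 m) :
    ∃ U' : X.affineOpens, (j ≫ i) z ∈ U'.1 ∧ PK (j ≫ i) U'.1 (m + n) := by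
  have hU' : IsAffineOpen (i ⁻¹ᵁ U.1) := isAffineOpen_preimage i U.2 hPi.1
  have hsurj : Function.Surjective (i.app U.1).hom := app_surjective i U.2 hPi.1
  obtain ⟨b', c, hbc, hzb⟩ := exists_basicOpen_le_affine_inter hU' V.2 (j z) ⟨hzU, hzV⟩
  obtain ⟨b, rfl⟩ := hsurj b'
  have hpre : i ⁻¹ᵁ X.basicOpen b = Y.basicOpen c := (Scheme.preimage_basicOpen i b).trans hbc
  have h1 := hPi.basicOpen U.2 b
  have h2 : PK j (i ⁻¹ᵁ X.basicOpen b) m := hpre ▸ hPj.basicOpen V.2 c
  refine ⟨⟨X.basicOpen b, U.2.basicOpen b⟩, ?_, PK.comp (U.2.basicOpen b) h1 h2⟩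
  have h3 : j z ∈ i ⁻¹ᵁ X.basicOpen b := by
    rw [Scheme.preimage_basicOpen]
    exact hzb
  show (j ≫ i) z ∈ X.basicOpen b
  rw [Scheme.Hom.comp_apply]
  exact h3

end Groth.Agent.H56.RegImmComp
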