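import Mathlib
import Groth.Prelude.Def_LCI2
import Groth.Agent.H56.KzFlat
import Groth.Agent.H56.KzQuot

/-!
Composition of local complete intersection ring maps (helper56).
-/

set_option autoImplicit false
set_option linter.style.haveILetI false
universe u

namespace Groth.Agent.H56.LciComp

open Groth.Agent.H56.KzSwap

section ring

/-- comap of an extended ideal along a localized map -/
lemma comap_loc {A B A' B' : Type u} [CommRing A] [CommRing B] [CommRing A'] [CommRing B']
    [Algebra A A'] [Algebra B B'] (φ : A →+* B) (φ' : A' →+* B') (b : A)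
    [IsLocalization.Away b A'] [IsLocalization.Away (φ b) B']
    (h : φ'.comp (algebraMap A A') = (algebraMap B B').comp φ) (J : Ideal B) :
    (J.map (algebraMap B B')).comap φ' = (J.comap φ).map (algebraMap A A') := by
  have h' : ∀ a, φ' (algebraMap A A' a) = algebraMap B B' (φ a) := fun a => RingHom.congr_fun h a
  apply le_antisymm
  · intro x hx
    rw [Ideal.mem_comap] at hx
    obtain ⟨n, a, hxa⟩ := IsLocalization.Away.surj b x
    have h1 : algebraMap B B' (φ a) ∈ J.map (algebraMap B B') := by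
      rw [← h', ← hxa, map_mul]
      exact Ideal.mul_mem_right _ _ hx
    obtain ⟨⟨⟨y, hy⟩, ⟨_, k, rfl⟩⟩, hk⟩ :=
      (IsLocalization.mem_map_algebraMap_iff (Submonoid.powers (φ b)) B').1 h1
    have h2 : algebraMap B B' (φ a * φ b ^ k) = algebraMap B B' y := by
      rw [map_mul]; exact hk
    obtain ⟨⟨_, k', rfl⟩, hk'⟩ :=
      (IsLocalization.eq_iff_exists (Submonoid.powers (φ b)) B').1 h2
    have h3 : b ^ (k' + k) * a ∈ J.comap φ := by
      rw [Ideal.mem_comap, map_mul, map_pow, pow_add]
      have h5 : φ b ^ k' * φ b ^ k * φ a = φ b ^ k' * y := by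
        rw [← hk']; ring
      rw [h5]
      exact Ideal.mul_mem_left _ _ hy
    have hu : IsUnit (algebraMap A A' b ^ (k' + k + n)) :=
      (IsLocalization.Away.algebraMap_isUnit b).pow _
    rw [← Ideal.unit_mul_mem_iff_mem _ hu]
    have h4 : algebraMap A A' b ^ (k' + k + n) * x = algebraMap A A' (b ^ (k' + k) * a) := by
      rw [map_mul, map_pow, ← hxa, pow_add]
      ring
    rw [h4]
    exact Ideal.mem_map_of_mem _ h3
  · rw [Ideal.map_le_iff_le_comap]
    intro a ha
    rw [Ideal.mem_comap] at ha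
    rw [Ideal.mem_comap, Ideal.mem_comap, h']
    exact Ideal.mem_map_of_mem _ ha

/-- flexible form of `LCI.IsKoszulRegularIdeal`: any localization away from `g` may be used. -/
def KRI {R : Type u} [CommRing R] (I : Ideal R) : Prop :=
  ∀ 𝔭 : PrimeSpectrum R, I ≤ 𝔭.asIdeal →
    ∃ (g : R) (S : Type u) (_ : CommRing S) (_ : Algebra R S),
      g ∉ 𝔭.asIdeal ∧ IsLocalization.Away g S ∧
      ∃ l : List S, LCI.IsKoszulRegularSeq S l ∧ I.map (algebraMap R S) = Ideal.ofList l

lemma isKoszulRegularSeq_map_ringEquiv {S S' : Type u} [CommRing S] [CommRing S'] (e : S ≃+* S')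
    (l : List S) (h : LCI.IsKoszulRegularSeq S l) :
    LCI.IsKoszulRegularSeq S' (l.map (e : S →+* S')) := by
  letI : Algebra S S' := (e : S →+* S').toAlgebra
  let e' : S ≃ₗ[S] S' :=
    { e.toAddEquiv with
      map_smul' := fun r x => by
        show e (r * x) = e r * e x
        exact map_mul e r x }
  haveI : Module.Flat S S' := Module.Flat.of_linearEquiv e'.symm
  exact isKoszulRegularSeq_map_of_flat l h

variable {R : Type u} [CommRing R]

lemma kri_of_isKoszulRegularIdeal {I : Ideal R} (h : LCI.IsKoszulRegularIdeal I) : KRI I := by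
  intro 𝔭 h𝔭
  obtain ⟨g, hg, l, hl, hI⟩ := h 𝔭 h𝔭
  exact ⟨g, Localization.Away g, inferInstance, inferInstance, hg, inferInstance, l, hl, hI⟩

lemma isKoszulRegularIdeal_of_kri {I : Ideal R} (h : KRI I) : LCI.IsKoszulRegularIdeal I := by
  intro 𝔭 h𝔭
  obtain ⟨g, S, _, _, hg, hloc, l, hl, hI⟩ := h 𝔭 h𝔭
  let e : S ≃ₐ[R] Localization.Away g :=
    IsLocalization.algEquiv (Submonoid.powers g) S (Localization.Away g)
  refine ⟨g, hg, l.map (e.toRingEquiv : S →+* Localization.Away g),
    isKoszulRegularSeq_map_ringEquiv e.toRingEquiv l hl, ?_⟩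
  have h1 : algebraMap R (Localization.Away g) =
      (e.toRingEquiv : S →+* Localization.Away g).comp (algebraMap R S) := by
    ext x
    exact (e.commutes x).symm
  rw [h1, ← Ideal.map_map, hI]
  exact (ofList_map _ l).symm

lemma kri_iff {I : Ideal R} : KRI I ↔ LCI.IsKoszulRegularIdeal I :=
  ⟨isKoszulRegularIdeal_of_kri, kri_of_isKoszulRegularIdeal⟩

lemma kri_comap_ringEquiv {R' : Type u} [CommRing R'] (e : R ≃+* R') {I' : Ideal R'}
    (h : KRI I') : KRI (I'.comap (e : R →+* R')) := by
  intro 𝔭 h𝔭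
  let 𝔭' : PrimeSpectrum R' := ⟨𝔭.asIdeal.comap (e.symm : R' →+* R), inferInstance⟩
  have h𝔭' : I' ≤ 𝔭'.asIdeal := by
    intro x hx
    show e.symm x ∈ 𝔭.asIdeal
    apply h𝔭
    show e (e.symm x) ∈ I'
    rw [e.apply_symm_apply]
    exact hx
  obtain ⟨g', S, _, _, hg', hloc, l, hl, hI⟩ := h 𝔭' h𝔭'
  letI : Algebra R S := ((algebraMap R' S).comp e.symm.symm.toRingHom).toAlgebra
  refine ⟨e.symm g', S, inferInstance, inferInstance, hg', ?_, l, hl, ?_⟩
  · have h1 := IsLocalization.isLocalization_of_base_ringEquiv (Submonoid.powers g') S e.symm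
    have h2 : Submonoid.map (e.symm : R' →* R) (Submonoid.powers g') =
        Submonoid.powers (e.symm g') := Submonoid.map_powers _ _
    show IsLocalization (Submonoid.powers (e.symm g')) S
    rw [← h2]
    exact h1
  · have h1 : algebraMap R S = (algebraMap R' S).comp (e : R →+* R') := rfl
    rw [h1, ← Ideal.map_map, Ideal.map_comap_of_surjective (e : R →+* R') e.surjective, hI]

/-- The key step for compositions: `I ⊆ P` Koszul-regular, `P → Q` flat, `Q' = Q/IQ`, `J ⊆ Q'`
Koszul-regular; then the preimage of `J` in `Q` is Koszul-regular. -/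
theorem kri_comap_of_flat {P Q Q' : Type u} [CommRing P] [CommRing Q] [CommRing Q'] [Algebra P Q]
    [Module.Flat P Q] (I : Ideal P) (hI : KRI I) (μ : Q →+* Q') (hμ : Function.Surjective μ)
    (hker : RingHom.ker μ = I.map (algebraMap P Q)) (J : Ideal Q') (hJ : KRI J) :
    KRI (J.comap μ) := by
  intro 𝔮 h𝔮
  have hkerle : RingHom.ker μ ≤ 𝔮.asIdeal :=
    le_trans (by rw [RingHom.ker_eq_comap_bot]; exact Ideal.comap_mono bot_le) h𝔮
  let 𝔭 : PrimeSpectrum P := ⟨𝔮.asIdeal.comap (algebraMap P Q), inferInstance⟩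
  have h𝔭 : I ≤ 𝔭.asIdeal := by
    show I ≤ 𝔮.asIdeal.comap (algebraMap P Q)
    rw [← Ideal.map_le_iff_le_comap, ← hker]
    exact hkerle
  obtain ⟨a, Sa, _, _, ha, hlocA, f, hf, hIf⟩ := hI 𝔭 h𝔭
  haveI : (𝔮.asIdeal.map μ).IsPrime := Ideal.map_isPrime_of_surjective hμ hkerle
  let 𝔮' : PrimeSpectrum Q' := ⟨𝔮.asIdeal.map μ, inferInstance⟩
  have h𝔮' : J ≤ 𝔮'.asIdeal := by
    have h1 := Ideal.map_mono (f := μ) h𝔮
    rwa [Ideal.map_comap_of_surjective μ hμ] at h1
  obtain ⟨h', Sh, _, _, hh', hlocH, g, hg, hJg⟩ := hJ 𝔮' h𝔮'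
  obtain ⟨h, rfl⟩ := hμ h'
  have hh : h ∉ 𝔮.asIdeal := fun hc => hh' (Ideal.mem_map_of_mem μ hc)
  have ha' : algebraMap P Q a ∉ 𝔮.asIdeal := ha
  obtain ⟨t, ht⟩ : ∃ t : Q, t = algebraMap P Q a * h := ⟨_, rfl⟩
  have htq : t ∉ 𝔮.asIdeal := fun hc => by
    rw [ht] at hc
    exact (𝔮.isPrime.mem_or_mem hc).elim ha' hh
  -- (i) the `f`-part
  have hua : IsUnit (algebraMap Q (Localization.Away t) (algebraMap P Q a)) := by
    have h1 : IsUnit (algebraMap Q (Localization.Away t) t) :=
      IsLocalization.Away.algebraMap_isUnit t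
    have h2 : algebraMap Q (Localization.Away t) t =
        algebraMap Q (Localization.Away t) (algebraMap P Q a) *
          algebraMap Q (Localization.Away t) h := by
      rw [← map_mul, ← ht]
    rw [h2] at h1
    exact isUnit_of_mul_isUnit_left h1
  let ι₁ : Sa →+* Localization.Away t :=
    IsLocalization.Away.lift a (g := (algebraMap Q (Localization.Away t)).comp (algebraMap P Q)) hua
  have hι₁ : ι₁.comp (algebraMap P Sa) =
      (algebraMap Q (Localization.Away t)).comp (algebraMap P Q) :=
    IsLocalization.Away.lift_comp a hua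
  letI : Algebra Sa (Localization.Away t) := ι₁.toAlgebra
  haveI : IsScalarTower P Sa (Localization.Away t) := IsScalarTower.of_algebraMap_eq'
    ((IsScalarTower.algebraMap_eq P Q (Localization.Away t)).trans hι₁.symm)
  haveI : Module.Flat Q (Localization.Away t) :=
    IsLocalization.flat (Localization.Away t) (Submonoid.powers t)
  haveI : Module.Flat P (Localization.Away t) := Module.Flat.trans P Q (Localization.Away t)
  haveI : Module.Flat Sa (Localization.Away t) :=
    (Module.flat_iff_of_isLocalization Sa (Submonoid.powers a) (Localization.Away t)).2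
      inferInstance
  have hf' : LCI.IsKoszulRegularSeq (Localization.Away t) (f.map ι₁) :=
    isKoszulRegularSeq_map_of_flat f hf
  have hIf' : (I.map (algebraMap P Q)).map (algebraMap Q (Localization.Away t)) =
      Ideal.ofList (f.map ι₁) := by
    rw [Ideal.map_map, ← hι₁, ← Ideal.map_map, hIf]
    exact (ofList_map _ f).symm
  -- (ii) the `g`-part
  have hμt : μ t = μ (algebraMap P Q a) * μ h := by rw [ht, map_mul]
  have huh : IsUnit (algebraMap Q' (Localization.Away (μ t)) (μ h)) := by
    have h1 : IsUnit (algebraMap Q' (Localization.Away (μ t)) (μ t)) :=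
      IsLocalization.Away.algebraMap_isUnit (μ t)
    have h2 : algebraMap Q' (Localization.Away (μ t)) (μ t) =
        algebraMap Q' (Localization.Away (μ t)) (μ (algebraMap P Q a)) *
          algebraMap Q' (Localization.Away (μ t)) (μ h) := by
      rw [← map_mul, ← hμt]
    rw [h2] at h1
    exact isUnit_of_mul_isUnit_right h1
  let ι₂ : Sh →+* Localization.Away (μ t) :=
    IsLocalization.Away.lift (μ h) (g := algebraMap Q' (Localization.Away (μ t))) huh
  have hι₂ : ι₂.comp (algebraMap Q' Sh) = algebraMap Q' (Localization.Away (μ t)) :=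
    IsLocalization.Away.lift_comp (μ h) huh
  letI : Algebra Sh (Localization.Away (μ t)) := ι₂.toAlgebra
  haveI : IsScalarTower Q' Sh (Localization.Away (μ t)) :=
    IsScalarTower.of_algebraMap_eq' hι₂.symm
  haveI : Module.Flat Q' (Localization.Away (μ t)) :=
    IsLocalization.flat (Localization.Away (μ t)) (Submonoid.powers (μ t))
  haveI : Module.Flat Sh (Localization.Away (μ t)) :=
    (Module.flat_iff_of_isLocalization Sh (Submonoid.powers (μ h)) (Localization.Away (μ t))).2
      inferInstance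
  have hg' : LCI.IsKoszulRegularSeq (Localization.Away (μ t)) (g.map ι₂) :=
    isKoszulRegularSeq_map_of_flat g hg
  have hJg' : J.map (algebraMap Q' (Localization.Away (μ t))) = Ideal.ofList (g.map ι₂) := by
    rw [← hι₂, ← Ideal.map_map, hJg]
    exact (ofList_map _ g).symm
  -- (iii) the localized surjection
  let πt : Localization.Away t →+* Localization.Away (μ t) :=
    IsLocalization.Away.map (Localization.Away t) (Localization.Away (μ t)) μ t
  have hπcomp : πt.comp (algebraMap Q (Localization.Away t)) =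
      (algebraMap Q' (Localization.Away (μ t))).comp μ := IsLocalization.map_comp _
  have hπsurj : Function.Surjective πt := by
    rw [IsLocalization.Away.map_surjective_iff]
    intro x
    obtain ⟨y, rfl⟩ := hμ x
    exact ⟨y, 0, by simp⟩
  have hkerπ : RingHom.ker πt = Ideal.ofList (f.map ι₁) := by
    rw [RingHom.ker_eq_comap_bot,
      ← Ideal.map_bot (f := algebraMap Q' (Localization.Away (μ t))),
      comap_loc μ πt t hπcomp ⊥, ← RingHom.ker_eq_comap_bot, hker, hIf']
  obtain ⟨g₂, hg₂⟩ := List.map_surjective_iff.2 hπsurj (g.map ι₂)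
  refine ⟨t, Localization.Away t, inferInstance, inferInstance, htq, inferInstance,
    g₂ ++ f.map ι₁, ?_, ?_⟩
  · exact (isKoszulRegularSeq_append_iff πt hπsurj _ hf' hkerπ g₂).2 (hg₂ ▸ hg')
  · rw [← comap_loc μ πt t hπcomp J, hJg', ← hg₂, ofList_map,
      Ideal.comap_map_of_surjective πt hπsurj, ← RingHom.ker_eq_comap_bot, hkerπ, ofList_append]

end ring

section lci

/-- Composition of local complete intersection ring maps. -/
theorem isLCI_comp (A B C : Type u) [CommRing A] [CommRing B] [CommRing C] [Algebra A B]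
    [Algebra B C] [Algebra A C] [IsScalarTower A B C]
    (h1 : LCI.IsLCI A B) (h2 : LCI.IsLCI B C) : LCI.IsLCI A C := by
  obtain ⟨hft1, n, α, hα, hI⟩ := h1
  obtain ⟨hft2, m, β, hβ, hJ⟩ := h2
  refine ⟨Algebra.FiniteType.trans hft1 hft2, m + n, ?_⟩
  let μ : MvPolynomial (Fin m) (MvPolynomial (Fin n) A) →ₐ[A] MvPolynomial (Fin m) B :=
    MvPolynomial.mapAlgHom α
  have hμ : Function.Surjective μ.toRingHom := by
    show Function.Surjective (MvPolynomial.map (α : MvPolynomial (Fin n) A →+* B))
    exact MvPolynomial.map_surjective _ hα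
  have hkerμ : RingHom.ker μ.toRingHom = (RingHom.ker α.toRingHom).map
      (algebraMap (MvPolynomial (Fin n) A) (MvPolynomial (Fin m) (MvPolynomial (Fin n) A))) :=
    MvPolynomial.ker_map (α : MvPolynomial (Fin n) A →+* B)
  let e : MvPolynomial (Fin (m + n)) A ≃ₐ[A] MvPolynomial (Fin m) (MvPolynomial (Fin n) A) :=
    (MvPolynomial.renameEquiv A finSumFinEquiv.symm).trans
      (MvPolynomial.sumAlgEquiv A (Fin m) (Fin n))
  let γ : MvPolynomial (Fin (m + n)) A →ₐ[A] C :=
    ((β.restrictScalars A).comp μ).comp e.toAlgHom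
  refine ⟨γ, ?_, ?_⟩
  · exact (hβ.comp hμ).comp e.surjective
  · have hk := kri_comap_of_flat (RingHom.ker α.toRingHom) (kri_of_isKoszulRegularIdeal hI)
      μ.toRingHom hμ hkerμ (RingHom.ker β.toRingHom) (kri_of_isKoszulRegularIdeal hJ)
    have hk2 := kri_comap_ringEquiv e.toRingEquiv hk
    apply isKoszulRegularIdeal_of_kri
    convert hk2 using 1
    ext x
    exact Iff.rfl

/-- `IsLCI` is invariant under isomorphisms of the target algebra. -/
theorem isLCI_of_algEquiv (A B B' : Type u) [CommRing A] [CommRing B] [CommRing B'] [Algebra A B]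
    [Algebra A B'] (e : B ≃ₐ[A] B') (h : LCI.IsLCI A B) : LCI.IsLCI A B' := by
  obtain ⟨hft, n, α, hα, hI⟩ := h
  refine ⟨Algebra.FiniteType.equiv hft e, n, e.toAlgHom.comp α, e.surjective.comp hα, ?_⟩
  convert hI using 1
  ext x
  show e (α x) = 0 ↔ α x = 0
  exact e.map_eq_zero_iff

end lci

end Groth.Agent.H56.LciComp
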