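import Mathlib
import Groth.Prelude.Def_LCI2
import Groth.Agent.H56.LciComp

/-!
Composition of local complete intersection morphisms of schemes (affine-local form), assuming
that `LCI.IsLCI` is local on the source (helper56).
-/

set_option autoImplicit false
set_option linter.style.haveILetI false
universe u
open CategoryTheory AlgebraicGeometry

namespace Groth.Agent.H56.LciMor

open Groth.Agent.H56.LciComp

/-- the statement "LCI is local on the source" (this is S9253). -/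
def LocalOnSource : Prop :=
  ∀ (R S : Type u) [CommRing R] [CommRing S] [Algebra R S] (m : ℕ) (g : Fin m → S),
    Ideal.span (Set.range g) = ⊤ → (∀ j, LCI.IsLCI R (Localization.Away (g j))) → LCI.IsLCI R S

/-- LCI morphisms (affine-local form). -/
def IsLCIMor {X Y : Scheme.{u}} (f : X ⟶ Y) : Prop :=
  ∀ (U : X.Opens) (V : Y.Opens) (hU : IsAffineOpen U) (hV : IsAffineOpen V) (hUV : U ≤ f ⁻¹ᵁ V),
    letI := (f.appLE V U hUV).hom.toAlgebra
    LCI.IsLCI Γ(Y, V) Γ(X, U)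

lemma isLCI_of_cover (hloc : LocalOnSource.{u}) (R S : Type u) [CommRing R] [CommRing S]
    [Algebra R S] (s : Set S) (hs : Ideal.span s = ⊤)
    (h : ∀ x ∈ s, LCI.IsLCI R (Localization.Away x)) : LCI.IsLCI R S := by
  obtain ⟨t, hts, ht⟩ := (Ideal.span_eq_top_iff_finite s).1 hs
  refine hloc R S t.card (fun j => (t.equivFin.symm j).1) ?_
    (fun j => h _ (hts (t.equivFin.symm j).2))
  convert ht using 2
  ext x
  constructor
  · rintro ⟨j, rfl⟩
    exact (t.equivFin.symm j).2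
  · intro hx
    exact ⟨t.equivFin ⟨x, hx⟩, by simp⟩

theorem lci_comp (hloc : LocalOnSource.{u}) {X Y Z : Scheme.{u}} (f : X ⟶ Y) (g : Y ⟶ Z)
    (hf : IsLCIMor f) (hg : IsLCIMor g) : IsLCIMor (f ≫ g) := by
  intro U W hU hW hUW
  letI : Algebra Γ(Z, W) Γ(X, U) := ((f ≫ g).appLE W U hUW).hom.toAlgebra
  apply isLCI_of_cover hloc Γ(Z, W) Γ(X, U) {s | LCI.IsLCI Γ(Z, W) (Localization.Away s)} ?_
    (fun x hx => hx)
  rw [← hU.self_le_iSup_basicOpen_iff]
  intro x hxU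
  have hx1 : f x ∈ g ⁻¹ᵁ W := by
    have h0 : (f ≫ g) x ∈ W := hUW hxU
    rw [Scheme.Hom.comp_apply] at h0
    exact h0
  obtain ⟨V, hV, hxV, hVW⟩ := exists_isAffineOpen_mem_and_subset hx1
  obtain ⟨s, hsV, hxs⟩ := hU.exists_basicOpen_le (V := f ⁻¹ᵁ V) ⟨x, hxV⟩ hxU
  rw [TopologicalSpace.Opens.mem_iSup]
  refine ⟨⟨s, ?_⟩, hxs⟩
  show LCI.IsLCI Γ(Z, W) (Localization.Away s)
  have hD : IsAffineOpen (X.basicOpen s) := hU.basicOpen s
  have hVW' : V ≤ g ⁻¹ᵁ W := hVW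
  have hDU : X.basicOpen s ≤ U := X.basicOpen_le s
  have hDW : X.basicOpen s ≤ (f ≫ g) ⁻¹ᵁ W := hDU.trans hUW
  have h1 := hg V W hV hW hVW'
  have h2 := hf (X.basicOpen s) V hD hV hsV
  letI a1 : Algebra Γ(Z, W) Γ(Y, V) := (g.appLE W V hVW').hom.toAlgebra
  letI a2 : Algebra Γ(Y, V) Γ(X, X.basicOpen s) :=
    (f.appLE V (X.basicOpen s) hsV).hom.toAlgebra
  letI a3 : Algebra Γ(Z, W) Γ(X, X.basicOpen s) :=
    ((f ≫ g).appLE W (X.basicOpen s) hDW).hom.toAlgebra
  haveI : IsScalarTower Γ(Z, W) Γ(Y, V) Γ(X, X.basicOpen s) :=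
    IsScalarTower.of_algebraMap_eq' (by
      show ((f ≫ g).appLE W (X.basicOpen s) hDW).hom =
        (f.appLE V (X.basicOpen s) hsV).hom.comp (g.appLE W V hVW').hom
      rw [← CommRingCat.hom_comp, Scheme.Hom.appLE_comp_appLE])
  have h3 : LCI.IsLCI Γ(Z, W) Γ(X, X.basicOpen s) := isLCI_comp _ _ _ h1 h2
  haveI : IsLocalization.Away s Γ(X, X.basicOpen s) := hU.isLocalization_basicOpen s
  haveI : IsScalarTower Γ(Z, W) Γ(X, U) Γ(X, X.basicOpen s) :=
    IsScalarTower.of_algebraMap_eq' (by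
      show ((f ≫ g).appLE W (X.basicOpen s) hDW).hom =
        (X.presheaf.map (homOfLE hDU).op).hom.comp ((f ≫ g).appLE W U hUW).hom
      rw [← CommRingCat.hom_comp, Scheme.Hom.appLE_map])
  let e : Γ(X, X.basicOpen s) ≃ₐ[Γ(X, U)] Localization.Away s :=
    IsLocalization.algEquiv (Submonoid.powers s) _ _
  exact isLCI_of_algEquiv _ _ _ (e.restrictScalars Γ(Z, W)) h3

end Groth.Agent.H56.LciMor
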