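import Mathlib
import Groth.Prelude.Def_LCI2
import Groth.Agent.H56.LciComp
import Groth.Agent.H56.LciMor
import Groth.Agent.H59.KRegLCI
import Groth.Agent.H59.KoszSame
import Groth.Agent.S9253

/-!
Basic local complete intersection ring maps (helper56): quotients by Koszul-regular ideals,
principal localizations, standard étale algebras, smooth algebras.
-/

set_option autoImplicit false
set_option linter.style.haveILetI false
universe u

namespace Groth.Agent.H56.LciBasic

open Groth.Agent.H56.KzSwap Groth.Agent.H56.LciComp Groth.Agent.H59.Kosz Polynomial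

section seq

variable {A : Type u} [CommRing A]

/-- the empty sequence is Koszul-regular -/
lemma isKoszulRegularSeq_nil : LCI.IsKoszulRegularSeq A [] := by
  rw [isKoszulRegularSeq_iff]
  intro j hj
  exact acyc_of_isZero _ j
    (HomologicalComplex.isZero_single_obj_X (ComplexShape.up ℤ) 0 _ j hj.ne)

/-- a single regular element is a Koszul-regular sequence -/
lemma isKoszulRegularSeq_singleton (u : A) (hu : IsSMulRegular A u) :
    LCI.IsKoszulRegularSeq A [u] := by
  apply isKoszulRegularSeq_cons u [] isKoszulRegularSeq_nil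
  intro x hx
  rw [Ideal.ofList_nil, Ideal.mem_bot] at hx ⊢
  exact hu (show u • x = u • 0 by rw [smul_eq_mul, hx, smul_zero])

lemma isSMulRegular_of_mem_nonZeroDivisors {r : A} (h : r ∈ nonZeroDivisors A) :
    IsSMulRegular A r := by
  intro x y hxy
  have h1 : r * (x - y) = 0 := by
    have : r * x = r * y := hxy
    rw [mul_sub, this, sub_self]
  exact sub_eq_zero.1 ((mem_nonZeroDivisors_iff.1 h).1 _ h1)

/-- an ideal generated by a Koszul-regular sequence is a Koszul-regular ideal -/
lemma isKoszulRegularIdeal_of_seq (l : List A) (hl : LCI.IsKoszulRegularSeq A l) :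
    LCI.IsKoszulRegularIdeal (Ideal.ofList l) := by
  apply kregIdeal_intro
  intro 𝔭 _
  refine ⟨1, fun h => 𝔭.isPrime.ne_top ((Ideal.eq_top_iff_one _).2 h), A, inferInstance,
    inferInstance, IsLocalization.away_of_isUnit_of_bijective A isUnit_one
      Function.bijective_id, l, hl, ?_⟩
  rw [Algebra.algebraMap_self, Ideal.map_id]

end seq

section lci

/-- a surjection with Koszul-regular kernel is a local complete intersection map -/
theorem isLCI_of_surjective (R B : Type u) [CommRing R] [CommRing B] [Algebra R B]
    (hs : Function.Surjective (algebraMap R B))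
    (hk : LCI.IsKoszulRegularIdeal (RingHom.ker (algebraMap R B))) : LCI.IsLCI R B := by
  let e := MvPolynomial.isEmptyAlgEquiv R (Fin 0)
  let f : MvPolynomial (Fin 0) R →ₐ[R] B := (Algebra.ofId R B).comp e.toAlgHom
  have hf : Function.Surjective f := hs.comp e.surjective
  refine ⟨Algebra.FiniteType.of_surjective f hf, 0, f, hf, ?_⟩
  have h1 := kregIdeal_comap_ringEquiv e.toRingEquiv _ hk
  convert h1 using 1
  ext x
  exact Iff.rfl

/-- conversely, the kernel of a surjective local complete intersection map is Koszul-regular -/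
theorem kreg_ker_of_isLCI_of_surjective (R B : Type u) [CommRing R] [CommRing B] [Algebra R B]
    (hs : Function.Surjective (algebraMap R B)) (h : LCI.IsLCI R B) :
    LCI.IsKoszulRegularIdeal (RingHom.ker (algebraMap R B)) := by
  let e := MvPolynomial.isEmptyAlgEquiv R (Fin 0)
  have hb : Function.Surjective (MvPolynomial.aeval (R := R) (Fin.elim0 : Fin 0 → B)) := by
    intro y
    obtain ⟨r, rfl⟩ := hs y
    exact ⟨MvPolynomial.C r, by simp⟩
  have h1 : KR (A := R) (Fin.elim0 : Fin 0 → B) := KR_of_isLCI h _ hb
  unfold KR at h1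
  have h2 : (MvPolynomial.aeval (R := R) (Fin.elim0 : Fin 0 → B)).toRingHom =
      (algebraMap R B).comp (e.toRingEquiv : MvPolynomial (Fin 0) R →+* R) := by
    apply MvPolynomial.ringHom_ext
    · intro a
      show (MvPolynomial.aeval Fin.elim0) (MvPolynomial.C a) =
        algebraMap R B (e (MvPolynomial.C a))
      rw [MvPolynomial.aeval_C]
      have h3 : e (MvPolynomial.C a) = a := e.commutes a
      rw [h3]
    · intro i; exact i.elim0
  rw [h2, ← RingHom.comap_ker] at h1
  exact (kregIdeal_comap_ringEquiv_iff e.toRingEquiv _).1 h1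

/-- the algebra map `piG` as an algebra homomorphism -/
noncomputable def piGAlg {R : Type u} [CommRing R] (r : R) : R[X] →ₐ[R] Localization.Away r :=
  { piG r with commutes' := fun a => piG_C r a }

/-- a principal localization is a local complete intersection -/
theorem isLCI_away (R : Type u) [CommRing R] (r : R) : LCI.IsLCI R (Localization.Away r) := by
  let e := MvPolynomial.uniqueAlgEquiv R (Fin 1)
  let f : MvPolynomial (Fin 1) R →ₐ[R] Localization.Away r := (piGAlg r).comp e.toAlgHom
  have hf : Function.Surjective f := (piG_surjective r).comp e.surjective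
  refine ⟨Algebra.FiniteType.of_surjective f hf, 1, f, hf, ?_⟩
  have hk : LCI.IsKoszulRegularIdeal (RingHom.ker (piG r)) := by
    have h1 := isKoszulRegularIdeal_of_seq [C r * X - 1]
      (isKoszulRegularSeq_singleton _ (isSMulRegular_C_mul_X_sub_one r))
    have h2 : ({C r * X - 1} : Set R[X]) = {x | x ∈ [C r * X - 1]} := by
      ext x
      simp
    rw [piG_ker, h2]
    exact h1
  have h1 := kregIdeal_comap_ringEquiv e.toRingEquiv _ hk
  convert h1 using 1
  ext x
  exact Iff.rfl

theorem isLCI_of_isLocalizationAway (R S : Type u) [CommRing R] [CommRing S] [Algebra R S] (r : R)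
    [IsLocalization.Away r S] : LCI.IsLCI R S :=
  isLCI_of_algEquiv R (Localization.Away r) S
    (IsLocalization.algEquiv (Submonoid.powers r) (Localization.Away r) S) (isLCI_away R r)

/-- localizing the target of a local complete intersection map -/
theorem isLCI_localization (R S S' : Type u) [CommRing R] [CommRing S] [CommRing S'] [Algebra R S]
    [Algebra S S'] [Algebra R S'] [IsScalarTower R S S'] (s : S) [IsLocalization.Away s S']
    (h : LCI.IsLCI R S) : LCI.IsLCI R S' :=
  isLCI_comp R S S' h (isLCI_of_isLocalizationAway S S' s)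

/-- polynomial algebras are local complete intersections -/
theorem isLCI_mvPolynomial (A : Type u) [CommRing A] (n : ℕ) :
    LCI.IsLCI A (MvPolynomial (Fin n) A) := by
  refine ⟨inferInstance, n, AlgHom.id A _, Function.surjective_id, ?_⟩
  have h1 := isKoszulRegularIdeal_of_seq ([] : List (MvPolynomial (Fin n) A)) isKoszulRegularSeq_nil
  convert h1 using 1
  rw [Ideal.ofList_nil]
  exact (RingHom.injective_iff_ker_eq_bot _).1 Function.injective_id

end lci

section standardEtale

variable {R : Type u} [CommRing R]

lemma isSMulRegular_algebraMap_of_monic (f g : R[X]) (hf : f.Monic) :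
    IsSMulRegular (Localization.Away g) (algebraMap R[X] (Localization.Away g) f) :=
  isSMulRegular_of_mem_nonZeroDivisors
    (IsLocalization.map_nonZeroDivisors_le (Submonoid.powers g) (Localization.Away g)
      ⟨f, hf.mem_nonZeroDivisors, rfl⟩)

/-- the two relations of a standard étale algebra form a Koszul-regular sequence -/
lemma isKoszulRegularSeq_standardEtale (f g : R[X]) (hf : f.Monic) :
    LCI.IsKoszulRegularSeq R[X][X] ([C f] ++ [C g * X - 1]) := by
  have h1 : LCI.IsKoszulRegularSeq R[X][X] [C g * X - 1] :=
    isKoszulRegularSeq_singleton _ (isSMulRegular_C_mul_X_sub_one g)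
  have hker : RingHom.ker (piG g) = Ideal.ofList [C g * X - 1] := by
    have h2 : ({C g * X - 1} : Set R[X][X]) = {x | x ∈ [C g * X - 1]} := by
      ext x
      simp
    rw [piG_ker, h2]
  rw [isKoszulRegularSeq_append_iff (piG g) (piG_surjective g) _ h1 hker [C f]]
  show LCI.IsKoszulRegularSeq _ [piG g (C f)]
  rw [piG_C]
  exact isKoszulRegularSeq_singleton _ (isSMulRegular_algebraMap_of_monic f g hf)

/-- a standard étale algebra is a local complete intersection -/
theorem isLCI_of_isStandardEtale (S : Type u) [CommRing S] [Algebra R S]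
    [Algebra.IsStandardEtale R S] : LCI.IsLCI R S := by
  obtain ⟨P⟩ := Algebra.IsStandardEtale.nonempty_standardEtalePresentation (R := R) (S := S)
  let e := Polynomial.Bivariate.equivMvPolynomial R
  let q : R[X][X] →ₐ[R] P.Ring := Ideal.Quotient.mkₐ R (Ideal.span {C P.f, X * C P.g - 1})
  have hq : Function.Surjective q := Ideal.Quotient.mk_surjective
  let φ : MvPolynomial (Fin 2) R →ₐ[R] S :=
    (P.equivRing.symm.toAlgHom.comp q).comp e.symm.toAlgHom
  have hφ : Function.Surjective φ :=
    (P.equivRing.symm.surjective.comp hq).comp e.symm.surjective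
  refine ⟨Algebra.FiniteType.of_surjective φ hφ, 2, φ, hφ, ?_⟩
  have hJ : LCI.IsKoszulRegularIdeal (Ideal.span {C P.f, X * C P.g - 1} : Ideal R[X][X]) := by
    have h1 := isKoszulRegularIdeal_of_seq _ (isKoszulRegularSeq_standardEtale P.f P.g P.monic_f)
    have h2 : ({C P.f, X * C P.g - 1} : Set R[X][X]) = {x | x ∈ [C P.f] ++ [C P.g * X - 1]} := by
      rw [mul_comm X (C P.g)]
      ext x
      simp
    rw [h2]
    exact h1
  have h2 := kregIdeal_comap_ringEquiv e.symm.toRingEquiv _ hJ
  convert h2 using 1
  ext x
  show P.equivRing.symm (q (e.symm x)) = 0 ↔ e.symm x ∈ Ideal.span {C P.f, X * C P.g - 1}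
  rw [map_eq_zero_iff _ P.equivRing.symm.injective]
  exact Ideal.Quotient.eq_zero_iff_mem

end standardEtale

section smooth

/-- a smooth algebra is a local complete intersection -/
theorem isLCI_of_smooth (A C : Type u) [CommRing A] [CommRing C] [Algebra A C]
    [Algebra.Smooth A C] : LCI.IsLCI A C := by
  have hs : Ideal.span {c : C | LCI.IsLCI A (Localization.Away c)} = ⊤ := by
    by_contra hne
    obtain ⟨𝔪, h𝔪, hle⟩ := Ideal.exists_le_maximal _ hne
    haveI : 𝔪.IsPrime := h𝔪.isPrime
    haveI : Algebra.FinitePresentation A C := Algebra.Smooth.finitePresentation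
    haveI : Algebra.IsSmoothAt A 𝔪 := by
      have h : (⟨𝔪, inferInstance⟩ : PrimeSpectrum C) ∈ Algebra.smoothLocus A C := by
        rw [Algebra.smoothLocus_eq_univ]
        exact Set.mem_univ _
      exact h
    obtain ⟨f, hf, n, inst, htower, hse⟩ :=
      Algebra.IsSmoothAt.exists_isStandardEtale_mvPolynomial (R := A) (p := 𝔪)
    apply hf
    apply hle
    apply Ideal.subset_span
    show LCI.IsLCI A (Localization.Away f)
    exact isLCI_comp A (MvPolynomial (Fin n) A) (Localization.Away f) (isLCI_mvPolynomial A n)
      (isLCI_of_isStandardEtale _)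
  exact Groth.Agent.H56.LciMor.isLCI_of_cover
    (fun R S _ _ _ m g hg h => Groth.Agent.S9253.result R S m g hg h) A C _ hs (fun x hx => hx)

end smooth

end Groth.Agent.H56.LciBasic
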