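import Mathlib
import Groth.Prelude.Def_LCI2
import Groth.Agent.H56.LciBasic

/-!
Kernel of a surjection from a smooth algebra onto a local complete intersection algebra is
Koszul-regular (helper56).
-/

set_option autoImplicit false
set_option linter.style.haveILetI false
universe u

namespace Groth.Agent.H56.LciSmooth

open Groth.Agent.H56.KzSwap Groth.Agent.H56.LciComp Groth.Agent.H56.LciBasic
open Groth.Agent.H59.Kosz Polynomial

section standardEtale

variable {P₀ : Type u} [CommRing P₀]

lemma hmin_aux (f g : P₀[X]) (hc : ∃ p₁ p₂ n, derivative f * p₁ + f * p₂ = g ^ n)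
    (K₁ : Ideal (Localization.Away g)) (hfK : algebraMap P₀[X] (Localization.Away g) f ∈ K₁)
    (q : Ideal (Localization.Away g)) [hq : q.IsPrime] (hKq : K₁ ≤ q) (s : Localization.Away g)
    (hs : s ∉ q) : s * algebraMap P₀[X] (Localization.Away g) f ∉ q * K₁ := by
  intro hmem
  have hq₀ : (q.comap (algebraMap P₀[X] (Localization.Away g))).IsPrime := Ideal.comap_isPrime _ _
  have hI₀q₀ : K₁.comap (algebraMap P₀[X] (Localization.Away g)) ≤
      q.comap (algebraMap P₀[X] (Localization.Away g)) := Ideal.comap_mono hKq
  have hg : g ∉ q.comap (algebraMap P₀[X] (Localization.Away g)) := by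
    intro hgq
    exact hq.ne_top (Ideal.eq_top_of_isUnit_mem _ hgq (IsLocalization.Away.algebraMap_isUnit g))
  obtain ⟨a, s₀, hs₀⟩ := IsLocalization.Away.surj g s
  have hs₀q : s₀ ∉ q.comap (algebraMap P₀[X] (Localization.Away g)) := by
    intro h
    have h' : s * algebraMap P₀[X] (Localization.Away g) g ^ a ∈ q := by
      rw [hs₀]; exact h
    rcases hq.mem_or_mem h' with h1 | h1
    · exact hs h1
    · exact hg (hq.mem_of_pow_mem _ h1)
  have h1 : algebraMap P₀[X] (Localization.Away g) (s₀ * f) ∈
      ((q.comap (algebraMap P₀[X] (Localization.Away g))) *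
        (K₁.comap (algebraMap P₀[X] (Localization.Away g)))).map
          (algebraMap P₀[X] (Localization.Away g)) := by
    rw [Ideal.map_mul, IsLocalization.map_under (Submonoid.powers g),
      IsLocalization.map_under (Submonoid.powers g), map_mul, ← hs₀]
    have h2 : s * algebraMap P₀[X] (Localization.Away g) g ^ a *
        algebraMap P₀[X] (Localization.Away g) f =
        (s * algebraMap P₀[X] (Localization.Away g) f) *
          algebraMap P₀[X] (Localization.Away g) g ^ a := by ring
    rw [h2]
    exact Ideal.mul_mem_right _ _ hmem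
  obtain ⟨⟨⟨x, hx⟩, ⟨_, k, rfl⟩⟩, hk⟩ :=
    (IsLocalization.mem_map_algebraMap_iff (Submonoid.powers g) (Localization.Away g)).1 h1
  have hk2 : algebraMap P₀[X] (Localization.Away g) (s₀ * f * g ^ k) =
      algebraMap P₀[X] (Localization.Away g) x := by
    rw [map_mul (algebraMap P₀[X] (Localization.Away g)) (s₀ * f)]; exact hk
  obtain ⟨⟨_, k', rfl⟩, hk'⟩ :=
    (IsLocalization.eq_iff_exists (Submonoid.powers g) (Localization.Away g)).1 hk2
  have h2 : (g ^ k' * g ^ k * s₀) * f ∈ (q.comap (algebraMap P₀[X] (Localization.Away g))) *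
      (K₁.comap (algebraMap P₀[X] (Localization.Away g))) := by
    have h3 : (g ^ k' * g ^ k * s₀) * f = g ^ k' * x := by
      have h4 : g ^ k' * (s₀ * f * g ^ k) = g ^ k' * x := hk'
      rw [← h4]; ring
    rw [h3]; exact Ideal.mul_mem_left _ _ hx
  have h3 := derivative_mem_of_mem_mul _ _ hI₀q₀ _ h2
  rw [derivative_mul] at h3
  have hfI₀ : f ∈ K₁.comap (algebraMap P₀[X] (Localization.Away g)) := hfK
  have h4 : derivative (g ^ k' * g ^ k * s₀) * f ∈
      q.comap (algebraMap P₀[X] (Localization.Away g)) :=
    hI₀q₀ (Ideal.mul_mem_left _ _ hfI₀)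
  have h5 : (g ^ k' * g ^ k * s₀) * derivative f ∈
      q.comap (algebraMap P₀[X] (Localization.Away g)) := (Ideal.add_mem_iff_right _ h4).mp h3
  have h6 : derivative f ∈ q.comap (algebraMap P₀[X] (Localization.Away g)) := by
    rcases hq₀.mem_or_mem h5 with h | h
    · exfalso
      rcases hq₀.mem_or_mem h with h | h
      · rcases hq₀.mem_or_mem h with h | h
        · exact hg (hq₀.mem_of_pow_mem _ h)
        · exact hg (hq₀.mem_of_pow_mem _ h)
      · exact hs₀q h
    · exact h
  obtain ⟨p₁, p₂, n, hc⟩ := hc
  have h7 : g ^ n ∈ q.comap (algebraMap P₀[X] (Localization.Away g)) := by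
    rw [← hc]
    exact Ideal.add_mem _ (Ideal.mul_mem_right _ _ h6) (Ideal.mul_mem_right _ _ (hI₀q₀ hfI₀))
  exact hg (hq₀.mem_of_pow_mem _ h7)

/-- two-step elimination for a standard étale pair -/
theorem kreg_ker_of_standardEtale {B' : Type u} [CommRing B'] (f g : P₀[X]) (hf : f.Monic)
    (hc : ∃ p₁ p₂ n, derivative f * p₁ + f * p₂ = g ^ n)
    (ρ : (Localization.Away g ⧸ Ideal.span {algebraMap P₀[X] (Localization.Away g) f}) →+* B')
    (hK : LCI.IsKoszulRegularIdeal (RingHom.ker
      ((ρ.comp (Ideal.Quotient.mk
        (Ideal.span {algebraMap P₀[X] (Localization.Away g) f}))).comp (piG g)))) :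
    LCI.IsKoszulRegularIdeal (RingHom.ker ρ) := by
  have hu : C g * X - 1 ∈ RingHom.ker ((ρ.comp (Ideal.Quotient.mk
      (Ideal.span {algebraMap P₀[X] (Localization.Away g) f}))).comp (piG g)) := by
    rw [RingHom.mem_ker, RingHom.comp_apply]
    have h0 : piG g (C g * X - 1) = 0 := by
      rw [← RingHom.mem_ker, piG_ker]; exact Ideal.subset_span rfl
    rw [h0, map_zero]
  have hv : X * derivative (C g * X - 1) - 1 ∈ RingHom.ker ((ρ.comp (Ideal.Quotient.mk
      (Ideal.span {algebraMap P₀[X] (Localization.Away g) f}))).comp (piG g)) := by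
    have h0 : X * derivative (C g * X - 1) - 1 = C g * X - 1 := by
      rw [derivative_sub, derivative_one, sub_zero, derivative_mul, derivative_C, zero_mul,
        zero_add, derivative_X, mul_one, mul_comm]
    rw [h0]; exact hu
  have key := kregIdeal_map_of_quot _ hK (C g * X - 1) hu (isSMulRegular_C_mul_X_sub_one g) X hv
    (piG g) (piG_surjective g) (piG_ker g)
  rw [← RingHom.comap_ker, Ideal.map_comap_of_surjective _ (piG_surjective g)] at key
  have hfK : algebraMap P₀[X] (Localization.Away g) f ∈ RingHom.ker (ρ.comp (Ideal.Quotient.mk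
      (Ideal.span {algebraMap P₀[X] (Localization.Away g) f}))) := by
    rw [RingHom.mem_ker, RingHom.comp_apply]
    have h0 : Ideal.Quotient.mk (Ideal.span {algebraMap P₀[X] (Localization.Away g) f})
        (algebraMap P₀[X] (Localization.Away g) f) = 0 :=
      Ideal.Quotient.eq_zero_iff_mem.2 (Ideal.subset_span rfl)
    rw [h0, map_zero]
  have key2 := kregIdeal_map_of_quot_aux _ key (algebraMap P₀[X] (Localization.Away g) f) hfK
    (isSMulRegular_algebraMap_of_monic f g hf)
    (fun q _ hKq s hs => hmin_aux f g hc _ hfK q hKq s hs)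
    (Ideal.Quotient.mk (Ideal.span {algebraMap P₀[X] (Localization.Away g) f}))
    Ideal.Quotient.mk_surjective Ideal.mk_ker
  rwa [← RingHom.comap_ker, Ideal.map_comap_of_surjective _ Ideal.Quotient.mk_surjective] at key2

end standardEtale

section presentation

/-- the kernel of any surjection from (a ring isomorphic to) a polynomial ring onto a local
complete intersection algebra is Koszul-regular -/
theorem kreg_ker_of_algEquiv_mvPolynomial {A T B : Type u} [CommRing A] [CommRing T] [CommRing B]
    [Algebra A T] [Algebra A B] {τ : Type} [Finite τ] (e : MvPolynomial τ A ≃ₐ[A] T)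
    (φ : T →ₐ[A] B) (hφ : Function.Surjective φ) (h : LCI.IsLCI A B) :
    LCI.IsKoszulRegularIdeal (RingHom.ker φ.toRingHom) := by
  let ψ : MvPolynomial τ A →ₐ[A] B := φ.comp e.toAlgHom
  have hψ : Function.Surjective ψ := hφ.comp e.surjective
  have e1 : ψ = MvPolynomial.aeval (fun i => ψ (MvPolynomial.X i)) := MvPolynomial.aeval_unique ψ
  have h1 : KR (A := A) (fun i => ψ (MvPolynomial.X i)) :=
    KR_of_isLCI h _ (by rw [← e1]; exact hψ)
  unfold KR at h1
  rw [← e1] at h1
  have h2 := kregIdeal_comap_ringEquiv e.symm.toRingEquiv _ h1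
  convert h2 using 1
  ext x
  show φ x = 0 ↔ φ (e (e.symm x)) = 0
  rw [e.apply_symm_apply]

end presentation

section main

set_option maxHeartbeats 1600000 in
/-- **Immersion into a smooth algebra.** If `A → S` is smooth, `S → B` is surjective and `A → B`
is a local complete intersection, then the kernel of `S → B` is a Koszul-regular ideal. -/
theorem kreg_ker_of_smooth (A S B : Type u) [CommRing A] [CommRing S] [CommRing B] [Algebra A S]
    [Algebra.Smooth A S] [Algebra A B] [Algebra S B] [IsScalarTower A S B]
    (hs : Function.Surjective (algebraMap S B)) (h : LCI.IsLCI A B) :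
    LCI.IsKoszulRegularIdeal (RingHom.ker (algebraMap S B)) := by
  apply kregIdeal_intro
  intro 𝔮 h𝔮
  haveI : Algebra.FinitePresentation A S := Algebra.Smooth.finitePresentation
  haveI : Algebra.IsSmoothAt A 𝔮.asIdeal := by
    have h0 : (⟨𝔮.asIdeal, inferInstance⟩ : PrimeSpectrum S) ∈ Algebra.smoothLocus A S := by
      rw [Algebra.smoothLocus_eq_univ]
      exact Set.mem_univ _
    exact h0
  obtain ⟨f, hf, n, inst, htower, hse⟩ :=
    Algebra.IsSmoothAt.exists_isStandardEtale_mvPolynomial (R := A) (p := 𝔮.asIdeal)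
  obtain ⟨P⟩ := Algebra.IsStandardEtale.nonempty_standardEtalePresentation
    (R := MvPolynomial (Fin n) A) (S := Localization.Away f)
  let e₁ : Localization.Away f ≃ₐ[MvPolynomial (Fin n) A]
      (Localization.Away P.g ⧸ Ideal.span {algebraMap _ (Localization.Away P.g) P.f}) :=
    P.equivRing.trans P.P.equivAwayQuotient
  let ψ : Localization.Away f →+* Localization.Away (algebraMap S B f) :=
    IsLocalization.Away.map _ _ (algebraMap S B) f
  have hψcomp : ψ.comp (algebraMap S (Localization.Away f)) =
      (algebraMap B (Localization.Away (algebraMap S B f))).comp (algebraMap S B) :=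
    IsLocalization.map_comp _
  have hψsurj : Function.Surjective ψ := by
    rw [IsLocalization.Away.map_surjective_iff]
    intro x
    obtain ⟨y, rfl⟩ := hs x
    exact ⟨y, 0, by simp⟩
  have hkerψ : RingHom.ker ψ =
      (RingHom.ker (algebraMap S B)).map (algebraMap S (Localization.Away f)) := by
    rw [RingHom.ker_eq_comap_bot,
      ← Ideal.map_bot (f := algebraMap B (Localization.Away (algebraMap S B f))),
      comap_loc (algebraMap S B) ψ f hψcomp ⊥, ← RingHom.ker_eq_comap_bot]
  let ρ : (Localization.Away P.g ⧸ Ideal.span {algebraMap _ (Localization.Away P.g) P.f}) →+*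
      Localization.Away (algebraMap S B f) := ψ.comp (e₁.symm : _ →+* Localization.Away f)
  -- the presentation
  let e : MvPolynomial (Option (Option (Fin n))) A ≃ₐ[A] (MvPolynomial (Fin n) A)[X][X] :=
    (MvPolynomial.optionEquivLeft A (Option (Fin n))).trans
      (Polynomial.mapAlgEquiv (MvPolynomial.optionEquivLeft A (Fin n)))
  have hcomm : ∀ a : A, ((ρ.comp (Ideal.Quotient.mk
      (Ideal.span {algebraMap _ (Localization.Away P.g) P.f}))).comp (piG P.g))
        (algebraMap A (MvPolynomial (Fin n) A)[X][X] a) =
      algebraMap A (Localization.Away (algebraMap S B f)) a := by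
    intro a
    have s1 : algebraMap A (MvPolynomial (Fin n) A)[X][X] a =
        C (algebraMap A (MvPolynomial (Fin n) A)[X] a) := Polynomial.algebraMap_apply a
    have s2 : piG P.g (C (algebraMap A (MvPolynomial (Fin n) A)[X] a)) =
        algebraMap A (Localization.Away P.g) a := by
      rw [piG_C, ← IsScalarTower.algebraMap_apply]
    have s3 : Ideal.Quotient.mk (Ideal.span {algebraMap _ (Localization.Away P.g) P.f})
        (algebraMap A (Localization.Away P.g) a) =
        algebraMap (MvPolynomial (Fin n) A) _ (algebraMap A (MvPolynomial (Fin n) A) a) := by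
      rw [IsScalarTower.algebraMap_apply A (MvPolynomial (Fin n) A) (Localization.Away P.g)]
      rfl
    have s4 : e₁.symm (algebraMap (MvPolynomial (Fin n) A) _
        (algebraMap A (MvPolynomial (Fin n) A) a)) = algebraMap A (Localization.Away f) a := by
      rw [e₁.symm.commutes, ← IsScalarTower.algebraMap_apply]
    have s5 : ψ (algebraMap A (Localization.Away f) a) =
        algebraMap A (Localization.Away (algebraMap S B f)) a := by
      rw [IsScalarTower.algebraMap_apply A S (Localization.Away f)]
      have := RingHom.congr_fun hψcomp (algebraMap A S a)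
      rw [RingHom.comp_apply, RingHom.comp_apply] at this
      rw [this, ← IsScalarTower.algebraMap_apply A S B, ← IsScalarTower.algebraMap_apply]
    rw [s1, RingHom.comp_apply, s2, RingHom.comp_apply, s3]
    show ψ (e₁.symm _) = _
    rw [s4, s5]
  let φ : (MvPolynomial (Fin n) A)[X][X] →ₐ[A] Localization.Away (algebraMap S B f) :=
    { (ρ.comp (Ideal.Quotient.mk
        (Ideal.span {algebraMap _ (Localization.Away P.g) P.f}))).comp (piG P.g) with
      commutes' := hcomm }
  have hφ : Function.Surjective φ :=
    ((hψsurj.comp e₁.symm.surjective).comp Ideal.Quotient.mk_surjective).comp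
      (piG_surjective P.g)
  have hB : LCI.IsLCI A (Localization.Away (algebraMap S B f)) :=
    isLCI_localization A B _ (algebraMap S B f) h
  have hK₀ := kreg_ker_of_algEquiv_mvPolynomial (A := A) (T := (MvPolynomial (Fin n) A)[X][X])
    (B := Localization.Away (algebraMap S B f)) (τ := Option (Option (Fin n))) e φ hφ hB
  have hρ := kreg_ker_of_standardEtale P.f P.g P.monic_f P.cond ρ hK₀
  have h3 := kregIdeal_comap_ringEquiv e₁.toRingEquiv _ hρ
  have h4 : (RingHom.ker ρ).comap (e₁.toRingEquiv : Localization.Away f →+* _) =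
      RingHom.ker ψ := by
    ext x
    show ψ (e₁.symm (e₁ x)) = 0 ↔ ψ x = 0
    rw [e₁.symm_apply_apply]
  rw [h4, hkerψ] at h3
  exact kregIdeal_at_of_away _ f h3 𝔮 h𝔮 hf

end main

end Groth.Agent.H56.LciSmooth
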