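import Mathlib
import Groth.Prelude.Def_RegImm
import Groth.Agent.H56.LciMor
import Groth.Agent.H56.LciBasic
import Groth.Agent.H56.LciSmooth
import Groth.Agent.H56.RegImmComp
import Groth.Agent.S9253

/-!
Scheme-level local complete intersection morphisms (helper56):
* `IsLCIMor` can be checked on an affine cover of the source;
* smooth morphisms, Koszul-regular immersions and morphisms that are Koszul at every point are
  `IsLCIMor`;
* an immersion into a smooth scheme whose composite is `IsLCIMor` is a Koszul-regular immersion.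
-/

set_option autoImplicit false
set_option linter.style.haveILetI false
universe u
open CategoryTheory AlgebraicGeometry

namespace Groth.Agent.H56.LciSch

open Groth.Agent.H56.LciComp Groth.Agent.H56.LciMor Groth.Agent.H56.LciBasic
  Groth.Agent.H56.LciSmooth Groth.Agent.H56.RegImmComp Groth.Agent.H56.KzSwap Groth.Agent.H59.Kosz

theorem hloc : LocalOnSource.{u} :=
  fun R S _ _ _ m g hg h => Groth.Agent.S9253.result R S m g hg h

lemma isLCI_of_hom_eq {A B : CommRingCat.{u}} (φ φ' : A ⟶ B) (h : φ = φ')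
    (H : letI := φ.hom.toAlgebra; LCI.IsLCI A B) : letI := φ'.hom.toAlgebra; LCI.IsLCI A B := by
  subst h; exact H

lemma appLE_ι_comp {X Y : Scheme.{u}} (f : X ⟶ Y) (U : X.Opens) (U' : U.toScheme.Opens)
    (V : Y.Opens) (e : U' ≤ (U.ι ≫ f) ⁻¹ᵁ V) (e' : U.ι ''ᵁ U' ≤ f ⁻¹ᵁ V) :
    (U.ι ≫ f).appLE V U' e = f.appLE V (U.ι ''ᵁ U') e' := by
  have h := Scheme.Hom.appLE_comp_appLE U.ι f V (U.ι ''ᵁ U') U' e' (by simp)
  rw [← h, Scheme.Opens.ι_appLE]
  have h2 : X.presheaf.map (homOfLE (le_refl (U.ι ''ᵁ U'))).op = 𝟙 _ := X.presheaf.map_id _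
  exact (congrArg (fun t => f.appLE V (U.ι ''ᵁ U') e' ≫ t) h2).trans (Category.comp_id _)

/-- LCI over `V` for a basic open of an affine `U` gives LCI for the localisation. -/
lemma isLCI_away_of_basicOpen {X Y : Scheme.{u}} (f : X ⟶ Y) {U : X.Opens} {V : Y.Opens}
    (hU : IsAffineOpen U) (hUV : U ≤ f ⁻¹ᵁ V) (s : Γ(X, U)) (hsV : X.basicOpen s ≤ f ⁻¹ᵁ V)
    (h : letI := (f.appLE V (X.basicOpen s) hsV).hom.toAlgebra
      LCI.IsLCI Γ(Y, V) Γ(X, X.basicOpen s)) :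
    letI := (f.appLE V U hUV).hom.toAlgebra
    LCI.IsLCI Γ(Y, V) (Localization.Away s) := by
  letI a0 : Algebra Γ(Y, V) Γ(X, U) := (f.appLE V U hUV).hom.toAlgebra
  letI a3 : Algebra Γ(Y, V) Γ(X, X.basicOpen s) :=
    (f.appLE V (X.basicOpen s) hsV).hom.toAlgebra
  haveI : IsLocalization.Away s Γ(X, X.basicOpen s) := hU.isLocalization_basicOpen s
  haveI : IsScalarTower Γ(Y, V) Γ(X, U) Γ(X, X.basicOpen s) :=
    IsScalarTower.of_algebraMap_eq' (by
      show (f.appLE V (X.basicOpen s) hsV).hom =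
        (X.presheaf.map (homOfLE (X.basicOpen_le s)).op).hom.comp (f.appLE V U hUV).hom
      rw [← CommRingCat.hom_comp, Scheme.Hom.appLE_map])
  let e : Γ(X, X.basicOpen s) ≃ₐ[Γ(X, U)] Localization.Away s :=
    IsLocalization.algEquiv (Submonoid.powers s) _ _
  exact isLCI_of_algEquiv _ _ _ (e.restrictScalars Γ(Y, V)) h

/-- the LCI property of `Γ(Y, V) → Γ(X, U)` can be checked on an affine cover of `U`. -/
theorem isLCI_of_affine_cover {X Y : Scheme.{u}} (f : X ⟶ Y) {U : X.Opens} {V : Y.Opens}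
    (hU : IsAffineOpen U) (hUV : U ≤ f ⁻¹ᵁ V)
    (h : ∀ x ∈ U, ∃ (D : X.Opens) (_ : IsAffineOpen D) (hDV : D ≤ f ⁻¹ᵁ V), x ∈ D ∧
      (letI := (f.appLE V D hDV).hom.toAlgebra
       LCI.IsLCI Γ(Y, V) Γ(X, D))) :
    letI := (f.appLE V U hUV).hom.toAlgebra
    LCI.IsLCI Γ(Y, V) Γ(X, U) := by
  letI a0 : Algebra Γ(Y, V) Γ(X, U) := (f.appLE V U hUV).hom.toAlgebra
  apply isLCI_of_cover hloc Γ(Y, V) Γ(X, U) {s | LCI.IsLCI Γ(Y, V) (Localization.Away s)} ?_
    (fun x hx => hx)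
  rw [← hU.self_le_iSup_basicOpen_iff]
  intro x hxU
  obtain ⟨D, hD, hDV, hxD, hlci⟩ := h x hxU
  obtain ⟨s, t, hst, hxs⟩ := exists_basicOpen_le_affine_inter hU hD x ⟨hxU, hxD⟩
  rw [TopologicalSpace.Opens.mem_iSup]
  refine ⟨⟨s, ?_⟩, hxs⟩
  show LCI.IsLCI Γ(Y, V) (Localization.Away s)
  have hsD : X.basicOpen s ≤ D := by rw [hst]; exact X.basicOpen_le t
  have hsV : X.basicOpen s ≤ f ⁻¹ᵁ V := hsD.trans hDV
  apply isLCI_away_of_basicOpen f hU hUV s hsV
  letI a1 : Algebra Γ(Y, V) Γ(X, D) := (f.appLE V D hDV).hom.toAlgebra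
  letI a2 : Algebra Γ(X, D) Γ(X, X.basicOpen s) :=
    (X.presheaf.map (homOfLE hsD).op).hom.toAlgebra
  letI a3 : Algebra Γ(Y, V) Γ(X, X.basicOpen s) :=
    (f.appLE V (X.basicOpen s) hsV).hom.toAlgebra
  haveI : IsScalarTower Γ(Y, V) Γ(X, D) Γ(X, X.basicOpen s) :=
    IsScalarTower.of_algebraMap_eq' (by
      show (f.appLE V (X.basicOpen s) hsV).hom =
        (X.presheaf.map (homOfLE hsD).op).hom.comp (f.appLE V D hDV).hom
      rw [← CommRingCat.hom_comp, Scheme.Hom.appLE_map])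
  haveI : IsLocalization.Away t Γ(X, X.basicOpen s) :=
    hD.isLocalization_of_eq_basicOpen t (homOfLE hsD) hst
  exact isLCI_localization Γ(Y, V) Γ(X, D) Γ(X, X.basicOpen s) t hlci

/-- smooth morphisms are LCI -/
theorem isLCIMor_of_smooth {X Y : Scheme.{u}} (f : X ⟶ Y) [Smooth f] : IsLCIMor f := by
  intro U V hU hV hUV
  letI := (f.appLE V U hUV).hom.toAlgebra
  haveI : Algebra.Smooth Γ(Y, V) Γ(X, U) := f.smooth_appLE hV hU hUV
  exact isLCI_of_smooth _ _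

/-- Koszul-regular immersions are LCI -/
theorem isLCIMor_of_regularImmersion {Z X : Scheme.{u}} (j : Z ⟶ X)
    (h : RegImm.IsRegularImmersion .koszul j) : IsLCIMor j := by
  intro U V hU hV hUV
  apply isLCI_of_affine_cover j hU hUV
  intro x hxU
  obtain ⟨P₁, hxP₁, hcl, rs, hreg, hker⟩ := h.2 x
  have hxV : j x ∈ V := hUV hxU
  obtain ⟨a, b, hab, hxa⟩ := exists_basicOpen_le_affine_inter hV P₁.2 (j x) ⟨hxV, hxP₁⟩
  have hPK : PK j P₁.1 rs.length := ⟨hcl, rs, rfl, hreg, hker⟩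
  obtain ⟨hcl', rs', -, hreg', hker'⟩ := hPK.basicOpen P₁.2 b
  have hW : IsAffineOpen (X.basicOpen b) := P₁.2.basicOpen b
  have hWV : X.basicOpen b ≤ V := by rw [← hab]; exact X.basicOpen_le a
  have hD : IsAffineOpen (j ⁻¹ᵁ X.basicOpen b) := isAffineOpen_preimage j hW hcl'
  have hDV : j ⁻¹ᵁ X.basicOpen b ≤ j ⁻¹ᵁ V := fun y hy => hWV hy
  refine ⟨j ⁻¹ᵁ X.basicOpen b, hD, hDV, ?_, ?_⟩
  · show j x ∈ X.basicOpen b
    rw [← hab]; exact hxa
  · letI a1 : Algebra Γ(X, V) Γ(X, X.basicOpen b) :=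
      (X.presheaf.map (homOfLE hWV).op).hom.toAlgebra
    letI a2 : Algebra Γ(X, X.basicOpen b) Γ(Z, j ⁻¹ᵁ X.basicOpen b) :=
      (j.app (X.basicOpen b)).hom.toAlgebra
    letI a3 : Algebra Γ(X, V) Γ(Z, j ⁻¹ᵁ X.basicOpen b) :=
      (j.appLE V (j ⁻¹ᵁ X.basicOpen b) hDV).hom.toAlgebra
    haveI : IsScalarTower Γ(X, V) Γ(X, X.basicOpen b) Γ(Z, j ⁻¹ᵁ X.basicOpen b) :=
      IsScalarTower.of_algebraMap_eq' (by
        show (j.appLE V (j ⁻¹ᵁ X.basicOpen b) hDV).hom =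
          (j.app (X.basicOpen b)).hom.comp (X.presheaf.map (homOfLE hWV).op).hom
        rw [← CommRingCat.hom_comp, j.app_eq_appLE, Scheme.Hom.map_appLE])
    haveI : IsLocalization.Away a Γ(X, X.basicOpen b) :=
      hV.isLocalization_of_eq_basicOpen a (homOfLE hWV) hab.symm
    have h1 : LCI.IsLCI Γ(X, V) Γ(X, X.basicOpen b) := isLCI_of_isLocalizationAway _ _ a
    have h2 : LCI.IsLCI Γ(X, X.basicOpen b) Γ(Z, j ⁻¹ᵁ X.basicOpen b) := by
      apply isLCI_of_surjective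
      · exact app_surjective j hW hcl'
      · show LCI.IsKoszulRegularIdeal (RingHom.ker (j.app (X.basicOpen b)).hom)
        rw [hker']
        exact isKoszulRegularIdeal_of_seq rs' hreg'
    exact isLCI_comp _ _ _ h1 h2

/-- morphisms that are Koszul at every point are LCI -/
theorem isLCIMor_of_isKoszulAt {X Y : Scheme.{u}} (f : X ⟶ Y)
    (h : ∀ x, Synt.IsKoszulAt f x) : IsLCIMor f := by
  intro U V hU hV hUV
  apply isLCI_of_affine_cover f hU hUV
  intro x hxU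
  obtain ⟨Ux, P, i, π, hxUx, -, hreg, hsm, hfac⟩ := h x
  haveI := hsm
  have h1 : IsLCIMor (Ux.ι ≫ f) := by
    rw [← hfac]
    exact lci_comp hloc i π (isLCIMor_of_regularImmersion i hreg) (isLCIMor_of_smooth π)
  let x' : Ux := ⟨x, hxUx⟩
  have hx' : (x' : Ux.toScheme) ∈ Ux.ι ⁻¹ᵁ U := hxU
  obtain ⟨U', hU', hxU', hU'U⟩ := exists_isAffineOpen_mem_and_subset hx'
  have hD : IsAffineOpen (Ux.ι ''ᵁ U') := hU'.image_of_isOpenImmersion Ux.ι
  have hDU : Ux.ι ''ᵁ U' ≤ U := by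
    rintro _ ⟨y, hy, rfl⟩
    exact hU'U hy
  have hDV : Ux.ι ''ᵁ U' ≤ f ⁻¹ᵁ V := hDU.trans hUV
  have hU'V : U' ≤ (Ux.ι ≫ f) ⁻¹ᵁ V := by
    intro y hy
    show (Ux.ι ≫ f) y ∈ V
    rw [Scheme.Hom.comp_apply]
    exact hDV ⟨y, hy, rfl⟩
  refine ⟨Ux.ι ''ᵁ U', hD, hDV, ⟨x', hxU', rfl⟩, ?_⟩
  exact isLCI_of_hom_eq _ _ (appLE_ι_comp f Ux U' V hU'V hDV) (h1 U' V hU' hV hU'V)


/-! ### Recognising Koszul-regular immersions -/

lemma isClosedImmersion_restrict_basicOpen {Z X : Scheme.{u}} (i : Z ⟶ X) {U : X.Opens}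
    (hcl : IsClosedImmersion (i ∣_ U)) (b : Γ(X, U)) :
    IsClosedImmersion (i ∣_ X.basicOpen b) := by
  have h1 := IsZariskiLocalAtTarget.restrict (P := @IsClosedImmersion) hcl
    (U.toScheme.basicOpen (X.presheaf.map (eqToHom U.isOpenEmbedding_obj_top).op b))
  exact (MorphismProperty.arrow_mk_iso_iff @IsClosedImmersion
    (morphismRestrictRestrictBasicOpen i U b)).1 h1

lemma ker_app_basicOpen {Z X : Scheme.{u}} (i : Z ⟶ X) {U : X.Opens} (hU : IsAffineOpen U)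
    (hcl : IsClosedImmersion (i ∣_ U)) (b : Γ(X, U)) :
    RingHom.ker (i.app (X.basicOpen b)).hom =
      (RingHom.ker (i.app U).hom).map (algebraMap Γ(X, U) Γ(X, X.basicOpen b)) := by
  have hU' : IsAffineOpen (i ⁻¹ᵁ U) := isAffineOpen_preimage i hU hcl
  haveI : IsLocalization.Away b Γ(X, X.basicOpen b) := hU.isLocalization_basicOpen b
  have hle : i ⁻¹ᵁ X.basicOpen b ≤ i ⁻¹ᵁ U := by
    intro x hx
    exact X.basicOpen_le b hx
  letI : Algebra Γ(Z, i ⁻¹ᵁ U) Γ(Z, i ⁻¹ᵁ X.basicOpen b) :=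
    (Z.presheaf.map (homOfLE hle).op).hom.toAlgebra
  haveI : IsLocalization.Away ((i.app U).hom b) Γ(Z, i ⁻¹ᵁ X.basicOpen b) :=
    hU'.isLocalization_of_eq_basicOpen ((i.app U).hom b) (homOfLE hle)
      (Scheme.preimage_basicOpen i b)
  have hcomm : (i.app (X.basicOpen b)).hom.comp (algebraMap Γ(X, U) Γ(X, X.basicOpen b)) =
      (algebraMap Γ(Z, i ⁻¹ᵁ U) Γ(Z, i ⁻¹ᵁ X.basicOpen b)).comp (i.app U).hom := by
    have := i.naturality (homOfLE (X.basicOpen_le b)).op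
    exact congrArg CommRingCat.Hom.hom this
  exact ker_loc (i.app U).hom (i.app (X.basicOpen b)).hom b hcomm

/-- If over an affine open `W ∋ i z` the morphism `i` is a closed immersion whose ideal is a
Koszul-regular ideal, then `i` is a Koszul-regular immersion at `z`. -/
theorem isRegularImmersionAt_of_kreg {Z X : Scheme.{u}} (i : Z ⟶ X) (z : Z) {W : X.Opens}
    (hW : IsAffineOpen W) (hzW : i z ∈ W) (hcl : IsClosedImmersion (i ∣_ W))
    (hk : LCI.IsKoszulRegularIdeal (RingHom.ker (i.app W).hom)) :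
    RegImm.IsRegularImmersionAt .koszul i z := by
  let germ : Γ(X, W) →+* X.presheaf.stalk (i z) := (X.presheaf.germ W (i z) hzW).hom
  let 𝔭 : PrimeSpectrum Γ(X, W) :=
    ⟨(IsLocalRing.maximalIdeal (X.presheaf.stalk (i z))).comap germ, Ideal.comap_isPrime _ _⟩
  have hmem : ∀ g : Γ(X, W), g ∉ 𝔭.asIdeal ↔ i z ∈ X.basicOpen g := by
    intro g
    have h0 : g ∈ 𝔭.asIdeal ↔ ¬ IsUnit (germ g) := by
      show germ g ∈ IsLocalRing.maximalIdeal _ ↔ _
      rw [IsLocalRing.mem_maximalIdeal, mem_nonunits_iff]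
    rw [h0, not_not]
    exact (X.mem_basicOpen g (i z) hzW).symm
  have hI : RingHom.ker (i.app W).hom ≤ 𝔭.asIdeal := by
    intro a ha
    by_contra hna
    have h1 : i z ∈ X.basicOpen a := (hmem a).1 hna
    have h2 : z ∈ i ⁻¹ᵁ X.basicOpen a := h1
    rw [Scheme.preimage_basicOpen, show (i.app W) a = 0 from ha, Scheme.basicOpen_zero] at h2
    exact h2
  obtain ⟨g, hg, l, hl, hIl⟩ := hk 𝔭 hI
  have hzg : i z ∈ X.basicOpen g := (hmem g).1 hg
  haveI : IsLocalization.Away g Γ(X, X.basicOpen g) := hW.isLocalization_basicOpen g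
  let e : Localization.Away g ≃ₐ[Γ(X, W)] Γ(X, X.basicOpen g) :=
    IsLocalization.algEquiv (Submonoid.powers g) _ _
  refine ⟨⟨X.basicOpen g, hW.basicOpen g⟩, hzg, isClosedImmersion_restrict_basicOpen i hcl g,
    l.map (e.toRingEquiv : Localization.Away g →+* Γ(X, X.basicOpen g)), ?_, ?_⟩
  · exact isKoszulRegularSeq_map_ringEquiv e.toRingEquiv l hl
  · show RingHom.ker (i.app (X.basicOpen g)).hom = _
    rw [ker_app_basicOpen i hW hcl g, ofList_map]
    have h1 : algebraMap Γ(X, W) Γ(X, X.basicOpen g) =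
        (e.toRingEquiv : Localization.Away g →+* Γ(X, X.basicOpen g)).comp
          (algebraMap Γ(X, W) (Localization.Away g)) := by
      ext a
      exact (e.commutes a).symm
    rw [h1, ← Ideal.map_map, hIl]

lemma isClosedImmersion_restrict_of_eq {X Z : Scheme.{u}} {f g : X ⟶ Z} (h : f = g) (W : Z.Opens)
    (H : IsClosedImmersion (f ∣_ W)) : IsClosedImmersion (g ∣_ W) := by
  subst h; exact H

lemma isClosedImmersion_restrict_comp {X Z' Z : Scheme.{u}} (c : X ⟶ Z') (o : Z' ⟶ Z)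
    [IsClosedImmersion c] [IsOpenImmersion o] (W : Z.Opens) (hW : W ≤ o.opensRange) :
    IsClosedImmersion ((c ≫ o) ∣_ W) := by
  rw [morphismRestrict_comp]
  have hc : IsClosedImmersion (c ∣_ o ⁻¹ᵁ W) :=
    IsZariskiLocalAtTarget.restrict (P := @IsClosedImmersion) inferInstance _
  have ho : IsIso (o ∣_ W) := by
    rw [isIso_iff_isOpenImmersion_and_surjective]
    refine ⟨inferInstance, ⟨fun y => ?_⟩⟩
    obtain ⟨x, hx⟩ := hW y.2
    have hxW : x ∈ o ⁻¹ᵁ W := by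
      show o x ∈ W
      rw [hx]; exact y.2
    refine ⟨⟨x, hxW⟩, Subtype.ext ?_⟩
    exact (morphismRestrict_base_coe o W ⟨x, hxW⟩).trans hx
  have ho' : IsClosedImmersion (o ∣_ W) := inferInstance
  exact @IsClosedImmersion.comp _ _ _ _ _ hc ho'

/-- an immersion restricts to a closed immersion over opens inside its coborder range -/
lemma isClosedImmersion_restrict_of_le_coborderRange {X Z : Scheme.{u}} (i : X ⟶ Z)
    [IsImmersion i] (W : Z.Opens) (hW : W ≤ i.coborderRange) : IsClosedImmersion (i ∣_ W) :=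
  isClosedImmersion_restrict_of_eq i.liftCoborder_ι W
    (isClosedImmersion_restrict_comp i.liftCoborder i.coborderRange.ι W
      (by rw [Scheme.Opens.opensRange_ι]; exact hW))

/-- If `f = i ≫ p` is LCI with `p` smooth and `i` an immersion, then `i` is a Koszul-regular
immersion. -/
theorem regImm_of_isLCIMor {X Y Z : Scheme.{u}} (f : X ⟶ Y) (hf : IsLCIMor f) (p : Z ⟶ Y)
    [Smooth p] (i : X ⟶ Z) [IsImmersion i] (h : i ≫ p = f) :
    RegImm.IsRegularImmersion .koszul i := by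
  subst h
  refine ⟨inferInstance, fun x => ?_⟩
  obtain ⟨V, hV, hxV, -⟩ :=
    exists_isAffineOpen_mem_and_subset (x := p (i x)) (U := ⊤) trivial
  have hxΩ : i x ∈ i.coborderRange ⊓ p ⁻¹ᵁ V :=
    ⟨subset_coborder (Set.mem_range_self x), hxV⟩
  obtain ⟨W, hW, hxW, hWle⟩ := exists_isAffineOpen_mem_and_subset hxΩ
  have hWΩ : W ≤ i.coborderRange := fun y hy => (hWle hy).1
  have hWV : W ≤ p ⁻¹ᵁ V := fun y hy => (hWle hy).2
  have hcl : IsClosedImmersion (i ∣_ W) := isClosedImmersion_restrict_of_le_coborderRange i W hWΩ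
  have hU : IsAffineOpen (i ⁻¹ᵁ W) := isAffineOpen_preimage i hW hcl
  have hUV : i ⁻¹ᵁ W ≤ (i ≫ p) ⁻¹ᵁ V := by
    intro y hy
    show (i ≫ p) y ∈ V
    rw [Scheme.Hom.comp_apply]
    exact hWV hy
  have hlci := hf (i ⁻¹ᵁ W) V hU hV hUV
  apply isRegularImmersionAt_of_kreg i x hW hxW hcl
  letI a1 : Algebra Γ(Y, V) Γ(Z, W) := (p.appLE V W hWV).hom.toAlgebra
  letI a2 : Algebra Γ(Z, W) Γ(X, i ⁻¹ᵁ W) := (i.app W).hom.toAlgebra
  letI a3 : Algebra Γ(Y, V) Γ(X, i ⁻¹ᵁ W) := ((i ≫ p).appLE V (i ⁻¹ᵁ W) hUV).hom.toAlgebra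
  haveI : IsScalarTower Γ(Y, V) Γ(Z, W) Γ(X, i ⁻¹ᵁ W) :=
    IsScalarTower.of_algebraMap_eq' (by
      show ((i ≫ p).appLE V (i ⁻¹ᵁ W) hUV).hom = (i.app W).hom.comp (p.appLE V W hWV).hom
      rw [← CommRingCat.hom_comp, i.app_eq_appLE, Scheme.Hom.appLE_comp_appLE])
  haveI : Algebra.Smooth Γ(Y, V) Γ(Z, W) := p.smooth_appLE hV hW hWV
  exact kreg_ker_of_smooth Γ(Y, V) Γ(Z, W) Γ(X, i ⁻¹ᵁ W) (app_surjective i hW hcl) hlci

end Groth.Agent.H56.LciSch
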