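import Mathlib

/-!
# Closed immersions into smooth schemes over a regularly immersed base: the algebra (helper56)

Let `A → B` be standard smooth, `φ : B → C` surjective with `A → C` surjective and kernel generated
by a weakly regular sequence.  Then, locally on `B` around `Spec C`, the kernel of `φ` is generated
by a weakly regular sequence (étale coordinates centred along `C`, followed by the given sequence).
-/

set_option autoImplicit false
universe u
open RingTheory.Sequence

namespace Groth.Agent.H56.SmoothSec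

section Poly
variable (A : Type u) [CommRing A] (n : ℕ)

/-- the list of variables -/
noncomputable def xs : List (MvPolynomial (Fin n) A) :=
  List.ofFn (fun i : Fin n => (MvPolynomial.X i : MvPolynomial (Fin n) A))

theorem ofList_take_xs (s : ℕ) :
    Ideal.ofList ((xs A n).take s) =
      Ideal.span (MvPolynomial.X '' {i : Fin n | i.val < s}) := by
  show Ideal.span {y | y ∈ (xs A n).take s} = _
  congr 1
  ext y
  rw [Set.mem_ofPred_eq, List.mem_take_iff_getElem]
  constructor
  · rintro ⟨m, hm, rfl⟩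
    have hm' := lt_min_iff.1 hm
    rw [xs, List.length_ofFn] at hm'
    refine ⟨⟨m, hm'.2⟩, hm'.1, ?_⟩
    simp only [xs, List.getElem_ofFn]
  · rintro ⟨i, hi, rfl⟩
    have hi' : i.val < s := hi
    refine ⟨i.val, lt_min_iff.2 ⟨hi', ?_⟩, ?_⟩
    · rw [xs, List.length_ofFn]
      exact i.isLt
    · simp only [xs, List.getElem_ofFn]

theorem xs_isWeaklyRegular : IsWeaklyRegular (MvPolynomial (Fin n) A) (xs A n) := by
  classical
  refine ⟨fun s hs => ?_⟩
  have hs' : s < n := by
    rw [xs, List.length_ofFn] at hs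
    exact hs
  rw [isSMulRegular_quotient_iff_mem_of_smul_mem]
  have hset : Ideal.ofList ((xs A n).take s) •
        (⊤ : Submodule (MvPolynomial (Fin n) A) (MvPolynomial (Fin n) A)) =
      Ideal.span (MvPolynomial.X '' {i : Fin n | i.val < s}) := by
    rw [smul_eq_mul, Ideal.mul_top]
    exact ofList_take_xs A n s
  have hget : (xs A n)[s] = MvPolynomial.X ⟨s, hs'⟩ := by
    simp only [xs, List.getElem_ofFn]
  rw [hset, hget]
  intro p hp
  rw [smul_eq_mul, MvPolynomial.mem_ideal_span_X_image] at hp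
  rw [MvPolynomial.mem_ideal_span_X_image]
  intro m hm
  have hm' : Finsupp.single (⟨s, hs'⟩ : Fin n) 1 + m ∈
      (MvPolynomial.X (⟨s, hs'⟩ : Fin n) * p).support := by
    rw [MvPolynomial.mem_support_iff, MvPolynomial.coeff_X_mul]
    exact MvPolynomial.mem_support_iff.1 hm
  obtain ⟨i, hi, hne⟩ := hp _ hm'
  refine ⟨i, hi, ?_⟩
  have his : i ≠ (⟨s, hs'⟩ : Fin n) := by
    intro h
    rw [h] at hi
    exact lt_irrefl _ (show s < s from hi)
  rw [Finsupp.add_apply, Finsupp.single_eq_of_ne his, zero_add] at hne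
  exact hne

theorem ofList_xs : Ideal.ofList (xs A n) =
    Ideal.span (Set.range (MvPolynomial.X : Fin n → MvPolynomial (Fin n) A)) := by
  show Ideal.span {y | y ∈ xs A n} = _
  congr 1
  ext y
  rw [Set.mem_ofPred_eq, xs, List.mem_ofFn]
  rfl

theorem ker_constantCoeff :
    RingHom.ker (MvPolynomial.constantCoeff : MvPolynomial (Fin n) A →+* A) =
      Ideal.ofList (xs A n) := by
  classical
  rw [ofList_xs, ← Set.image_univ]
  ext p
  rw [RingHom.mem_ker, MvPolynomial.mem_ideal_span_X_image, MvPolynomial.constantCoeff_eq]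
  constructor
  · intro h m hm
    by_contra hcon
    push Not at hcon
    have hm0 : m = 0 := by
      ext i
      simpa using hcon i (Set.mem_univ i)
    rw [hm0, MvPolynomial.mem_support_iff] at hm
    exact hm h
  · intro h
    by_contra hne
    have h0 : (0 : Fin n →₀ ℕ) ∈ p.support := MvPolynomial.mem_support_iff.2 hne
    obtain ⟨i, -, hi⟩ := h 0 h0
    exact hi rfl

/-- the additive equivalence `P ⧸ (X) ≃ A` -/
noncomputable def quotEquiv :
    (MvPolynomial (Fin n) A ⧸ (Ideal.ofList (xs A n) • ⊤ :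
      Submodule (MvPolynomial (Fin n) A) (MvPolynomial (Fin n) A))) ≃+ A :=
  ((Submodule.quotEquivOfEq _ _ (show (Ideal.ofList (xs A n) • ⊤ :
      Submodule (MvPolynomial (Fin n) A) (MvPolynomial (Fin n) A)) =
      RingHom.ker (MvPolynomial.constantCoeff : MvPolynomial (Fin n) A →+* A) by
        rw [smul_eq_mul, Ideal.mul_top, ker_constantCoeff])).toAddEquiv).trans
    (RingHom.quotientKerEquivOfSurjective
      (f := (MvPolynomial.constantCoeff : MvPolynomial (Fin n) A →+* A))
      (fun a => ⟨MvPolynomial.C a, MvPolynomial.constantCoeff_C _ a⟩)).toAddEquiv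

theorem quotEquiv_mk (p : MvPolynomial (Fin n) A) :
    quotEquiv A n (Submodule.Quotient.mk p) = MvPolynomial.constantCoeff p := rfl

theorem xs_append_isWeaklyRegular (fs : List A) (hfs : IsWeaklyRegular A fs) :
    IsWeaklyRegular (MvPolynomial (Fin n) A)
      (xs A n ++ fs.map (algebraMap A (MvPolynomial (Fin n) A))) := by
  rw [isWeaklyRegular_append_iff]
  refine ⟨xs_isWeaklyRegular A n, ?_⟩
  refine (AddEquiv.isWeaklyRegular_congr (e := quotEquiv A n) ?_).mpr hfs
  rw [List.forall₂_map_left_iff]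
  refine List.forall₂_same.mpr (fun f _ x => ?_)
  obtain ⟨p, rfl⟩ := Submodule.Quotient.mk_surjective _ x
  rw [← Submodule.Quotient.mk_smul, quotEquiv_mk, quotEquiv_mk, smul_eq_mul, map_mul,
    MvPolynomial.algebraMap_eq, MvPolynomial.constantCoeff_C, smul_eq_mul]

end Poly

section Idem

/-- For an unramified finite type `P`-algebra `B` and `φ : B → C` such that `P → C` is surjective
with kernel `K`, the kernel of `φ` is `K B + (e)` for an element `e` idempotent modulo `K B`. -/
theorem exists_idem {P B C : Type u} [CommRing P] [CommRing B] [CommRing C] [Algebra P B]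
    [Algebra.FormallyUnramified P B] [Algebra.FiniteType P B]
    (φ : B →+* C) (hψ : Function.Surjective (φ.comp (algebraMap P B))) :
    ∃ e : B, φ e = 0 ∧
      e * e - e ∈ (RingHom.ker (φ.comp (algebraMap P B))).map (algebraMap P B) ∧
      RingHom.ker φ =
        (RingHom.ker (φ.comp (algebraMap P B))).map (algebraMap P B) ⊔ Ideal.span {e} := by
  classical
  obtain ⟨K, hK⟩ : ∃ K : Ideal P, K = RingHom.ker (φ.comp (algebraMap P B)) := ⟨_, rfl⟩
  obtain ⟨KB, hKB⟩ : ∃ KB : Ideal B, KB = K.map (algebraMap P B) := ⟨_, rfl⟩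
  rw [← hK, ← hKB]
  have hKBle : KB ≤ RingHom.ker φ := by
    rw [hKB, Ideal.map_le_iff_le_comap]
    intro x hx
    rw [hK, RingHom.mem_ker, RingHom.comp_apply] at hx
    rw [Ideal.mem_comap, RingHom.mem_ker]
    exact hx
  -- the quotient `E = B / K B`
  let φb : (B ⧸ KB) →+* C :=
    Ideal.Quotient.lift KB φ (fun x hx => RingHom.mem_ker.mp (hKBle hx))
  have hφb : ∀ x : B, φb (Ideal.Quotient.mk KB x) = φ x := fun x => Ideal.Quotient.lift_mk _ _ _
  have halg : ∀ p : P, algebraMap P (B ⧸ KB) p = Ideal.Quotient.mk KB (algebraMap P B p) :=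
    fun p => rfl
  let eq : (P ⧸ RingHom.ker (φ.comp (algebraMap P B))) ≃+* C :=
    RingHom.quotientKerEquivOfSurjective hψ
  have hθ₀ : ∀ x : P, x ∈ RingHom.ker (φ.comp (algebraMap P B)) →
      algebraMap P (B ⧸ KB) x = 0 := by
    intro x hx
    rw [halg, Ideal.Quotient.eq_zero_iff_mem, hKB, hK]
    exact Ideal.mem_map_of_mem _ hx
  let θ₀ : (P ⧸ RingHom.ker (φ.comp (algebraMap P B))) →+* (B ⧸ KB) :=
    Ideal.Quotient.lift _ (algebraMap P (B ⧸ KB)) hθ₀
  let θ : C →+* (B ⧸ KB) := θ₀.comp eq.symm.toRingHom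
  have hθ : ∀ p : P, θ (φ (algebraMap P B p)) = algebraMap P (B ⧸ KB) p := by
    intro p
    have h1 : eq.symm (φ (algebraMap P B p)) = Ideal.Quotient.mk _ p := by
      rw [RingEquiv.symm_apply_eq]
      exact (RingHom.quotientKerEquivOfSurjective_apply_mk hψ p).symm
    show θ₀ (eq.symm (φ (algebraMap P B p))) = _
    rw [h1]
    exact Ideal.Quotient.lift_mk _ _ _
  have hφθ : ∀ c : C, φb (θ c) = c := by
    intro c
    obtain ⟨p, rfl⟩ := hψ c
    show φb (θ (φ (algebraMap P B p))) = φ (algebraMap P B p)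
    rw [hθ, halg, hφb]
  let g₂ : (B ⧸ KB) →ₐ[P] (B ⧸ KB) :=
    { θ.comp φb with
      commutes' := fun p => by
        show θ (φb (algebraMap P (B ⧸ KB) p)) = algebraMap P (B ⧸ KB) p
        rw [halg, hφb, hθ, halg] }
  have hg₂ : ∀ x, g₂ x = θ (φb x) := fun x => rfl
  have hsub : ∀ x : B ⧸ KB, x - g₂ x ∈ RingHom.ker φb := by
    intro x
    rw [RingHom.mem_ker, map_sub, hg₂, hφθ, sub_self]
  have hg₂ker : ∀ x ∈ RingHom.ker φb, g₂ x = 0 := by
    intro x hx
    rw [hg₂, RingHom.mem_ker.mp hx, map_zero]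
  -- finite generation
  have : Algebra.FiniteType P (B ⧸ KB) :=
    Algebra.FiniteType.of_surjective (Ideal.Quotient.mkₐ P KB) (Ideal.Quotient.mkₐ_surjective P KB)
  have : Algebra.FormallyUnramified P (B ⧸ KB) :=
    Algebra.FormallyUnramified.of_surjective (Ideal.Quotient.mkₐ P KB)
      (Ideal.Quotient.mkₐ_surjective P KB)
  obtain ⟨s, hs⟩ := (Algebra.FiniteType.out : (⊤ : Subalgebra P (B ⧸ KB)).FG)
  have hall : ∀ y : B ⧸ KB, y - g₂ y ∈
      Ideal.span ((fun x => x - g₂ x) '' (s : Set (B ⧸ KB))) := by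
    intro y
    have hy : y ∈ Algebra.adjoin P (s : Set (B ⧸ KB)) := by rw [hs]; exact Algebra.mem_top
    refine Algebra.adjoin_induction (p := fun y _ => y - g₂ y ∈
      Ideal.span ((fun x => x - g₂ x) '' (s : Set (B ⧸ KB)))) ?_ ?_ ?_ ?_ hy
    · intro x hx
      exact Ideal.subset_span ⟨x, hx, rfl⟩
    · intro r
      rw [g₂.commutes, sub_self]
      exact Ideal.zero_mem _
    · intro x y _ _ hx hy
      have : x + y - g₂ (x + y) = (x - g₂ x) + (y - g₂ y) := by rw [map_add]; ring
      rw [this]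
      exact Ideal.add_mem _ hx hy
    · intro x y _ _ hx hy
      have : x * y - g₂ (x * y) = x * (y - g₂ y) + g₂ y * (x - g₂ x) := by rw [map_mul]; ring
      rw [this]
      exact Ideal.add_mem _ (Ideal.mul_mem_left _ _ hy) (Ideal.mul_mem_left _ _ hx)
  have hI_eq : RingHom.ker φb = Ideal.span ((fun x => x - g₂ x) '' (s : Set (B ⧸ KB))) := by
    apply le_antisymm
    · intro y hy
      have := hall y
      rwa [hg₂ker y hy, sub_zero] at this
    · rw [Ideal.span_le]
      rintro _ ⟨x, -, rfl⟩
      exact hsub x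
  have hfg : (RingHom.ker φb).FG := by
    rw [hI_eq]
    exact ⟨s.image (fun x => x - g₂ x), by rw [Finset.coe_image]⟩
  -- idempotence
  have hsq : RingHom.ker φb ≤ RingHom.ker φb ^ 2 := by
    intro y hy
    have hN : IsNilpotent ((RingHom.ker φb).map (Ideal.Quotient.mk (RingHom.ker φb ^ 2))) := by
      refine ⟨2, ?_⟩
      rw [← Ideal.map_pow, Ideal.map_quotient_self, Ideal.zero_eq_bot]
    have hext := Algebra.FormallyUnramified.ext
      ((RingHom.ker φb).map (Ideal.Quotient.mk (RingHom.ker φb ^ 2))) hN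
      (g₁ := Ideal.Quotient.mkₐ P (RingHom.ker φb ^ 2))
      (g₂ := (Ideal.Quotient.mkₐ P (RingHom.ker φb ^ 2)).comp g₂)
      (fun x => by
        rw [Ideal.Quotient.eq]
        show Ideal.Quotient.mk _ x - Ideal.Quotient.mk _ (g₂ x) ∈ _
        rw [← map_sub]
        exact Ideal.mem_map_of_mem _ (hsub x))
    have h1 := AlgHom.congr_fun hext y
    rw [AlgHom.comp_apply, hg₂ker y hy, map_zero] at h1
    exact Ideal.Quotient.eq_zero_iff_mem.mp h1
  have hidem : IsIdempotentElem (RingHom.ker φb) := by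
    apply le_antisymm Ideal.mul_le_right
    rw [← sq]
    exact hsq
  obtain ⟨ē, hē, hIē⟩ := (Ideal.isIdempotentElem_iff_of_fg _ hfg).mp hidem
  obtain ⟨e, rfl⟩ := Ideal.Quotient.mk_surjective ē
  refine ⟨e, ?_, ?_, ?_⟩
  · rw [← hφb, ← RingHom.mem_ker, hIē]
    exact Ideal.mem_span_singleton_self _
  · rw [← Ideal.Quotient.eq_zero_iff_mem, map_sub, map_mul, hē.eq, sub_self]
  · have h1 : RingHom.ker φ = Ideal.comap (Ideal.Quotient.mk KB) (RingHom.ker φb) := by
      rw [RingHom.comap_ker]
      congr 1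
    have hIē' : RingHom.ker φb = Ideal.map (Ideal.Quotient.mk KB) (Ideal.span {e}) := by
      rw [Ideal.map_span, Set.image_singleton]
      exact hIē
    rw [h1, hIē', Ideal.comap_map_of_surjective _ Ideal.Quotient.mk_surjective,
      ← RingHom.ker_eq_comap_bot, Ideal.mk_ker, sup_comm]

end Idem

section Core
variable {A B C : Type u} [CommRing A] [CommRing B] [CommRing C]

theorem core (n : ℕ) [Algebra A B] [Algebra (MvPolynomial (Fin n) A) B]
    [IsScalarTower A (MvPolynomial (Fin n) A) B]
    [Module.Flat (MvPolynomial (Fin n) A) B]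
    [Algebra.FormallyUnramified (MvPolynomial (Fin n) A) B]
    [Algebra.FiniteType (MvPolynomial (Fin n) A) B]
    (φ : B →+* C)
    (hX : ∀ i, φ (algebraMap (MvPolynomial (Fin n) A) B (MvPolynomial.X i)) = 0)
    (hψ : Function.Surjective (φ.comp (algebraMap A B)))
    (fs : List A) (hfs : IsWeaklyRegular A fs)
    (hker : RingHom.ker (φ.comp (algebraMap A B)) = Ideal.ofList fs) :
    ∃ (b : B) (rs : List B), φ b = 1 ∧
      ∀ (B' : Type u) [CommRing B'] [Algebra B B'] [IsLocalization.Away b B'],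
        IsWeaklyRegular B' (rs.map (algebraMap B B')) ∧
        (RingHom.ker φ).map (algebraMap B B') = Ideal.ofList (rs.map (algebraMap B B')) := by
  classical
  have hψ'apply : ∀ a : A, φ (algebraMap (MvPolynomial (Fin n) A) B
      (algebraMap A (MvPolynomial (Fin n) A) a)) = φ (algebraMap A B a) := fun a => by
    rw [← IsScalarTower.algebraMap_apply]
  have hψ' : Function.Surjective (φ.comp (algebraMap (MvPolynomial (Fin n) A) B)) := by
    intro c
    obtain ⟨a, ha⟩ := hψ c
    refine ⟨algebraMap A (MvPolynomial (Fin n) A) a, ?_⟩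
    rw [RingHom.comp_apply, hψ'apply]
    exact ha
  have hxsK : Ideal.ofList (xs A n) ≤
      RingHom.ker (φ.comp (algebraMap (MvPolynomial (Fin n) A) B)) := by
    rw [ofList_xs, Ideal.span_le]
    rintro _ ⟨i, rfl⟩
    exact hX i
  have hfsK : Ideal.ofList (fs.map (algebraMap A (MvPolynomial (Fin n) A))) ≤
      RingHom.ker (φ.comp (algebraMap (MvPolynomial (Fin n) A) B)) := by
    rw [← Ideal.map_ofList, Ideal.map_le_iff_le_comap, ← hker]
    intro a ha
    rw [Ideal.mem_comap, RingHom.mem_ker, RingHom.comp_apply, hψ'apply]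
    exact RingHom.mem_ker.mp ha
  have hK : RingHom.ker (φ.comp (algebraMap (MvPolynomial (Fin n) A) B)) =
      Ideal.ofList (xs A n ++ fs.map (algebraMap A (MvPolynomial (Fin n) A))) := by
    rw [Ideal.ofList_append]
    apply le_antisymm
    · intro p hp
      have h1 : p - MvPolynomial.C (MvPolynomial.constantCoeff p) ∈ Ideal.ofList (xs A n) := by
        rw [← ker_constantCoeff, RingHom.mem_ker, map_sub, MvPolynomial.constantCoeff_C, sub_self]
      have h2 : MvPolynomial.constantCoeff p ∈ Ideal.ofList fs := by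
        rw [← hker, RingHom.mem_ker, RingHom.comp_apply, ← hψ'apply]
        have h3 := RingHom.mem_ker.mp (hxsK h1)
        rw [RingHom.comp_apply, map_sub, map_sub] at h3
        have h4 := RingHom.mem_ker.mp hp
        rw [RingHom.comp_apply] at h4
        rw [h4, zero_sub, neg_eq_zero] at h3
        exact h3
      have h5 : MvPolynomial.C (MvPolynomial.constantCoeff p) ∈
          Ideal.ofList (fs.map (algebraMap A (MvPolynomial (Fin n) A))) := by
        rw [← Ideal.map_ofList]
        exact Ideal.mem_map_of_mem _ h2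
      have h6 : p = (p - MvPolynomial.C (MvPolynomial.constantCoeff p)) +
          MvPolynomial.C (MvPolynomial.constantCoeff p) := by ring
      rw [h6]
      exact Ideal.add_mem _ (Ideal.mem_sup_left h1) (Ideal.mem_sup_right h5)
    · exact sup_le hxsK hfsK
  obtain ⟨e, he0, hee, hkerφ⟩ := exists_idem (P := MvPolynomial (Fin n) A) φ hψ'
  rw [hK, Ideal.map_ofList] at hee hkerφ
  have hwr : IsWeaklyRegular B
      ((xs A n ++ fs.map (algebraMap A (MvPolynomial (Fin n) A))).map
        (algebraMap (MvPolynomial (Fin n) A) B)) :=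
    (xs_append_isWeaklyRegular A n fs hfs).of_flat
  refine ⟨1 - e, (xs A n ++ fs.map (algebraMap A (MvPolynomial (Fin n) A))).map
        (algebraMap (MvPolynomial (Fin n) A) B), by rw [map_sub, map_one, he0, sub_zero], ?_⟩
  intro B' _ _ _
  haveI : Module.Flat B B' := IsLocalization.flat B' (Submonoid.powers (1 - e))
  refine ⟨hwr.of_flat, ?_⟩
  rw [hkerφ, Ideal.map_sup, Ideal.map_ofList, Ideal.map_span, Set.image_singleton]
  apply sup_eq_left.mpr
  rw [Ideal.span_singleton_le_iff_mem]
  have hu : IsUnit (algebraMap B B' (1 - e)) := IsLocalization.Away.algebraMap_isUnit (1 - e)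
  have h1 : algebraMap B B' e * algebraMap B B' (1 - e) ∈
      Ideal.ofList (((xs A n ++ fs.map (algebraMap A (MvPolynomial (Fin n) A))).map
        (algebraMap (MvPolynomial (Fin n) A) B)).map (algebraMap B B')) := by
    rw [← map_mul, ← Ideal.map_ofList]
    apply Ideal.mem_map_of_mem
    have : e * (1 - e) = -(e * e - e) := by ring
    rw [this]
    exact neg_mem hee
  obtain ⟨v, hv⟩ := hu
  have h2 : algebraMap B B' e = (algebraMap B B' e * algebraMap B B' (1 - e)) * ↑v⁻¹ := by
    rw [← hv, mul_assoc, Units.mul_inv, mul_one]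
  rw [h2]
  exact Ideal.mul_mem_right _ _ h1

/-- **Main algebraic statement.** -/
theorem main (f : A →+* B) (hf : f.IsStandardSmooth) (φ : B →+* C)
    (hψ : Function.Surjective (φ.comp f)) (fs : List A) (hfs : IsWeaklyRegular A fs)
    (hker : RingHom.ker (φ.comp f) = Ideal.ofList fs) :
    ∃ (b : B) (rs : List B), φ b = 1 ∧
      ∀ (B' : Type u) [CommRing B'] [Algebra B B'] [IsLocalization.Away b B'],
        IsWeaklyRegular B' (rs.map (algebraMap B B')) ∧
        (RingHom.ker φ).map (algebraMap B B') = Ideal.ofList (rs.map (algebraMap B B')) := by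
  classical
  obtain ⟨n, g, hgC, hg⟩ := hf.exists_etale_mvPolynomial
  have hex : ∀ i : Fin n, ∃ a : A, φ (f a) = φ (g (MvPolynomial.X i)) := fun i => hψ _
  choose a ha using hex
  let τ₁ : MvPolynomial (Fin n) A →ₐ[A] MvPolynomial (Fin n) A :=
    MvPolynomial.aeval (fun i => MvPolynomial.X i - MvPolynomial.C (a i))
  let τ₂ : MvPolynomial (Fin n) A →ₐ[A] MvPolynomial (Fin n) A :=
    MvPolynomial.aeval (fun i => MvPolynomial.X i + MvPolynomial.C (a i))
  have h12 : τ₁.comp τ₂ = AlgHom.id A _ := by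
    apply MvPolynomial.algHom_ext
    intro i
    simp [τ₁, τ₂]
  have h21 : τ₂.comp τ₁ = AlgHom.id A _ := by
    apply MvPolynomial.algHom_ext
    intro i
    simp [τ₁, τ₂]
  let τ : MvPolynomial (Fin n) A ≃ₐ[A] MvPolynomial (Fin n) A := AlgEquiv.ofAlgHom τ₁ τ₂ h12 h21
  have hτX : ∀ i, τ (MvPolynomial.X i) = MvPolynomial.X i - MvPolynomial.C (a i) := by
    intro i
    show τ₁ (MvPolynomial.X i) = _
    simp [τ₁]
  have hτC : ∀ r, τ (MvPolynomial.C r) = MvPolynomial.C r := by
    intro r
    show τ₁ (MvPolynomial.C r) = _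
    simp [τ₁]
  obtain ⟨g', hg'def⟩ : ∃ g' : MvPolynomial (Fin n) A →+* B,
      g' = g.comp (τ : MvPolynomial (Fin n) A ≃+* MvPolynomial (Fin n) A).toRingHom := ⟨_, rfl⟩
  have hg' : g'.Etale := by
    rw [hg'def]
    exact RingHom.Etale.respectsIso.2 g _ hg
  have hg'apply : ∀ x, g' x = g (τ x) := fun x => by rw [hg'def]; rfl
  have hg'C : g'.comp MvPolynomial.C = f := by
    ext r
    rw [RingHom.comp_apply, hg'apply, hτC, ← hgC, RingHom.comp_apply]
  have hg'X : ∀ i, φ (g' (MvPolynomial.X i)) = 0 := by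
    intro i
    rw [hg'apply, hτX, map_sub, map_sub, ← ha i, ← hgC, RingHom.comp_apply, sub_self]
  letI : Algebra A B := f.toAlgebra
  letI : Algebra (MvPolynomial (Fin n) A) B := g'.toAlgebra
  haveI : IsScalarTower A (MvPolynomial (Fin n) A) B :=
    IsScalarTower.of_algebraMap_eq' hg'C.symm
  haveI : Algebra.Etale (MvPolynomial (Fin n) A) B := RingHom.etale_algebraMap.mp hg'
  exact core n φ hg'X hψ fs hfs hker

end Core

end Groth.Agent.H56.SmoothSec
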