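import Groth.Agent.H56.SmoothSecAlg
import Groth.Agent.H9.RegImm
import Groth.Prelude.Def_Mor2

/-!
# Closed immersions into a smooth scheme over a regularly immersed base are regular (helper56)
-/

set_option autoImplicit false
universe u
open CategoryTheory AlgebraicGeometry RingTheory.Sequence TopologicalSpace

namespace Groth.Agent.H56.SmoothSec

/-- standard smoothness of `Γ(S, V₁) → Γ(X, U₁)` localizes to basic opens. -/
lemma isStandardSmooth_appLE_basicOpen {X S : Scheme.{u}} (p : X ⟶ S) {U₁ : X.Opens} {V₁ : S.Opens}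
    (hU₁ : IsAffineOpen U₁) (hV₁ : IsAffineOpen V₁) (e₁ : U₁ ≤ p ⁻¹ᵁ V₁)
    (hstd : (p.appLE V₁ U₁ e₁).hom.IsStandardSmooth) (a : Γ(S, V₁))
    (hUV : X.basicOpen ((p.appLE V₁ U₁ e₁).hom a) ≤ p ⁻¹ᵁ S.basicOpen a) :
    (p.appLE (S.basicOpen a) (X.basicOpen ((p.appLE V₁ U₁ e₁).hom a)) hUV).hom.IsStandardSmooth := by
  haveI := hV₁.isLocalization_basicOpen a
  haveI := hU₁.isLocalization_basicOpen ((p.appLE V₁ U₁ e₁).hom a)
  have key : (p.appLE (S.basicOpen a) (X.basicOpen ((p.appLE V₁ U₁ e₁).hom a)) hUV).hom =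
      IsLocalization.Away.map Γ(S, S.basicOpen a) Γ(X, X.basicOpen ((p.appLE V₁ U₁ e₁).hom a))
        (p.appLE V₁ U₁ e₁).hom a := by
    apply IsLocalization.ringHom_ext (Submonoid.powers a)
    rw [IsLocalization.Away.map, IsLocalization.map_comp]
    show (p.appLE _ _ hUV).hom.comp (S.presheaf.map (homOfLE (S.basicOpen_le a)).op).hom =
      (X.presheaf.map (homOfLE (X.basicOpen_le _)).op).hom.comp (p.appLE V₁ U₁ e₁).hom
    rw [← CommRingCat.hom_comp, ← CommRingCat.hom_comp, Scheme.Hom.map_appLE, Scheme.Hom.appLE_map]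
  rw [key]
  exact RingHom.isStandardSmooth_localizationPreserves.away _ a _ _ hstd

lemma appLE_surjective_of_eq {Y S : Scheme.{u}} (j : Y ⟶ S) [IsClosedImmersion j] {V : S.Opens}
    (hV : IsAffineOpen V) (W : Y.Opens) (hW : W = j ⁻¹ᵁ V) (e : W ≤ j ⁻¹ᵁ V) :
    Function.Surjective (j.appLE V W e).hom ∧
      RingHom.ker (j.appLE V W e).hom = j.ker.ideal ⟨V, hV⟩ := by
  subst hW
  have h1 : j.appLE V (j ⁻¹ᵁ V) e = j.app V := (j.app_eq_appLE).symm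
  rw [h1, Scheme.Hom.ker_apply]
  exact ⟨j.app_surjective V hV, rfl⟩

/-- Let `X ⟶ S` be smooth and `i : Y ⟶ X` a closed immersion such that `i ≫ p` is a regular closed
immersion. Then `i` is a regular closed immersion. -/
theorem regular_of_smooth {X Y S : Scheme.{u}} (p : X ⟶ S) [Smooth p] (i : Y ⟶ X)
    [IsClosedImmersion i] [IsClosedImmersion (i ≫ p)]
    (hj : Mor2.IsRegularClosedImmersion (i ≫ p)) : Mor2.IsRegularClosedImmersion i := by
  refine ⟨inferInstance, fun y => ?_⟩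
  obtain ⟨V₀, hV₀, hsV₀, fs₀, hfs₀, hker₀⟩ := hj.2 y
  have hpi : ∀ y' : Y, (i ≫ p) y' = p (i y') := fun y' => rfl
  obtain ⟨V₁, hV₁, U₁, hU₁, hxU₁, e₁, hstd⟩ := Smooth.exists_isStandardSmooth p (i y)
  have hsV₁ : (i ≫ p) y ∈ V₁ := e₁ hxU₁
  -- an open `O` of `S` with `j⁻¹ O = i⁻¹ U₁`
  obtain ⟨O', hO'open, hO'⟩ :=
    ((i ≫ p).isClosedEmbedding.isInducing.isOpen_iff).mp (i ⁻¹ᵁ U₁).isOpen
  let O : S.Opens := ⟨O', hO'open⟩
  have hyO : (i ≫ p) y ∈ O := by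
    have : y ∈ (i ≫ p) ⁻¹' O' := by rw [hO']; exact hxU₁
    exact this
  have hsW : (i ≫ p) y ∈ V₁ ⊓ V₀ ⊓ O := ⟨⟨hsV₁, hsV₀⟩, hyO⟩
  obtain ⟨a, haW, hsa⟩ := hV₁.exists_basicOpen_le ⟨(i ≫ p) y, hsW⟩ hsV₁
  have hV : IsAffineOpen (S.basicOpen a) := hV₁.basicOpen a
  have hVV₀ : S.basicOpen a ≤ V₀ := haW.trans (inf_le_left.trans inf_le_right)
  have hVO : S.basicOpen a ≤ O := haW.trans inf_le_right
  obtain ⟨fa, hfa⟩ : ∃ fa : Γ(X, U₁), fa = (p.appLE V₁ U₁ e₁).hom a := ⟨_, rfl⟩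
  have hU : IsAffineOpen (X.basicOpen fa) := hU₁.basicOpen fa
  have hUeq : X.basicOpen fa = U₁ ⊓ p ⁻¹ᵁ S.basicOpen a := by
    rw [hfa, Scheme.Hom.appLE, CommRingCat.hom_comp, RingHom.comp_apply, Scheme.basicOpen_res,
      Scheme.preimage_basicOpen]
  have hUV : X.basicOpen fa ≤ p ⁻¹ᵁ S.basicOpen a := by rw [hUeq]; exact inf_le_right
  have hpre : i ⁻¹ᵁ X.basicOpen fa = (i ≫ p) ⁻¹ᵁ S.basicOpen a := by
    ext y'
    constructor
    · intro hy'
      have h1 : i y' ∈ U₁ ⊓ p ⁻¹ᵁ S.basicOpen a := hUeq ▸ hy'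
      exact h1.2
    · intro hy'
      have h1 : (i ≫ p) y' ∈ O' := hVO hy'
      have h2 : y' ∈ ((i ⁻¹ᵁ U₁ : Y.Opens) : Set Y) := by rw [← hO']; exact h1
      show i y' ∈ X.basicOpen fa
      rw [hUeq]
      exact ⟨h2, hy'⟩
  have hstdU : (p.appLE (S.basicOpen a) (X.basicOpen fa) hUV).hom.IsStandardSmooth := by
    subst hfa
    exact isStandardSmooth_appLE_basicOpen p hU₁ hV₁ e₁ hstd a hUV
  -- the regular sequence on `V`
  obtain ⟨hfsV, hkerV⟩ := Groth.Agent.H9.isWeaklyRegular_restrict (i ≫ p).ker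
    (U := ⟨V₀, hV₀⟩) (W := ⟨S.basicOpen a, hV⟩) hVV₀ fs₀ hfs₀.toIsWeaklyRegular hker₀
  have hcomp : (i.app (X.basicOpen fa)).hom.comp (p.appLE (S.basicOpen a) (X.basicOpen fa) hUV).hom =
      ((i ≫ p).appLE (S.basicOpen a) (i ⁻¹ᵁ X.basicOpen fa) (le_of_eq hpre)).hom := by
    rw [← CommRingCat.hom_comp, i.app_eq_appLE, Scheme.Hom.appLE_comp_appLE]
  obtain ⟨hsurj, hkerψ⟩ := appLE_surjective_of_eq (i ≫ p) hV (i ⁻¹ᵁ X.basicOpen fa) hpre
    (le_of_eq hpre)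
  have hψ : Function.Surjective ((i.app (X.basicOpen fa)).hom.comp
      (p.appLE (S.basicOpen a) (X.basicOpen fa) hUV).hom) := by rw [hcomp]; exact hsurj
  have hkerψ' : RingHom.ker ((i.app (X.basicOpen fa)).hom.comp
      (p.appLE (S.basicOpen a) (X.basicOpen fa) hUV).hom) =
      Ideal.ofList (fs₀.map (S.presheaf.map (homOfLE hVV₀).op).hom) := by
    rw [hcomp, hkerψ]; exact hkerV
  obtain ⟨b, rs, hb1, H⟩ := main (p.appLE (S.basicOpen a) (X.basicOpen fa) hUV).hom hstdU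
    (i.app (X.basicOpen fa)).hom hψ _ hfsV hkerψ'
  -- the final open
  have hU'' : IsAffineOpen (X.basicOpen b) := hU.basicOpen b
  haveI : IsLocalization.Away b Γ(X, X.basicOpen b) := hU.isLocalization_basicOpen b
  obtain ⟨hwr, hk⟩ := H Γ(X, X.basicOpen b)
  have hyU : i y ∈ X.basicOpen fa := by rw [hUeq]; exact ⟨hxU₁, hsa⟩
  have hy'' : i y ∈ X.basicOpen b := by
    have h1 : i ⁻¹ᵁ (X.basicOpen b) = Y.basicOpen ((i.app (X.basicOpen fa)).hom b) :=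
      Scheme.preimage_basicOpen i b
    have h2 : Y.basicOpen ((i.app (X.basicOpen fa)).hom b) = i ⁻¹ᵁ X.basicOpen fa := by
      rw [hb1]; exact Scheme.basicOpen_of_isUnit _ isUnit_one
    have : y ∈ i ⁻¹ᵁ (X.basicOpen b) := by rw [h1, h2]; exact hyU
    exact this
  have hkerU'' : i.ker.ideal ⟨X.basicOpen b, hU''⟩ =
      Ideal.ofList (rs.map (algebraMap Γ(X, X.basicOpen fa) Γ(X, X.basicOpen b))) := by
    have h1 := i.ker.map_ideal_basicOpen ⟨X.basicOpen fa, hU⟩ b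
    rw [Scheme.Hom.ker_apply] at h1
    exact h1.symm.trans hk
  refine ⟨X.basicOpen b, hU'', hy'',
    rs.map (algebraMap Γ(X, X.basicOpen fa) Γ(X, X.basicOpen b)), ?_, hkerU''⟩
  rw [Groth.Agent.H9.isRegular_ring_iff]
  exact ⟨hwr, fun htop =>
    Groth.Agent.H9.ker_ideal_ne_top i ⟨X.basicOpen b, hU''⟩ y hy'' (hkerU''.trans htop)⟩

/-- the identity is a regular closed immersion. -/
theorem regular_id (S : Scheme.{u}) : Mor2.IsRegularClosedImmersion (𝟙 S) := by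
  refine ⟨inferInstance, fun z => ?_⟩
  obtain ⟨U, hU, hzU, -⟩ := exists_isAffineOpen_mem_and_subset (x := z) (U := ⊤) trivial
  haveI : Nonempty U := ⟨⟨z, hzU⟩⟩
  refine ⟨U, hU, hzU, [], IsRegular.nil _ _, ?_⟩
  rw [Scheme.Hom.ker_apply, Ideal.ofList_nil]
  rw [RingHom.ker_eq_bot_iff_eq_zero]
  intro x hx
  rw [Scheme.Hom.id_app] at hx
  exact hx

end Groth.Agent.H56.SmoothSec
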