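import Groth.Agent.H56.DCompTri

/-!
# Derived completion exists for finitely generated ideals (helper56)

* `LO_of_fLocal` : `Hom•(X, J)` for an `f`-local complex `X` (`f ∈ I`) has no non-zero maps to
  derived complete objects (no existence of completions assumed).
* `hasDerivedCompletion_of_list` : the derived completion functor exists for
  `I = (f₁, …, f_r)`, with `K^∧ = RHom(Čech, K)`.
-/

set_option autoImplicit false
set_option linter.unusedSectionVars false
set_option linter.style.haveILetI false
universe u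
open CategoryTheory CategoryTheory.Limits MonoidalCategory HomologicalComplex CochainComplex
open CochainComplex.HomComplex Pretriangulated
attribute [local instance] HasDerivedCategory.standard

namespace Groth.Agent.H56.DCompV

open Groth.Agent.H33.RHomCxKInj Groth.Agent.H33.RHomCxComp Groth.Agent.H35.LTC
open Groth.Agent.H33.TensorHom Groth.Agent.H33.HomKFlat Groth.Agent.H35.DerCompKos
open Groth.Agent.H35.DerCompKos2 Groth.Agent.H56.DCompB Groth.Agent.H56.DCompTri DerCA

variable {A : Type u} [CommRing A]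

lemma FLocal.homCx {f : A} {X : DRing.Cx A} (h : FLocal f X) (J : DRing.Cx A) :
    FLocal f (DRing.homCx X J) := by
  haveI := h.isIso_smul
  have h1 : IsIso (homCxPre (f • 𝟙 X) J) := by
    refine ⟨⟨homCxPre (inv (f • 𝟙 X)) J, ?_, ?_⟩⟩
    · rw [← homCxPre_comp, IsIso.inv_hom_id]
      exact homCxPre_id X J
    · rw [← homCxPre_comp, IsIso.hom_inv_id]
      exact homCxPre_id X J
  rw [homCxPre_smul_id] at h1
  intro n
  exact (HomologicalComplex.eval _ _ n).map_isIso (f • 𝟙 (DRing.homCx X J))

lemma units_of_isIso {f : A} {N : ModuleCat.{u} A} (h : IsIso (f • 𝟙 N)) :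
    ∀ x : Submonoid.powers f, IsUnit ((algebraMap A (Module.End A N)) x) := by
  have hb : Function.Bijective (fun y : N => f • y) := (ConcreteCategory.isIso_iff_bijective _).1 h
  have hu : IsUnit ((algebraMap A (Module.End A N)) f) := (Module.End.isUnit_iff _).2 hb
  rintro ⟨x, k, rfl⟩
  show IsUnit ((algebraMap A (Module.End A N)) (f ^ k))
  rw [map_pow]
  exact hu.pow k

/-- `A[0] ⟶ A_f[0]`. -/
noncomputable def iotaAway (f : A) :
    𝟙_ (DRing.Cx A) ⟶ sg (ModuleCat.of A (Localization.Away f)) :=
  (HomologicalComplex.single (ModuleCat.{u} A) (ComplexShape.up ℤ) 0).map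
    (ModuleCat.ofHom (Algebra.linearMap A (Localization.Away f)))

lemma isIso_homCxPre_iota {f : A} {Y : DRing.Cx A} (hY : FLocal f Y) :
    IsIso (homCxPre (iotaAway f) Y) := by
  haveI : ∀ n, IsIso ((homCxPre (iotaAway f) Y).f n) := fun n => by
    refine (ConcreteCategory.isIso_iff_bijective _).2 ?_
    have hunits := units_of_isIso (hY n)
    constructor
    · intro (z : Cochain (sg (ModuleCat.of A (Localization.Away f))) Y n)
        (z' : Cochain (sg (ModuleCat.of A (Localization.Away f))) Y n) hzz
      have hzz' : (Cochain.ofHom (iotaAway f)).comp z (zero_add n) =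
          (Cochain.ofHom (iotaAway f)).comp z' (zero_add n) := hzz
      obtain ⟨g, rfl⟩ := Cochain.fromSingleMk_surjective z n (zero_add n)
      obtain ⟨g', rfl⟩ := Cochain.fromSingleMk_surjective z' n (zero_add n)
      have h1 : Cochain.fromSingleMk (K := Y) (p := 0)
          (ModuleCat.ofHom (Algebra.linearMap A (Localization.Away f)) ≫ g) (zero_add n) =
          Cochain.fromSingleMk (K := Y) (p := 0)
            (ModuleCat.ofHom (Algebra.linearMap A (Localization.Away f)) ≫ g') (zero_add n) := by
        rw [Cochain.fromSingleMk_precomp, Cochain.fromSingleMk_precomp]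
        exact hzz'
      have h2 : ModuleCat.ofHom (Algebra.linearMap A (Localization.Away f)) ≫ g =
          ModuleCat.ofHom (Algebra.linearMap A (Localization.Away f)) ≫ g' := by
        have := congrArg (Cochain.fromSingleEquiv (zero_add n)) h1
        rwa [Cochain.fromSingleEquiv_fromSingleMk, Cochain.fromSingleEquiv_fromSingleMk] at this
      have h3 : g = g' := ModuleCat.hom_ext
        (IsLocalizedModule.ext (S := Submonoid.powers f)
          (f := Algebra.linearMap A (Localization.Away f)) hunits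
          (congrArg ModuleCat.Hom.hom h2))
      rw [h3]
    · intro (w : Cochain (𝟙_ (DRing.Cx A)) Y n)
      obtain ⟨g₀, rfl⟩ := Cochain.fromSingleMk_surjective
        (X := ModuleCat.of A A) (p := 0) w n (zero_add n)
      let g : ModuleCat.of A (Localization.Away f) ⟶ Y.X n :=
        ModuleCat.ofHom (IsLocalizedModule.lift (Submonoid.powers f)
          (Algebra.linearMap A (Localization.Away f)) g₀.hom hunits)
      have hg : ModuleCat.ofHom (Algebra.linearMap A (Localization.Away f)) ≫ g = g₀ :=
        ModuleCat.hom_ext (IsLocalizedModule.lift_comp _ _ _ _)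
      refine ⟨Cochain.fromSingleMk (p := 0) g (zero_add n), ?_⟩
      show (Cochain.ofHom (iotaAway f)).comp (Cochain.fromSingleMk (p := 0) g (zero_add n))
        (zero_add n) = _
      rw [← hg, Cochain.fromSingleMk_precomp]
      rfl
  exact HomologicalComplex.Hom.isIso_of_components _

/-- `ev : Hom•(A_f[0], -) ⟶ id`. -/
noncomputable def evAway (f : A) :
    DRing.homCxFunctor (sg (ModuleCat.of A (Localization.Away f))) ⟶ 𝟭 (DRing.Cx A) :=
  homCxPreNat (iotaAway f) ≫ homUnitIso.hom

lemma isIso_evAway_app {f : A} {Y : DRing.Cx A} (hY : FLocal f Y) :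
    IsIso ((evAway f).app Y) := by
  haveI := isIso_homCxPre_iota hY
  exact (asIso (homCxPre (iotaAway f) Y) ≪≫ homUnitIso.app Y).isIso_hom

theorem homotopy_zero_of_fLocal {f : A} {Y J : DRing.Cx A} (hY : FLocal f Y)
    (hc : Homotopy (𝟙 (DRing.homCx (sg (ModuleCat.of A (Localization.Away f))) J)) 0)
    (ψ : Y ⟶ J) : Nonempty (Homotopy ψ 0) := by
  haveI := isIso_evAway_app hY
  have hnat : (DRing.homCxFunctor (sg (ModuleCat.of A (Localization.Away f)))).map ψ ≫
      (evAway f).app J = (evAway f).app Y ≫ ψ := (evAway f).naturality ψ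
  have h1 : Homotopy ((DRing.homCxFunctor (sg (ModuleCat.of A (Localization.Away f)))).map ψ) 0 :=
    ((Homotopy.ofEq (Category.comp_id _).symm).trans
      (hc.compLeft ((DRing.homCxFunctor (sg (ModuleCat.of A (Localization.Away f)))).map ψ))).trans
      (Homotopy.ofEq comp_zero)
  have h2 : ψ = inv ((evAway f).app Y) ≫
      (DRing.homCxFunctor (sg (ModuleCat.of A (Localization.Away f)))).map ψ ≫
        (evAway f).app J := by
    rw [hnat, IsIso.inv_hom_id_assoc]
  rw [h2]
  exact ⟨((h1.compRight ((evAway f).app J)).compLeft (inv ((evAway f).app Y))).trans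
    (Homotopy.ofEq (by rw [zero_comp, comp_zero]))⟩

/-- `Hom•(X, J)` for `X` an `f`-local complex has no non-zero maps to derived complete objects. -/
theorem LO_of_fLocal (I : Ideal A) {f : A} (hf : f ∈ I) (X J : DRing.Cx A) (hX : FLocal f X) :
    LO I (DerivedCategory.Q.obj (DRing.homCx X J)) := by
  intro L hL x
  obtain ⟨JL, hJL, ⟨e⟩⟩ := Groth.Agent.H6.QCoprod.exists_model L
  haveI := hJL
  haveI : Module.Flat A (ModuleCat.of A (Localization.Away f)) :=
    inferInstanceAs (Module.Flat A (Localization.Away f))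
  have hs : ∀ n : ℤ, Subsingleton (DerivedCategory.Q.obj
      (sg (ModuleCat.of A (Localization.Away f))) ⟶ (DerivedCategory.Q.obj JL)⟦n⟧) := by
    intro n
    let e0 : Dual.inD A (Localization.Away f) ≅
        DerivedCategory.Q.obj (sg (ModuleCat.of A (Localization.Away f))) :=
      (DerivedCategory.singleFunctorIsoCompQ (ModuleCat.{u} A) 0).app _
    have h1 : Subsingleton (Dual.inD A (Localization.Away f) ⟶ L⟦n⟧) := hL f hf n
    refine ⟨fun a b => ?_⟩
    have h2 := h1.elim (e0.hom ≫ a ≫ (e.hom)⟦n⟧') (e0.hom ≫ b ≫ (e.hom)⟦n⟧')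
    rw [cancel_epi, cancel_mono] at h2
    exact h2
  have hex := exact_of_subsingleton_hom (sg (ModuleCat.of A (Localization.Away f))) JL hs
  haveI : (DRing.homCx (sg (ModuleCat.of A (Localization.Away f))) JL).IsKInjective :=
    isKInjective_homCx _ JL (isKFlat_sg _)
  have hc : Homotopy (𝟙 (DRing.homCx (sg (ModuleCat.of A (Localization.Away f))) JL)) 0 :=
    IsKInjective.homotopyZero (𝟙 _) hex
  obtain ⟨ψ, hψ⟩ := Groth.Agent.H6.QCoprod.exists_lift (DRing.homCx X J) JL (x ≫ e.inv)
  obtain ⟨hh⟩ := homotopy_zero_of_fLocal (FLocal.homCx hX J) hc ψ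
  have h0 : DerivedCategory.Q.map ψ = 0 := by
    rw [Groth.Agent.H6.QCoprod.Q_map_eq_of_homotopy ψ 0 hh, Functor.map_zero]
  rw [← cancel_mono e.inv, zero_comp, ← hψ, h0]

/-- Derived completion exists for `I = (f₁, …, f_r)`. -/
theorem hasDerivedCompletion_of_list (fs : List A) :
    DRing.HasDerivedCompletion (Ideal.span {x : A | x ∈ fs}) := by
  haveI : Module.Flat A (ModuleCat.of A A) := inferInstanceAs (Module.Flat A A)
  have hfs : ∀ f ∈ fs, f ∈ Ideal.span {x : A | x ∈ fs} := fun f hf => Ideal.subset_span hf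
  have key : ∀ K : Dual.D A, ∃ (K' : DRing.DComp (Ideal.span {x : A | x ∈ fs}))
      (η : K ⟶ K'.obj), ∀ E : Dual.D A,
        DRing.IsDerivedComplete (Ideal.span {x : A | x ∈ fs}) E →
          Function.Bijective (fun x : K'.obj ⟶ E => η ≫ x) := by
    intro K
    obtain ⟨J, hJ, ⟨eJ⟩⟩ := Groth.Agent.H6.QCoprod.exists_model K
    haveI := hJ
    refine ⟨⟨_, extCech_complete (ModuleCat.of A A) fs J⟩,
      eJ.inv ≫ DerivedCategory.Q.map (baseIso J).hom ≫
        DerivedCategory.Q.map (homCxPre (aug (ModuleCat.of A A) fs) J), ?_⟩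
    intro E hE
    have h1 := aug_bijective (ModuleCat.of A A) _ J
      (fun f hf X hX => LO_of_fLocal _ hf X J hX) fs hfs E hE
    let θ : K ≅ DerivedCategory.Q.obj (DRing.homCx (DerCA.extCech (ModuleCat.of A A) []) J) :=
      eJ.symm ≪≫ DerivedCategory.Q.mapIso (baseIso J)
    have h3 : Function.Bijective (fun y : DerivedCategory.Q.obj
        (DRing.homCx (DerCA.extCech (ModuleCat.of A A) []) J) ⟶ E => θ.hom ≫ y) :=
      ⟨fun a b h => (cancel_epi _).1 h, fun y => ⟨θ.inv ≫ y, by simp⟩⟩
    have h2 : (fun x : DerivedCategory.Q.obj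
          (DRing.homCx (DerCA.extCech (ModuleCat.of A A) fs) J) ⟶ E =>
          (eJ.inv ≫ DerivedCategory.Q.map (baseIso J).hom ≫
            DerivedCategory.Q.map (homCxPre (aug (ModuleCat.of A A) fs) J)) ≫ x) =
        (fun y : DerivedCategory.Q.obj
          (DRing.homCx (DerCA.extCech (ModuleCat.of A A) []) J) ⟶ E => θ.hom ≫ y) ∘
        (fun x : DerivedCategory.Q.obj
          (DRing.homCx (DerCA.extCech (ModuleCat.of A A) fs) J) ⟶ E =>
          DerivedCategory.Q.map (homCxPre (aug (ModuleCat.of A A) fs) J) ≫ x) := by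
      funext x
      simp only [Function.comp, θ, Iso.trans_hom, Iso.symm_hom, Functor.mapIso_hom,
        Category.assoc]
    exact h2 ▸ h3.comp h1
  choose F η hη using key
  let e : ∀ (X : Dual.D A) (Y : DRing.DComp (Ideal.span {x : A | x ∈ fs})),
      (F X ⟶ Y) ≃ (X ⟶ (ObjectProperty.ι
        (DRing.IsDerivedComplete (Ideal.span {x : A | x ∈ fs}))).obj Y) := fun X Y =>
    Equiv.ofBijective (fun φ => η X ≫ φ.hom) (by
      have hb := hη X Y.obj Y.property
      constructor
      · intro φ φ' h
        exact ObjectProperty.hom_ext _ (hb.1 h)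
      · intro y
        obtain ⟨x, hx⟩ := hb.2 y
        exact ⟨ObjectProperty.homMk x, hx⟩)
  exact (Adjunction.adjunctionOfEquivLeft e (by
    intro X Y Y' g h
    show η X ≫ (h ≫ g).hom = (η X ≫ h.hom) ≫ g.hom
    rw [Category.assoc]
    rfl)).isRightAdjoint

end Groth.Agent.H56.DCompV
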