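import Mathlib
import Groth.Prelude.Def_RegImm
import Groth.Agent.H56.LciSch

/-!
From the affine-local LCI property back to the factorisation form `Synt.IsKoszulAt` (helper56).
-/

set_option autoImplicit false
set_option linter.style.haveILetI false
universe u
open CategoryTheory AlgebraicGeometry

namespace Groth.Agent.H56.LciSch

open Groth.Agent.H56.LciComp Groth.Agent.H56.LciMor Groth.Agent.H56.LciBasic
  Groth.Agent.H56.LciSmooth Groth.Agent.H56.RegImmComp Groth.Agent.H56.KzSwap Groth.Agent.H59.Kosz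

/-- If `R → C` is smooth and `R → B` is LCI then `C → B` is LCI. -/
theorem isLCI_of_smooth_of_isLCI (R C B : Type u) [CommRing R] [CommRing C] [CommRing B]
    [Algebra R C] [Algebra C B] [Algebra R B] [IsScalarTower R C B] [Algebra.Smooth R C]
    (h : LCI.IsLCI R B) : LCI.IsLCI C B := by
  have hft : Algebra.FiniteType C B := by
    haveI := h.1
    exact Algebra.FiniteType.of_restrictScalars_finiteType R C B
  obtain ⟨m, ψ, hψ⟩ := Algebra.FiniteType.iff_quotient_mvPolynomial''.1 hft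
  refine ⟨hft, m, ψ, hψ, ?_⟩
  letI : Algebra (MvPolynomial (Fin m) C) B := ψ.toRingHom.toAlgebra
  haveI : IsScalarTower R (MvPolynomial (Fin m) C) B := IsScalarTower.of_algebraMap_eq (fun r => by
    rw [IsScalarTower.algebraMap_apply R C B,
      IsScalarTower.algebraMap_apply R C (MvPolynomial (Fin m) C)]
    exact (ψ.commutes _).symm)
  haveI : Algebra.Smooth C (MvPolynomial (Fin m) C) := {}
  haveI : Algebra.Smooth R (MvPolynomial (Fin m) C) :=
    Algebra.Smooth.comp R C (MvPolynomial (Fin m) C)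
  exact kreg_ker_of_smooth R (MvPolynomial (Fin m) C) B hψ h

lemma ker_app_top_spec {R S : CommRingCat.{u}} (φ : R ⟶ S) {T : Scheme.{u}} (t : T ⟶ Spec S)
    [IsIso t] :
    RingHom.ker ((t ≫ Spec.map φ).app ⊤).hom =
      (RingHom.ker φ.hom).comap
        ((Scheme.ΓSpecIso R).commRingCatIsoToRingEquiv : Γ(Spec R, ⊤) →+* R) := by
  ext a
  have hinj1 : Function.Injective t.appTop.hom :=
    (ConcreteCategory.bijective_of_isIso (t.app ⊤)).1
  have hinj2 : Function.Injective (Scheme.ΓSpecIso S).hom.hom :=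
    (ConcreteCategory.bijective_of_isIso _).1
  have key : (Scheme.ΓSpecIso S).hom.hom (((Spec.map φ).appTop).hom a) =
      φ.hom ((Scheme.ΓSpecIso R).hom.hom a) :=
    congrArg (fun m => m.hom a) (Scheme.ΓSpecIso_naturality φ)
  have h1 : ((t ≫ Spec.map φ).app ⊤).hom a = t.appTop.hom (((Spec.map φ).appTop).hom a) := rfl
  show ((t ≫ Spec.map φ).app ⊤).hom a = 0 ↔ φ.hom ((Scheme.ΓSpecIso R).hom.hom a) = 0
  constructor
  · intro h0
    rw [h1] at h0
    have h2 : ((Spec.map φ).appTop).hom a = 0 := hinj1 (by rw [map_zero]; exact h0)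
    rw [← key, h2, map_zero]
  · intro h0
    rw [← key] at h0
    have h2 : ((Spec.map φ).appTop).hom a = 0 := hinj2 (by rw [map_zero]; exact h0)
    rw [h1, h2, map_zero]
    rfl

/-- the affine-local LCI property gives the factorisation form. -/
theorem isKoszulAt_of_isLCI {X Y : Scheme.{u}} (f : X ⟶ Y) (x : X) {U : X.Opens} {V : Y.Opens}
    (hU : IsAffineOpen U) (hV : IsAffineOpen V) (hUV : U ≤ f ⁻¹ᵁ V) (hxU : x ∈ U)
    (h : letI := (f.appLE V U hUV).hom.toAlgebra
      LCI.IsLCI Γ(Y, V) Γ(X, U)) :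
    Synt.IsKoszulAt f x := by
  letI a0 : Algebra Γ(Y, V) Γ(X, U) := (f.appLE V U hUV).hom.toAlgebra
  obtain ⟨-, n, φ, hφ, hk⟩ := h
  let Pn : CommRingCat.{u} := CommRingCat.of (MvPolynomial (Fin n) Γ(Y, V))
  let φ' : Pn ⟶ Γ(X, U) := CommRingCat.ofHom φ.toRingHom
  let c : Γ(Y, V) ⟶ Pn :=
    CommRingCat.ofHom (algebraMap Γ(Y, V) (MvPolynomial (Fin n) Γ(Y, V)))
  have hcφ : c ≫ φ' = f.appLE V U hUV := by
    ext a
    exact φ.commutes a
  haveI : IsIso U.toSpecΓ := by
    rw [← hU.isoSpec_hom]; infer_instance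
  haveI : IsClosedImmersion (Spec.map φ') := IsClosedImmersion.spec_of_surjective φ' hφ
  haveI : Smooth (Spec.map c) := by
    rw [HasRingHomProperty.Spec_iff (P := @Smooth)]
    show (algebraMap Γ(Y, V) (MvPolynomial (Fin n) Γ(Y, V))).Smooth
    rw [RingHom.smooth_algebraMap]
    exact {}
  haveI : IsClosedImmersion (U.toSpecΓ ≫ Spec.map φ') := inferInstance
  haveI : Smooth (Spec.map c ≫ hV.fromSpec) := inferInstance
  have hfac : (U.toSpecΓ ≫ Spec.map φ') ≫ Spec.map c ≫ hV.fromSpec = U.ι ≫ f := by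
    rw [Category.assoc, ← Spec.map_comp_assoc, hcφ,
      IsAffineOpen.SpecMap_appLE_fromSpec f hV hU hUV, ← Category.assoc, hU.toSpecΓ_fromSpec]
  refine ⟨U, Spec Pn, U.toSpecΓ ≫ Spec.map φ', Spec.map c ≫ hV.fromSpec, hxU, ?_,
    ⟨inferInstance, fun z => ?_⟩, inferInstance, hfac⟩
  · rw [← hfac]
    infer_instance
  · apply isRegularImmersionAt_of_kreg (U.toSpecΓ ≫ Spec.map φ') z (W := ⊤)
      (isAffineOpen_top (Spec Pn)) trivial
      (IsZariskiLocalAtTarget.restrict (P := @IsClosedImmersion) inferInstance ⊤)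
    rw [ker_app_top_spec]
    exact kregIdeal_comap_ringEquiv (Scheme.ΓSpecIso Pn).commRingCatIsoToRingEquiv _ hk

end Groth.Agent.H56.LciSch
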