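import Mathlib
import Groth.Prelude.Def_RegImm
import Groth.Prelude.Def_AlgSpMor6
import Groth.Agent.H56.LciSch2

/-!
The morphism property "Koszul at every point" (`AlgSp.lci`): basic permanence, and `AlgSp.LocP lci`
for morphisms between representable sheaves (helper56).
-/

set_option autoImplicit false
set_option linter.style.haveILetI false
universe u
open CategoryTheory AlgebraicGeometry

namespace Groth.Agent.H56.LciSch

open Groth.Agent.H56.LciComp Groth.Agent.H56.LciMor Groth.Agent.H56.LciBasic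
  Groth.Agent.H56.LciSmooth Groth.Agent.H56.RegImmComp Groth.Agent.H56.KzSwap Groth.Agent.H59.Kosz

theorem isKoszulAt_of_isLCIMor {X Y : Scheme.{u}} (f : X ⟶ Y) (h : IsLCIMor f) (x : X) :
    Synt.IsKoszulAt f x := by
  obtain ⟨W, hW, hxW, -⟩ := exists_isAffineOpen_mem_and_subset (x := f x) (U := ⊤) trivial
  obtain ⟨U, hU, hxU, hUW⟩ :=
    exists_isAffineOpen_mem_and_subset (x := x) (U := f ⁻¹ᵁ W) hxW
  exact isKoszulAt_of_isLCI f x hU hW hUW hxU (h U W hU hW hUW)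

theorem koszul_iff_isLCIMor {X Y : Scheme.{u}} (f : X ⟶ Y) :
    (∀ x, Synt.IsKoszulAt f x) ↔ IsLCIMor f :=
  ⟨isLCIMor_of_isKoszulAt f, isKoszulAt_of_isLCIMor f⟩

theorem koszul_comp {X Y Z : Scheme.{u}} (f : X ⟶ Y) (g : Y ⟶ Z)
    (hf : ∀ x, Synt.IsKoszulAt f x) (hg : ∀ y, Synt.IsKoszulAt g y) :
    ∀ x, Synt.IsKoszulAt (f ≫ g) x :=
  isKoszulAt_of_isLCIMor _ (lci_comp hloc f g (isLCIMor_of_isKoszulAt f hf)
    (isLCIMor_of_isKoszulAt g hg))

theorem koszul_of_smooth {X Y : Scheme.{u}} (f : X ⟶ Y) [Smooth f] :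
    ∀ x, Synt.IsKoszulAt f x :=
  isKoszulAt_of_isLCIMor _ (isLCIMor_of_smooth f)

/-- cancellation of a smooth morphism on the right -/
theorem isLCIMor_of_comp_smooth {X Y S : Scheme.{u}} (f : X ⟶ Y) (g : Y ⟶ S) [Smooth g]
    (hfg : IsLCIMor (f ≫ g)) : IsLCIMor f := by
  intro U V hU hV hUV
  apply isLCI_of_affine_cover f hU hUV
  intro x hxU
  obtain ⟨W, hW, hxW, -⟩ :=
    exists_isAffineOpen_mem_and_subset (x := g (f x)) (U := ⊤) trivial
  have hxV : f x ∈ V ⊓ g ⁻¹ᵁ W := ⟨hUV hxU, hxW⟩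
  obtain ⟨V', hV', hxV', hV'le⟩ := exists_isAffineOpen_mem_and_subset hxV
  have hV'V : V' ≤ V := fun y hy => (hV'le hy).1
  have hV'W : V' ≤ g ⁻¹ᵁ W := fun y hy => (hV'le hy).2
  have hxU' : x ∈ U ⊓ f ⁻¹ᵁ V' := ⟨hxU, hxV'⟩
  obtain ⟨D, hD, hxD, hDle⟩ := exists_isAffineOpen_mem_and_subset hxU'
  have hDU : D ≤ U := fun y hy => (hDle hy).1
  have hDV' : D ≤ f ⁻¹ᵁ V' := fun y hy => (hDle hy).2
  have hDV : D ≤ f ⁻¹ᵁ V := hDU.trans hUV
  have hDW : D ≤ (f ≫ g) ⁻¹ᵁ W := by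
    intro y hy
    show (f ≫ g) y ∈ W
    rw [Scheme.Hom.comp_apply]
    exact hV'W (hDV' hy)
  refine ⟨D, hD, hDV, hxD, ?_⟩
  -- LCI over V' first
  have h1 : (letI := (f.appLE V' D hDV').hom.toAlgebra; LCI.IsLCI Γ(Y, V') Γ(X, D)) := by
    letI a1 : Algebra Γ(S, W) Γ(Y, V') := (g.appLE W V' hV'W).hom.toAlgebra
    letI a2 : Algebra Γ(Y, V') Γ(X, D) := (f.appLE V' D hDV').hom.toAlgebra
    letI a3 : Algebra Γ(S, W) Γ(X, D) := ((f ≫ g).appLE W D hDW).hom.toAlgebra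
    haveI : IsScalarTower Γ(S, W) Γ(Y, V') Γ(X, D) :=
      IsScalarTower.of_algebraMap_eq' (by
        show ((f ≫ g).appLE W D hDW).hom = (f.appLE V' D hDV').hom.comp (g.appLE W V' hV'W).hom
        rw [← CommRingCat.hom_comp, Scheme.Hom.appLE_comp_appLE])
    haveI : Algebra.Smooth Γ(S, W) Γ(Y, V') := g.smooth_appLE hW hV' hV'W
    exact isLCI_of_smooth_of_isLCI Γ(S, W) Γ(Y, V') Γ(X, D) (hfg D W hD hW hDW)
  -- then compose with the open immersion V' ⊆ V (smooth)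
  letI b1 : Algebra Γ(Y, V) Γ(Y, V') := (Y.presheaf.map (homOfLE hV'V).op).hom.toAlgebra
  letI b2 : Algebra Γ(Y, V') Γ(X, D) := (f.appLE V' D hDV').hom.toAlgebra
  letI b3 : Algebra Γ(Y, V) Γ(X, D) := (f.appLE V D hDV).hom.toAlgebra
  haveI : IsScalarTower Γ(Y, V) Γ(Y, V') Γ(X, D) :=
    IsScalarTower.of_algebraMap_eq' (by
      show (f.appLE V D hDV).hom =
        (f.appLE V' D hDV').hom.comp (Y.presheaf.map (homOfLE hV'V).op).hom
      rw [← CommRingCat.hom_comp, Scheme.Hom.map_appLE])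
  have h2 : LCI.IsLCI Γ(Y, V) Γ(Y, V') := by
    have h3 := isLCIMor_of_smooth (𝟙 Y) V' V hV' hV hV'V
    have e : (𝟙 Y : Y ⟶ Y).appLE V V' hV'V = Y.presheaf.map (homOfLE hV'V).op := by
      simp only [Scheme.Hom.appLE, Scheme.Hom.id_app]
      exact Category.id_comp _
    exact isLCI_of_hom_eq _ _ e h3
  exact isLCI_comp _ _ _ h2 h1

theorem koszul_of_comp_smooth {X Y S : Scheme.{u}} (f : X ⟶ Y) (g : Y ⟶ S) [Smooth g]
    (h : ∀ x, Synt.IsKoszulAt (f ≫ g) x) : ∀ x, Synt.IsKoszulAt f x :=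
  isKoszulAt_of_isLCIMor _ (isLCIMor_of_comp_smooth f g (isLCIMor_of_isKoszulAt _ h))

/-- For a morphism between representable sheaves, `LocP lci` is just `lci`. -/
theorem locP_lci_yon_map_iff {S : Scheme.{u}} {U V : Over S} (g : U ⟶ V) :
    AlgSp.LocP AlgSp.lci ((AlgSp.yon S).map g) ↔ AlgSp.lci g.left := by
  constructor
  · intro h
    exact AlgSp.locP_yon_map h
  · intro hp U' V' a b h ha hb comm
    obtain ⟨α, rfl⟩ := (AlgSp.yon S).map_surjective a
    obtain ⟨β, rfl⟩ := (AlgSp.yon S).map_surjective b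
    haveI hα : Etale α.left := (AlgSp.repWith_yon_map_iff @Etale α).1 ha
    haveI hβ : Etale β.left := (AlgSp.repWith_yon_map_iff @Etale β).1 hb
    have hc : α ≫ g = h ≫ β := by
      apply (AlgSp.yon S).map_injective
      rw [Functor.map_comp, Functor.map_comp]; exact comm
    have hc' : α.left ≫ g.left = h.left ≫ β.left := by
      rw [← Over.comp_left, hc, Over.comp_left]
    show ∀ x, Synt.IsKoszulAt h.left x
    have h1 : ∀ x, Synt.IsKoszulAt (α.left ≫ g.left) x :=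
      koszul_comp _ _ (koszul_of_smooth α.left) hp
    rw [hc'] at h1
    exact koszul_of_comp_smooth h.left β.left h1

end Groth.Agent.H56.LciSch
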