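import Mathlib
import Groth.Agent.H56.LciSmooth
import Groth.Agent.H56.LciBasic
import Groth.Agent.H59.LCIDesc
import Groth.Agent.H59.KRegFF
import Groth.Agent.H52.SrcSmooth

/-!
The LCI property descends on the source along etale faithfully flat ring maps (helper56):
`R → A → B`, `B` etale and faithfully flat over `A`, `R → B` LCI ⇒ `R → A` LCI.
-/

set_option autoImplicit false
set_option linter.style.haveILetI false
universe u
open TensorProduct Polynomial

namespace Groth.Agent.H56.LciSrc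

open Groth.Agent.H56.LciComp Groth.Agent.H56.LciBasic Groth.Agent.H56.LciSmooth
  Groth.Agent.H59.Kosz Groth.Agent.H52

section piece

variable (R A P S : Type u) [CommRing R] [CommRing A] [CommRing P] [CommRing S]
  [Algebra R P] [Algebra R A] [Algebra P A] [IsScalarTower R P A]
  [Algebra P S] [Algebra R S] [IsScalarTower R P S]

/-- the map `S → A ⊗[P] S` as an `R`-algebra map -/
noncomputable def incl : S →ₐ[R] A ⊗[P] S :=
  { (Algebra.TensorProduct.includeRight : S →ₐ[P] A ⊗[P] S).toRingHom with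
    commutes' := fun r => by
      show (1 : A) ⊗ₜ[P] (algebraMap R S r) = algebraMap R (A ⊗[P] S) r
      rw [IsScalarTower.algebraMap_apply R P S, Algebra.algebraMap_eq_smul_one (A := S),
        ← TensorProduct.smul_tmul, ← Algebra.algebraMap_eq_smul_one,
        ← IsScalarTower.algebraMap_apply R P A]
      rfl }

lemma incl_apply (s : S) : incl R A P S s = (1 : A) ⊗ₜ[P] s := rfl

lemma incl_algebraMap (p : P) :
    incl R A P S (algebraMap P S p) = algebraMap A (A ⊗[P] S) (algebraMap P A p) := by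
  rw [incl_apply, Algebra.algebraMap_eq_smul_one (A := S), ← TensorProduct.smul_tmul,
    ← Algebra.algebraMap_eq_smul_one]
  rfl

lemma incl_surjective (hA : Function.Surjective (algebraMap P A)) :
    Function.Surjective (incl R A P S) := by
  intro t
  induction t with
  | zero => exact ⟨0, map_zero _⟩
  | add x y hx hy =>
    obtain ⟨a, rfl⟩ := hx
    obtain ⟨b, rfl⟩ := hy
    exact ⟨a + b, map_add _ _ _⟩
  | tmul a s =>
    obtain ⟨p, rfl⟩ := hA a
    refine ⟨p • s, ?_⟩
    rw [incl_apply, Algebra.algebraMap_eq_smul_one (A := A), TensorProduct.smul_tmul]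

lemma ker_incl (hA : Function.Surjective (algebraMap P A)) :
    RingHom.ker (incl R A P S).toRingHom =
      (RingHom.ker (algebraMap P A)).map (algebraMap P S) := by
  apply le_antisymm
  · intro z hz
    have hz0 : (1 : A) ⊗ₜ[P] z = 0 := hz
    let ι : RingHom.ker (algebraMap P A) →ₗ[P] P :=
      Submodule.subtype (RingHom.ker (algebraMap P A))
    have hex : Function.Exact (ι.lTensor S) ((Algebra.linearMap P A).lTensor S) := by
      refine lTensor_exact S ?_ hA
      intro x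
      constructor
      · intro hx
        exact ⟨⟨x, hx⟩, rfl⟩
      · rintro ⟨y, rfl⟩
        exact y.2
    have hz' : ((Algebra.linearMap P A).lTensor S) (z ⊗ₜ[P] (1 : P)) = 0 := by
      have := congr(TensorProduct.comm P A S $hz0)
      simpa using this
    obtain ⟨w, hw⟩ := (hex _).1 hz'
    have key : ∀ w : S ⊗[P] (RingHom.ker (algebraMap P A)),
        TensorProduct.rid P S (ι.lTensor S w) ∈
          (RingHom.ker (algebraMap P A)).map (algebraMap P S) := by
      intro w
      induction w with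
      | zero => simp
      | add x y hx hy =>
        rw [map_add, map_add]
        exact Ideal.add_mem _ hx hy
      | tmul s i =>
        have h1 : TensorProduct.rid P S (ι.lTensor S (s ⊗ₜ i)) = algebraMap P S i.1 * s := by
          simp [ι, Algebra.smul_def]
        rw [h1]
        exact Ideal.mul_mem_right _ _ (Ideal.mem_map_of_mem _ i.2)
    have h2 := key w
    rw [hw] at h2
    simpa using h2
  · rw [Ideal.map_le_iff_le_comap]
    intro i hi
    rw [Ideal.mem_comap, RingHom.mem_ker]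
    show incl R A P S (algebraMap P S i) = 0
    rw [incl_algebraMap, (RingHom.mem_ker).1 hi, map_zero]

/-- If `S` is smooth over the smooth `R`-algebra `P`, `P ↠ A` and `R → A ⊗[P] S` is LCI, then the
extension to `S` of the kernel of `P ↠ A` is a Koszul-regular ideal. -/
theorem kregIdeal_map_of_tensor [Algebra.Smooth R P] [Algebra.Smooth P S]
    (hA : Function.Surjective (algebraMap P A)) (h : LCI.IsLCI R (A ⊗[P] S)) :
    LCI.IsKoszulRegularIdeal ((RingHom.ker (algebraMap P A)).map (algebraMap P S)) := by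
  haveI : Algebra.Smooth R S := Algebra.Smooth.comp R P S
  letI : Algebra S (A ⊗[P] S) := (incl R A P S).toRingHom.toAlgebra
  haveI : IsScalarTower R S (A ⊗[P] S) :=
    IsScalarTower.of_algebraMap_eq (fun r => ((incl R A P S).commutes r).symm)
  have h1 := kreg_ker_of_smooth R S (A ⊗[P] S) (incl_surjective R A P S hA) h
  rw [← ker_incl R A P S hA]
  exact h1

end piece


section main

lemma isKoszulRegularIdeal_top {S : Type u} [CommRing S] :
    LCI.IsKoszulRegularIdeal (⊤ : Ideal S) :=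
  fun 𝔭 h => absurd (top_le_iff.1 h) 𝔭.isPrime.ne_top

lemma exists_list_of_forall_mem {α β : Type*} (t : Finset α) (p : α → β → Prop)
    (H : ∀ a ∈ t, ∃ b, p a b) :
    ∃ L : List β, (∀ b ∈ L, ∃ a ∈ t, p a b) ∧ ∀ a ∈ t, ∃ b ∈ L, p a b := by
  classical
  refine ⟨t.attach.toList.map (fun a => Classical.choose (H a.1 a.2)), ?_, ?_⟩
  · intro b hb
    obtain ⟨a, -, rfl⟩ := List.mem_map.1 hb
    exact ⟨a.1, a.2, Classical.choose_spec (H a.1 a.2)⟩
  · intro a ha
    refine ⟨Classical.choose (H a ha), List.mem_map.2 ⟨⟨a, ha⟩, ?_, rfl⟩,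
      Classical.choose_spec (H a ha)⟩
    rw [Finset.mem_toList]
    exact Finset.mem_attach _ _

/-- the standard etale pair `(X, G)`, whose algebra is the localisation at `G` -/
noncomputable def pairOf {P : Type u} [CommRing P] (G : P) : StandardEtalePair P :=
  ⟨X, monic_X, C G, ⟨1, 0, 0, by simp⟩⟩

lemma pairOf_good {P : Type u} [CommRing P] (I : Ideal P) (G : P) (hG : G ∈ I) :
    LCI.IsKoszulRegularIdeal (I.map (algebraMap P (pairOf G).Ring)) := by
  have hu : IsUnit (algebraMap P (pairOf G).Ring G) := by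
    have h1 := ((pairOf G).hasMap_X).2
    have h2 : aeval (pairOf G).X (pairOf G).g = algebraMap P (pairOf G).Ring G := by
      show aeval (pairOf G).X (C G) = _
      rw [aeval_C]
    rwa [h2] at h1
  have h3 : I.map (algebraMap P (pairOf G).Ring) = ⊤ :=
    Ideal.eq_top_of_isUnit_mem _ (Ideal.mem_map_of_mem _ hG) hu
  rw [h3]
  exact isKoszulRegularIdeal_top

lemma pairOf_range {P : Type u} [CommRing P] (G : P) (𝔭 : PrimeSpectrum P)
    (hG : G ∉ 𝔭.asIdeal) :
    𝔭 ∈ Set.range (PrimeSpectrum.comap (algebraMap P (pairOf G).Ring)) := by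
  have hmap : (pairOf G).HasMap (0 : Localization.AtPrime 𝔭.asIdeal) := by
    constructor
    · show aeval (0 : Localization.AtPrime 𝔭.asIdeal) (X : P[X]) = 0
      rw [aeval_X]
    · show IsUnit (aeval (0 : Localization.AtPrime 𝔭.asIdeal) (C G : P[X]))
      rw [aeval_C]
      exact IsLocalization.map_units (Localization.AtPrime 𝔭.asIdeal)
        (⟨G, hG⟩ : 𝔭.asIdeal.primeCompl)
  let ψ : (pairOf G).Ring →ₐ[P] Localization.AtPrime 𝔭.asIdeal := (pairOf G).lift 0 hmap
  refine ⟨PrimeSpectrum.comap ψ.toRingHom (IsLocalRing.closedPoint _), ?_⟩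
  apply PrimeSpectrum.ext
  ext p
  show ψ (algebraMap P _ p) ∈ IsLocalRing.maximalIdeal _ ↔ p ∈ 𝔭.asIdeal
  rw [ψ.commutes]
  exact SetLike.ext_iff.1 (Localization.AtPrime.under_maximalIdeal (I := 𝔭.asIdeal)) p

variable (R A B P : Type u) [CommRing R] [CommRing A] [CommRing B] [CommRing P]
  [Algebra R A] [Algebra A B] [Algebra R B] [IsScalarTower R A B]
  [Algebra R P] [Algebra P A] [IsScalarTower R P A] [Algebra.Smooth R P]

set_option backward.isDefEq.respectTransparency false in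
theorem exists_pair_of_isStandardEtale (hA : Function.Surjective (algebraMap P A))
    (h : LCI.IsLCI R B) (g : B) [hstd : Algebra.IsStandardEtale A (Localization.Away g)] :
    ∃ 𝔔 : StandardEtalePair P,
      LCI.IsKoszulRegularIdeal ((RingHom.ker (algebraMap P A)).map (algebraMap P 𝔔.Ring)) ∧
      ∀ 𝔮 : PrimeSpectrum B, g ∉ 𝔮.asIdeal →
        PrimeSpectrum.comap (algebraMap P A) (PrimeSpectrum.comap (algebraMap A B) 𝔮) ∈
          Set.range (PrimeSpectrum.comap (algebraMap P 𝔔.Ring)) := by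
  obtain ⟨𝔓⟩ := hstd.nonempty_standardEtalePresentation
  obtain ⟨𝔔, k, hf, hg⟩ := exists_standardEtalePair_lift (algebraMap P A) hA 𝔓.P
  let taut : StandardEtalePresentation P 𝔔.Ring :=
    ⟨𝔔, 𝔔.X, 𝔔.hasMap_X, by
      simpa [StandardEtalePair.lift_X_left] using Function.bijective_id⟩
  let e₁ : A ⊗[P] 𝔔.Ring ≃ₐ[A] (𝔔.map (algebraMap P A)).Ring :=
    (taut.baseChange (T := A)).equivRing
  let e₂ : (𝔔.map (algebraMap P A)).Ring ≃ₐ[A] 𝔓.P.Ring :=
    ringEquivOfPow 𝔓.P (𝔔.map _) k hf hg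
  let e : A ⊗[P] 𝔔.Ring ≃ₐ[A] Localization.Away g := (e₁.trans e₂).trans 𝔓.equivRing.symm
  letI : Algebra R 𝔔.Ring := ((algebraMap P 𝔔.Ring).comp (algebraMap R P)).toAlgebra
  haveI : IsScalarTower R P 𝔔.Ring := .of_algebraMap_eq' rfl
  have hLg : LCI.IsLCI R (Localization.Away g) :=
    isLCI_localization R B (Localization.Away g) g h
  have hLT : LCI.IsLCI R (A ⊗[P] 𝔔.Ring) :=
    isLCI_of_algEquiv R (Localization.Away g) (A ⊗[P] 𝔔.Ring) (e.symm.restrictScalars R) hLg
  haveI : Algebra.Smooth P 𝔔.Ring := {}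
  refine ⟨𝔔, kregIdeal_map_of_tensor R A P 𝔔.Ring hA hLT, ?_⟩
  intro 𝔮 hg𝔮
  have hdisj : Disjoint (Submonoid.powers g : Set B) (𝔮.asIdeal : Set B) := by
    rw [Set.disjoint_left]
    rintro _ ⟨k, rfl⟩ hk
    exact hg𝔮 (𝔮.isPrime.mem_of_pow_mem k hk)
  let 𝔮g : PrimeSpectrum (Localization.Away g) :=
    ⟨𝔮.asIdeal.map (algebraMap B (Localization.Away g)),
      IsLocalization.isPrime_of_isPrime_disjoint (Submonoid.powers g) _ _ 𝔮.isPrime hdisj⟩
  let ψ : 𝔔.Ring →+* Localization.Away g :=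
    (e : A ⊗[P] 𝔔.Ring →+* Localization.Away g).comp (incl R A P 𝔔.Ring).toRingHom
  refine ⟨PrimeSpectrum.comap ψ 𝔮g, ?_⟩
  apply PrimeSpectrum.ext
  ext p
  show ψ (algebraMap P 𝔔.Ring p) ∈ 𝔮g.asIdeal ↔
    algebraMap A B (algebraMap P A p) ∈ 𝔮.asIdeal
  have h1 : ψ (algebraMap P 𝔔.Ring p) =
      algebraMap B (Localization.Away g) (algebraMap A B (algebraMap P A p)) := by
    show e (incl R A P 𝔔.Ring (algebraMap P 𝔔.Ring p)) = _
    rw [incl_algebraMap, e.commutes, IsScalarTower.algebraMap_apply A B (Localization.Away g)]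
  rw [h1]
  have h2 := IsLocalization.under_map_of_isPrime_disjoint (Submonoid.powers g)
    (Localization.Away g) 𝔮.isPrime hdisj
  exact SetLike.ext_iff.1 h2 _

theorem kregIdeal_ker_of_comp_etale [Algebra.Etale A B] [Module.FaithfullyFlat A B]
    (hA : Function.Surjective (algebraMap P A)) (hIfg : (RingHom.ker (algebraMap P A)).FG)
    (h : LCI.IsLCI R B) : LCI.IsKoszulRegularIdeal (RingHom.ker (algebraMap P A)) := by
  classical
  -- Part 1: covering `V(I)`
  have hT : Ideal.span {g : B | Algebra.IsStandardEtale A (Localization.Away g)} = ⊤ := by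
    by_contra hne
    obtain ⟨𝔪, h𝔪, hle⟩ := Ideal.exists_le_maximal _ hne
    haveI : 𝔪.IsPrime := h𝔪.isPrime
    haveI : Algebra.IsEtaleAt A 𝔪 := inferInstance
    obtain ⟨g, hg𝔪, hstd⟩ := Algebra.IsEtaleAt.exists_isStandardEtale (R := A) 𝔪
    exact hg𝔪 (hle (Ideal.subset_span hstd))
  obtain ⟨t, htT, htop⟩ := (Ideal.span_eq_top_iff_finite _).1 hT
  let p1 : B → StandardEtalePair P → Prop := fun g 𝔔 =>
    LCI.IsKoszulRegularIdeal ((RingHom.ker (algebraMap P A)).map (algebraMap P 𝔔.Ring)) ∧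
      ∀ 𝔮 : PrimeSpectrum B, g ∉ 𝔮.asIdeal →
        PrimeSpectrum.comap (algebraMap P A) (PrimeSpectrum.comap (algebraMap A B) 𝔮) ∈
          Set.range (PrimeSpectrum.comap (algebraMap P 𝔔.Ring))
  have H1 : ∀ g ∈ t, ∃ 𝔔 : StandardEtalePair P, p1 g 𝔔 := by
    intro g hg
    haveI hstd : Algebra.IsStandardEtale A (Localization.Away g) := htT hg
    exact exists_pair_of_isStandardEtale R A B P hA h g
  obtain ⟨L₁, hL₁a, hL₁b⟩ := exists_list_of_forall_mem t p1 H1
  -- Part 2: covering `D(I)`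
  obtain ⟨F, hF⟩ := hIfg
  let p2 : P → StandardEtalePair P → Prop := fun G 𝔔 =>
    LCI.IsKoszulRegularIdeal ((RingHom.ker (algebraMap P A)).map (algebraMap P 𝔔.Ring)) ∧
      ∀ 𝔭 : PrimeSpectrum P, G ∉ 𝔭.asIdeal →
        𝔭 ∈ Set.range (PrimeSpectrum.comap (algebraMap P 𝔔.Ring))
  have H2 : ∀ G ∈ F, ∃ 𝔔 : StandardEtalePair P, p2 G 𝔔 := by
    intro G hG
    have hGI : G ∈ RingHom.ker (algebraMap P A) := by
      rw [← hF]; exact Ideal.subset_span hG
    exact ⟨pairOf G, pairOf_good _ G hGI, fun 𝔭 h𝔭 => pairOf_range G 𝔭 h𝔭⟩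
  obtain ⟨L₂, hL₂a, hL₂b⟩ := exists_list_of_forall_mem F p2 H2
  -- the family
  have hgood : ∀ j : Fin (L₁ ++ L₂).length, LCI.IsKoszulRegularIdeal
      ((RingHom.ker (algebraMap P A)).map (algebraMap P ((L₁ ++ L₂).get j).Ring)) := by
    intro j
    have hmem : (L₁ ++ L₂).get j ∈ L₁ ++ L₂ := List.get_mem _ j
    rcases List.mem_append.1 hmem with h1 | h2
    · obtain ⟨g, -, hg1, -⟩ := hL₁a _ h1
      exact hg1
    · obtain ⟨G, -, hG1, -⟩ := hL₂a _ h2
      exact hG1
  have hsurj : ∀ 𝔭 : PrimeSpectrum P, ∃ j : Fin (L₁ ++ L₂).length,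
      𝔭 ∈ Set.range (PrimeSpectrum.comap (algebraMap P ((L₁ ++ L₂).get j).Ring)) := by
    intro 𝔭
    suffices hs : ∃ 𝔔 ∈ L₁ ++ L₂,
        𝔭 ∈ Set.range (PrimeSpectrum.comap (algebraMap P 𝔔.Ring)) by
      obtain ⟨𝔔, h𝔔, hr⟩ := hs
      obtain ⟨j, rfl⟩ := List.mem_iff_get.1 h𝔔
      exact ⟨j, hr⟩
    by_cases h𝔭 : RingHom.ker (algebraMap P A) ≤ 𝔭.asIdeal
    · haveI : (𝔭.asIdeal.map (algebraMap P A)).IsPrime :=
        Ideal.map_isPrime_of_surjective hA h𝔭
      obtain ⟨𝔮, h𝔮p, h𝔮o⟩ := Ideal.exists_isPrime_liesOver_of_faithfullyFlat (B := B)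
        (𝔭.asIdeal.map (algebraMap P A))
      have hex : ∃ g ∈ t, g ∉ 𝔮 := by
        by_contra hcon
        push Not at hcon
        have h4 : Ideal.span (t : Set B) ≤ 𝔮 := Ideal.span_le.2 (fun g hg => hcon g hg)
        rw [htop] at h4
        exact h𝔮p.ne_top (top_le_iff.1 h4)
      obtain ⟨g, hgt, hg𝔮⟩ := hex
      obtain ⟨𝔔, h𝔔L, -, hr⟩ := hL₁b g hgt
      refine ⟨𝔔, List.mem_append_left _ h𝔔L, ?_⟩
      have h𝔭eq : 𝔭 = PrimeSpectrum.comap (algebraMap P A)
          (PrimeSpectrum.comap (algebraMap A B) ⟨𝔮, h𝔮p⟩) := by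
        apply PrimeSpectrum.ext
        show 𝔭.asIdeal = (𝔮.comap (algebraMap A B)).comap (algebraMap P A)
        have h3 : Ideal.comap (algebraMap A B) 𝔮 = 𝔭.asIdeal.map (algebraMap P A) :=
          h𝔮o.over.symm
        rw [h3, Ideal.comap_map_of_surjective _ hA]
        exact (sup_eq_left.2 (by rw [← RingHom.ker_eq_comap_bot]; exact h𝔭)).symm
      rw [h𝔭eq]
      exact hr ⟨𝔮, h𝔮p⟩ hg𝔮
    · obtain ⟨G, hGF, hG𝔭⟩ : ∃ G ∈ F, G ∉ 𝔭.asIdeal := by
        by_contra hcon
        push Not at hcon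
        apply h𝔭
        rw [← hF]
        exact Ideal.span_le.2 (fun G hG => hcon G hG)
      obtain ⟨𝔔, h𝔔L, -, hr⟩ := hL₂b G hGF
      exact ⟨𝔔, List.mem_append_right _ h𝔔L, hr 𝔭 hG𝔭⟩
  haveI : ∀ j : Fin (L₁ ++ L₂).length, Module.Flat P ((L₁ ++ L₂).get j).Ring :=
    fun j => inferInstance
  haveI := faithfullyFlat_pi (fun j : Fin (L₁ ++ L₂).length => ((L₁ ++ L₂).get j).Ring) hsurj
  exact kregIdeal_of_faithfullyFlat _
    (kregIdeal_map_pi (fun j : Fin (L₁ ++ L₂).length => ((L₁ ++ L₂).get j).Ring) _ hgood)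

end main

/-- **The LCI property descends on the source along etale faithfully flat maps.** -/
theorem isLCI_of_comp_etale (R A B : Type u) [CommRing R] [CommRing A] [CommRing B]
    [Algebra R A] [Algebra A B] [Algebra R B] [IsScalarTower R A B] [Algebra.Etale A B]
    [Module.FaithfullyFlat A B] (h : LCI.IsLCI R B) : LCI.IsLCI R A := by
  have hB := h
  obtain ⟨hftB, nB, φB, hφB, hkB⟩ := h
  haveI hfpB : Algebra.FinitePresentation R B :=
    Algebra.FinitePresentation.of_surjective hφB (fg_of_kregIdeal hkB)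
  haveI hfpA : Algebra.FinitePresentation R A := finitePresentation_of_comp_etale R A B
  have hftA : Algebra.FiniteType R A := inferInstance
  obtain ⟨n, φ, hφ⟩ := Algebra.FiniteType.iff_quotient_mvPolynomial''.1 hftA
  refine ⟨hftA, n, φ, hφ, ?_⟩
  letI : Algebra (MvPolynomial (Fin n) R) A := φ.toRingHom.toAlgebra
  haveI : IsScalarTower R (MvPolynomial (Fin n) R) A :=
    IsScalarTower.of_algebraMap_eq (fun r => (φ.commutes r).symm)
  haveI : Algebra.Smooth R (MvPolynomial (Fin n) R) := {}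
  have hA : Function.Surjective (algebraMap (MvPolynomial (Fin n) R) A) := hφ
  exact kregIdeal_ker_of_comp_etale R A B (MvPolynomial (Fin n) R) hA
    (Algebra.FinitePresentation.ker_fG_of_surjective φ hφ) hB

end Groth.Agent.H56.LciSrc
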