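import Mathlib
import Groth.Prelude.Def_RegImm
import Groth.Prelude.Def_AlgSpMor6
import Groth.Agent.H56.LciSch3
import Groth.Agent.H56.LciSrc
import Groth.Agent.H52.EtLocalInst

/-!
"Koszul at every point" is etale local on the source (helper56).
-/

set_option autoImplicit false
set_option linter.style.haveILetI false
universe u
open CategoryTheory AlgebraicGeometry

namespace Groth.Agent.H56.LciSch

open Groth.Agent.H56.LciComp Groth.Agent.H56.LciMor Groth.Agent.H56.LciBasic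
  Groth.Agent.H56.LciSmooth Groth.Agent.H56.RegImmComp Groth.Agent.H56.LciSrc Groth.Agent.H52

/-- `AlgSp.lci` (Koszul at every point) is etale local on the source. -/
theorem srcLocal_lci : SrcLocal (AlgSp.lci : MorphismProperty Scheme.{u}) := by
  intro ι X Y Z e h he hs H
  show ∀ y, Synt.IsKoszulAt h y
  apply isKoszulAt_of_isLCIMor
  intro U V hU hV hUV
  apply isLCI_of_affine_cover h hU hUV
  intro y hyU
  obtain ⟨i, x, rfl⟩ := hs y
  haveI := he i
  have hH : IsLCIMor (e i ≫ h) := isLCIMor_of_isKoszulAt _ (H i)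
  obtain ⟨U', hU', hxU', hU'U⟩ :=
    exists_isAffineOpen_mem_and_subset (x := x) (U := (e i) ⁻¹ᵁ U) hyU
  have hU'U' : U' ≤ (e i) ⁻¹ᵁ U := hU'U
  have hopen : IsOpen ((e i) '' (U' : Set (X i))) := (e i).isOpenMap _ U'.2
  let W : Y.Opens := ⟨(e i) '' (U' : Set (X i)), hopen⟩
  have hyW : e i x ∈ W := ⟨x, hxU', rfl⟩
  obtain ⟨s, hsW, hys⟩ := hU.exists_basicOpen_le (V := W) ⟨e i x, hyW⟩ hyU
  have hD : IsAffineOpen (Y.basicOpen s) := hU.basicOpen s
  have hDU : Y.basicOpen s ≤ U := Y.basicOpen_le s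
  have hDV : Y.basicOpen s ≤ h ⁻¹ᵁ V := hDU.trans hUV
  refine ⟨Y.basicOpen s, hD, hDV, hys, ?_⟩
  let s' : Γ(X i, U') := ((e i).appLE U U' hU'U').hom s
  have hU'' : IsAffineOpen ((X i).basicOpen s') := hU'.basicOpen s'
  have hU''eq : (X i).basicOpen s' = U' ⊓ (e i) ⁻¹ᵁ Y.basicOpen s := by
    have h1 : s' = ((X i).presheaf.map (homOfLE hU'U').op).hom (((e i).app U).hom s) := rfl
    rw [h1, Scheme.basicOpen_res, Scheme.preimage_basicOpen]
  have hU''D : (X i).basicOpen s' ≤ (e i) ⁻¹ᵁ Y.basicOpen s := by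
    rw [hU''eq]; exact inf_le_right
  have hU''V : (X i).basicOpen s' ≤ (e i ≫ h) ⁻¹ᵁ V := by
    intro z hz
    show (e i ≫ h) z ∈ V
    rw [Scheme.Hom.comp_apply]
    exact hDV (hU''D hz)
  have hLB := hH ((X i).basicOpen s') V hU'' hV hU''V
  letI a1 : Algebra Γ(Z, V) Γ(Y, Y.basicOpen s) :=
    (h.appLE V (Y.basicOpen s) hDV).hom.toAlgebra
  letI a2 : Algebra Γ(Y, Y.basicOpen s) Γ(X i, (X i).basicOpen s') :=
    ((e i).appLE (Y.basicOpen s) ((X i).basicOpen s') hU''D).hom.toAlgebra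
  letI a3 : Algebra Γ(Z, V) Γ(X i, (X i).basicOpen s') :=
    ((e i ≫ h).appLE V ((X i).basicOpen s') hU''V).hom.toAlgebra
  haveI : IsScalarTower Γ(Z, V) Γ(Y, Y.basicOpen s) Γ(X i, (X i).basicOpen s') :=
    IsScalarTower.of_algebraMap_eq' (by
      show ((e i ≫ h).appLE V _ hU''V).hom =
        ((e i).appLE _ _ hU''D).hom.comp (h.appLE V _ hDV).hom
      rw [← CommRingCat.hom_comp, Scheme.Hom.appLE_comp_appLE])
  haveI : Algebra.Etale Γ(Y, Y.basicOpen s) Γ(X i, (X i).basicOpen s') :=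
    (e i).etale_appLE hD hU'' hU''D
  haveI : Module.Flat Γ(Y, Y.basicOpen s) Γ(X i, (X i).basicOpen s') := inferInstance
  haveI : Module.FaithfullyFlat Γ(Y, Y.basicOpen s) Γ(X i, (X i).basicOpen s') := by
    apply Module.FaithfullyFlat.of_comap_surjective
    intro 𝔭
    have hd : hD.fromSpec 𝔭 ∈ Y.basicOpen s := by
      have h2 := hD.range_fromSpec
      rw [← SetLike.mem_coe, ← h2]
      exact Set.mem_range_self 𝔭
    obtain ⟨x', hx'U', hx'⟩ := hsW hd
    have hx'U'' : x' ∈ (X i).basicOpen s' := by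
      rw [hU''eq]
      refine ⟨hx'U', ?_⟩
      show e i x' ∈ Y.basicOpen s
      rw [hx']
      exact hd
    obtain ⟨𝔮, h𝔮⟩ : x' ∈ Set.range hU''.fromSpec := by
      rw [hU''.range_fromSpec]
      exact hx'U''
    refine ⟨𝔮, ?_⟩
    apply hD.fromSpec.isOpenEmbedding.injective
    have hnat := IsAffineOpen.SpecMap_appLE_fromSpec (e i) hD hU'' hU''D
    have h5 : hD.fromSpec ((Spec.map ((e i).appLE _ _ hU''D)) 𝔮) = e i (hU''.fromSpec 𝔮) := by
      rw [← Scheme.Hom.comp_apply, ← Scheme.Hom.comp_apply, hnat]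
    exact h5.trans (by rw [h𝔮, hx'])
  exact isLCI_of_comp_etale Γ(Z, V) Γ(Y, Y.basicOpen s) Γ(X i, (X i).basicOpen s') hLB

end Groth.Agent.H56.LciSch
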