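import Mathlib
import Groth.Prelude.Def_AlgSpMor6
import Groth.Agent.H56.LciSrcSch
import Groth.Agent.H52.LocPChart

/-!
Cancellation for `AlgSp.LocP` and applications to local complete intersection morphisms of
algebraic spaces (helper56).
-/

set_option autoImplicit false
set_option linter.style.haveILetI false
universe u
open CategoryTheory CategoryTheory.Limits AlgebraicGeometry MorphismProperty
open AlgSp

namespace Groth.Agent.H56.LciAlgSp

open Groth.Agent.H52 Groth.Agent.H56.LciSch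

variable {S : Scheme.{u}}

/-- Cancellation: if `q` has `Q` and `f ≫ q` has `P` (etale locally), then `f` has `P`, provided
`P` cancels `Q` on the right for schemes, is stable under post-composition with etale maps and
is etale local on the source, and the target of `q` has an etale atlas. -/
theorem locP_of_comp_cancel {P Q : MorphismProperty Scheme.{u}}
    (hpostQ : ∀ ⦃A B C : Scheme.{u}⦄ (k : A ⟶ B) (l : B ⟶ C), Q l → P (k ≫ l) → P k)
    (hpostE : ∀ ⦃A B C : Scheme.{u}⦄ (k : A ⟶ B) (l : B ⟶ C), Etale l → P k → P (k ≫ l))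
    (hsrc : SrcLocal P)
    {X Y Z : Sp S} (f : X ⟶ Y) (q : Y ⟶ Z)
    {W : Over S} (c : (yon S).obj W ⟶ Z) (hc : RepWith @Etale c) (hcs : RepWith @Surjective c)
    (hq : LocP Q q) (hp : LocP P (f ≫ q)) : LocP P f := by
  intro U V a b h ha hb comm
  have := AlgSp.repWith_isMultiplicative (S := S) @Etale
  have sqV := hc.rep.isPullback' (b ≫ q)
  have hv₂e : Etale (hc.rep.snd (b ≫ q)).left := hc.property_snd (b ≫ q)
  have sqU := hc.rep.isPullback' (a ≫ f ≫ q)
  have hu₂e : Etale (hc.rep.snd (a ≫ f ≫ q)).left := hc.property_snd (a ≫ f ≫ q)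
  have hu₂s : Surjective (hc.rep.snd (a ≫ f ≫ q)).left := hcs.property_snd (a ≫ f ≫ q)
  have hcomp : (yon S).map (hc.rep.fst' (a ≫ f ≫ q)) ≫ c =
      (yon S).map (hc.rep.snd (a ≫ f ≫ q) ≫ h) ≫ (b ≫ q) := by
    rw [sqU.w, Functor.map_comp, Category.assoc, ← Category.assoc ((yon S).map h) b q, ← comm,
      Category.assoc]
  obtain ⟨k, hk⟩ := (yon S).map_surjective (sqV.lift _ _ hcomp)
  have hk₁ : k ≫ hc.rep.fst' (b ≫ q) = hc.rep.fst' (a ≫ f ≫ q) := by
    apply (yon S).map_injective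
    rw [Functor.map_comp, hk, sqV.lift_fst]
  have hk₂ : k ≫ hc.rep.snd (b ≫ q) = hc.rep.snd (a ≫ f ≫ q) ≫ h := by
    apply (yon S).map_injective
    rw [Functor.map_comp, hk, sqV.lift_snd]
  have hQ : Q (hc.rep.fst' (b ≫ q)).left := by
    refine hq ((yon S).map (hc.rep.snd (b ≫ q)) ≫ b) c (hc.rep.fst' (b ≫ q)) ?_ hc ?_
    · exact (RepWith @Etale).comp_mem _ _ ((AlgSp.repWith_yon_map_iff @Etale _).2 hv₂e) hb
    · rw [Category.assoc]
      exact sqV.w.symm
  have hP : P (hc.rep.fst' (a ≫ f ≫ q)).left := by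
    refine hp ((yon S).map (hc.rep.snd (a ≫ f ≫ q)) ≫ a) c (hc.rep.fst' (a ≫ f ≫ q)) ?_ hc ?_
    · exact (RepWith @Etale).comp_mem _ _ ((AlgSp.repWith_yon_map_iff @Etale _).2 hu₂e) ha
    · rw [Category.assoc]
      exact sqU.w.symm
  have h1 : P (k.left ≫ (hc.rep.fst' (b ≫ q)).left) := by
    rw [← Over.comp_left, hk₁]
    exact hP
  have h2 : P k.left := hpostQ _ _ hQ h1
  have h3 : P (k.left ≫ (hc.rep.snd (b ≫ q)).left) := hpostE _ _ hv₂e h2
  have h4 : P ((hc.rep.snd (a ≫ f ≫ q)).left ≫ h.left) := by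
    rw [← Over.comp_left, ← hk₂, Over.comp_left]
    exact h3
  exact SrcLocal.of_single (P := P) hsrc _ _ hu₂e hu₂s h4

/-- the cancellation theorem for `lci` through smooth morphisms -/
theorem locP_lci_of_comp_smooth {X Y Z : Sp S} (f : X ⟶ Y) (q : Y ⟶ Z)
    {W : Over S} (c : (yon S).obj W ⟶ Z) (hc : RepWith @Etale c) (hcs : RepWith @Surjective c)
    (hq : LocP @Smooth q) (hp : LocP AlgSp.lci (f ≫ q)) : LocP AlgSp.lci f := by
  refine locP_of_comp_cancel (P := AlgSp.lci) (Q := @Smooth) ?_ ?_ srcLocal_lci f q c hc hcs hq hp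
  · intro A B C k l hl h
    haveI : Smooth l := hl
    exact koszul_of_comp_smooth k l h
  · intro A B C k l hl h
    haveI : Etale l := hl
    exact koszul_comp k l h (koszul_of_smooth l)

end Groth.Agent.H56.LciAlgSp
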