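import Groth.Agent.H56.RelPC
import Mathlib.RingTheory.AdjoinRoot
import Mathlib.RingTheory.IntegralClosure.Algebra.Basic
import Mathlib.RingTheory.FiniteType

/-!
Pseudo-coherence along integral extensions generated by finitely many elements (helper56):
for a monic `F ∈ S[T]` the quotient `S[T]/(F)` is pseudo-coherent over both `S[T]` and `S`.
-/

set_option autoImplicit false
universe u
open CategoryTheory CategoryTheory.Limits Pretriangulated

namespace Groth.Agent.H56

open DerivedCategory DerivedCategory.TStructure DRing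

attribute [local instance] HasDerivedCategory.standard

lemma pcHom_adjoinRoot_mk {S : Type u} [CommRing S] (F : Polynomial S) (hF : F.Monic) :
    PcHom (AdjoinRoot.mk F) := by
  intro m
  letI : Module (Polynomial S) (AdjoinRoot F) := Module.compHom (AdjoinRoot F) (AdjoinRoot.mk F)
  let f : Polynomial S →ₗ[Polynomial S] Polynomial S :=
    LinearMap.mulLeft (Polynomial S) F
  let g : Polynomial S →ₗ[Polynomial S] AdjoinRoot F :=
    { toFun := fun p => AdjoinRoot.mk F p
      map_add' := fun p q => map_add (AdjoinRoot.mk F) p q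
      map_smul' := fun p q => map_mul (AdjoinRoot.mk F) p q }
  have hfg : ∀ q, g (f q) = 0 := by
    intro q
    show AdjoinRoot.mk F (F * q) = 0
    rw [AdjoinRoot.mk_eq_zero]
    exact dvd_mul_right F q
  have hS : (ShortComplex.mk (ModuleCat.ofHom f) (ModuleCat.ofHom g)
      (ModuleCat.hom_ext (LinearMap.ext fun q => hfg q))).ShortExact := by
    refine { exact := ?_, mono_f := ?_, epi_g := ?_ }
    · rw [ShortComplex.moduleCat_exact_iff]
      intro p hp
      have hp' : AdjoinRoot.mk F p = 0 := hp
      obtain ⟨q, hq⟩ := AdjoinRoot.mk_eq_zero.1 hp'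
      exact ⟨q, hq.symm⟩
    · exact (ModuleCat.mono_iff_injective _).2
        (fun q₁ q₂ h => hF.isRegular.left h)
    · exact (ModuleCat.epi_iff_surjective _).2 AdjoinRoot.mk_surjective
  have h₁ := isPseudoCoherent_single_free 0
    (ModuleCat.of (Polynomial S) (Polynomial S)) inferInstance inferInstance
  exact isPseudoCoherent_obj₃ hS.singleTriangle hS.singleTriangle_distinguished m
    (h₁ (m + 1)) (h₁ m)

lemma isPseudoCoherentModule'_of_finite_free {A : Type u} [CommRing A] (M : Type u)
    [AddCommGroup M] [Module A M] [Module.Finite A M] [Module.Free A M] :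
    IsPseudoCoherentModule' A M := by
  apply isPseudoCoherent'_of_forall_isPseudoCoherent
  intro m
  exact isPseudoCoherent_single_free 0 (ModuleCat.of A M) inferInstance inferInstance m

lemma pcHom_adjoinRoot_of {S : Type u} [CommRing S] (F : Polynomial S) (hF : F.Monic) :
    PcHom (AdjoinRoot.of F) := by
  haveI := hF.free_adjoinRoot
  haveI := hF.finite_adjoinRoot
  have h : IsPseudoCoherentModule' S (AdjoinRoot F) := isPseudoCoherentModule'_of_finite_free _
  have h' := pcHom_algebraMap_iff.2 h
  rwa [AdjoinRoot.algebraMap_eq] at h'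

section

variable {P B : Type u} [CommRing P] [CommRing B]

lemma pc_congr_ringHom {φ₁ φ₂ : P →+* B} (h : φ₁ = φ₂) (K : Dual.D B) (m : ℤ) :
    IsPseudoCoherent P m ((restrictD φ₁).obj K) ↔ IsPseudoCoherent P m ((restrictD φ₂).obj K) := by
  subst h
  exact Iff.rfl

/-- one integral generator. -/
lemma pc_iff_of_integralElem (γ : P →+* B) (b : B)
    (hb : γ.IsIntegralElem b) (K : Dual.D B) (m : ℤ) :
    IsPseudoCoherent (Polynomial P) m ((restrictD (Polynomial.eval₂RingHom γ b)).obj K) ↔
      IsPseudoCoherent P m ((restrictD γ).obj K) := by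
  obtain ⟨F, hF, hFb⟩ := hb
  have h1 := pcHom_adjoinRoot_mk F hF
  have h2 := pcHom_adjoinRoot_of F hF
  have e1 : Polynomial.eval₂RingHom γ b = (AdjoinRoot.lift γ b hFb).comp (AdjoinRoot.mk F) :=
    RingHom.ext fun p => (AdjoinRoot.lift_mk hFb p).symm
  have e2 : γ = (AdjoinRoot.lift γ b hFb).comp (AdjoinRoot.of F) :=
    (AdjoinRoot.lift_comp_of hFb).symm
  exact ((pc_congr_ringHom e1 K m).trans (h1.transfer _ K m)).trans
    ((pc_congr_ringHom e2 K m).trans (h2.transfer _ K m)).symm

end

/-- finitely many integral generators. -/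
lemma pc_iff_of_integral (k : ℕ) : ∀ {P B : Type u} [CommRing P] [CommRing B] (γ : P →+* B)
    (b : Fin k → B) (_ : ∀ j, γ.IsIntegralElem (b j)) (K : Dual.D B) (m : ℤ),
    IsPseudoCoherent (MvPolynomial (Fin k) P) m
        ((restrictD (MvPolynomial.eval₂Hom γ b)).obj K) ↔
      IsPseudoCoherent P m ((restrictD γ).obj K) := by
  induction k with
  | zero =>
    intro P B _ _ γ b hb K m
    have h1 : PcHom (MvPolynomial.C : P →+* MvPolynomial (Fin 0) P) :=
      pcHom_of_bijective _ ⟨MvPolynomial.C_injective _ _, MvPolynomial.C_surjective _⟩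
    have e : γ = (MvPolynomial.eval₂Hom γ b).comp MvPolynomial.C := by
      ext a
      simp
    exact ((pc_congr_ringHom e K m).trans (h1.transfer _ K m)).symm
  | succ k ih =>
    intro P B _ _ γ b hb K m
    let γ' : MvPolynomial (Fin k) P →+* B := MvPolynomial.eval₂Hom γ (fun j => b j.succ)
    have hγ' : γ'.comp MvPolynomial.C = γ := by
      ext a
      simp [γ']
    have hb0 : γ'.IsIntegralElem (b 0) := by
      obtain ⟨F, hF, hFb⟩ := hb 0
      refine ⟨F.map MvPolynomial.C, hF.map _, ?_⟩
      rw [Polynomial.eval₂_map, hγ']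
      exact hFb
    have s1 := pc_iff_of_integralElem γ' (b 0) hb0 K m
    have s2 := ih γ (fun j => b j.succ) (fun j => hb j.succ) K m
    have h1 : PcHom ((MvPolynomial.finSuccEquiv P k :
        MvPolynomial (Fin (k + 1)) P ≃ₐ[P] Polynomial (MvPolynomial (Fin k) P)) :
        MvPolynomial (Fin (k + 1)) P →+* Polynomial (MvPolynomial (Fin k) P)) :=
      pcHom_of_bijective _ (MvPolynomial.finSuccEquiv P k).bijective
    have e : MvPolynomial.eval₂Hom γ b =
        (Polynomial.eval₂RingHom γ' (b 0)).comp
          ((MvPolynomial.finSuccEquiv P k :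
            MvPolynomial (Fin (k + 1)) P ≃ₐ[P] Polynomial (MvPolynomial (Fin k) P)) :
            MvPolynomial (Fin (k + 1)) P →+* Polynomial (MvPolynomial (Fin k) P)) := by
      apply MvPolynomial.ringHom_ext
      · intro r
        simp [γ', MvPolynomial.finSuccEquiv_apply]
      · intro i
        refine Fin.cases ?_ (fun j => ?_) i
        · simp [MvPolynomial.finSuccEquiv_X_zero]
        · simp [MvPolynomial.finSuccEquiv_X_succ, γ']
    exact ((pc_congr_ringHom e K m).trans (h1.transfer _ K m)).trans (s1.trans s2)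

section Rel

variable {R B : Type u} [CommRing R] [CommRing B] [Algebra R B]

/-- relative pseudo-coherence can be tested along a surjection from an iterated polynomial ring. -/
lemma isRelPseudoCoherent_iff_of_surjective {n k : ℕ}
    (δ : MvPolynomial (Fin k) (MvPolynomial (Fin n) R) →+* B) (hδ : Function.Surjective δ)
    (hC : ∀ r, δ (MvPolynomial.C (MvPolynomial.C r)) = algebraMap R B r) (K : Dual.D B) (m : ℤ) :
    DerCA.IsRelPseudoCoherent R B m K ↔
      IsPseudoCoherent (MvPolynomial (Fin k) (MvPolynomial (Fin n) R)) m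
        ((restrictD δ).obj K) := by
  let e : MvPolynomial (Fin (k + n)) R ≃ₐ[R] MvPolynomial (Fin k) (MvPolynomial (Fin n) R) :=
    (MvPolynomial.renameEquiv R finSumFinEquiv.symm).trans
      (MvPolynomial.sumAlgEquiv R (Fin k) (Fin n))
  let β : MvPolynomial (Fin (k + n)) R →ₐ[R] B :=
    MvPolynomial.aeval (fun i => δ (e (MvPolynomial.X i)))
  have hCe : ∀ r, e (MvPolynomial.C r) = MvPolynomial.C (MvPolynomial.C r) := by
    intro r
    simp [e]
  have heq : (β : MvPolynomial (Fin (k + n)) R →+* B) =
      δ.comp ((e : MvPolynomial (Fin (k + n)) R ≃ₐ[R]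
        MvPolynomial (Fin k) (MvPolynomial (Fin n) R)) :
        MvPolynomial (Fin (k + n)) R →+* MvPolynomial (Fin k) (MvPolynomial (Fin n) R)) := by
    apply MvPolynomial.ringHom_ext
    · intro r
      show MvPolynomial.aeval (fun i => δ (e (MvPolynomial.X i))) (MvPolynomial.C r) =
        δ (e (MvPolynomial.C r))
      rw [hCe, hC, MvPolynomial.aeval_C]
    · intro i
      show MvPolynomial.aeval (fun i => δ (e (MvPolynomial.X i))) (MvPolynomial.X i) =
        δ (e (MvPolynomial.X i))
      exact MvPolynomial.aeval_X _ i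
  have hβ : Function.Surjective β := by
    intro y
    obtain ⟨q, rfl⟩ := hδ y
    refine ⟨e.symm q, ?_⟩
    have h := RingHom.congr_fun heq (e.symm q)
    have h' : β (e.symm q) = δ (e (e.symm q)) := h
    rw [h', AlgEquiv.apply_symm_apply]
  rw [isRelPseudoCoherent_iff_via β hβ m K]
  have h1 : PcHom ((e : MvPolynomial (Fin (k + n)) R ≃ₐ[R]
      MvPolynomial (Fin k) (MvPolynomial (Fin n) R)) :
      MvPolynomial (Fin (k + n)) R →+* MvPolynomial (Fin k) (MvPolynomial (Fin n) R)) :=
    pcHom_of_bijective _ e.bijective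
  exact (pc_congr_ringHom heq K m).trans (h1.transfer δ K m)

end Rel

end Groth.Agent.H56
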