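import Mathlib
import Groth.Agent.H56.Integral

/-!
Flat base change of pseudo-coherent ring maps (helper56).  The first part (`ext`, `exists_iso`,
`isPseudoCoherent'_baseChange`) is adapted from helper35's `Groth/Agent/H35/FlatBC.lean`.
-/

set_option autoImplicit false
universe u
open CategoryTheory CategoryTheory.Limits
attribute [local instance] HasDerivedCategory.standard

namespace Groth.Agent.H56.FlatPc

open DRing Groth.Agent.H56

section

variable {A B : Type u} [CommRing A] [CommRing B]

/-- the algebra instance implicitly used by `ModuleCat.extendScalars φ` -/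
@[reducible] def algOf (φ : A →+* B) : Algebra A B := ((algebraMap B B).comp φ).toAlgebra

variable (φ : A →+* B)

/-- extension of scalars -/
noncomputable abbrev ext : ModuleCat.{u} A ⥤ ModuleCat.{u} B := ModuleCat.extendScalars.{u, u, u} φ

/-- termwise extension of scalars -/
noncomputable abbrev extCx : Cx A ⥤ Cx B := (ext φ).mapHomologicalComplex (ComplexShape.up ℤ)

lemma vanishesAbove_ext (E : Cx A) (b : ℤ) (h : VanishesAbove E b) :
    VanishesAbove ((extCx φ).obj E) b :=
  fun i hi => (ext φ).map_isZero (h i hi)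

set_option backward.isDefEq.respectTransparency false in
lemma finite_ext (X : ModuleCat.{u} A) [Module.Finite A X] : Module.Finite B ((ext φ).obj X) := by
  letI := algOf φ
  exact (inferInstance : Module.Finite B (TensorProduct A B X))

set_option backward.isDefEq.respectTransparency false in
lemma free_ext (X : ModuleCat.{u} A) [Module.Free A X] : Module.Free B ((ext φ).obj X) := by
  letI := algOf φ
  exact (inferInstance : Module.Free B (TensorProduct A B X))

theorem exists_iso (hφ : φ.Flat) (E : Cx A) (X : ModuleCat.{u} A)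
    (e : toD E ≅ (DerivedCategory.singleFunctor (ModuleCat.{u} A) 0).obj X) :
    Nonempty (toD ((extCx φ).obj E) ≅
      (DerivedCategory.singleFunctor (ModuleCat.{u} B) 0).obj ((ext φ).obj X)) := by
  haveI : PreservesFiniteLimits (ext φ) := ModuleCat.preservesFiniteLimits_extendScalars_of_flat hφ
  haveI : PreservesFiniteColimits (ext φ) := inferInstance
  exact ⟨((ext φ).mapDerivedCategoryFactors.app E).symm ≪≫ (ext φ).mapDerivedCategory.mapIso e ≪≫
    ((ext φ).mapDerivedCategorySingleFunctor 0).app X⟩

set_option backward.isDefEq.respectTransparency false in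
theorem isPseudoCoherent'_bc (hφ : φ.Flat) (M : Type u) [AddCommGroup M] [Module A M]
    (hM : IsPseudoCoherent' A (Dual.inD A M)) :
    letI := algOf φ
    IsPseudoCoherent' B (Dual.inD B (TensorProduct A B M)) := by
  letI := algOf φ
  obtain ⟨E, b, h1, h2, ⟨e⟩⟩ := hM
  obtain ⟨e'⟩ := exists_iso φ hφ E (ModuleCat.of A M) e
  exact ⟨(extCx φ).obj E, b, vanishesAbove_ext φ E b h1,
    fun i => ⟨haveI := (h2 i).1; finite_ext φ (E.X i), haveI := (h2 i).2; free_ext φ (E.X i)⟩,
    ⟨e'⟩⟩

end

section Alg

variable {A B : Type u} [CommRing A] [CommRing B] [Algebra A B] [Module.Flat A B]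

lemma algOf_eq : algOf (algebraMap A B) = (inferInstance : Algebra A B) :=
  Algebra.algebra_ext _ _ (fun _ => rfl)

theorem isPseudoCoherent'_baseChange (M : Type u) [AddCommGroup M] [Module A M]
    (hM : IsPseudoCoherent' A (Dual.inD A M)) :
    IsPseudoCoherent' B (Dual.inD B (TensorProduct A B M)) := by
  have h := isPseudoCoherent'_bc (algebraMap A B) (RingHom.flat_algebraMap_iff.2 inferInstance) M hM
  rw [algOf_eq] at h
  exact h

end Alg

/-- flat base change of a pseudo-coherent ring map along a pushout square. -/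
theorem pcHom_of_isPushout (R S R' S' : Type u) [CommRing R] [CommRing S] [CommRing R']
    [CommRing S'] [Algebra R S] [Algebra R R'] [Algebra S S'] [Algebra R' S'] [Algebra R S']
    [IsScalarTower R S S'] [IsScalarTower R R' S'] [Algebra.IsPushout R S R' S'] [Module.Flat R S]
    (h : PcHom (algebraMap R R')) : PcHom (algebraMap S S') := by
  have h1 : IsPseudoCoherentModule' R R' := pcHom_algebraMap_iff.1 h
  have h2 : IsPseudoCoherent' S (Dual.inD S (TensorProduct R S R')) :=
    isPseudoCoherent'_baseChange R' h1
  have e : TensorProduct R S R' ≃ₗ[S] S' :=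
    (Algebra.IsPushout.out : IsBaseChange S (IsScalarTower.toAlgHom R R' S').toLinearMap).equiv
  apply pcHom_algebraMap_iff.2
  apply isPseudoCoherent'_of_forall_isPseudoCoherent
  intro m
  exact isPseudoCoherent_of_iso
    ((DerivedCategory.singleFunctor (ModuleCat.{u} S) 0).mapIso e.toModuleIso) m
    (isPseudoCoherent_of_isPseudoCoherent' h2 m)

attribute [local instance] MvPolynomial.algebraMvPolynomial in
/-- `P₁ → P₂` pseudo-coherent ⇒ `P₁[y] → P₂[y]` pseudo-coherent. -/
theorem pcHom_mvPolynomial_map {P₁ P₂ : Type u} [CommRing P₁] [CommRing P₂] (ψ : P₁ →+* P₂)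
    (h : PcHom ψ) (k : ℕ) :
    PcHom (MvPolynomial.map ψ : MvPolynomial (Fin k) P₁ →+* MvPolynomial (Fin k) P₂) := by
  letI : Algebra P₁ P₂ := ψ.toAlgebra
  have h' : PcHom (algebraMap P₁ P₂) := h
  exact pcHom_of_isPushout P₁ (MvPolynomial (Fin k) P₁) P₂ (MvPolynomial (Fin k) P₂) h'

end Groth.Agent.H56.FlatPc
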