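import Mathlib
import Groth.Agent.H56.FlatPc

/-!
Localization and pseudo-coherence (helper56): `S[T] → S_s` is a pseudo-coherent ring map; flat
extension of scalars preserves `m`-pseudo-coherence of objects of the derived category.
-/

set_option autoImplicit false
universe u
open CategoryTheory CategoryTheory.Limits Pretriangulated
attribute [local instance] HasDerivedCategory.standard

namespace Groth.Agent.H56.FlatPc

open DRing Groth.Agent.H56 DerivedCategory

section W1

variable {S : Type u} [CommRing S]

lemma eq_zero_of_CX_sub_one_mul (s : S) (h : Polynomial S)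
    (hh : (Polynomial.C s * Polynomial.X - 1) * h = 0) : h = 0 := by
  have h1 : Polynomial.C s * Polynomial.X * h = h := by
    have h2 := hh
    rw [sub_mul, one_mul, sub_eq_zero] at h2
    exact h2
  have h2 : ∀ n, h.coeff n = 0 := by
    intro n
    induction n with
    | zero =>
      have : (Polynomial.C s * Polynomial.X * h).coeff 0 = 0 := by
        rw [mul_assoc, Polynomial.coeff_C_mul, Polynomial.coeff_X_mul_zero, mul_zero]
      rwa [h1] at this
    | succ n ih =>
      have : (Polynomial.C s * Polynomial.X * h).coeff (n + 1) = 0 := by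
        rw [mul_assoc, Polynomial.coeff_C_mul, Polynomial.coeff_X_mul, ih, mul_zero]
      rwa [h1] at this
  exact Polynomial.ext (fun n => by simpa using h2 n)

lemma pcHom_adjoinRoot_mk_of_regular (F : Polynomial S) (hF : ∀ h, F * h = 0 → h = 0) :
    PcHom (AdjoinRoot.mk F) := by
  intro m
  letI : Module (Polynomial S) (AdjoinRoot F) := Module.compHom (AdjoinRoot F) (AdjoinRoot.mk F)
  let f : Polynomial S →ₗ[Polynomial S] Polynomial S :=
    LinearMap.mulLeft (Polynomial S) F
  let g : Polynomial S →ₗ[Polynomial S] AdjoinRoot F :=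
    { toFun := fun p => AdjoinRoot.mk F p
      map_add' := fun p q => map_add (AdjoinRoot.mk F) p q
      map_smul' := fun p q => map_mul (AdjoinRoot.mk F) p q }
  have hfg : ∀ q, g (f q) = 0 := by
    intro q
    show AdjoinRoot.mk F (F * q) = 0
    rw [AdjoinRoot.mk_eq_zero]
    exact dvd_mul_right F q
  have hS : (ShortComplex.mk (ModuleCat.ofHom f) (ModuleCat.ofHom g)
      (ModuleCat.hom_ext (LinearMap.ext fun q => hfg q))).ShortExact := by
    refine { exact := ?_, mono_f := ?_, epi_g := ?_ }
    · rw [ShortComplex.moduleCat_exact_iff]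
      intro p hp
      have hp' : AdjoinRoot.mk F p = 0 := hp
      obtain ⟨q, hq⟩ := AdjoinRoot.mk_eq_zero.1 hp'
      exact ⟨q, hq.symm⟩
    · refine (ModuleCat.mono_iff_injective _).2 (fun q₁ q₂ h => ?_)
      have h' : F * q₁ = F * q₂ := h
      have h'' : F * (q₁ - q₂) = 0 := by rw [mul_sub, h', sub_self]
      exact sub_eq_zero.1 (hF _ h'')
    · exact (ModuleCat.epi_iff_surjective _).2 AdjoinRoot.mk_surjective
  have h₁ := isPseudoCoherent_single_free 0
    (ModuleCat.of (Polynomial S) (Polynomial S)) inferInstance inferInstance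
  exact isPseudoCoherent_obj₃ hS.singleTriangle hS.singleTriangle_distinguished m
    (h₁ (m + 1)) (h₁ m)

/-- `S[T] → S_s`, `T ↦ 1/s`, is a pseudo-coherent ring map. -/
theorem exists_pcHom_away (s : S) (S' : Type u) [CommRing S'] [Algebra S S']
    [IsLocalization.Away s S'] :
    ∃ ρ : Polynomial S →+* S', PcHom ρ ∧ Function.Surjective ρ ∧
      ∀ a, ρ (Polynomial.C a) = algebraMap S S' a := by
  let F : Polynomial S := Polynomial.C s * Polynomial.X - 1
  let e : AdjoinRoot F ≃ₐ[S] S' :=
    (Localization.awayEquivAdjoin s).symm.trans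
      (IsLocalization.algEquiv (Submonoid.powers s) (Localization.Away s) S')
  refine ⟨((e : AdjoinRoot F ≃ₐ[S] S') : AdjoinRoot F →+* S').comp (AdjoinRoot.mk F), ?_, ?_, ?_⟩
  · exact (pcHom_adjoinRoot_mk_of_regular F (eq_zero_of_CX_sub_one_mul s)).comp
      (pcHom_of_bijective _ e.bijective)
  · exact e.surjective.comp AdjoinRoot.mk_surjective
  · intro a
    show e (AdjoinRoot.mk F (Polynomial.C a)) = _
    have h := e.commutes a
    rw [AdjoinRoot.algebraMap_eq] at h
    rw [AdjoinRoot.mk_C]
    exact h

end W1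

section W2

variable {A B : Type u} [CommRing A] [CommRing B] (φ : A →+* B)

lemma vanishesOutside_ext (E : Cx A) (a b : ℤ) (h : VanishesOutside E a b) :
    VanishesOutside ((extCx φ).obj E) a b :=
  fun i hi => (ext φ).map_isZero (h i hi)

variable [PreservesFiniteLimits (ext φ)]

lemma isLE_map_ext (K : Dual.D A) (c : ℤ) (hK : K.IsLE c) :
    (((ext φ).mapDerivedCategory).obj K).IsLE c := by
  rw [isLE_iff]
  intro i hi
  exact IsZero.of_iso ((ext φ).map_isZero (isZero_of_isLE K c i hi))
    ((mapDerivedCategoryHomologyIso (ext φ) i).app K)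

/-- flat extension of scalars preserves `m`-pseudo-coherence. -/
theorem isPseudoCoherent_map_ext (K : Dual.D A) (m : ℤ) (h : IsPseudoCoherent A m K) :
    IsPseudoCoherent B m ((ext φ).mapDerivedCategory.obj K) := by
  obtain ⟨E, a, b, α, hv, hf, hiso, hepi⟩ := h
  obtain ⟨C, u, v, hT⟩ := distinguished_cocone_triangle α
  have hC : C.IsLE (m - 1) := isLE_cone_of_homology α u v hT m (m - 1) (by omega) hiso hepi
  have hT' := (ext φ).mapDerivedCategory.map_distinguished _ hT
  have h₁ : IsPseudoCoherent B m ((ext φ).mapDerivedCategory.obj (Q.obj E)) := by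
    refine isPseudoCoherent_of_iso ((ext φ).mapDerivedCategoryFactors.app E).symm m ?_
    show IsPseudoCoherent B m (Q.obj ((extCx φ).obj E))
    exact isPseudoCoherent_Q_obj_of_bounded_ff _ a b (vanishesOutside_ext φ E a b hv)
      (fun i => ⟨haveI := (hf i).1; finite_ext φ (E.X i),
        haveI := (hf i).2; free_ext φ (E.X i)⟩) m
  have h₃ : IsPseudoCoherent B m ((ext φ).mapDerivedCategory.obj C) :=
    isPseudoCoherent_of_isLE _ m (m - 1) (by omega) (isLE_map_ext φ C (m - 1) hC)
  exact isPseudoCoherent_obj₂ _ hT' m h₁ h₃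

end W2

end Groth.Agent.H56.FlatPc
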