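import Mathlib
import Groth.Agent.H56.LocPc

/-!
Base change (Beck–Chevalley) isomorphism for pushout squares of commutative rings, on module
categories, complexes and derived categories; localization squares (helper56).
-/

set_option autoImplicit false
set_option linter.style.haveILetI false
universe u
open CategoryTheory CategoryTheory.Limits Pretriangulated TensorProduct
attribute [local instance] HasDerivedCategory.standard

namespace Groth.Agent.H56.FlatPc

open DRing Groth.Agent.H56 DerivedCategory

section BC

variable {P P' A A' : Type u} [CommRing P] [CommRing P'] [CommRing A] [CommRing A']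
  (φ : P →+* P') (α : P →+* A) (ψ : A →+* A') (α' : P' →+* A')

/-- the square `ψ ∘ α = α' ∘ φ` commutes and is a pushout. -/
def IsPO : Prop :=
  ∃ hcomm : ψ.comp α = α'.comp φ,
    letI : Algebra P P' := φ.toAlgebra
    letI : Algebra P A := α.toAlgebra
    letI : Algebra A A' := ψ.toAlgebra
    letI : Algebra P' A' := α'.toAlgebra
    letI : Algebra P A' := (ψ.comp α).toAlgebra
    haveI : IsScalarTower P A A' := IsScalarTower.of_algebraMap_eq (fun _ => rfl)
    haveI : IsScalarTower P P' A' :=
      IsScalarTower.of_algebraMap_eq (fun x => RingHom.congr_fun hcomm x)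
    Algebra.IsPushout P P' A A'

variable {φ α ψ α'}

set_option backward.isDefEq.respectTransparency false in
/-- the base change isomorphism `P' ⊗_P M ≅ A' ⊗_A M` of `P'`-modules. -/
noncomputable def bcIso (h : IsPO φ α ψ α') (M : ModuleCat.{u} A) :
    (ext φ).obj ((ModuleCat.restrictScalars.{u} α).obj M) ≅
      (ModuleCat.restrictScalars.{u} α').obj ((ext ψ).obj M) :=
  letI : Algebra P P' := φ.toAlgebra
  letI : Algebra P A := α.toAlgebra
  letI : Algebra A A' := ψ.toAlgebra
  letI : Algebra P' A' := α'.toAlgebra
  letI : Algebra P A' := (ψ.comp α).toAlgebra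
  haveI : IsScalarTower P A A' := IsScalarTower.of_algebraMap_eq (fun _ => rfl)
  haveI : IsScalarTower P P' A' :=
    IsScalarTower.of_algebraMap_eq (fun x => RingHom.congr_fun h.choose x)
  haveI : Algebra.IsPushout P P' A A' := h.choose_spec
  letI : Module P M := Module.compHom M α
  haveI : IsScalarTower P A M := ⟨fun p a m => mul_smul (α p) a m⟩
  (Algebra.IsPushout.cancelBaseChange P P' A A' M).symm.toModuleIso

set_option backward.isDefEq.respectTransparency false in
lemma bcIso_naturality (h : IsPO φ α ψ α') {M N : ModuleCat.{u} A} (u : M ⟶ N) :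
    (ext φ).map ((ModuleCat.restrictScalars.{u} α).map u) ≫ (bcIso h N).hom =
      (bcIso h M).hom ≫ (ModuleCat.restrictScalars.{u} α').map ((ext ψ).map u) := by
  apply ModuleCat.ExtendScalars.hom_ext
  intro m
  letI : Algebra P P' := φ.toAlgebra
  letI : Algebra P A := α.toAlgebra
  letI : Algebra A A' := ψ.toAlgebra
  letI : Algebra P' A' := α'.toAlgebra
  letI : Algebra P A' := (ψ.comp α).toAlgebra
  haveI : IsScalarTower P A A' := IsScalarTower.of_algebraMap_eq (fun _ => rfl)
  haveI : IsScalarTower P P' A' :=
    IsScalarTower.of_algebraMap_eq (fun x => RingHom.congr_fun h.choose x)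
  haveI : Algebra.IsPushout P P' A A' := h.choose_spec
  letI : Module P M := Module.compHom M α
  haveI : IsScalarTower P A M := ⟨fun p a m => mul_smul (α p) a m⟩
  letI : Module P N := Module.compHom N α
  haveI : IsScalarTower P A N := ⟨fun p a m => mul_smul (α p) a m⟩
  have h1 : (Algebra.IsPushout.cancelBaseChange P P' A A' N).symm ((1 : P') ⊗ₜ[P] (u.hom m)) =
      (algebraMap P' A' 1) ⊗ₜ[A] (u.hom m) :=
    Algebra.IsPushout.cancelBaseChange_symm_tmul P P' A A' N 1 (u.hom m)
  have h2 : (Algebra.IsPushout.cancelBaseChange P P' A A' M).symm ((1 : P') ⊗ₜ[P] m) =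
      (algebraMap P' A' 1) ⊗ₜ[A] m :=
    Algebra.IsPushout.cancelBaseChange_symm_tmul P P' A A' M 1 m
  refine Eq.trans h1 ?_
  refine Eq.trans ?_ (congrArg (fun x => (ConcreteCategory.hom ((ext ψ).map u)) x) h2.symm)
  rfl

/-- the base change natural isomorphism. -/
noncomputable def bcNatIso (h : IsPO φ α ψ α') :
    ModuleCat.restrictScalars.{u} α ⋙ ext φ ≅ ext ψ ⋙ ModuleCat.restrictScalars.{u} α' :=
  NatIso.ofComponents (fun M => bcIso h M) (fun u => bcIso_naturality h u)

/-- the base change isomorphism on complexes. -/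
noncomputable def bcCxIso (h : IsPO φ α ψ α') (K : Cx A) :
    (extCx φ).obj (((ModuleCat.restrictScalars.{u} α).mapHomologicalComplex
      (ComplexShape.up ℤ)).obj K) ≅
    ((ModuleCat.restrictScalars.{u} α').mapHomologicalComplex (ComplexShape.up ℤ)).obj
      ((extCx ψ).obj K) :=
  (NatIso.mapHomologicalComplex (bcNatIso h) (ComplexShape.up ℤ)).app K

/-- the base change isomorphism in the derived category. -/
lemma nonempty_bc_iso (h : IsPO φ α ψ α') [PreservesFiniteLimits (ext φ)] (K : Cx A) :
    Nonempty ((restrictD α').obj (Q.obj ((extCx ψ).obj K)) ≅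
      (ext φ).mapDerivedCategory.obj ((restrictD α).obj (Q.obj K))) := by
  have e₁ : (restrictD α').obj (Q.obj ((extCx ψ).obj K)) ≅
      Q.obj (((ModuleCat.restrictScalars.{u} α').mapHomologicalComplex (ComplexShape.up ℤ)).obj
        ((extCx ψ).obj K)) :=
    (ModuleCat.restrictScalars.{u} α').mapDerivedCategoryFactors.app _
  have e₂ := Q.mapIso (bcCxIso h K).symm
  have e₃ := ((ext φ).mapDerivedCategoryFactors.app
    (((ModuleCat.restrictScalars.{u} α).mapHomologicalComplex (ComplexShape.up ℤ)).obj K)).symm
  have e₄ := (ext φ).mapDerivedCategory.mapIso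
    ((ModuleCat.restrictScalars.{u} α).mapDerivedCategoryFactors.app K).symm
  exact ⟨e₁ ≪≫ e₂ ≪≫ e₃ ≪≫ e₄⟩

lemma isPseudoCoherent_bc_iff (h : IsPO φ α ψ α') [PreservesFiniteLimits (ext φ)] (K : Cx A)
    (m : ℤ) :
    IsPseudoCoherent P' m ((restrictD α').obj (Q.obj ((extCx ψ).obj K))) ↔
      IsPseudoCoherent P' m ((ext φ).mapDerivedCategory.obj ((restrictD α).obj (Q.obj K))) := by
  obtain ⟨e⟩ := nonempty_bc_iso h K
  exact ⟨isPseudoCoherent_of_iso e m, isPseudoCoherent_of_iso e.symm m⟩

end BC

section Loc

lemma isLocalization_toAlgebra {R S : Type*} [CommSemiring R] [CommSemiring S]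
    [inst : Algebra R S] (M : Submonoid R) [h : IsLocalization M S] :
    @IsLocalization R _ M S _ (algebraMap R S).toAlgebra := by
  have e : (algebraMap R S).toAlgebra = inst := Algebra.algebra_ext _ _ (fun _ => rfl)
  rw [e]
  exact h

lemma isPO_of_isLocalization {P P' A A' : Type u} [CommRing P] [CommRing P'] [CommRing A]
    [CommRing A'] (φ : P →+* P') (α : P →+* A) (ψ : A →+* A') (α' : P' →+* A')
    (hcomm : ψ.comp α = α'.comp φ) (G : P)
    (h1 : @IsLocalization P _ (Submonoid.powers G) P' _ φ.toAlgebra)
    (h2 : @IsLocalization A _ (Submonoid.powers (α G)) A' _ ψ.toAlgebra) :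
    IsPO φ α ψ α' := by
  refine ⟨hcomm, ?_⟩
  letI : Algebra P P' := φ.toAlgebra
  letI : Algebra P A := α.toAlgebra
  letI : Algebra A A' := ψ.toAlgebra
  letI : Algebra P' A' := α'.toAlgebra
  letI : Algebra P A' := (ψ.comp α).toAlgebra
  haveI : IsScalarTower P A A' := IsScalarTower.of_algebraMap_eq (fun _ => rfl)
  haveI : IsScalarTower P P' A' :=
    IsScalarTower.of_algebraMap_eq (fun x => RingHom.congr_fun hcomm x)
  haveI h1' : IsLocalization (Submonoid.powers G) P' := h1
  haveI h2' : IsLocalization (Algebra.algebraMapSubmonoid A (Submonoid.powers G)) A' := by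
    have e : Algebra.algebraMapSubmonoid A (Submonoid.powers G) = Submonoid.powers (α G) :=
      Submonoid.map_powers _ G
    rw [e]
    exact h2
  exact (Algebra.isPushout_of_isLocalization (Submonoid.powers G) P' A A').symm

variable {P A : Type u} [CommRing P] [CommRing A] (α : P →+* A) (G : P)
  (P' A' : Type u) [CommRing P'] [CommRing A'] [Algebra P P'] [Algebra A A']
  [IsLocalization.Away G P'] [IsLocalization.Away (α G) A']

lemma isPO_away :
    IsPO (algebraMap P P') α (algebraMap A A') (IsLocalization.Away.map P' A' α G) :=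
  isPO_of_isLocalization _ _ _ _ (IsLocalization.map_comp _).symm G
    (isLocalization_toAlgebra (Submonoid.powers G))
    (isLocalization_toAlgebra (Submonoid.powers (α G)))

lemma away_map_surjective (hα : Function.Surjective α) :
    Function.Surjective (IsLocalization.Away.map P' A' α G) := by
  intro y
  obtain ⟨n, a, hz⟩ := IsLocalization.Away.surj (α G) y
  obtain ⟨p, rfl⟩ := hα a
  have h1 : ∀ p, IsLocalization.Away.map P' A' α G (algebraMap P P' p) =
      algebraMap A A' (α p) := fun p => IsLocalization.map_eq _ p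
  have h2 : algebraMap P P' G * IsLocalization.Away.invSelf (S := P') G = 1 :=
    IsLocalization.Away.mul_invSelf G
  have h3 : algebraMap A A' (α G) *
      IsLocalization.Away.map P' A' α G (IsLocalization.Away.invSelf (S := P') G) = 1 := by
    rw [← h1, ← map_mul, h2, map_one]
  refine ⟨algebraMap P P' p * (IsLocalization.Away.invSelf (S := P') G) ^ n, ?_⟩
  rw [map_mul, map_pow, h1, ← hz, mul_assoc, ← mul_pow, h3, one_pow, mul_one]

end Loc

instance preservesFiniteLimits_ext_away {P : Type u} [CommRing P] (G : P) :
    PreservesFiniteLimits (ext (algebraMap P (Localization.Away G))) :=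
  ModuleCat.preservesFiniteLimits_extendScalars_of_flat
    (RingHom.flat_algebraMap_iff.2 inferInstance)

/-- Core lemma: for `K` a complex of `A`-modules and a presentation `α : P → A`, the localization
`K_g` is `m`-pseudo-coherent over `P[T]` iff the localization of `K|_P` is so over `P_G`. -/
theorem exists_core {P A : Type u} [CommRing P] [CommRing A] (α : P →+* A)
    (hα : Function.Surjective α) (G : P) (A' : Type u) [CommRing A'] [Algebra A A']
    [IsLocalization.Away (α G) A'] (K : Cx A) :
    ∃ δ : Polynomial P →+* A', Function.Surjective δ ∧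
      (∀ p, δ (Polynomial.C p) = algebraMap A A' (α p)) ∧
      ∀ m : ℤ, (IsPseudoCoherent (Polynomial P) m
          ((restrictD δ).obj (Q.obj ((extCx (algebraMap A A')).obj K))) ↔
        IsPseudoCoherent (Localization.Away G) m
          ((ext (algebraMap P (Localization.Away G))).mapDerivedCategory.obj
            ((restrictD α).obj (Q.obj K)))) := by
  obtain ⟨ρ, hρ, hρs, hρC⟩ := exists_pcHom_away G (Localization.Away G)
  have hPO := isPO_away α G (Localization.Away G) A'
  refine ⟨(IsLocalization.Away.map (Localization.Away G) A' α G).comp ρ,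
    (away_map_surjective α G (Localization.Away G) A' hα).comp hρs, ?_, ?_⟩
  · intro p
    show IsLocalization.Away.map (Localization.Away G) A' α G (ρ (Polynomial.C p)) = _
    rw [hρC]
    exact IsLocalization.map_eq _ p
  · intro m
    exact (hρ.transfer _ _ m).trans (isPseudoCoherent_bc_iff hPO K m)

end Groth.Agent.H56.FlatPc
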