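import Mathlib
import Groth.Agent.H56.BcLoc

/-!
Chains of pseudo-coherent ring maps from polynomial rings over `R` used for relative
pseudo-coherence over localizations (helper56).
-/

set_option autoImplicit false
universe u
open CategoryTheory CategoryTheory.Limits
attribute [local instance] HasDerivedCategory.standard

namespace Groth.Agent.H56.FlatPc

open DRing Groth.Agent.H56 DerivedCategory

section

variable {R B : Type u} [CommRing R] [CommRing B] [Algebra R B]

/-- relative pseudo-coherence can be tested along any surjective ring map from a polynomial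
ring that is compatible with `R`. -/
lemma isRelPseudoCoherent_iff_of_ringHom {N : ℕ} (Δ : MvPolynomial (Fin N) R →+* B)
    (hΔ : Function.Surjective Δ) (hC : ∀ r, Δ (MvPolynomial.C r) = algebraMap R B r)
    (K : Dual.D B) (m : ℤ) :
    DerCA.IsRelPseudoCoherent R B m K ↔
      IsPseudoCoherent (MvPolynomial (Fin N) R) m ((restrictD Δ).obj K) := by
  let β : MvPolynomial (Fin N) R →ₐ[R] B := { toRingHom := Δ, commutes' := hC }
  have hβ : Function.Surjective β := hΔ
  exact isRelPseudoCoherent_iff_via β hβ m K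

end

attribute [local instance] MvPolynomial.algebraMvPolynomial in
lemma exists_pcHom_mvPolynomial_away (R S : Type u) [CommRing R] [CommRing S] [Algebra R S]
    (f : R) [IsLocalization.Away f S] (N : ℕ) :
    ∃ ρ : Polynomial (MvPolynomial (Fin N) R) →+* MvPolynomial (Fin N) S,
      PcHom ρ ∧ Function.Surjective ρ ∧
      ∀ q, ρ (Polynomial.C q) = MvPolynomial.map (algebraMap R S) q := by
  haveI : IsLocalization.Away (MvPolynomial.C f : MvPolynomial (Fin N) R)
      (MvPolynomial (Fin N) S) := by
    have h := MvPolynomial.isLocalization (σ := Fin N) (Submonoid.powers f) S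
    rw [Submonoid.map_powers] at h
    exact h
  obtain ⟨ρ, h1, h2, h3⟩ := exists_pcHom_away (MvPolynomial.C f : MvPolynomial (Fin N) R)
    (MvPolynomial (Fin N) S)
  exact ⟨ρ, h1, h2, fun q => h3 q⟩

lemma finSuccEquiv_C (S : Type u) [CommRing S] (n : ℕ) (r : S) :
    MvPolynomial.finSuccEquiv S n (MvPolynomial.C r) = Polynomial.C (MvPolynomial.C r) := by
  simp [MvPolynomial.finSuccEquiv_apply]

/-- a pseudo-coherent surjection `R[x_0..x_{n+1}] → R_f[x_1..x_n][T]`. -/
lemma exists_pcHom_chain (R S : Type u) [CommRing R] [CommRing S] [Algebra R S]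
    (f : R) [IsLocalization.Away f S] (n : ℕ) :
    ∃ Ψ : MvPolynomial (Fin (n + 2)) R →+* Polynomial (MvPolynomial (Fin n) S),
      PcHom Ψ ∧ Function.Surjective Ψ ∧
      ∀ r, Ψ (MvPolynomial.C r) = Polynomial.C (MvPolynomial.C (algebraMap R S r)) := by
  obtain ⟨ρ, hρ, hρs, hρC⟩ := exists_pcHom_mvPolynomial_away R S f (n + 1)
  have he₂ : PcHom ((MvPolynomial.finSuccEquiv R (n + 1) :
      MvPolynomial (Fin (n + 2)) R ≃ₐ[R] Polynomial (MvPolynomial (Fin (n + 1)) R)) :
      MvPolynomial (Fin (n + 2)) R →+* Polynomial (MvPolynomial (Fin (n + 1)) R)) :=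
    pcHom_of_bijective _ (MvPolynomial.finSuccEquiv R (n + 1)).bijective
  have he₁ : PcHom ((MvPolynomial.finSuccEquiv S n :
      MvPolynomial (Fin (n + 1)) S ≃ₐ[S] Polynomial (MvPolynomial (Fin n) S)) :
      MvPolynomial (Fin (n + 1)) S →+* Polynomial (MvPolynomial (Fin n) S)) :=
    pcHom_of_bijective _ (MvPolynomial.finSuccEquiv S n).bijective
  have h12 := (he₂.comp hρ).comp he₁
  refine ⟨_, h12, ?_, ?_⟩
  · exact (MvPolynomial.finSuccEquiv S n).surjective.comp
      (hρs.comp (MvPolynomial.finSuccEquiv R (n + 1)).surjective)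
  · intro r
    show MvPolynomial.finSuccEquiv S n
      (ρ (MvPolynomial.finSuccEquiv R (n + 1) (MvPolynomial.C r))) = _
    rw [finSuccEquiv_C, hρC, MvPolynomial.map_C, finSuccEquiv_C]

end Groth.Agent.H56.FlatPc
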