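import Mathlib
import Groth.Agent.H56.LocChain

/-!
Relative pseudo-coherence over a principal localization, in terms of the localized restriction to a
presentation (helper56).
-/

set_option autoImplicit false
universe u
open CategoryTheory CategoryTheory.Limits
attribute [local instance] HasDerivedCategory.standard

namespace Groth.Agent.H56.FlatPc

open DRing Groth.Agent.H56 DerivedCategory

lemma isZero_Q_obj_of_subsingleton (A' : Type u) [CommRing A'] [Subsingleton A'] (E : Cx A') :
    IsZero (Q.obj E) := by
  have hz : IsZero E := by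
    rw [IsZero.iff_id_eq_zero]
    ext i : 1
    haveI : Subsingleton (E.X i) := Module.subsingleton A' _
    exact (ModuleCat.isZero_of_subsingleton (E.X i)).eq_of_src _ _
  exact Q.map_isZero hz

lemma pc_away_congr {P : Type u} [CommRing P] (X : Dual.D P) (m : ℤ) {g₁ g₂ : P} (e : g₁ = g₂)
    (hyp : IsPseudoCoherent (Localization.Away g₂) m
      ((ext (algebraMap P (Localization.Away g₂))).mapDerivedCategory.obj X)) :
    IsPseudoCoherent (Localization.Away g₁) m
      ((ext (algebraMap P (Localization.Away g₁))).mapDerivedCategory.obj X) := by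
  subst e
  exact hyp

section

variable {R A : Type u} [CommRing R] [CommRing A] [Algebra R A]

/-- relative pseudo-coherence of the localization `K_g` over `A_g`, in terms of the localization
at a lift `G` of `g` of the restriction of `K` to a presentation `P → A`. -/
theorem isRelPseudoCoherent_away_iff {n : ℕ} (α : MvPolynomial (Fin n) R →ₐ[R] A)
    (hα : Function.Surjective α) (G : MvPolynomial (Fin n) R) (A' : Type u) [CommRing A']
    [Algebra A A'] [Algebra R A'] [IsScalarTower R A A']
    [IsLocalization.Away ((α : MvPolynomial (Fin n) R →+* A) G) A'] (K : Cx A) (m : ℤ) :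
    DerCA.IsRelPseudoCoherent R A' m (Q.obj ((extCx (algebraMap A A')).obj K)) ↔
      IsPseudoCoherent (Localization.Away G) m
        ((ext (algebraMap (MvPolynomial (Fin n) R) (Localization.Away G))).mapDerivedCategory.obj
          ((restrictD (α : MvPolynomial (Fin n) R →+* A)).obj (Q.obj K))) := by
  obtain ⟨δ, hδs, hδC, hδ⟩ := exists_core (α : MvPolynomial (Fin n) R →+* A) hα G A' K
  have he : PcHom ((MvPolynomial.finSuccEquiv R n :
      MvPolynomial (Fin (n + 1)) R ≃ₐ[R] Polynomial (MvPolynomial (Fin n) R)) :
      MvPolynomial (Fin (n + 1)) R →+* Polynomial (MvPolynomial (Fin n) R)) :=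
    pcHom_of_bijective _ (MvPolynomial.finSuccEquiv R n).bijective
  have hC : ∀ r, (δ.comp ((MvPolynomial.finSuccEquiv R n :
      MvPolynomial (Fin (n + 1)) R ≃ₐ[R] Polynomial (MvPolynomial (Fin n) R)) :
      MvPolynomial (Fin (n + 1)) R →+* Polynomial (MvPolynomial (Fin n) R)))
      (MvPolynomial.C r) = algebraMap R A' r := by
    intro r
    show δ (MvPolynomial.finSuccEquiv R n (MvPolynomial.C r)) = _
    rw [finSuccEquiv_C, hδC]
    have h3 : (α : MvPolynomial (Fin n) R →+* A) (MvPolynomial.C r) = algebraMap R A r :=
      MvPolynomial.algHom_C α r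
    rw [h3, ← IsScalarTower.algebraMap_apply]
  rw [isRelPseudoCoherent_iff_of_ringHom _
    (hδs.comp (MvPolynomial.finSuccEquiv R n).surjective) hC _ m]
  exact (he.transfer δ _ m).trans (hδ m)

end

end Groth.Agent.H56.FlatPc
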