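import Mathlib
import Groth.Prelude.Def_MoreMor
import Groth.Agent.H56.LocDescent

/-!
Pseudo-coherent ring maps (`MoreMor.IsPseudoCoherentHom`) as a local property of ring homomorphisms
(helper56).
-/

set_option autoImplicit false
set_option linter.style.haveILetI false
universe u
open CategoryTheory CategoryTheory.Limits
attribute [local instance] HasDerivedCategory.standard

namespace Groth.Agent.H56.PcMor

open DRing Groth.Agent.H56 Groth.Agent.H56.FlatPc DerivedCategory

/-- ring-hom form of `MoreMor.IsPseudoCoherentHom`. -/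
def Q {R S : Type u} [CommRing R] [CommRing S] (f : R →+* S) : Prop :=
  letI := f.toAlgebra
  MoreMor.IsPseudoCoherentHom R S

section

variable {R S T : Type u} [CommRing R] [CommRing S] [CommRing T]

lemma q_iff (f : R →+* S) : Q f ↔ ∃ (n : ℕ) (δ : MvPolynomial (Fin n) R →+* S),
    Function.Surjective δ ∧ (∀ r, δ (MvPolynomial.C r) = f r) ∧ PcHom δ := by
  letI := f.toAlgebra
  constructor
  · rintro ⟨n, φ, hφ, h⟩
    refine ⟨n, (φ : MvPolynomial (Fin n) R →+* S), hφ, fun r => MvPolynomial.algHom_C φ r, ?_⟩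
    exact (@pcHom_algebraMap_iff _ _ _ _ φ.toRingHom.toAlgebra).2 h
  · rintro ⟨n, δ, hδ, hC, h⟩
    let φ : MvPolynomial (Fin n) R →ₐ[R] S := { toRingHom := δ, commutes' := hC }
    refine ⟨n, φ, hδ, ?_⟩
    exact (@pcHom_algebraMap_iff _ _ _ _ φ.toRingHom.toAlgebra).1 h

lemma q_finiteType (f : R →+* S) (h : Q f) : f.FiniteType := by
  letI := f.toAlgebra
  obtain ⟨n, φ, hφ, _⟩ := h
  exact (Algebra.FiniteType.iff_quotient_mvPolynomial''.2 ⟨n, φ, hφ⟩ : Algebra.FiniteType R S)

/-- `R[x_1..x_{k+n}] ≃ R[x_1..x_n][y_1..y_k]`. -/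
noncomputable def iterEquiv (R : Type u) [CommRing R] (n k : ℕ) :
    MvPolynomial (Fin (k + n)) R ≃ₐ[R] MvPolynomial (Fin k) (MvPolynomial (Fin n) R) :=
  (MvPolynomial.renameEquiv R finSumFinEquiv.symm).trans
    (MvPolynomial.sumAlgEquiv R (Fin k) (Fin n))

lemma iterEquiv_C (n k : ℕ) (r : R) :
    iterEquiv R n k (MvPolynomial.C r) = MvPolynomial.C (MvPolynomial.C r) := by
  simp [iterEquiv]

theorem q_comp (f : R →+* S) (g : S →+* T) (hf : Q f) (hg : Q g) : Q (g.comp f) := by
  rw [q_iff] at hf hg ⊢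
  obtain ⟨n, δ₁, h₁s, h₁C, h₁⟩ := hf
  obtain ⟨k, δ₂, h₂s, h₂C, h₂⟩ := hg
  have hμ := pcHom_mvPolynomial_map δ₁ h₁ k
  have he : PcHom ((iterEquiv R n k : MvPolynomial (Fin (k + n)) R ≃ₐ[R]
      MvPolynomial (Fin k) (MvPolynomial (Fin n) R)) :
      MvPolynomial (Fin (k + n)) R →+* MvPolynomial (Fin k) (MvPolynomial (Fin n) R)) :=
    pcHom_of_bijective _ (iterEquiv R n k).bijective
  refine ⟨k + n, _, ?_, ?_, he.comp (hμ.comp h₂)⟩
  · exact (h₂s.comp (MvPolynomial.map_surjective δ₁ h₁s)).comp (iterEquiv R n k).surjective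
  · intro r
    show δ₂ (MvPolynomial.map δ₁ (iterEquiv R n k (MvPolynomial.C r))) = g (f r)
    rw [iterEquiv_C, MvPolynomial.map_C, h₁C, h₂C]

theorem q_holdsForLocalizationAway : RingHom.HoldsForLocalizationAway @Q := by
  intro R S _ _ _ r _
  rw [q_iff]
  obtain ⟨ρ, hρ, hρs, hρC⟩ := exists_pcHom_away r S
  let e₁ : MvPolynomial (Fin 1) R ≃ₐ[R] Polynomial R :=
    (MvPolynomial.finSuccEquiv R 0).trans
      (Polynomial.mapAlgEquiv (MvPolynomial.isEmptyAlgEquiv R (Fin 0)))
  have he₁ : PcHom ((e₁ : MvPolynomial (Fin 1) R ≃ₐ[R] Polynomial R) :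
      MvPolynomial (Fin 1) R →+* Polynomial R) := pcHom_of_bijective _ e₁.bijective
  refine ⟨1, _, hρs.comp e₁.surjective, ?_, he₁.comp hρ⟩
  intro a
  show ρ (e₁ (MvPolynomial.C a)) = _
  have h1 : e₁ (MvPolynomial.C a) = Polynomial.C a := by
    have h2 := e₁.commutes a
    simpa using h2
  rw [h1, hρC]

end

section PO

variable {P P' A A' : Type u} [CommRing P] [CommRing P'] [CommRing A] [CommRing A']
  {φ : P →+* P'} {α : P →+* A} {ψ : A →+* A'} {α' : P' →+* A'}

/-- flat base change of pseudo-coherent ring maps along a pushout square. -/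
lemma pcHom_of_isPO (h : IsPO φ α ψ α') (hflat : φ.Flat) (hα : PcHom α) : PcHom α' := by
  obtain ⟨hcomm, hpo⟩ := h
  letI : Algebra P P' := φ.toAlgebra
  letI : Algebra P A := α.toAlgebra
  letI : Algebra A A' := ψ.toAlgebra
  letI : Algebra P' A' := α'.toAlgebra
  letI : Algebra P A' := (ψ.comp α).toAlgebra
  haveI : IsScalarTower P A A' := IsScalarTower.of_algebraMap_eq (fun _ => rfl)
  haveI : IsScalarTower P P' A' :=
    IsScalarTower.of_algebraMap_eq (fun x => RingHom.congr_fun hcomm x)
  haveI : Algebra.IsPushout P P' A A' := hpo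
  haveI : Module.Flat P P' := hflat
  have h' : PcHom (algebraMap P A) := hα
  exact pcHom_of_isPushout P P' A A' h'

end PO

lemma pcHom_away_map {P A : Type u} [CommRing P] [CommRing A] (α : P →+* A) (hα : PcHom α)
    (G : P) (P' A' : Type u) [CommRing P'] [CommRing A'] [Algebra P P'] [Algebra A A']
    [IsLocalization.Away G P'] [IsLocalization.Away (α G) A'] :
    PcHom (IsLocalization.Away.map P' A' α G) := by
  haveI : Module.Flat P P' := IsLocalization.flat P' (Submonoid.powers G)
  exact pcHom_of_isPO (isPO_away α G P' A') (RingHom.flat_algebraMap_iff.2 inferInstance) hα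

attribute [local instance] MvPolynomial.algebraMvPolynomial in
theorem q_localizationAwayPreserves : RingHom.LocalizationAwayPreserves @Q := by
  intro R S _ _ f r R' S' _ _ _ _ _ _ hf
  rw [q_iff] at hf ⊢
  obtain ⟨n, δ, hδs, hδC, hδ⟩ := hf
  haveI : IsLocalization.Away (MvPolynomial.C r : MvPolynomial (Fin n) R)
      (MvPolynomial (Fin n) R') := by
    have h := MvPolynomial.isLocalization (σ := Fin n) (Submonoid.powers r) R'
    rw [Submonoid.map_powers] at h
    exact h
  haveI : IsLocalization.Away (δ (MvPolynomial.C r)) S' := by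
    rw [hδC]
    infer_instance
  refine ⟨n, IsLocalization.Away.map (MvPolynomial (Fin n) R') S' δ (MvPolynomial.C r),
    away_map_surjective δ (MvPolynomial.C r) _ S' hδs, ?_,
    pcHom_away_map δ hδ (MvPolynomial.C r) _ S'⟩
  intro a'
  have hcomp : (IsLocalization.Away.map (MvPolynomial (Fin n) R') S' δ (MvPolynomial.C r)).comp
      MvPolynomial.C = IsLocalization.Away.map R' S' f r := by
    apply IsLocalization.ringHom_ext (Submonoid.powers r)
    ext a
    show IsLocalization.Away.map (MvPolynomial (Fin n) R') S' δ (MvPolynomial.C r)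
      (MvPolynomial.C (algebraMap R R' a)) = IsLocalization.Away.map R' S' f r (algebraMap R R' a)
    have e1 : (MvPolynomial.C (algebraMap R R' a) : MvPolynomial (Fin n) R') =
        algebraMap (MvPolynomial (Fin n) R) (MvPolynomial (Fin n) R') (MvPolynomial.C a) :=
      (MvPolynomial.map_C _ a).symm
    rw [e1]
    have e2 : IsLocalization.Away.map (MvPolynomial (Fin n) R') S' δ (MvPolynomial.C r)
        (algebraMap (MvPolynomial (Fin n) R) (MvPolynomial (Fin n) R') (MvPolynomial.C a)) =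
        algebraMap S S' (δ (MvPolynomial.C a)) := IsLocalization.map_eq _ _
    rw [e2, hδC]
    exact (IsLocalization.map_eq _ a).symm
  exact RingHom.congr_fun hcomp a'

end Groth.Agent.H56.PcMor
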