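import Mathlib
import Groth.Prelude.Def_MoreMor
import Groth.Agent.H56.PcMor
import Groth.Agent.S6987

/-!
Pseudo-coherent ring maps are a local property of ring homomorphisms; pseudo-coherent morphisms
of schemes as `affineLocally` of it (helper56).
-/

set_option autoImplicit false
set_option linter.style.haveILetI false
universe u
open CategoryTheory CategoryTheory.Limits
attribute [local instance] HasDerivedCategory.standard

namespace Groth.Agent.H56.PcMor

open DRing Groth.Agent.H56 Groth.Agent.H56.FlatPc DerivedCategory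

section Rel

variable {R S : Type u} [CommRing R] [CommRing S] [Algebra R S]

/-- `R → S` is a pseudo-coherent ring map iff `S[0]` is pseudo-coherent relative to `R`. -/
lemma q_iff_rel (X : Dual.D S)
    (e : X ≅ (singleFunctor (ModuleCat.{u} S) 0).obj (ModuleCat.of S S)) :
    Q (algebraMap R S) ↔ ∀ m : ℤ, DerCA.IsRelPseudoCoherent R S m X := by
  rw [q_iff]
  constructor
  · rintro ⟨n, δ, hδs, hδC, hδ⟩ m
    rw [isRelPseudoCoherent_iff_of_ringHom δ hδs hδC X m, hδ.iff X m]
    exact isPseudoCoherent_of_iso e.symm m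
      (isPseudoCoherent_single_free 0 (ModuleCat.of S S)
        (inferInstance : Module.Finite S S) (inferInstance : Module.Free S S) m)
  · intro h
    obtain ⟨n, α, hα, -⟩ := h 0
    refine ⟨n, (α : MvPolynomial (Fin n) R →+* S), hα, fun r => MvPolynomial.algHom_C α r, ?_⟩
    intro m
    have h1 := (isRelPseudoCoherent_iff_via α hα m X).1 (h m)
    have h2 := isPseudoCoherent_of_iso
      ((restrictD (α : MvPolynomial (Fin n) R →+* S)).mapIso e) m h1
    exact (isPseudoCoherent_restrictD_single_iff _ _ m).1 h2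

end Rel

section Ext

variable {A B : Type u} [CommRing A] [CommRing B]

set_option backward.isDefEq.respectTransparency false in
/-- `B ⊗_A A ≅ B`. -/
noncomputable def extSelfIso (φ : A →+* B) :
    (ext φ).obj (ModuleCat.of A A) ≅ ModuleCat.of B B := by
  letI := algOf φ
  exact (TensorProduct.AlgebraTensorModule.rid A B B).toModuleIso

lemma nonempty_iso_single_ext (φ : A →+* B) (hφ : φ.Flat) :
    Nonempty (toD ((extCx φ).obj ((HomologicalComplex.single (ModuleCat.{u} A)
      (ComplexShape.up ℤ) 0).obj (ModuleCat.of A A))) ≅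
      (singleFunctor (ModuleCat.{u} B) 0).obj (ModuleCat.of B B)) := by
  obtain ⟨e⟩ := exists_iso φ hφ ((HomologicalComplex.single (ModuleCat.{u} A)
      (ComplexShape.up ℤ) 0).obj (ModuleCat.of A A)) (ModuleCat.of A A)
    ((singleFunctorIsoCompQ (ModuleCat.{u} A) 0).app (ModuleCat.of A A)).symm
  exact ⟨e ≪≫ (singleFunctor (ModuleCat.{u} B) 0).mapIso (extSelfIso φ)⟩

end Ext

theorem q_ofLocalizationSpanTarget : RingHom.OfLocalizationSpanTarget @Q.{u} := by
  rw [RingHom.ofLocalizationSpanTarget_iff_finite]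
  intro R S _ _ f s hs H
  have hft : f.FiniteType := by
    apply RingHom.finiteType_ofLocalizationSpanTarget f (s : Set S) hs
    intro r
    exact q_finiteType _ (H ⟨r.1, r.2⟩)
  letI : Algebra R S := f.toAlgebra
  haveI : Algebra.FiniteType R S := hft
  let g : Fin s.card → S := fun i => (s.equivFin.symm i : S)
  have hg : Ideal.span (Set.range g) = ⊤ := by
    have hr : Set.range g = (s : Set S) := by
      ext x
      constructor
      · rintro ⟨i, rfl⟩
        exact (s.equivFin.symm i).2
      · intro hx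
        exact ⟨s.equivFin ⟨x, hx⟩, by simp [g]⟩
    rw [hr, hs]
  have hfQ : Q f ↔ Q (algebraMap R S) := Iff.rfl
  rw [hfQ]
  have e : toD ((HomologicalComplex.single (ModuleCat.{u} S) (ComplexShape.up ℤ) 0).obj
      (ModuleCat.of S S)) ≅ (singleFunctor (ModuleCat.{u} S) 0).obj (ModuleCat.of S S) :=
    ((singleFunctorIsoCompQ (ModuleCat.{u} S) 0).app (ModuleCat.of S S)).symm
  rw [q_iff_rel _ e]
  intro m
  rw [Groth.Agent.S6987.result _ m g hg]
  intro i
  have hflat : (algebraMap S (Localization.Away (g i))).Flat :=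
    RingHom.flat_algebraMap_iff.2
      (IsLocalization.flat (Localization.Away (g i)) (Submonoid.powers (g i)))
  obtain ⟨e'⟩ := nonempty_iso_single_ext (algebraMap S (Localization.Away (g i))) hflat
  refine (q_iff_rel _ e').1 ?_ m
  rw [IsScalarTower.algebraMap_eq R S (Localization.Away (g i))]
  exact H ⟨g i, (s.equivFin.symm i).2⟩

theorem q_stableUnderComposition : RingHom.StableUnderComposition @Q.{u} := by
  intro R S T _ _ _ f g hf hg
  exact q_comp f g hf hg

theorem q_isLocal : RingHom.PropertyIsLocal @Q.{u} :=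
  ⟨q_localizationAwayPreserves, q_ofLocalizationSpanTarget,
    q_ofLocalizationSpanTarget.ofLocalizationSpan
      (q_stableUnderComposition.stableUnderCompositionWithLocalizationAway
        q_holdsForLocalizationAway).left,
    (q_stableUnderComposition.stableUnderCompositionWithLocalizationAway
      q_holdsForLocalizationAway).right⟩

section OfComp

variable {R S T : Type u} [CommRing R] [CommRing S] [CommRing T]

/-- cancellation: `R → S` and `R → T` pseudo-coherent ⇒ `S → T` pseudo-coherent. -/
theorem q_of_comp (f : R →+* S) (g : S →+* T) (hf : Q f) (hgf : Q (g.comp f)) : Q g := by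
  rw [q_iff] at hf hgf ⊢
  obtain ⟨n, δ₁, h₁s, h₁C, h₁⟩ := hf
  obtain ⟨k, δ₂, h₂s, h₂C, h₂⟩ := hgf
  let δ : MvPolynomial (Fin k) S →+* T :=
    MvPolynomial.eval₂Hom g (fun i => δ₂ (MvPolynomial.X i))
  have hδC : ∀ s, δ (MvPolynomial.C s) = g s := fun s => MvPolynomial.eval₂_C _ _ s
  have hδmap : ∀ p, δ (MvPolynomial.map f p) = δ₂ p := by
    intro p
    have h0 : δ.comp (MvPolynomial.map f) = δ₂ := by
      apply MvPolynomial.ringHom_ext
      · intro r
        show δ (MvPolynomial.map f (MvPolynomial.C r)) = δ₂ (MvPolynomial.C r)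
        rw [MvPolynomial.map_C, hδC, h₂C]
        rfl
      · intro i
        show δ (MvPolynomial.map f (MvPolynomial.X i)) = δ₂ (MvPolynomial.X i)
        rw [MvPolynomial.map_X]
        exact MvPolynomial.eval₂_X _ _ i
    exact RingHom.congr_fun h0 p
  have hδs : Function.Surjective δ := by
    intro t
    obtain ⟨p, hp⟩ := h₂s t
    exact ⟨MvPolynomial.map f p, by rw [hδmap, hp]⟩
  refine ⟨k, δ, hδs, hδC, ?_⟩
  have hμ := pcHom_mvPolynomial_map δ₁ h₁ k
  have he : PcHom ((iterEquiv R n k : MvPolynomial (Fin (k + n)) R ≃ₐ[R]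
      MvPolynomial (Fin k) (MvPolynomial (Fin n) R)) :
      MvPolynomial (Fin (k + n)) R →+* MvPolynomial (Fin k) (MvPolynomial (Fin n) R)) :=
    pcHom_of_bijective _ (iterEquiv R n k).bijective
  letI : Algebra R T := (g.comp f).toAlgebra
  have hεs : Function.Surjective ((δ.comp (MvPolynomial.map δ₁)).comp
      ((iterEquiv R n k : MvPolynomial (Fin (k + n)) R ≃ₐ[R]
      MvPolynomial (Fin k) (MvPolynomial (Fin n) R)) :
      MvPolynomial (Fin (k + n)) R →+* MvPolynomial (Fin k) (MvPolynomial (Fin n) R))) :=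
    (hδs.comp (MvPolynomial.map_surjective δ₁ h₁s)).comp (iterEquiv R n k).surjective
  have hεC : ∀ r, ((δ.comp (MvPolynomial.map δ₁)).comp
      ((iterEquiv R n k : MvPolynomial (Fin (k + n)) R ≃ₐ[R]
      MvPolynomial (Fin k) (MvPolynomial (Fin n) R)) :
      MvPolynomial (Fin (k + n)) R →+* MvPolynomial (Fin k) (MvPolynomial (Fin n) R)))
      (MvPolynomial.C r) = algebraMap R T r := by
    intro r
    show δ (MvPolynomial.map δ₁ (iterEquiv R n k (MvPolynomial.C r))) = g (f r)
    rw [iterEquiv_C, MvPolynomial.map_C, h₁C, hδC]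
  intro m
  refine (isPseudoCoherent_restrictD_single_iff δ (ModuleCat.of T T) m).1 ?_
  refine (PcHom.transfer hμ δ _ m).1 ?_
  refine (PcHom.transfer he (δ.comp (MvPolynomial.map δ₁)) _ m).1 ?_
  refine (isRelPseudoCoherent_iff_of_ringHom _ hεs hεC _ m).1 ?_
  refine (isRelPseudoCoherent_iff_of_ringHom δ₂ h₂s h₂C _ m).2 ?_
  exact (isPseudoCoherent_restrictD_single_iff δ₂ (ModuleCat.of T T) m).2 (h₂ m)

end OfComp

end Groth.Agent.H56.PcMor

namespace Groth.Agent.H56.PcMor

open AlgebraicGeometry

/-- pseudo-coherent morphisms of schemes, as a morphism property. -/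
def P : MorphismProperty Scheme.{u} := affineLocally @Q

instance : HasRingHomProperty P.{u} @Q := ⟨q_isLocal, rfl⟩

lemma isPseudoCoherentMor_iff {X Y : Scheme.{u}} (f : X ⟶ Y) :
    MoreMor.IsPseudoCoherentMor f ↔ P f := by
  rw [HasRingHomProperty.iff_appLE (P := P)]
  constructor
  · intro h U V e
    exact h V.1 U.1 V.2 U.2 e
  · intro h U V hU hV e
    exact h ⟨V, hV⟩ ⟨U, hU⟩ e

/-- a version of `HasRingHomProperty.of_comp` with a hypothesis on the second morphism. -/
theorem of_comp'
    (H : ∀ {R S T : Type u} [CommRing R] [CommRing S] [CommRing T],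
      ∀ (f : R →+* S) (g : S →+* T), Q f → Q (g.comp f) → Q g)
    {X Y Z : Scheme.{u}} {f : X ⟶ Y} {g : Y ⟶ Z} (hg : P g) (h : P (f ≫ g)) : P f := by
  wlog hZ : IsAffine Z generalizing X Y Z
  · rw [IsZariskiLocalAtTarget.iff_of_iSup_eq_top (P := P) _
      (g.iSup_preimage_eq_top (iSup_affineOpens_eq_top Z))]
    intro U
    have H' := IsZariskiLocalAtTarget.restrict h U.1
    rw [morphismRestrict_comp] at H'
    exact this (IsZariskiLocalAtTarget.restrict hg U.1) H' inferInstance
  wlog hY : IsAffine Y generalizing X Y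
  · rw [IsZariskiLocalAtTarget.iff_of_iSup_eq_top (P := P) _ (iSup_affineOpens_eq_top Y)]
    intro U
    have H' := HasRingHomProperty.comp_of_isOpenImmersion P (f ⁻¹ᵁ U.1).ι (f ≫ g) h
    rw [← morphismRestrict_ι_assoc] at H'
    exact this (HasRingHomProperty.comp_of_isOpenImmersion P U.1.ι g hg) H' inferInstance
  wlog hX : IsAffine X generalizing X
  · rw [IsZariskiLocalAtSource.iff_of_iSup_eq_top (P := P) _ (iSup_affineOpens_eq_top X)]
    intro U
    have H' := HasRingHomProperty.comp_of_isOpenImmersion P U.1.ι (f ≫ g) h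
    rw [← Category.assoc] at H'
    exact this H' inferInstance
  rw [HasRingHomProperty.iff_of_isAffine (P := P)] at h hg ⊢
  exact H _ _ hg h

end Groth.Agent.H56.PcMor
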