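import Mathlib
import Groth.Prelude.Def_MoreMor
import Groth.Agent.H56.PcMor2
import Groth.Agent.S6984

/-!
Pseudo-coherent ring maps: the finite case, flat base change (helper56).
-/

set_option autoImplicit false
set_option linter.style.haveILetI false
universe u
open CategoryTheory CategoryTheory.Limits
attribute [local instance] HasDerivedCategory.standard

namespace Groth.Agent.H56.PcMor

open DRing Groth.Agent.H56 Groth.Agent.H56.FlatPc DerivedCategory

section Finite

variable {R A : Type u} [CommRing R] [CommRing A] [Algebra R A] [Module.Finite R A]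

/-- a finite ring map is pseudo-coherent iff the target is a pseudo-coherent module. -/
lemma q_iff_of_finite : Q (algebraMap R A) ↔ IsPseudoCoherentModule' R A := by
  rw [← pcHom_algebraMap_iff,
    q_iff_rel ((singleFunctor (ModuleCat.{u} A) 0).obj (ModuleCat.of A A)) (Iso.refl _)]
  apply forall_congr'
  intro m
  rw [(Groth.Agent.S6984.result (R := R) (A := R) (B := A) _ m).1]
  have hbij : Function.Bijective ((MvPolynomial.isEmptyAlgEquiv R (Fin 0) :
      MvPolynomial (Fin 0) R ≃ₐ[R] R) : MvPolynomial (Fin 0) R →+* R) :=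
    (MvPolynomial.isEmptyAlgEquiv R (Fin 0)).bijective
  rw [isRelPseudoCoherent_iff_of_ringHom
      ((MvPolynomial.isEmptyAlgEquiv R (Fin 0) : MvPolynomial (Fin 0) R ≃ₐ[R] R) :
        MvPolynomial (Fin 0) R →+* R) hbij.2
      (fun r => (MvPolynomial.isEmptyAlgEquiv R (Fin 0)).commutes r),
    (pcHom_of_bijective _ hbij).iff, isPseudoCoherent_restrictD_single_iff]

end Finite

section FlatBC

attribute [local instance] MvPolynomial.algebraMvPolynomial

/-- pseudo-coherent ring maps are stable under flat base change. -/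
theorem q_flat_baseChange (R S R' S' : Type u) [CommRing R] [CommRing S] [CommRing R']
    [CommRing S'] [Algebra R S] [Algebra R R'] [Algebra R S'] [Algebra S S'] [Algebra R' S']
    [IsScalarTower R S S'] [IsScalarTower R R' S'] [Algebra.IsPushout R S R' S']
    [Module.Flat R R'] (h : Q (algebraMap R S)) : Q (algebraMap R' S') := by
  rw [q_iff] at h ⊢
  obtain ⟨n, δ, hδs, hδC, hδ⟩ := h
  let δ' : MvPolynomial (Fin n) R' →+* S' :=
    MvPolynomial.eval₂Hom (algebraMap R' S') (fun i => algebraMap S S' (δ (MvPolynomial.X i)))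
  have hδ'C : ∀ r, δ' (MvPolynomial.C r) = algebraMap R' S' r :=
    fun r => MvPolynomial.eval₂_C _ _ r
  have hcomm : ∀ p, δ' (MvPolynomial.map (algebraMap R R') p) = algebraMap S S' (δ p) := by
    intro p
    have h0 : δ'.comp (MvPolynomial.map (algebraMap R R')) = (algebraMap S S').comp δ := by
      apply MvPolynomial.ringHom_ext
      · intro r
        show δ' (MvPolynomial.map (algebraMap R R') (MvPolynomial.C r)) =
          algebraMap S S' (δ (MvPolynomial.C r))
        rw [MvPolynomial.map_C, hδ'C, hδC, ← IsScalarTower.algebraMap_apply,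
          ← IsScalarTower.algebraMap_apply]
      · intro i
        show δ' (MvPolynomial.map (algebraMap R R') (MvPolynomial.X i)) =
          algebraMap S S' (δ (MvPolynomial.X i))
        rw [MvPolynomial.map_X]
        exact MvPolynomial.eval₂_X _ _ i
    exact RingHom.congr_fun h0 p
  have hδ's : Function.Surjective δ' := by
    intro y
    have hbc : IsBaseChange S (IsScalarTower.toAlgHom R R' S').toLinearMap :=
      Algebra.IsPushout.out
    refine hbc.inductionOn y (fun y => ∃ p, δ' p = y) ⟨0, map_zero _⟩ ?_ ?_ ?_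
    · intro r'
      exact ⟨MvPolynomial.C r', hδ'C r'⟩
    · rintro s y ⟨p, rfl⟩
      obtain ⟨q, rfl⟩ := hδs s
      refine ⟨MvPolynomial.map (algebraMap R R') q * p, ?_⟩
      rw [map_mul, hcomm, Algebra.smul_def]
    · rintro _ _ ⟨p, rfl⟩ ⟨q, rfl⟩
      exact ⟨p + q, map_add _ _ _⟩
  refine ⟨n, δ', hδ's, hδ'C, ?_⟩
  letI iA1 : Algebra (MvPolynomial (Fin n) R) S := δ.toAlgebra
  letI iA2 : Algebra (MvPolynomial (Fin n) R') S' := δ'.toAlgebra
  letI iA3 : Algebra (MvPolynomial (Fin n) R) S' := ((algebraMap S S').comp δ).toAlgebra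
  haveI t1 : IsScalarTower R (MvPolynomial (Fin n) R) S :=
    IsScalarTower.of_algebraMap_eq (fun r => by
      rw [MvPolynomial.algebraMap_eq]
      exact (hδC r).symm)
  haveI t2 : IsScalarTower (MvPolynomial (Fin n) R) S S' :=
    IsScalarTower.of_algebraMap_eq (fun _ => rfl)
  haveI t3 : IsScalarTower (MvPolynomial (Fin n) R) (MvPolynomial (Fin n) R') S' :=
    IsScalarTower.of_algebraMap_eq (fun p => (hcomm p).symm)
  haveI t4 : IsScalarTower R (MvPolynomial (Fin n) R') S' :=
    IsScalarTower.of_algebraMap_eq (fun r => by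
      rw [MvPolynomial.algebraMap_apply]
      show algebraMap R S' r = δ' (MvPolynomial.C (algebraMap R R' r))
      rw [hδ'C, ← IsScalarTower.algebraMap_apply])
  haveI t5 : IsScalarTower R' (MvPolynomial (Fin n) R') S' :=
    IsScalarTower.of_algebraMap_eq (fun r => by
      rw [MvPolynomial.algebraMap_eq]
      exact (hδ'C r).symm)
  have hpo : Algebra.IsPushout (MvPolynomial (Fin n) R) S (MvPolynomial (Fin n) R') S' :=
    (Algebra.IsPushout.comp_iff R (MvPolynomial (Fin n) R) R' (MvPolynomial (Fin n) R')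
      (T := S) (T' := S')).1 inferInstance
  haveI hpo' : Algebra.IsPushout (MvPolynomial (Fin n) R) (MvPolynomial (Fin n) R') S S' :=
    hpo.symm
  haveI hfl : Module.Flat (MvPolynomial (Fin n) R) (MvPolynomial (Fin n) R') :=
    Module.Flat.isBaseChange R (MvPolynomial (Fin n) R) R' (MvPolynomial (Fin n) R')
      (Algebra.IsPushout.out : IsBaseChange (MvPolynomial (Fin n) R)
        (IsScalarTower.toAlgHom R R' (MvPolynomial (Fin n) R')).toLinearMap)
  exact pcHom_of_isPushout (MvPolynomial (Fin n) R) (MvPolynomial (Fin n) R') S S' hδ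

end FlatBC

/-- categorical form of `q_flat_baseChange`. -/
lemma q_of_isPushout {A B A' B' : CommRingCat.{u}} {φ : A ⟶ B} {γ : A ⟶ A'} {β : B ⟶ B'}
    {φ' : A' ⟶ B'} (h : IsPushout φ γ β φ') (hγ : γ.hom.Flat) (hφ : Q φ.hom) : Q φ'.hom := by
  letI : Algebra A B := φ.hom.toAlgebra
  letI : Algebra A A' := γ.hom.toAlgebra
  letI : Algebra B B' := β.hom.toAlgebra
  letI : Algebra A' B' := φ'.hom.toAlgebra
  letI : Algebra A B' := (β.hom.comp φ.hom).toAlgebra
  haveI : IsScalarTower A B B' := IsScalarTower.of_algebraMap_eq (fun _ => rfl)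
  haveI : IsScalarTower A A' B' := IsScalarTower.of_algebraMap_eq (fun x => by
    show β.hom (φ.hom x) = φ'.hom (γ.hom x)
    have := congr(($h.w).hom x)
    exact this)
  haveI : Algebra.IsPushout A B A' B' :=
    (CommRingCat.isPushout_iff_isPushout (R := A) (R' := B) (S := A') (S' := B')).1 h
  haveI : Module.Flat A A' := hγ
  exact q_flat_baseChange A B A' B' hφ

open AlgebraicGeometry

lemma q_srcLoc : RingHom.StableUnderCompositionWithLocalizationAwaySource @Q.{u} :=
  (q_stableUnderComposition.stableUnderCompositionWithLocalizationAway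
    q_holdsForLocalizationAway).left

/-- pseudo-coherent morphisms are stable under flat base change. -/
theorem flat_baseChange {X S X' S' : Scheme.{u}} (f : X ⟶ S) (f' : X' ⟶ S') (g' : X' ⟶ X)
    (g : S' ⟶ S) [Flat g] (hc : IsPullback g' f' f g) (hf : P f) : P f' := by
  rw [HasRingHomProperty.iff_exists_appLE (P := P) q_srcLoc]
  intro x'
  have hw : f (g' x') = g (f' x') := by
    have := congr(($hc.w) x')
    simpa using this
  obtain ⟨V, hV, hsV, -⟩ := TopologicalSpace.Opens.isBasis_iff_nbhd.mp S.isBasis_affineOpens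
    (TopologicalSpace.Opens.mem_top (f (g' x')))
  obtain ⟨V', hV', hs'V', hV'V⟩ := TopologicalSpace.Opens.isBasis_iff_nbhd.mp
    S'.isBasis_affineOpens (show f' x' ∈ g ⁻¹ᵁ V from (by
      show g (f' x') ∈ V
      rw [← hw]
      exact hsV))
  obtain ⟨U, hU, hxU, hUV⟩ := TopologicalSpace.Opens.isBasis_iff_nbhd.mp X.isBasis_affineOpens
    (show g' x' ∈ f ⁻¹ᵁ V from hsV)
  have hU' : IsAffineOpen (g' ⁻¹ᵁ U ⊓ f' ⁻¹ᵁ V') := by
    have : IsAffine _ := hV
    have : IsAffine _ := hV'
    have : IsAffine _ := hU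
    exact .of_isIso (Scheme.Hom.isPullback_resLE hc hV'V hUV rfl).isoPullback.hom
  have hpo := (isIso_pushoutSection_iff hc hV'V hUV rfl).1
    (isIso_pushoutSection_of_isAffineOpen hc hV'V hUV rfl hV hV' hU)
  refine ⟨⟨V', hV'⟩, ⟨_, hU'⟩, ⟨hxU, hs'V'⟩, inf_le_right, ?_⟩
  exact q_of_isPushout hpo (g.flat_appLE hV hV' hV'V)
    ((HasRingHomProperty.iff_appLE (P := P)).1 hf ⟨V, hV⟩ ⟨U, hU⟩ hUV)

end Groth.Agent.H56.PcMor
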