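import Mathlib

/-!
Flat base change and fpqc descent for morphism properties of schemes attached to a property of ring
homomorphisms which is only stable under FLAT base change (helper56).  Mathlib's
`HasRingHomProperty.isStableUnderBaseChange` / `HasRingHomProperty.descendsAlong_flat` assume
stability under arbitrary base change.
-/

set_option autoImplicit false
set_option linter.style.haveILetI false
universe u
open CategoryTheory CategoryTheory.Limits MorphismProperty

namespace Groth.Agent.H56.FlatLocal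

open AlgebraicGeometry

/-- ring-level flat base change, in categorical form. -/
def FlatBC (Q' : ∀ {R S : Type u} [CommRing R] [CommRing S], (R →+* S) → Prop) : Prop :=
  ∀ {A B A' B' : CommRingCat.{u}} {φ : A ⟶ B} {γ : A ⟶ A'} {β : B ⟶ B'} {φ' : A' ⟶ B'},
    IsPushout φ γ β φ' → γ.hom.Flat → Q' φ.hom → Q' φ'.hom

variable (P' : MorphismProperty Scheme.{u})
  {Q' : ∀ {R S : Type u} [CommRing R] [CommRing S], (R →+* S) → Prop}
  [HasRingHomProperty P' Q']

/-- `P'` is stable under flat base change. -/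
theorem flat_baseChange
    (hsrc : RingHom.StableUnderCompositionWithLocalizationAwaySource Q') (hbc : FlatBC Q')
    {X S X' S' : Scheme.{u}} (f : X ⟶ S) (f' : X' ⟶ S') (g' : X' ⟶ X)
    (g : S' ⟶ S) [Flat g] (hc : IsPullback g' f' f g) (hf : P' f) : P' f' := by
  rw [HasRingHomProperty.iff_exists_appLE (P := P') hsrc]
  intro x'
  have hw : f (g' x') = g (f' x') := by
    have := congr(($hc.w) x')
    simpa using this
  obtain ⟨V, hV, hsV, -⟩ := TopologicalSpace.Opens.isBasis_iff_nbhd.mp S.isBasis_affineOpens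
    (TopologicalSpace.Opens.mem_top (f (g' x')))
  obtain ⟨V', hV', hs'V', hV'V⟩ := TopologicalSpace.Opens.isBasis_iff_nbhd.mp
    S'.isBasis_affineOpens (show f' x' ∈ g ⁻¹ᵁ V from (by
      show g (f' x') ∈ V
      rw [← hw]
      exact hsV))
  obtain ⟨U, hU, hxU, hUV⟩ := TopologicalSpace.Opens.isBasis_iff_nbhd.mp X.isBasis_affineOpens
    (show g' x' ∈ f ⁻¹ᵁ V from hsV)
  have hU' : IsAffineOpen (g' ⁻¹ᵁ U ⊓ f' ⁻¹ᵁ V') := by
    have : IsAffine _ := hV
    have : IsAffine _ := hV'
    have : IsAffine _ := hU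
    exact .of_isIso (Scheme.Hom.isPullback_resLE hc hV'V hUV rfl).isoPullback.hom
  have hpo := (isIso_pushoutSection_iff hc hV'V hUV rfl).1
    (isIso_pushoutSection_of_isAffineOpen hc hV'V hUV rfl hV hV' hU)
  refine ⟨⟨V', hV'⟩, ⟨_, hU'⟩, ⟨hxU, hs'V'⟩, inf_le_right, ?_⟩
  exact hbc hpo (g.flat_appLE hV hV' hV'V)
    ((HasRingHomProperty.iff_appLE (P := P')).1 hf ⟨V, hV⟩ ⟨U, hU⟩ hUV)

lemma le_surjective_inf_flat :
    (@IsLocalIso ⊓ @Surjective : MorphismProperty Scheme.{u}) ≤
      (@Surjective ⊓ @Flat : MorphismProperty Scheme.{u}) := by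
  rw [inf_comm]
  exact inf_le_inf le_rfl (IsLocalIso.le_of_isZariskiLocalAtSource _)

lemma faithfullyFlat_of_surjective_inf_flat {R S : CommRingCat.{u}} {f : R ⟶ S}
    (h : (@Surjective ⊓ @Flat : MorphismProperty Scheme.{u}) (Spec.map f)) :
    f.hom.FaithfullyFlat := by
  obtain ⟨hf₁, hf₂⟩ := h
  rw [RingHom.FaithfullyFlat.iff_flat_and_comap_surjective]
  refine ⟨?_, (Spec.map f).surjective⟩
  rwa [HasRingHomProperty.Spec_iff (P := @Flat)] at hf₂

/-- affine base and affine cover: descent. -/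
lemma descent_affine (hcod : RingHom.CodescendsAlong Q' RingHom.FaithfullyFlat)
    {R S : CommRingCat.{u}} {Y : Scheme.{u}} (φ : R ⟶ S) (g : Y ⟶ Spec R)
    (h : (@Surjective ⊓ @Flat : MorphismProperty Scheme.{u}) (Spec.map φ))
    (hf : P' (pullback.fst (Spec.map φ) g)) : P' g := by
  wlog hY : ∃ S, Y = Spec S generalizing Y
  · rw [IsZariskiLocalAtSource.iff_of_openCover (P := P') Y.affineCover]
    intro i
    have heq : pullback.fst (Spec.map φ) (Y.affineCover.f i ≫ g) =
        pullback.map _ _ _ _ (𝟙 _) (Y.affineCover.f i) (𝟙 _) (by simp) (by simp) ≫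
          pullback.fst (Spec.map φ) g := (pullback.lift_fst _ _ _).symm
    exact this _ (heq ▸ AlgebraicGeometry.IsZariskiLocalAtSource.comp hf _) ⟨_, rfl⟩
  obtain ⟨S, rfl⟩ := hY
  apply of_pullback_fst_Spec_of_codescendsAlong P' (@Surjective ⊓ @Flat)
    hcod faithfullyFlat_of_surjective_inf_flat _ h hf
  simp [HasRingHomProperty.Spec_iff (P := P')]

set_option backward.isDefEq.respectTransparency.types false in
/-- fpqc descent for `P'`. -/
theorem descendsAlong_fpqc
    (hsrc : RingHom.StableUnderCompositionWithLocalizationAwaySource Q') (hbc : FlatBC Q')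
    (hcod : RingHom.CodescendsAlong Q' RingHom.FaithfullyFlat) :
    P'.DescendsAlong (@Surjective ⊓ @Flat ⊓ @QuasiCompact) := by
  apply IsZariskiLocalAtTarget.descendsAlong
  intro R X Y f g hf h
  wlog hX : ∃ T, X = Spec T generalizing X
  · have _ : CompactSpace X := by simpa [← quasiCompact_iff_compactSpace f] using hf.2
    obtain ⟨Y', p, hsurj, hP', hY⟩ := X.exists_hom_isAffine_of_isZariskiLocalAtSource @IsLocalIso
    have hpf : (@Surjective ⊓ @Flat : MorphismProperty Scheme.{u}) p :=
      le_surjective_inf_flat _ ⟨hP', hsurj⟩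
    haveI hflp : Flat p := hpf.2
    refine this (f := (Y'.isoSpec.inv ≫ p) ≫ f) ?_ ?_ ⟨_, rfl⟩
    · rw [Category.assoc, (@Surjective ⊓ @Flat ⊓ @QuasiCompact :
        MorphismProperty Scheme.{u}).cancel_left_of_respectsIso]
      exact ⟨(@Surjective ⊓ @Flat : MorphismProperty Scheme.{u}).comp_mem _ _ hpf hf.1,
        inferInstance⟩
    · rw [← pullbackRightPullbackFstIso_inv_fst f g _, P'.cancel_left_of_respectsIso]
      exact flat_baseChange P' hsrc hbc (pullback.fst f g) (pullback.fst _ _)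
        (pullback.snd _ _) (Y'.isoSpec.inv ≫ p) (IsPullback.of_hasPullback _ _).flip h
  obtain ⟨T, rfl⟩ := hX
  obtain ⟨φ, rfl⟩ := Spec.map_surjective f
  exact descent_affine P' hcod φ g hf.1 h

end Groth.Agent.H56.FlatLocal
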