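import Mathlib
import Groth.Prelude.Def_MoreMor
import Groth.Agent.H56.PcMor3
import Groth.Agent.H35.PCDescent

/-!
Pseudo-coherent ring maps: faithfully flat descent; fpqc descent of pseudo-coherent morphisms
(helper56).
-/

set_option autoImplicit false
set_option linter.style.haveILetI false
universe u
open CategoryTheory CategoryTheory.Limits
attribute [local instance] HasDerivedCategory.standard

namespace Groth.Agent.H56.PcMor

open DRing Groth.Agent.H56 Groth.Agent.H56.FlatPc DerivedCategory

lemma isPO_of_algebra (P P' A A' : Type u) [CommRing P] [CommRing P'] [CommRing A] [CommRing A']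
    [i1 : Algebra P P'] [i2 : Algebra P A] [i3 : Algebra A A'] [i4 : Algebra P' A']
    [i5 : Algebra P A'] [t1 : IsScalarTower P A A'] [t2 : IsScalarTower P P' A']
    [h : Algebra.IsPushout P P' A A'] :
    IsPO (algebraMap P P') (algebraMap P A) (algebraMap A A') (algebraMap P' A') := by
  have hcomm : (algebraMap A A').comp (algebraMap P A) =
      (algebraMap P' A').comp (algebraMap P P') := by
    ext x
    simp only [RingHom.comp_apply, ← IsScalarTower.algebraMap_apply]
  refine ⟨hcomm, ?_⟩
  convert h
  · exact Algebra.algebra_ext _ _ (fun _ => rfl)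
  · exact Algebra.algebra_ext _ _ (fun _ => rfl)
  · exact Algebra.algebra_ext _ _ (fun _ => rfl)
  · exact Algebra.algebra_ext _ _ (fun _ => rfl)
  · exact Algebra.algebra_ext _ _ (fun r => (IsScalarTower.algebraMap_apply P A A' r).symm)

section BC

attribute [local instance] MvPolynomial.algebraMvPolynomial

/-- base change of a presentation along a pushout square. -/
lemma exists_bc_presentation (R S R' S' : Type u) [CommRing R] [CommRing S] [CommRing R']
    [CommRing S'] [Algebra R S] [Algebra R R'] [Algebra R S'] [Algebra S S'] [Algebra R' S']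
    [IsScalarTower R S S'] [IsScalarTower R R' S'] [Algebra.IsPushout R S R' S']
    {n : ℕ} (δ : MvPolynomial (Fin n) R →+* S) (hδs : Function.Surjective δ)
    (hδC : ∀ r, δ (MvPolynomial.C r) = algebraMap R S r) :
    ∃ δ' : MvPolynomial (Fin n) R' →+* S', Function.Surjective δ' ∧
      (∀ r, δ' (MvPolynomial.C r) = algebraMap R' S' r) ∧
      IsPO (MvPolynomial.map (algebraMap R R') :
        MvPolynomial (Fin n) R →+* MvPolynomial (Fin n) R') δ (algebraMap S S') δ' := by
  let δ' : MvPolynomial (Fin n) R' →+* S' :=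
    MvPolynomial.eval₂Hom (algebraMap R' S') (fun i => algebraMap S S' (δ (MvPolynomial.X i)))
  have hδ'C : ∀ r, δ' (MvPolynomial.C r) = algebraMap R' S' r :=
    fun r => MvPolynomial.eval₂_C _ _ r
  have hcomm : ∀ p, δ' (MvPolynomial.map (algebraMap R R') p) = algebraMap S S' (δ p) := by
    intro p
    have h0 : δ'.comp (MvPolynomial.map (algebraMap R R')) = (algebraMap S S').comp δ := by
      apply MvPolynomial.ringHom_ext
      · intro r
        show δ' (MvPolynomial.map (algebraMap R R') (MvPolynomial.C r)) =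
          algebraMap S S' (δ (MvPolynomial.C r))
        rw [MvPolynomial.map_C, hδ'C, hδC, ← IsScalarTower.algebraMap_apply,
          ← IsScalarTower.algebraMap_apply]
      · intro i
        show δ' (MvPolynomial.map (algebraMap R R') (MvPolynomial.X i)) =
          algebraMap S S' (δ (MvPolynomial.X i))
        rw [MvPolynomial.map_X]
        exact MvPolynomial.eval₂_X _ _ i
    exact RingHom.congr_fun h0 p
  have hδ's : Function.Surjective δ' := by
    intro y
    have hbc : IsBaseChange S (IsScalarTower.toAlgHom R R' S').toLinearMap :=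
      Algebra.IsPushout.out
    refine hbc.inductionOn y (fun y => ∃ p, δ' p = y) ⟨0, map_zero _⟩ ?_ ?_ ?_
    · intro r'
      exact ⟨MvPolynomial.C r', hδ'C r'⟩
    · rintro s y ⟨p, rfl⟩
      obtain ⟨q, rfl⟩ := hδs s
      refine ⟨MvPolynomial.map (algebraMap R R') q * p, ?_⟩
      rw [map_mul, hcomm, Algebra.smul_def]
    · rintro _ _ ⟨p, rfl⟩ ⟨q, rfl⟩
      exact ⟨p + q, map_add _ _ _⟩
  refine ⟨δ', hδ's, hδ'C, ?_⟩
  letI iA1 : Algebra (MvPolynomial (Fin n) R) S := δ.toAlgebra
  letI iA2 : Algebra (MvPolynomial (Fin n) R') S' := δ'.toAlgebra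
  letI iA3 : Algebra (MvPolynomial (Fin n) R) S' := ((algebraMap S S').comp δ).toAlgebra
  haveI t1 : IsScalarTower R (MvPolynomial (Fin n) R) S :=
    IsScalarTower.of_algebraMap_eq (fun r => by
      rw [MvPolynomial.algebraMap_eq]
      exact (hδC r).symm)
  haveI t2 : IsScalarTower (MvPolynomial (Fin n) R) S S' :=
    IsScalarTower.of_algebraMap_eq (fun _ => rfl)
  haveI t3 : IsScalarTower (MvPolynomial (Fin n) R) (MvPolynomial (Fin n) R') S' :=
    IsScalarTower.of_algebraMap_eq (fun p => (hcomm p).symm)
  haveI t4 : IsScalarTower R (MvPolynomial (Fin n) R') S' :=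
    IsScalarTower.of_algebraMap_eq (fun r => by
      rw [MvPolynomial.algebraMap_apply]
      show algebraMap R S' r = δ' (MvPolynomial.C (algebraMap R R' r))
      rw [hδ'C, ← IsScalarTower.algebraMap_apply])
  haveI t5 : IsScalarTower R' (MvPolynomial (Fin n) R') S' :=
    IsScalarTower.of_algebraMap_eq (fun r => by
      rw [MvPolynomial.algebraMap_eq]
      exact (hδ'C r).symm)
  have hpo : Algebra.IsPushout (MvPolynomial (Fin n) R) S (MvPolynomial (Fin n) R') S' :=
    (Algebra.IsPushout.comp_iff R (MvPolynomial (Fin n) R) R' (MvPolynomial (Fin n) R')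
      (T := S) (T' := S')).1 inferInstance
  haveI hpo' : Algebra.IsPushout (MvPolynomial (Fin n) R) (MvPolynomial (Fin n) R') S S' :=
    hpo.symm
  exact isPO_of_algebra (MvPolynomial (Fin n) R) (MvPolynomial (Fin n) R') S S'

lemma faithfullyFlat_mvPolynomial_map (R R' : Type u) [CommRing R] [CommRing R'] [Algebra R R']
    [Module.FaithfullyFlat R R'] (n : ℕ) :
    (MvPolynomial.map (algebraMap R R') :
      MvPolynomial (Fin n) R →+* MvPolynomial (Fin n) R').FaithfullyFlat :=
  RingHom.FaithfullyFlat.isStableUnderBaseChange R R' (MvPolynomial (Fin n) R)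
    (MvPolynomial (Fin n) R') (RingHom.faithfullyFlat_algebraMap_iff.2 inferInstance)

end BC

section

variable {R S : Type u} [CommRing R] [CommRing S]

/-- pseudo-coherence of a ring map can be tested on any presentation. -/
lemma q_iff_pcHom (f : R →+* S) {n : ℕ} (δ : MvPolynomial (Fin n) R →+* S)
    (hδs : Function.Surjective δ) (hδC : ∀ r, δ (MvPolynomial.C r) = f r) :
    Q f ↔ PcHom δ := by
  letI : Algebra R S := f.toAlgebra
  have h0 : Q f ↔ Q (algebraMap R S) := Iff.rfl
  rw [h0, q_iff_rel ((singleFunctor (ModuleCat.{u} S) 0).obj (ModuleCat.of S S)) (Iso.refl _)]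
  apply forall_congr'
  intro m
  rw [isRelPseudoCoherent_iff_of_ringHom δ hδs hδC, isPseudoCoherent_restrictD_single_iff]

end

section Descent

variable {P P' A A' : Type u} [CommRing P] [CommRing P'] [CommRing A] [CommRing A']
  {φ : P →+* P'} {α : P →+* A} {ψ : A →+* A'} {α' : P' →+* A'}

/-- faithfully flat descent of pseudo-coherence of the target along a pushout square. -/
lemma pcHom_of_isPO_faithfullyFlat (h : IsPO φ α ψ α') (hφ : φ.FaithfullyFlat)
    (hα' : PcHom α') : PcHom α := by
  intro m
  letI : Algebra P P' := φ.toAlgebra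
  haveI : Module.FaithfullyFlat P P' := hφ
  have hflat : φ.Flat := hφ.flat
  have e0 : toD ((HomologicalComplex.single (ModuleCat.{u} P) (ComplexShape.up ℤ) 0).obj
      ((ModuleCat.restrictScalars.{u} α).obj (ModuleCat.of A A))) ≅
      (singleFunctor (ModuleCat.{u} P) 0).obj
        ((ModuleCat.restrictScalars.{u} α).obj (ModuleCat.of A A)) :=
    ((singleFunctorIsoCompQ (ModuleCat.{u} P) 0).app _).symm
  obtain ⟨e1⟩ := exists_iso φ hflat _ _ e0
  have e2 : (ext φ).obj ((ModuleCat.restrictScalars.{u} α).obj (ModuleCat.of A A)) ≅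
      (ModuleCat.restrictScalars.{u} α').obj (ModuleCat.of A' A') :=
    bcIso h (ModuleCat.of A A) ≪≫ (ModuleCat.restrictScalars.{u} α').mapIso (extSelfIso ψ)
  have h1 : IsPseudoCoherent P' m (toD ((extCx φ).obj
      ((HomologicalComplex.single (ModuleCat.{u} P) (ComplexShape.up ℤ) 0).obj
      ((ModuleCat.restrictScalars.{u} α).obj (ModuleCat.of A A))))) :=
    isPseudoCoherent_of_iso (e1 ≪≫ (singleFunctor (ModuleCat.{u} P') 0).mapIso e2).symm m (hα' m)
  have h2 := (Groth.Agent.H35.TorDescent.isPseudoCoherent_of_faithfullyFlat (R := P) (R' := P')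
    ((HomologicalComplex.single (ModuleCat.{u} P) (ComplexShape.up ℤ) 0).obj
      ((ModuleCat.restrictScalars.{u} α).obj (ModuleCat.of A A))) m).1 h1
  exact isPseudoCoherent_of_iso e0 m h2

end Descent

/-- pseudo-coherent ring maps codescend along faithfully flat ring maps. -/
theorem q_codescendsAlong_faithfullyFlat :
    RingHom.CodescendsAlong @Q.{u} RingHom.FaithfullyFlat := by
  intro R S R' S' _ _ _ _ _ _ _ _ _ _ _ _ hff hQ
  haveI : Module.FaithfullyFlat R R' := RingHom.faithfullyFlat_algebraMap_iff.1 hff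
  have hft : (algebraMap R S).FiniteType :=
    RingHom.FiniteType.codescendsAlong_faithfullyFlat hff (q_finiteType _ hQ)
  haveI : Algebra.FiniteType R S := RingHom.finiteType_algebraMap.1 hft
  obtain ⟨n, α, hα⟩ := Algebra.FiniteType.iff_quotient_mvPolynomial''.1
    (inferInstance : Algebra.FiniteType R S)
  obtain ⟨δ', hδ's, hδ'C, hPO⟩ := exists_bc_presentation R S R' S'
    (α : MvPolynomial (Fin n) R →+* S) hα (fun r => MvPolynomial.algHom_C α r)
  rw [q_iff_pcHom (algebraMap R S) (α : MvPolynomial (Fin n) R →+* S) hα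
    (fun r => MvPolynomial.algHom_C α r)]
  exact pcHom_of_isPO_faithfullyFlat hPO (faithfullyFlat_mvPolynomial_map R R' n)
    ((q_iff_pcHom (algebraMap R' S') δ' hδ's hδ'C).1 hQ)

end Groth.Agent.H56.PcMor
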