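import Mathlib
import Groth.Prelude.Def_MoreMor
import Groth.Agent.H56.PcMor4
import Groth.Agent.H56.TorLoc2

/-!
Perfect ring maps (`MoreMor.IsPerfectHom`) as a local property of ring homomorphisms (helper56).
-/

set_option autoImplicit false
set_option linter.style.haveILetI false
universe u
open CategoryTheory CategoryTheory.Limits
attribute [local instance] HasDerivedCategory.standard

namespace Groth.Agent.H56.PcMor

open DRing Groth.Agent.H56 Groth.Agent.H56.FlatPc Groth.Agent.H35.TorAmp

/-- the target has finite tor dimension over the source. -/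
def FT {R S : Type u} [CommRing R] [CommRing S] (f : R →+* S) : Prop :=
  letI := f.toAlgebra
  DRing.HasFiniteTorDim R S

lemma ft_algebraMap_iff {R S : Type u} [CommRing R] [CommRing S] [inst : Algebra R S] :
    FT (algebraMap R S) ↔ DRing.HasFiniteTorDim R S := by
  have e : (algebraMap R S).toAlgebra = inst := Algebra.algebra_ext _ _ (fun _ => rfl)
  unfold FT
  rw [e]

theorem ft_stableUnderComposition : RingHom.StableUnderComposition @FT.{u} := by
  intro R S T _ _ _ f g hf hg
  letI : Algebra R S := f.toAlgebra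
  letI : Algebra S T := g.toAlgebra
  letI : Algebra R T := (g.comp f).toAlgebra
  haveI : IsScalarTower R S T := IsScalarTower.of_algebraMap_eq (fun _ => rfl)
  exact TorLoc.hasFiniteTorDim_trans R S T hf hg

theorem ft_holdsForLocalizationAway : RingHom.HoldsForLocalizationAway @FT.{u} := by
  intro R S _ _ _ r _
  rw [ft_algebraMap_iff]
  haveI : Module.Flat R S := IsLocalization.flat S (Submonoid.powers r)
  exact TorLoc.hasFiniteTorDim_of_flat S

section PO

variable {P P' A A' : Type u} [CommRing P] [CommRing P'] [CommRing A] [CommRing A']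
  {φ : P →+* P'} {α : P →+* A} {ψ : A →+* A'} {α' : P' →+* A'}

/-- flat base change of finite tor dimension along a pushout square. -/
lemma ft_of_isPO (h : IsPO φ α ψ α') (hflat : φ.Flat) (hα : FT α) : FT α' := by
  obtain ⟨hcomm, hpo⟩ := h
  letI : Algebra P P' := φ.toAlgebra
  letI : Algebra P A := α.toAlgebra
  letI : Algebra A A' := ψ.toAlgebra
  letI : Algebra P' A' := α'.toAlgebra
  letI : Algebra P A' := (ψ.comp α).toAlgebra
  haveI : IsScalarTower P A A' := IsScalarTower.of_algebraMap_eq (fun _ => rfl)
  haveI : IsScalarTower P P' A' :=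
    IsScalarTower.of_algebraMap_eq (fun x => RingHom.congr_fun hcomm x)
  haveI hpo' : Algebra.IsPushout P P' A A' := hpo
  haveI : Algebra.IsPushout P A P' A' := Algebra.IsPushout.symm hpo'
  haveI : Module.Flat P P' := hflat
  exact TorLoc.hasFiniteTorDim_baseChange P A P' A' hα

end PO

theorem ft_localizationAwayPreserves : RingHom.LocalizationAwayPreserves @FT.{u} := by
  intro R S _ _ f r R' S' _ _ _ _ _ _ hf
  haveI : Module.Flat R R' := IsLocalization.flat R' (Submonoid.powers r)
  exact ft_of_isPO (isPO_away f r R' S') (RingHom.flat_algebraMap_iff.2 inferInstance) hf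

/-- tor dimension is local on the target (a version with explicit module structures). -/
theorem hasTorDimLE_of_forall_away' {A B : Type u} [CommRing A] [CommRing B] [Algebra A B]
    (s : Set B) (hs : Ideal.span s = ⊤) (d : ℕ)
    (h : ∀ r : s, @DRing.HasTorDimLE A _ d (Localization.Away r.1) _
      (@Algebra.toModule _ _ _ _
        (((algebraMap B (Localization.Away r.1)).comp (algebraMap A B)).toAlgebra))) :
    DRing.HasTorDimLE A d B :=
  @TorLoc.hasTorDimLE_of_forall_away A B _ _ _ s hs (fun r => Localization.Away r.1)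
    (fun r => inferInstance) (fun r => inferInstance) (fun r => inferInstance)
    (fun r => ((algebraMap B (Localization.Away r.1)).comp (algebraMap A B)).toAlgebra)
    (fun r => @IsScalarTower.of_algebraMap_eq A B (Localization.Away r.1) _ _ _ _ _
      (((algebraMap B (Localization.Away r.1)).comp (algebraMap A B)).toAlgebra)
      (fun _ => rfl)) d h

theorem ft_ofLocalizationSpanTarget : RingHom.OfLocalizationSpanTarget @FT.{u} := by
  rw [RingHom.ofLocalizationSpanTarget_iff_finite]
  intro R S _ _ f s hs H
  letI : Algebra R S := f.toAlgebra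
  have H' : ∀ r : (s : Set S), ∃ d, @DRing.HasTorDimLE R _ d (Localization.Away r.1) _
      (@Algebra.toModule _ _ _ _
        (((algebraMap S (Localization.Away r.1)).comp (algebraMap R S)).toAlgebra)) :=
    fun r => H ⟨r.1, r.2⟩
  choose d hd using H'
  show DRing.HasFiniteTorDim R S
  refine ⟨s.attach.sup (fun r => d ⟨r.1, r.2⟩), ?_⟩
  apply hasTorDimLE_of_forall_away' (s : Set S) hs
  intro r
  intro N _ _ p hp
  exact hd r N p (lt_of_le_of_lt
    (Finset.le_sup (f := fun r : {x // x ∈ s} => d ⟨r.1, r.2⟩) (Finset.mem_attach s ⟨r.1, r.2⟩))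
    hp)

theorem ft_isLocal : RingHom.PropertyIsLocal @FT.{u} :=
  ⟨ft_localizationAwayPreserves, ft_ofLocalizationSpanTarget,
    ft_ofLocalizationSpanTarget.ofLocalizationSpan
      (ft_stableUnderComposition.stableUnderCompositionWithLocalizationAway
        ft_holdsForLocalizationAway).left,
    (ft_stableUnderComposition.stableUnderCompositionWithLocalizationAway
      ft_holdsForLocalizationAway).right⟩

/-- categorical form of flat base change for `FT`. -/
lemma ft_of_isPushout {A B A' B' : CommRingCat.{u}} {φ : A ⟶ B} {γ : A ⟶ A'} {β : B ⟶ B'}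
    {φ' : A' ⟶ B'} (h : IsPushout φ γ β φ') (hγ : γ.hom.Flat) (hφ : FT φ.hom) : FT φ'.hom := by
  letI : Algebra A B := φ.hom.toAlgebra
  letI : Algebra A A' := γ.hom.toAlgebra
  letI : Algebra B B' := β.hom.toAlgebra
  letI : Algebra A' B' := φ'.hom.toAlgebra
  letI : Algebra A B' := (β.hom.comp φ.hom).toAlgebra
  haveI : IsScalarTower A B B' := IsScalarTower.of_algebraMap_eq (fun _ => rfl)
  haveI : IsScalarTower A A' B' := IsScalarTower.of_algebraMap_eq (fun x => by
    show β.hom (φ.hom x) = φ'.hom (γ.hom x)
    have := congr(($h.w).hom x)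
    exact this)
  haveI : Algebra.IsPushout A B A' B' :=
    (CommRingCat.isPushout_iff_isPushout (R := A) (R' := B) (S := A') (S' := B')).1 h
  haveI : Module.Flat A A' := hγ
  exact TorLoc.hasFiniteTorDim_baseChange A B A' B' hφ

theorem ft_codescendsAlong_faithfullyFlat :
    RingHom.CodescendsAlong @FT.{u} RingHom.FaithfullyFlat := by
  intro R S R' S' _ _ _ _ _ _ _ _ _ _ _ _ hff hFT
  haveI : Module.FaithfullyFlat R R' := RingHom.faithfullyFlat_algebraMap_iff.1 hff
  rw [ft_algebraMap_iff] at hFT ⊢
  exact TorLoc.hasFiniteTorDim_of_baseChange R S R' S' hFT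

/-- ring-hom form of `MoreMor.IsPerfectHom`. -/
def QP {R S : Type u} [CommRing R] [CommRing S] (f : R →+* S) : Prop :=
  letI := f.toAlgebra
  MoreMor.IsPerfectHom R S

lemma qp_iff {R S : Type u} [CommRing R] [CommRing S] (f : R →+* S) : QP f ↔ Q f ∧ FT f :=
  Iff.rfl

theorem qp_isLocal : RingHom.PropertyIsLocal @QP.{u} := q_isLocal.and ft_isLocal

theorem qp_stableUnderComposition : RingHom.StableUnderComposition @QP.{u} := by
  intro R S T _ _ _ f g hf hg
  exact ⟨q_comp f g hf.1 hg.1, ft_stableUnderComposition f g hf.2 hg.2⟩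

theorem qp_holdsForLocalizationAway : RingHom.HoldsForLocalizationAway @QP.{u} := by
  intro R S _ _ _ r _
  exact ⟨q_holdsForLocalizationAway S r, ft_holdsForLocalizationAway S r⟩

lemma qp_srcLoc : RingHom.StableUnderCompositionWithLocalizationAwaySource @QP.{u} :=
  (qp_stableUnderComposition.stableUnderCompositionWithLocalizationAway
    qp_holdsForLocalizationAway).left

lemma qp_of_isPushout {A B A' B' : CommRingCat.{u}} {φ : A ⟶ B} {γ : A ⟶ A'} {β : B ⟶ B'}
    {φ' : A' ⟶ B'} (h : IsPushout φ γ β φ') (hγ : γ.hom.Flat) (hφ : QP φ.hom) : QP φ'.hom :=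
  ⟨q_of_isPushout h hγ hφ.1, ft_of_isPushout h hγ hφ.2⟩

theorem qp_codescendsAlong_faithfullyFlat :
    RingHom.CodescendsAlong @QP.{u} RingHom.FaithfullyFlat :=
  q_codescendsAlong_faithfullyFlat.and ft_codescendsAlong_faithfullyFlat

end Groth.Agent.H56.PcMor
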