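import Mathlib
import Groth.Prelude.Def_MoreMor
import Groth.Agent.H56.PerfMor
import Groth.Agent.H56.FlatLocal

/-!
Perfect morphisms of schemes (`MoreMor.IsPerfectMor`) as `affineLocally` of perfect ring maps
(helper56).
-/

set_option autoImplicit false
set_option linter.style.haveILetI false
universe u
open CategoryTheory CategoryTheory.Limits MorphismProperty

namespace Groth.Agent.H56.PcMor

open AlgebraicGeometry

/-- perfect morphisms of schemes, as a morphism property. -/
def PP : MorphismProperty Scheme.{u} := affineLocally @QP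

instance : HasRingHomProperty PP.{u} @QP := ⟨qp_isLocal, rfl⟩

lemma isPerfectMor_iff {X Y : Scheme.{u}} (f : X ⟶ Y) :
    MoreMor.IsPerfectMor f ↔ PP f := by
  rw [HasRingHomProperty.iff_appLE (P := PP)]
  constructor
  · intro h U V e
    exact h V.1 U.1 V.2 U.2 e
  · intro h U V hU hV e
    exact h ⟨V, hV⟩ ⟨U, hU⟩ e

lemma qp_flatBC : FlatLocal.FlatBC @QP.{u} := fun h hγ hφ => qp_of_isPushout h hγ hφ

theorem pp_flat_baseChange {X S X' S' : Scheme.{u}} (f : X ⟶ S) (f' : X' ⟶ S') (g' : X' ⟶ X)
    (g : S' ⟶ S) [Flat g] (hc : IsPullback g' f' f g) (hf : PP f) : PP f' :=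
  FlatLocal.flat_baseChange PP qp_srcLoc qp_flatBC f f' g' g hc hf

instance pp_descendsAlong_fpqc :
    PP.{u}.DescendsAlong (@Surjective ⊓ @Flat ⊓ @QuasiCompact) :=
  FlatLocal.descendsAlong_fpqc PP qp_srcLoc qp_flatBC qp_codescendsAlong_faithfullyFlat

end Groth.Agent.H56.PcMor
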