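import Mathlib
import Groth.Agent.H56.PerfMor2
import Groth.Agent.H56.PcMor3

/-!
Quotients by (weakly) regular sequences are perfect ring maps (helper56).
-/

set_option autoImplicit false
set_option linter.style.haveILetI false
universe u
open CategoryTheory CategoryTheory.Limits
attribute [local instance] HasDerivedCategory.standard

namespace Groth.Agent.H56.PcMor

open DRing Groth.Agent.H56 Groth.Agent.H56.FlatPc DerivedCategory Groth.Agent.H35.TorAmp

section Regular

variable {A B : Type u} [CommRing A] [CommRing B]

/-- the quotient by a regular element is a perfect ring map. -/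
theorem qp_of_regular_element (f : A →+* B) (hf : Function.Surjective f) (r : A)
    (hr : ∀ a, r * a = 0 → a = 0) (hker : RingHom.ker f = Ideal.span {r}) : QP f := by
  letI : Algebra A B := f.toAlgebra
  haveI : Module.Finite A B := Module.Finite.of_surjective (Algebra.linearMap A B) hf
  let φ : A →ₗ[A] A := LinearMap.mulLeft A r
  let g : A →ₗ[A] B := Algebra.linearMap A B
  have hfg : ∀ q, g (φ q) = 0 := by
    intro q
    show f (r * q) = 0
    have : r * q ∈ RingHom.ker f := by
      rw [hker]
      exact Ideal.mul_mem_right _ _ (Ideal.mem_span_singleton_self r)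
    exact this
  have hS : (ShortComplex.mk (ModuleCat.ofHom φ) (ModuleCat.ofHom g)
      (ModuleCat.hom_ext (LinearMap.ext fun q => hfg q))).ShortExact := by
    refine { exact := ?_, mono_f := ?_, epi_g := ?_ }
    · rw [ShortComplex.moduleCat_exact_iff]
      intro p hp
      have hp' : p ∈ RingHom.ker f := hp
      rw [hker, Ideal.mem_span_singleton'] at hp'
      obtain ⟨q, hq⟩ := hp'
      refine ⟨q, ?_⟩
      show r * q = p
      rw [mul_comm]
      exact hq
    · refine (ModuleCat.mono_iff_injective _).2 (fun q₁ q₂ h => ?_)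
      have h' : r * q₁ = r * q₂ := h
      have h'' : r * (q₁ - q₂) = 0 := by rw [mul_sub, h', sub_self]
      exact sub_eq_zero.1 (hr _ h'')
    · exact (ModuleCat.epi_iff_surjective _).2 hf
  rw [qp_iff]
  constructor
  · have h₁ := isPseudoCoherent_single_free 0 (ModuleCat.of A A) inferInstance inferInstance
    have hpc : IsPseudoCoherentModule' A B := by
      apply isPseudoCoherent'_of_forall_isPseudoCoherent
      intro m
      exact isPseudoCoherent_obj₃ hS.singleTriangle hS.singleTriangle_distinguished m
        (h₁ (m + 1)) (h₁ m)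
    exact (q_iff_of_finite (R := A) (A := B)).2 hpc
  · show DRing.HasFiniteTorDim A B
    refine ⟨1, ?_⟩
    rw [hasTorDimLE_iff, Nat.cast_one]
    have h0 : HasTorAmplitudeIn A 0 0 (Dual.inD A A) := by
      have h := (hasTorDimLE_iff (R := A) A 0).1 ((hasTorDimLE_zero_iff_flat A).2 inferInstance)
      rwa [Nat.cast_zero, neg_zero] at h
    exact hasTorAmplitudeIn_obj₃ hS.singleTriangle hS.singleTriangle_distinguished (-1) 0
      (hasTorAmplitudeIn_mono (by norm_num) (by norm_num) h0)
      (hasTorAmplitudeIn_mono (by norm_num) (by norm_num) h0)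

/-- the quotient by a weakly regular sequence is a perfect ring map. -/
theorem qp_of_weaklyRegular (rs : List A) : ∀ {B : Type u} [CommRing B] (f : A →+* B),
    Function.Surjective f → RingTheory.Sequence.IsWeaklyRegular A rs →
    RingHom.ker f = Ideal.ofList rs → QP f := by
  induction rs using List.reverseRecOn with
  | nil =>
    intro B _ f hf _ hker
    rw [Ideal.ofList_nil] at hker
    have hinj : Function.Injective f := (RingHom.injective_iff_ker_eq_bot f).2 hker
    exact qp_holdsForLocalizationAway.of_bijective _ _ ⟨hinj, hf⟩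
  | append_singleton rs₁ r ih =>
    intro B _ f hf hreg hker
    rw [RingTheory.Sequence.isWeaklyRegular_append_iff] at hreg
    obtain ⟨h1, h2⟩ := hreg
    rw [RingTheory.Sequence.isWeaklyRegular_singleton_iff] at h2
    have hπ : QP (Ideal.Quotient.mk (Ideal.ofList rs₁)) :=
      ih (Ideal.Quotient.mk (Ideal.ofList rs₁)) Ideal.Quotient.mk_surjective h1 Ideal.mk_ker
    have hIf : ∀ a ∈ Ideal.ofList rs₁, f a = 0 := by
      intro a ha
      have : a ∈ RingHom.ker f := by
        rw [hker, Ideal.ofList_append]
        exact Ideal.mem_sup_left ha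
      exact this
    have hgf : (Ideal.Quotient.lift (Ideal.ofList rs₁) f hIf).comp
        (Ideal.Quotient.mk (Ideal.ofList rs₁)) = f := by
      ext a
      rfl
    have hg : Function.Surjective (Ideal.Quotient.lift (Ideal.ofList rs₁) f hIf) :=
      Ideal.Quotient.lift_surjective_of_surjective _ hIf hf
    have hkg : RingHom.ker (Ideal.Quotient.lift (Ideal.ofList rs₁) f hIf) =
        Ideal.span {Ideal.Quotient.mk (Ideal.ofList rs₁) r} := by
      have h1 : RingHom.ker (Ideal.Quotient.lift (Ideal.ofList rs₁) f hIf) =
          Ideal.map (Ideal.Quotient.mk (Ideal.ofList rs₁))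
            (Ideal.comap (Ideal.Quotient.mk (Ideal.ofList rs₁))
              (RingHom.ker (Ideal.Quotient.lift (Ideal.ofList rs₁) f hIf))) :=
        (Ideal.map_comap_of_surjective _ Ideal.Quotient.mk_surjective _).symm
      rw [h1, RingHom.comap_ker, hgf, hker, Ideal.ofList_append, Ideal.map_sup,
        Ideal.map_quotient_self, bot_sup_eq, Ideal.ofList_singleton, Ideal.map_span,
        Set.image_singleton]
    have hItop : (Ideal.ofList rs₁ • ⊤ : Submodule A A) = Ideal.ofList rs₁ := by
      rw [Ideal.smul_eq_mul, Ideal.mul_top]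
    have hreg' : ∀ b : A ⧸ Ideal.ofList rs₁,
        Ideal.Quotient.mk (Ideal.ofList rs₁) r * b = 0 → b = 0 := by
      intro b hb
      obtain ⟨a, rfl⟩ := Ideal.Quotient.mk_surjective b
      have h3 : r * a ∈ Ideal.ofList rs₁ := by
        rw [← Ideal.Quotient.eq_zero_iff_mem, map_mul]
        exact hb
      have h4 : r • (Submodule.Quotient.mk a : A ⧸ (Ideal.ofList rs₁ • ⊤ : Submodule A A)) =
          r • 0 := by
        rw [smul_zero, ← Submodule.Quotient.mk_smul, Submodule.Quotient.mk_eq_zero, hItop]
        exact h3
      have h5 := h2 h4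
      rw [Submodule.Quotient.mk_eq_zero, hItop] at h5
      exact Ideal.Quotient.eq_zero_iff_mem.2 h5
    have hqg : QP (Ideal.Quotient.lift (Ideal.ofList rs₁) f hIf) :=
      qp_of_regular_element _ hg _ hreg' hkg
    have h := qp_stableUnderComposition _ _ hπ hqg
    rwa [hgf] at h

end Regular

end Groth.Agent.H56.PcMor
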