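import Mathlib
import Groth.Prelude.Def_LCI2
import Groth.Agent.H56.RegPerf
import Groth.Agent.H28.K0Koszul
import Groth.Agent.H59.KoszTop
import Groth.Agent.S15821

/-!
Quotients by Koszul-regular sequences are perfect; local complete intersection ring maps are
perfect (helper56).  Uses the Koszul libraries of helper59 (`H59/Kosz*`) and helper28
(`H28/K0Koszul`).
-/

set_option autoImplicit false
set_option linter.style.haveILetI false
universe u
open CategoryTheory CategoryTheory.Limits
attribute [local instance] HasDerivedCategory.standard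

namespace Groth.Agent.H56.PcMor

open DRing Groth.Agent.H56 Groth.Agent.H56.FlatPc DerivedCategory Groth.Agent.H35.TorAmp

section Koszul

variable {R : Type u} [CommRing R]

/-- the Koszul complex of a Koszul-regular sequence resolves the quotient. -/
lemma nonempty_koszul_iso (l : List R) (hl : LCI.IsKoszulRegularSeq R l) :
    Nonempty (DRing.toD (Koszul.koszul R l) ≅ Dual.inD R (R ⧸ Ideal.ofList l)) := by
  obtain ⟨e0⟩ := Groth.Agent.H59.Kosz.nonempty_top_iso R l
  rw [← Groth.Agent.S15821.koszul_eq] at e0
  have hz : ∀ i : ℤ, i ≠ 0 → IsZero ((homologyFunctor (ModuleCat.{u} R) i).obj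
      (DRing.toD (Koszul.koszul R l))) := fun i hi =>
    IsZero.of_iso (hl i hi)
      ((homologyFunctorFactors (ModuleCat.{u} R) i).app (Koszul.koszul R l))
  haveI : (DRing.toD (Koszul.koszul R l)).IsGE 0 :=
    (isGE_iff _ 0).2 (fun i hi => hz i (by omega))
  haveI : (DRing.toD (Koszul.koszul R l)).IsLE 0 :=
    (isLE_iff _ 0).2 (fun i hi => hz i (by omega))
  obtain ⟨e⟩ := nonempty_iso_single (DRing.toD (Koszul.koszul R l)) 0
  have hI : (Ideal.ofList l • ⊤ : Submodule R R) = Ideal.ofList l := by
    rw [Ideal.smul_eq_mul, Ideal.mul_top]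
  have e1 : (homologyFunctor (ModuleCat.{u} R) 0).obj (DRing.toD (Koszul.koszul R l)) ≅
      ModuleCat.of R (R ⧸ Ideal.ofList l) :=
    (homologyFunctorFactors (ModuleCat.{u} R) 0).app (Koszul.koszul R l) ≪≫ e0 ≪≫
      (Submodule.quotEquivOfEq _ _ hI).toModuleIso
  exact ⟨e ≪≫ (singleFunctor (ModuleCat.{u} R) 0).mapIso e1⟩

/-- the quotient by a Koszul-regular sequence is a perfect module. -/
lemma koszul_quotient_perfect (l : List R) (hl : LCI.IsKoszulRegularSeq R l) :
    IsPseudoCoherentModule' R (R ⧸ Ideal.ofList l) ∧
      DRing.HasFiniteTorDim R (R ⧸ Ideal.ofList l) := by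
  obtain ⟨e⟩ := nonempty_koszul_iso l hl
  obtain ⟨hv, hp⟩ := Groth.Agent.H28.K0Kos.koszul_perfect R l
  constructor
  · apply isPseudoCoherent'_of_forall_isPseudoCoherent
    intro m
    exact isPseudoCoherent_of_iso e m
      (isPseudoCoherent_of_bddAbove_finite_projective _ 0 (fun i hi => hv i (Or.inr hi)) hp m)
  · refine ⟨l.length, ?_⟩
    rw [hasTorDimLE_iff]
    exact ⟨Koszul.koszul R l, hv, fun i => by haveI := (hp i).2; infer_instance, ⟨e⟩⟩

/-- a surjection whose kernel is generated by a Koszul-regular sequence is a perfect ring map. -/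
theorem qp_of_koszulRegular {C : Type u} [CommRing C] (f : R →+* C)
    (hf : Function.Surjective f) (l : List R) (hl : LCI.IsKoszulRegularSeq R l)
    (hker : RingHom.ker f = Ideal.ofList l) : QP f := by
  letI : Algebra R C := f.toAlgebra
  haveI : Module.Finite R C := Module.Finite.of_surjective (Algebra.linearMap R C) hf
  obtain ⟨h1, h2⟩ := koszul_quotient_perfect l hl
  have hle : (Ideal.ofList l : Submodule R R) ≤ LinearMap.ker (Algebra.linearMap R C) := by
    intro x hx
    have h : x ∈ RingHom.ker f := by
      rw [hker]
      exact hx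
    exact h
  have hφi : Function.Injective
      (Submodule.liftQ (Ideal.ofList l : Submodule R R) (Algebra.linearMap R C) hle) := by
    rw [← LinearMap.ker_eq_bot]
    refine Submodule.ker_liftQ_eq_bot _ _ _ ?_
    intro x hx
    have h : x ∈ RingHom.ker f := hx
    rw [hker] at h
    exact h
  have hφs : Function.Surjective
      (Submodule.liftQ (Ideal.ofList l : Submodule R R) (Algebra.linearMap R C) hle) := by
    intro c
    obtain ⟨r, rfl⟩ := hf c
    exact ⟨Submodule.Quotient.mk r, rfl⟩
  let e : (R ⧸ Ideal.ofList l) ≃ₗ[R] C := LinearEquiv.ofBijective _ ⟨hφi, hφs⟩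
  rw [qp_iff]
  constructor
  · have hpc : IsPseudoCoherentModule' R C := by
      apply isPseudoCoherent'_of_forall_isPseudoCoherent
      intro m
      exact isPseudoCoherent_of_iso
        ((DerivedCategory.singleFunctor (ModuleCat.{u} R) 0).mapIso e.toModuleIso) m
        (isPseudoCoherent_of_isPseudoCoherent' h1 m)
    exact (q_iff_of_finite (R := R) (A := C)).2 hpc
  · show DRing.HasFiniteTorDim R C
    exact Groth.Agent.H56.TorLoc.hasFiniteTorDim_of_linearEquiv e h2

end Koszul

lemma qp_algebraMap_iff {A B : Type u} [CommRing A] [CommRing B] [inst : Algebra A B] :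
    QP (algebraMap A B) ↔ MoreMor.IsPerfectHom A B := by
  have e : (algebraMap A B).toAlgebra = inst := Algebra.algebra_ext _ _ (fun _ => rfl)
  unfold QP
  rw [e]

lemma qp_mvPolynomial (A : Type u) [CommRing A] (n : ℕ) :
    QP (algebraMap A (MvPolynomial (Fin n) A)) := by
  rw [qp_iff]
  constructor
  · rw [q_iff]
    exact ⟨n, RingHom.id _, Function.surjective_id, fun r => rfl,
      pcHom_of_bijective _ Function.bijective_id⟩
  · rw [ft_algebraMap_iff]
    exact Groth.Agent.H56.TorLoc.hasFiniteTorDim_of_flat _

/-- a local complete intersection ring map is perfect. -/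
theorem qp_of_isLCI (A B : Type u) [CommRing A] [CommRing B] [Algebra A B]
    (h : LCI.IsLCI A B) : QP (algebraMap A B) := by
  obtain ⟨-, n, f, hf, hI⟩ := h
  have hs : Ideal.span {b : B | QP ((algebraMap B (Localization.Away b)).comp
      (algebraMap A B))} = ⊤ := by
    by_contra hne
    obtain ⟨𝔪, h𝔪, hle⟩ := Ideal.exists_le_maximal _ hne
    haveI : 𝔪.IsPrime := h𝔪.isPrime
    have hker : RingHom.ker f.toRingHom ≤
        (⟨𝔪.comap f.toRingHom, inferInstance⟩ :
          PrimeSpectrum (MvPolynomial (Fin n) A)).asIdeal := by
      intro x hx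
      show f.toRingHom x ∈ 𝔪
      rw [RingHom.mem_ker.1 hx]
      exact 𝔪.zero_mem
    obtain ⟨g, hg, l, hl, hgen⟩ := hI _ hker
    apply hg
    show f.toRingHom g ∈ 𝔪
    apply hle
    apply Ideal.subset_span
    show QP ((algebraMap B (Localization.Away (f.toRingHom g))).comp (algebraMap A B))
    have hφs : Function.Surjective (IsLocalization.Away.map (Localization.Away g)
        (Localization.Away (f.toRingHom g)) f.toRingHom g) :=
      away_map_surjective f.toRingHom g _ _ hf
    have hφk : RingHom.ker (IsLocalization.Away.map (Localization.Away g)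
        (Localization.Away (f.toRingHom g)) f.toRingHom g) = Ideal.ofList l := by
      have h := IsLocalization.ker_map (S := Localization.Away g)
        (Localization.Away (f.toRingHom g)) f.toRingHom (Submonoid.map_powers f.toRingHom g)
      rw [hgen] at h
      exact h
    have h1 := qp_of_koszulRegular _ hφs l hl hφk
    have h2 : QP (algebraMap (MvPolynomial (Fin n) A) (Localization.Away g)) :=
      qp_holdsForLocalizationAway _ g
    have h3 := qp_mvPolynomial A n
    have h4 := qp_stableUnderComposition _ _ (qp_stableUnderComposition _ _ h3 h2) h1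
    have heq : (IsLocalization.Away.map (Localization.Away g)
        (Localization.Away (f.toRingHom g)) f.toRingHom g).comp
        ((algebraMap (MvPolynomial (Fin n) A) (Localization.Away g)).comp
          (algebraMap A (MvPolynomial (Fin n) A))) =
        (algebraMap B (Localization.Away (f.toRingHom g))).comp (algebraMap A B) := by
      refine RingHom.ext fun a => ?_
      have h5 : IsLocalization.Away.map (Localization.Away g)
          (Localization.Away (f.toRingHom g)) f.toRingHom g
          (algebraMap (MvPolynomial (Fin n) A) (Localization.Away g)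
            (algebraMap A (MvPolynomial (Fin n) A) a)) =
          algebraMap B (Localization.Away (f.toRingHom g))
            (f.toRingHom (algebraMap A (MvPolynomial (Fin n) A) a)) :=
        IsLocalization.map_eq _ _
      have h6 : f.toRingHom (algebraMap A (MvPolynomial (Fin n) A) a) = algebraMap A B a :=
        f.commutes a
      rw [h6] at h5
      exact h5
    rwa [heq] at h4
  exact qp_isLocal.ofLocalizationSpanTarget _ _ hs (fun r => r.2)

end Groth.Agent.H56.PcMor
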