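import Mathlib
import Groth.Prelude.Def_RegImm
import Groth.Agent.H56.KoszPerf
import Groth.Agent.H56.Integral

/-!
Smooth ring maps / morphisms are perfect; Koszul-regular immersions are perfect (helper56).
-/

set_option autoImplicit false
set_option linter.style.haveILetI false
universe u
open CategoryTheory CategoryTheory.Limits AlgebraicGeometry
attribute [local instance] HasDerivedCategory.standard

namespace Groth.Agent.H56.PcMor

open DRing Groth.Agent.H56 Groth.Agent.H56.FlatPc

/-- a finite free ring map is perfect. -/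
lemma qp_of_finite_free (R S : Type u) [CommRing R] [CommRing S] [Algebra R S]
    [Module.Finite R S] [Module.Free R S] : QP (algebraMap R S) := by
  rw [qp_iff]
  exact ⟨q_iff_of_finite.2 (isPseudoCoherentModule'_of_finite_free S),
    ft_algebraMap_iff.2 (Groth.Agent.H56.TorLoc.hasFiniteTorDim_of_flat S)⟩

/-- a standard étale algebra is a perfect ring map. -/
theorem qp_of_isStandardEtale (R S : Type u) [CommRing R] [CommRing S] [Algebra R S]
    [Algebra.IsStandardEtale R S] : QP (algebraMap R S) := by
  obtain ⟨P⟩ := Algebra.IsStandardEtale.nonempty_standardEtalePresentation (R := R) (S := S)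
  let e : S ≃ₐ[R] Localization.Away (AdjoinRoot.mk P.f P.g) :=
    P.equivRing.trans P.P.equivAwayAdjoinRoot
  haveI := P.monic_f.free_adjoinRoot
  haveI := P.monic_f.finite_adjoinRoot
  have h1 : QP (algebraMap R (AdjoinRoot P.f)) := qp_of_finite_free R (AdjoinRoot P.f)
  have h2 : QP (algebraMap (AdjoinRoot P.f) (Localization.Away (AdjoinRoot.mk P.f P.g))) :=
    qp_holdsForLocalizationAway _ (AdjoinRoot.mk P.f P.g)
  have h3 : QP ((e.symm : Localization.Away (AdjoinRoot.mk P.f P.g) ≃+* S) :
      Localization.Away (AdjoinRoot.mk P.f P.g) →+* S) :=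
    qp_holdsForLocalizationAway.of_bijective _ _ e.symm.bijective
  have h4 := qp_stableUnderComposition _ _ (qp_stableUnderComposition _ _ h1 h2) h3
  have heq : ((e.symm : Localization.Away (AdjoinRoot.mk P.f P.g) ≃+* S) :
      Localization.Away (AdjoinRoot.mk P.f P.g) →+* S).comp
      ((algebraMap (AdjoinRoot P.f) (Localization.Away (AdjoinRoot.mk P.f P.g))).comp
        (algebraMap R (AdjoinRoot P.f))) = algebraMap R S := by
    refine RingHom.ext fun r => ?_
    show e.symm (algebraMap (AdjoinRoot P.f) _ (algebraMap R (AdjoinRoot P.f) r)) =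
      algebraMap R S r
    rw [← IsScalarTower.algebraMap_apply R (AdjoinRoot P.f)
      (Localization.Away (AdjoinRoot.mk P.f P.g))]
    exact e.symm.commutes r
  rwa [heq] at h4

/-- a smooth algebra is a perfect ring map. -/
theorem qp_of_smooth (A B : Type u) [CommRing A] [CommRing B] [Algebra A B]
    [Algebra.Smooth A B] : QP (algebraMap A B) := by
  have hs : Ideal.span {b : B | QP ((algebraMap B (Localization.Away b)).comp
      (algebraMap A B))} = ⊤ := by
    by_contra hne
    obtain ⟨𝔪, h𝔪, hle⟩ := Ideal.exists_le_maximal _ hne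
    haveI : 𝔪.IsPrime := h𝔪.isPrime
    haveI : Algebra.FinitePresentation A B := Algebra.Smooth.finitePresentation
    haveI : Algebra.IsSmoothAt A 𝔪 := by
      have h : (⟨𝔪, inferInstance⟩ : PrimeSpectrum B) ∈ Algebra.smoothLocus A B := by
        rw [Algebra.smoothLocus_eq_univ]
        exact Set.mem_univ _
      exact h
    obtain ⟨f, hf, n, inst, htower, hse⟩ :=
      Algebra.IsSmoothAt.exists_isStandardEtale_mvPolynomial (R := A) (p := 𝔪)
    apply hf
    apply hle
    apply Ideal.subset_span
    show QP ((algebraMap B (Localization.Away f)).comp (algebraMap A B))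
    have h1 := qp_mvPolynomial A n
    have h2 : QP (algebraMap (MvPolynomial (Fin n) A) (Localization.Away f)) :=
      qp_of_isStandardEtale _ _
    have h3 := qp_stableUnderComposition _ _ h1 h2
    have heq : (algebraMap (MvPolynomial (Fin n) A) (Localization.Away f)).comp
        (algebraMap A (MvPolynomial (Fin n) A)) =
        (algebraMap B (Localization.Away f)).comp (algebraMap A B) := by
      rw [← IsScalarTower.algebraMap_eq A (MvPolynomial (Fin n) A) (Localization.Away f),
        ← IsScalarTower.algebraMap_eq A B (Localization.Away f)]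
    rwa [heq] at h3
  exact qp_isLocal.ofLocalizationSpanTarget _ _ hs (fun r => r.2)

/-- a smooth morphism of schemes is perfect. -/
theorem pp_of_smooth {X Y : Scheme.{u}} (f : X ⟶ Y) [Smooth f] : PP f := by
  rw [HasRingHomProperty.iff_appLE (P := PP)]
  intro U V e
  have h := Smooth.smooth_appLE f U.2 V.2 e
  letI := (f.appLE U.1 V.1 e).hom.toAlgebra
  haveI : Algebra.Smooth Γ(Y, U.1) Γ(X, V.1) := h
  exact qp_of_smooth Γ(Y, U.1) Γ(X, V.1)

set_option backward.isDefEq.respectTransparency false in
lemma app_surjective_of_restrict {Z X : Scheme.{u}} (i : Z ⟶ X) (U : X.affineOpens)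
    [IsClosedImmersion (i ∣_ U.1)] :
    IsAffineOpen (i ⁻¹ᵁ U.1) ∧ Function.Surjective (i.app U.1).hom := by
  haveI : IsAffine (U.1 : Scheme.{u}) := U.2
  have hV : IsAffineOpen (i ⁻¹ᵁ U.1) := isAffine_of_isAffineHom (i ∣_ U.1)
  refine ⟨hV, ?_⟩
  have h1 : Function.Surjective ((i ∣_ U.1).app ⊤).hom :=
    (i ∣_ U.1).app_surjective ⊤ (isAffineOpen_top _)
  rw [morphismRestrict_app, CommRingCat.hom_comp] at h1
  have h2 : Function.Surjective (i.app (U.1.ι ''ᵁ ⊤)).hom :=
    (RingHom.surjective_respectsIso.cancel_right_isIso (i.app (U.1.ι ''ᵁ ⊤))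
      (Z.presheaf.map (eqToHom (image_morphismRestrict_preimage i U.1 ⊤)).op)).1 h1
  have h3 : ∀ (W : X.Opens), W = U.1 → Function.Surjective (i.app W).hom →
      Function.Surjective (i.app U.1).hom := by
    intro W hW h
    subst hW
    exact h
  exact h3 _ (Scheme.Opens.ι_image_top U.1) h2

/-- a Koszul-regular immersion is perfect. -/
theorem pp_of_koszulRegularImmersion {Z X : Scheme.{u}} (i : Z ⟶ X)
    (hi : RegImm.IsRegularImmersion .koszul i) : PP i := by
  rw [HasRingHomProperty.iff_exists_appLE (P := PP) qp_srcLoc]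
  intro z
  obtain ⟨U, hzU, hci, rs, hrs, hker⟩ := hi.2 z
  haveI := hci
  obtain ⟨hV, hsurj⟩ := app_surjective_of_restrict i U
  refine ⟨U, ⟨i ⁻¹ᵁ U.1, hV⟩, hzU, le_rfl, ?_⟩
  rw [← Scheme.Hom.app_eq_appLE]
  exact qp_of_koszulRegular (i.app U.1).hom hsurj rs hrs hker

end Groth.Agent.H56.PcMor
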