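import Mathlib
import Groth.Prelude.Def_DRing2
import Groth.Agent.H35.TorBridge
import Groth.Agent.H82.TorBC2
import Groth.Agent.H82.TorLib
import Groth.Agent.H82.DeltaFun

/-!
Weakly étale ring maps `A → B` (helper56):
* `flat_of_flat`: a `B`-module which is `A`-flat is `B`-flat when `B ⊗[A] B → B` is flat;
* `hasTorDimLE_of_weaklyEtale`: weak dimension `≤ d` ascends along weakly étale maps.
-/

set_option autoImplicit false
set_option linter.style.haveILetI false
universe u
open CategoryTheory CategoryTheory.Limits TensorProduct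

namespace Groth.Agent.H56.WeakEtale

section Pure

lemma exists_eq_mul_of_flat_of_surjective {E B : Type*} [CommRing E] [CommRing B] (μ : E →+* B)
    (hμ : μ.Flat) (hs : Function.Surjective μ) {x : E} (hx : μ x = 0) :
    ∃ y : E, μ y = 0 ∧ x = x * y := by
  algebraize [μ]
  let e : (E ⧸ RingHom.ker (Algebra.ofId E B)) ≃ₐ[E] B :=
    Ideal.quotientKerAlgEquivOfSurjective (f := Algebra.ofId E B) hs
  haveI : Module.Flat E B := hμ
  haveI : (RingHom.ker (Algebra.ofId E B)).Pure := Module.Flat.of_linearEquiv e.toLinearEquiv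
  have hx' : x ∈ RingHom.ker (Algebra.ofId E B) := by
    rw [RingHom.mem_ker]
    exact hx
  obtain ⟨y, hy, h⟩ := Ideal.exists_eq_mul_of_pure hx'
  rw [RingHom.mem_ker] at hy
  exact ⟨y, hy, h⟩

end Pure

section Action

variable {A B : Type*} [CommRing A] [CommRing B] [Algebra A B]
variable (M N : Type*) [AddCommGroup M] [Module A M] [Module B M] [IsScalarTower A B M]
  [AddCommGroup N] [Module A N] [Module B N] [IsScalarTower A B N]

/-- the action of `B ⊗[A] B` on `M ⊗[A] N`. -/
noncomputable def ρ : B ⊗[A] B →ₐ[A] Module.End A (M ⊗[A] N) :=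
  Algebra.TensorProduct.lift
    ((Module.End.rTensorAlgHom A M N).comp (Algebra.lsmul A (A := B) A M))
    ((Module.End.lTensorAlgHom A N M).comp (Algebra.lsmul A (A := B) A N))
    (fun b b' => by
      show _ * _ = _ * _
      refine TensorProduct.ext' (fun m n => ?_)
      rfl)

@[simp] lemma ρ_tmul (b b' : B) (m : M) (n : N) :
    ρ M N (b ⊗ₜ[A] b') (m ⊗ₜ[A] n) = (b • m) ⊗ₜ[A] (b' • n) := rfl

lemma smul_eq_ρ (b : B) (w : M ⊗[A] N) : b • w = ρ M N (b ⊗ₜ[A] 1) w := by
  induction w with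
  | zero => simp
  | tmul m n => simp [TensorProduct.smul_tmul']
  | add x y hx hy => rw [smul_add, map_add, hx, hy]

variable {M N} in
lemma ρ_natural {N' : Type*} [AddCommGroup N'] [Module A N'] [Module B N'] [IsScalarTower A B N']
    (ι : N' →ₗ[B] N) (y : B ⊗[A] B) (z : M ⊗[A] N') :
    (ι.restrictScalars A).lTensor M (ρ M N' y z) = ρ M N y ((ι.restrictScalars A).lTensor M z) := by
  induction y with
  | zero => simp
  | add y₁ y₂ h₁ h₂ => simp only [map_add, LinearMap.add_apply, h₁, h₂]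
  | tmul b b' =>
    induction z with
    | zero => simp
    | add z₁ z₂ h₁ h₂ => simp only [map_add, h₁, h₂]
    | tmul m n => simp

lemma map_ρ (y : B ⊗[A] B) (z : M ⊗[A] N) :
    TensorProduct.mapOfCompatibleSMul B A B M N (ρ M N y z) =
      Algebra.TensorProduct.lmul' A y • TensorProduct.mapOfCompatibleSMul B A B M N z := by
  induction y with
  | zero => simp
  | add y₁ y₂ h₁ h₂ => simp only [map_add, LinearMap.add_apply, h₁, h₂, add_smul]
  | tmul b b' =>
    induction z with
    | zero => simp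
    | add z₁ z₂ h₁ h₂ => simp only [map_add, h₁, h₂, smul_add]
    | tmul m n =>
      simp only [ρ_tmul, TensorProduct.mapOfCompatibleSMul_tmul,
        Algebra.TensorProduct.lmul'_apply_tmul]
      rw [← TensorProduct.smul_tmul, TensorProduct.smul_tmul', mul_comm, mul_smul]

variable {M N} in
lemma exists_fix
    (hpure : ∀ x : B ⊗[A] B, Algebra.TensorProduct.lmul' A x = 0 →
      ∃ y : B ⊗[A] B, Algebra.TensorProduct.lmul' A y = 0 ∧ x = x * y)
    (w : M ⊗[A] N) (hw : TensorProduct.mapOfCompatibleSMul B A B M N w = 0) :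
    ∃ y : B ⊗[A] B, Algebra.TensorProduct.lmul' A y = 0 ∧ ρ M N y w = w := by
  have hw' : w ∈ LinearMap.ker (TensorProduct.mapOfCompatibleSMul B A B M N) := hw
  rw [TensorProduct.AlgebraTensorModule.ker_mapOfCompatibleSMul] at hw'
  clear hw
  induction hw' using Submodule.span_induction with
  | mem w hw =>
    obtain ⟨b, m, n, rfl⟩ := hw
    have hx : Algebra.TensorProduct.lmul' A ((b ⊗ₜ[A] (1 : B)) - (1 : B) ⊗ₜ[A] b) = 0 := by
      simp
    obtain ⟨y, hy, hxy⟩ := hpure _ hx
    refine ⟨y, hy, ?_⟩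
    have e : (b • m) ⊗ₜ[A] n - m ⊗ₜ[A] (b • n) =
        ρ M N ((b ⊗ₜ[A] (1 : B)) - (1 : B) ⊗ₜ[A] b) (m ⊗ₜ[A] n) := by
      simp [map_sub]
    rw [e, ← Module.End.mul_apply, ← map_mul, mul_comm, ← hxy]
  | zero => exact ⟨0, map_zero _, by simp⟩
  | add w₁ w₂ _ _ h₁ h₂ =>
    obtain ⟨y₁, hy₁, e₁⟩ := h₁
    obtain ⟨y₂, hy₂, e₂⟩ := h₂
    refine ⟨y₁ + y₂ - y₁ * y₂, by simp [hy₁, hy₂], ?_⟩
    have c₁ : ρ M N (y₁ + y₂ - y₁ * y₂) w₁ = w₁ := by
      rw [map_sub, map_add, mul_comm y₁ y₂, map_mul]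
      simp [Module.End.mul_apply, e₁]
    have c₂ : ρ M N (y₁ + y₂ - y₁ * y₂) w₂ = w₂ := by
      rw [map_sub, map_add, map_mul]
      simp [Module.End.mul_apply, e₂]
    rw [map_add, c₁, c₂]
  | smul b w _ h =>
    obtain ⟨y, hy, e⟩ := h
    refine ⟨y, hy, ?_⟩
    rw [smul_eq_ρ, ← Module.End.mul_apply, ← map_mul, mul_comm, map_mul, Module.End.mul_apply, e]

variable {M N} in
theorem injective_lTensor
    (hpure : ∀ x : B ⊗[A] B, Algebra.TensorProduct.lmul' A x = 0 →
      ∃ y : B ⊗[A] B, Algebra.TensorProduct.lmul' A y = 0 ∧ x = x * y)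
    [Module.Flat A M]
    {N' : Type*} [AddCommGroup N'] [Module A N'] [Module B N'] [IsScalarTower A B N']
    (ι : N' →ₗ[B] N) (hι : Function.Injective ι) : Function.Injective (ι.lTensor M) := by
  rw [injective_iff_map_eq_zero]
  intro t ht
  obtain ⟨z, rfl⟩ := TensorProduct.mapOfCompatibleSMul_surjective B A B M N' t
  have hnat : ∀ z : M ⊗[A] N', TensorProduct.mapOfCompatibleSMul B A B M N
      ((ι.restrictScalars A).lTensor M z) =
      ι.lTensor M (TensorProduct.mapOfCompatibleSMul B A B M N' z) := by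
    intro z
    induction z with
    | zero => simp
    | tmul m n => simp
    | add x y hx hy => simp only [map_add, hx, hy]
  have hz' : TensorProduct.mapOfCompatibleSMul B A B M N
      ((ι.restrictScalars A).lTensor M z) = 0 := by rw [hnat, ht]
  obtain ⟨y, hy, hfix⟩ := exists_fix hpure _ hz'
  have hinj : Function.Injective ((ι.restrictScalars A).lTensor M) :=
    Module.Flat.lTensor_preserves_injective_linearMap _ hι
  have hz : ρ M N' y z = z := by
    apply hinj
    rw [ρ_natural, hfix]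
  rw [← hz, map_ρ, hy, zero_smul]

end Action

section Flat

variable (A B : Type*) [CommRing A] [CommRing B] [Algebra A B]

/-- Stacks 092C-type lemma: if `B ⊗[A] B → B` is flat, a `B`-module which is flat over `A` is flat
over `B`. -/
theorem flat_of_flat (hμ : (Algebra.TensorProduct.lmul' A (S := B)).toRingHom.Flat)
    (M : Type*) [AddCommGroup M] [Module A M] [Module B M] [IsScalarTower A B M]
    [Module.Flat A M] : Module.Flat B M := by
  have hpure : ∀ x : B ⊗[A] B, Algebra.TensorProduct.lmul' A x = 0 →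
      ∃ y : B ⊗[A] B, Algebra.TensorProduct.lmul' A y = 0 ∧ x = x * y := by
    intro x hx
    exact exists_eq_mul_of_flat_of_surjective _ hμ
      (fun b => ⟨b ⊗ₜ[A] 1, by simp⟩) hx
  rw [Module.Flat.iff_lTensor_injective']
  intro J
  exact injective_lTensor hpure J.subtype J.injective_subtype

end Flat

section Tor

open Groth.Agent.H82.LDer Groth.Agent.H82.TorLib Groth.Agent.H82.TorBC2 DRing

lemma isZero_tor_X₃ {R : Type u} [CommRing R] (S : ShortComplex (ModuleCat.{u} R))
    (hS : S.ShortExact) (X : ModuleCat.{u} R) (n : ℕ)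
    (h₂ : IsZero (((Tor (ModuleCat.{u} R) (n + 1)).obj S.X₂).obj X))
    (h₁ : IsZero (((Tor (ModuleCat.{u} R) n).obj S.X₁).obj X)) :
    IsZero (((Tor (ModuleCat.{u} R) (n + 1)).obj S.X₃).obj X) := by
  obtain ⟨-, -, δ, w₁, w₂, e₁, -⟩ := hasLES_tor_flip X S hS n
  exact e₁.isZero_of_both_zeros (h₂.eq_of_src _ _) (h₁.eq_of_tgt _ _)

lemma isZero_tor_X₁ {R : Type u} [CommRing R] (S : ShortComplex (ModuleCat.{u} R))
    (hS : S.ShortExact) (X : ModuleCat.{u} R) (n : ℕ)
    (h₃ : IsZero (((Tor (ModuleCat.{u} R) (n + 1)).obj S.X₃).obj X))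
    (h₂ : IsZero (((Tor (ModuleCat.{u} R) n).obj S.X₂).obj X)) :
    IsZero (((Tor (ModuleCat.{u} R) n).obj S.X₁).obj X) := by
  obtain ⟨-, -, δ, w₁, w₂, -, e₂⟩ := hasLES_tor_flip X S hS n
  exact e₂.isZero_of_both_zeros (h₃.eq_of_src _ _) (h₂.eq_of_tgt _ _)

lemma isZero_tor_of_flat {R : Type u} [CommRing R] (M : ModuleCat.{u} R) [Module.Flat R M]
    (X : ModuleCat.{u} R) (n : ℕ) :
    IsZero (((Tor (ModuleCat.{u} R) (n + 1)).obj M).obj X) := by
  have h := (Groth.Agent.H35.TorAmp.hasTorDimLE_zero_iff_flat (R := R) M).2 inferInstance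
  haveI := h X (n + 1) (by omega)
  exact ModuleCat.isZero_of_subsingleton _

variable (A B : Type u) [CommRing A] [CommRing B] [Algebra A B]

lemma flat_Rs (P : ModuleCat.{u} B) [Module.Flat A B] [Module.Flat B P] :
    Module.Flat A ((Rs A B).obj P) := by
  haveI : Module.Flat B ((Rs A B).obj P) := ‹Module.Flat B P›
  exact Module.Flat.trans A B ((Rs A B).obj P)

theorem tor_vanish [Algebra.WeaklyEtale A B] :
    ∀ (d : ℕ) (N : ModuleCat.{u} B),
      (∀ (X : ModuleCat.{u} A) (p : ℕ), d < p →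
        IsZero (((Tor (ModuleCat.{u} A) p).obj ((Rs A B).obj N)).obj X)) →
      ∀ (X : ModuleCat.{u} B) (p : ℕ), d < p →
        IsZero (((Tor (ModuleCat.{u} B) p).obj N).obj X) := by
  intro d
  induction d with
  | zero =>
    intro N hN X p hp
    haveI hflatA : Module.Flat A ((Rs A B).obj N) :=
      (Groth.Agent.H35.TorAmp.hasTorDimLE_zero_iff_flat (R := A) ((Rs A B).obj N)).1
        (fun Y _ _ q hq => ModuleCat.subsingleton_of_isZero (hN (ModuleCat.of A Y) q hq))
    haveI : Module.Flat B N := by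
      have : Module.Flat B ((Rs A B).obj N) :=
        flat_of_flat A B (Algebra.WeaklyEtale.flat_lmul' A B) ((Rs A B).obj N)
      exact this
    obtain ⟨n, rfl⟩ : ∃ n, p = n + 1 := ⟨p - 1, by omega⟩
    exact isZero_tor_of_flat N X n
  | succ d ih =>
    intro N hN X p hp
    obtain ⟨n, rfl⟩ : ∃ n, p = n + 1 := ⟨p - 1, by omega⟩
    have hS : (pres N).ShortExact := pres_shortExact N
    have hSA : ((pres N).map (Rs A B)).ShortExact := hS.map_of_exact (Rs A B)
    haveI : Module.Flat B (pres N).X₂ := by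
      have h : Projective (pres N).X₂ := inferInstance
      haveI : Module.Projective B (pres N).X₂ := (IsProjective.iff_projective _).2 h
      infer_instance
    haveI := flat_Rs A B (pres N).X₂
    have hK : ∀ (Y : ModuleCat.{u} A) (q : ℕ), d < q →
        IsZero (((Tor (ModuleCat.{u} A) q).obj ((Rs A B).obj (pres N).X₁)).obj Y) := by
      intro Y q hq
      obtain ⟨q', rfl⟩ : ∃ q', q = q' + 1 := ⟨q - 1, by omega⟩
      exact isZero_tor_X₁ ((pres N).map (Rs A B)) hSA Y (q' + 1) (hN Y (q' + 1 + 1) (by omega))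
        (isZero_tor_of_flat ((Rs A B).obj (pres N).X₂) Y q')
    exact isZero_tor_X₃ (pres N) hS X n (isZero_tor_of_flat (pres N).X₂ X n)
      (ih (pres N).X₁ hK X n (by omega))

/-- weak dimension `≤ d` ascends along weakly étale ring maps. -/
theorem hasTorDimLE_of_weaklyEtale [Algebra.WeaklyEtale A B] (d : ℕ)
    (hA : ∀ (M : Type u) [AddCommGroup M] [Module A M], HasTorDimLE A d M)
    (N : Type u) [AddCommGroup N] [Module B N] : HasTorDimLE B d N := by
  intro X _ _ p hp
  have h := tor_vanish A B d (ModuleCat.of B N)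
    (fun Y q hq => by
      haveI := hA ((Rs A B).obj (ModuleCat.of B N)) Y q hq
      exact ModuleCat.isZero_of_subsingleton _)
    (ModuleCat.of B X) p hp
  exact ModuleCat.subsingleton_of_isZero h

end Tor

end Groth.Agent.H56.WeakEtale
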