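import Mathlib
import Groth.Agent.H56.SmoothPerf
import Groth.Agent.H56.WeakEtale
import Groth.Agent.H56.TorLoc2

/-!
Cancellation for perfect ring maps / morphisms (helper56):
* `qp_aeval`: evaluation `B[x_1..x_n] → B` is perfect;
* `qp_of_comp_C`: `A → B` perfect and `ψ : A[x_1..x_n] → B` over it ⇒ `ψ` perfect;
* `qp_of_comp_etale`: `P → B` étale, `P → B → T` perfect ⇒ `B → T` perfect;
* `qp_of_comp_smooth`: `A → B` smooth, `A → B → T` perfect ⇒ `B → T` perfect;
* `pp_of_comp_smooth`: scheme version.
-/

set_option autoImplicit false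
set_option linter.style.haveILetI false
universe u
open CategoryTheory CategoryTheory.Limits AlgebraicGeometry
attribute [local instance] HasDerivedCategory.standard

namespace Groth.Agent.H56.PcMor

open DRing Groth.Agent.H56 Groth.Agent.H56.FlatPc

/-- evaluation at a point `R[X] → R` is a perfect ring map. -/
lemma qp_evalRingHom {S : Type u} [CommRing S] (s : S) : QP (Polynomial.evalRingHom s) := by
  refine qp_of_regular_element (Polynomial.evalRingHom s) ?_ (Polynomial.X - Polynomial.C s) ?_ ?_
  · intro t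
    exact ⟨Polynomial.C t, Polynomial.eval_C⟩
  · intro a ha
    have hreg := (Polynomial.monic_X_sub_C s).isRegular.left
    apply hreg
    show (Polynomial.X - Polynomial.C s) * a = (Polynomial.X - Polynomial.C s) * 0
    rw [ha, mul_zero]
  · exact Polynomial.ker_evalRingHom s

/-- evaluation `S[x_1..x_k] → S` is a perfect ring map. -/
lemma qp_aeval (k : ℕ) : ∀ (S : Type u) [CommRing S] (f : Fin k → S),
    QP ((MvPolynomial.aeval f : MvPolynomial (Fin k) S →ₐ[S] S) :
      MvPolynomial (Fin k) S →+* S) := by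
  induction k with
  | zero =>
    intro S _ f
    apply qp_holdsForLocalizationAway.of_bijective
    have h : (MvPolynomial.aeval f : MvPolynomial (Fin 0) S →ₐ[S] S) =
        (MvPolynomial.isEmptyAlgEquiv S (Fin 0)).toAlgHom :=
      MvPolynomial.algHom_ext (fun i => i.elim0)
    rw [h]
    exact (MvPolynomial.isEmptyAlgEquiv S (Fin 0)).bijective
  | succ k ih =>
    intro S _ f
    have h1 : QP ((MvPolynomial.finSuccEquiv S k :
        MvPolynomial (Fin (k + 1)) S ≃ₐ[S] Polynomial (MvPolynomial (Fin k) S)) :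
        MvPolynomial (Fin (k + 1)) S →+* Polynomial (MvPolynomial (Fin k) S)) :=
      qp_holdsForLocalizationAway.of_bijective _ _ (MvPolynomial.finSuccEquiv S k).bijective
    have h2 : QP (Polynomial.evalRingHom
        (MvPolynomial.C (f 0) : MvPolynomial (Fin k) S)) := qp_evalRingHom _
    have h3 := ih S (fun j => f j.succ)
    have heq : ((MvPolynomial.aeval f : MvPolynomial (Fin (k + 1)) S →ₐ[S] S) :
        MvPolynomial (Fin (k + 1)) S →+* S) =
        RingHom.comp ((MvPolynomial.aeval (fun j => f j.succ) :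
          MvPolynomial (Fin k) S →ₐ[S] S) : MvPolynomial (Fin k) S →+* S)
          ((Polynomial.evalRingHom (MvPolynomial.C (f 0) : MvPolynomial (Fin k) S)).comp
            ((MvPolynomial.finSuccEquiv S k :
              MvPolynomial (Fin (k + 1)) S ≃ₐ[S] Polynomial (MvPolynomial (Fin k) S)) :
              MvPolynomial (Fin (k + 1)) S →+* Polynomial (MvPolynomial (Fin k) S))) := by
      apply MvPolynomial.ringHom_ext
      · intro r
        simp [MvPolynomial.finSuccEquiv_apply]
      · intro i
        refine Fin.cases ?_ (fun j => ?_) i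
        · simp [MvPolynomial.finSuccEquiv_X_zero]
        · simp [MvPolynomial.finSuccEquiv_X_succ]
    rw [heq]
    exact qp_stableUnderComposition _ _ (qp_stableUnderComposition _ _ h1 h2) h3

attribute [local instance] MvPolynomial.algebraMvPolynomial in
/-- `A → B` perfect ⇒ `A[x] → B[x]` perfect. -/
lemma qp_mvPolynomial_map {A B : Type u} [CommRing A] [CommRing B] (φ : A →+* B) (hφ : QP φ)
    (n : ℕ) :
    QP (MvPolynomial.map φ : MvPolynomial (Fin n) A →+* MvPolynomial (Fin n) B) := by
  letI : Algebra A B := φ.toAlgebra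
  have h' : QP (algebraMap A B) := hφ
  rw [qp_iff] at h'
  have h1 : Q (algebraMap (MvPolynomial (Fin n) A) (MvPolynomial (Fin n) B)) :=
    q_flat_baseChange A B (MvPolynomial (Fin n) A) (MvPolynomial (Fin n) B) h'.1
  have h2 : FT (algebraMap (MvPolynomial (Fin n) A) (MvPolynomial (Fin n) B)) :=
    ft_algebraMap_iff.2 (TorLoc.hasFiniteTorDim_baseChange A B (MvPolynomial (Fin n) A)
      (MvPolynomial (Fin n) B) (ft_algebraMap_iff.1 h'.2))
  exact ⟨h1, h2⟩

/-- polynomial cancellation: if `A → A[x_1..x_n] → B` is perfect then so is `A[x_1..x_n] → B`. -/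
theorem qp_of_comp_C {A B : Type u} [CommRing A] [CommRing B] (n : ℕ)
    (ψ : MvPolynomial (Fin n) A →+* B) (h : QP (ψ.comp MvPolynomial.C)) : QP ψ := by
  have h1 := qp_mvPolynomial_map (ψ.comp MvPolynomial.C) h n
  have h2 := qp_aeval n B (fun i => ψ (MvPolynomial.X i))
  have heq : ψ = RingHom.comp ((MvPolynomial.aeval (fun i => ψ (MvPolynomial.X i)) :
      MvPolynomial (Fin n) B →ₐ[B] B) : MvPolynomial (Fin n) B →+* B)
      (MvPolynomial.map (ψ.comp MvPolynomial.C)) := by
    apply MvPolynomial.ringHom_ext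
    · intro r
      simp
    · intro i
      simp
  rw [heq]
  exact qp_stableUnderComposition _ _ h1 h2

open Groth.Agent.H82.TorBC2 in
/-- tor dimension of an algebra ascends along a weakly étale ring map in a tower. -/
theorem hasTorDimLE_tower_of_weaklyEtale (A B T : Type u) [CommRing A] [CommRing B] [CommRing T]
    [Algebra A B] [Algebra B T] [Algebra A T] [IsScalarTower A B T] [Algebra.WeaklyEtale A B]
    (d : ℕ) (h : HasTorDimLE A d T) : HasTorDimLE B d T := by
  intro X _ _ p hp
  have h' := WeakEtale.tor_vanish A B d (ModuleCat.of B T) (fun Y q hq => by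
    have hz : IsZero (((CategoryTheory.Tor (ModuleCat.{u} A) q).obj (ModuleCat.of A T)).obj Y) := by
      haveI := h Y q hq
      exact ModuleCat.isZero_of_subsingleton _
    exact hz.of_iso (((CategoryTheory.Tor (ModuleCat.{u} A) q).mapIso
      (TorLoc.restrictIso A B T)).app Y)) (ModuleCat.of B X) p hp
  exact ModuleCat.subsingleton_of_isZero h'

/-- étale cancellation: `P → B` étale and `P → B → T` perfect ⇒ `B → T` perfect. -/
theorem qp_of_comp_etale {P B T : Type u} [CommRing P] [CommRing B] [CommRing T] [Algebra P B]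
    [Algebra.Etale P B] (g : B →+* T) (h : QP (g.comp (algebraMap P B))) : QP g := by
  letI : Algebra B T := g.toAlgebra
  letI : Algebra P T := (g.comp (algebraMap P B)).toAlgebra
  haveI : IsScalarTower P B T := IsScalarTower.of_algebraMap_eq (fun _ => rfl)
  rw [qp_iff] at h ⊢
  refine ⟨q_of_comp (algebraMap P B) g (qp_of_smooth P B).1 h.1, ?_⟩
  obtain ⟨d, hd⟩ := h.2
  exact ⟨d, hasTorDimLE_tower_of_weaklyEtale P B T d hd⟩

/-- smooth cancellation: `A → B` smooth and `A → B → T` perfect ⇒ `B → T` perfect. -/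
theorem qp_of_comp_smooth {A B T : Type u} [CommRing A] [CommRing B] [CommRing T]
    (φ : A →+* B) (ψ : B →+* T) (hφ : φ.Smooth) (h : QP (ψ.comp φ)) : QP ψ := by
  letI : Algebra A B := φ.toAlgebra
  haveI : Algebra.Smooth A B := hφ
  have hs : Ideal.span {b : B | QP (Localization.awayMap ψ b)} = ⊤ := by
    by_contra hne
    obtain ⟨𝔪, h𝔪, hle⟩ := Ideal.exists_le_maximal _ hne
    haveI : 𝔪.IsPrime := h𝔪.isPrime
    haveI : Algebra.FinitePresentation A B := Algebra.Smooth.finitePresentation
    haveI : Algebra.IsSmoothAt A 𝔪 := by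
      have h0 : (⟨𝔪, inferInstance⟩ : PrimeSpectrum B) ∈ Algebra.smoothLocus A B := by
        rw [Algebra.smoothLocus_eq_univ]
        exact Set.mem_univ _
      exact h0
    obtain ⟨f, hf, n, inst, htower, hse⟩ :=
      Algebra.IsSmoothAt.exists_isStandardEtale_mvPolynomial (R := A) (p := 𝔪)
    apply hf
    apply hle
    apply Ideal.subset_span
    show QP (Localization.awayMap ψ f)
    apply qp_of_comp_etale (P := MvPolynomial (Fin n) A) (B := Localization.Away f)
    apply qp_of_comp_C
    have heq : ((Localization.awayMap ψ f).comp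
        (algebraMap (MvPolynomial (Fin n) A) (Localization.Away f))).comp MvPolynomial.C =
        (algebraMap T (Localization.Away (ψ f))).comp (ψ.comp φ) := by
      refine RingHom.ext fun a => ?_
      have e1 := IsScalarTower.algebraMap_apply A (MvPolynomial (Fin n) A) (Localization.Away f) a
      have e2 := IsScalarTower.algebraMap_apply A B (Localization.Away f) a
      rw [MvPolynomial.algebraMap_eq] at e1
      show Localization.awayMap ψ f (algebraMap (MvPolynomial (Fin n) A) (Localization.Away f)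
        (MvPolynomial.C a)) = algebraMap T (Localization.Away (ψ f)) (ψ (φ a))
      rw [← e1, e2]
      exact IsLocalization.map_eq _ _
    rw [heq]
    exact qp_stableUnderComposition _ _ h
      (qp_holdsForLocalizationAway (Localization.Away (ψ f)) (ψ f))
  exact qp_isLocal.ofLocalizationSpan _ _ hs (fun r => r.2)

/-- scheme-level smooth cancellation for perfect morphisms. -/
theorem pp_of_comp_smooth {X Y S : Scheme.{u}} (f : X ⟶ Y) (g : Y ⟶ S) [Smooth g]
    (h : PP (f ≫ g)) : PP f := by
  rw [HasRingHomProperty.iff_exists_appLE (P := PP) qp_srcLoc]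
  intro x
  obtain ⟨_, ⟨W, hW, rfl⟩, hxW, -⟩ :=
    S.isBasis_affineOpens.exists_subset_of_mem_open (Set.mem_univ (g (f x))) isOpen_univ
  obtain ⟨_, ⟨U, hU, rfl⟩, hxU, hUW⟩ :=
    Y.isBasis_affineOpens.exists_subset_of_mem_open (show f x ∈ (g ⁻¹ᵁ W : Set Y) from hxW)
      (g ⁻¹ᵁ W).2
  obtain ⟨_, ⟨V, hV, rfl⟩, hxV, hVU⟩ :=
    X.isBasis_affineOpens.exists_subset_of_mem_open (show x ∈ (f ⁻¹ᵁ U : Set X) from hxU)
      (f ⁻¹ᵁ U).2
  refine ⟨⟨U, hU⟩, ⟨V, hV⟩, hxV, hVU, ?_⟩
  have h1 := HasRingHomProperty.appLE PP (f ≫ g) h ⟨W, hW⟩ ⟨V, hV⟩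
    (hVU.trans ((TopologicalSpace.Opens.map f.base).map (homOfLE hUW)).le)
  have h2 : QP (g.appLE W U hUW ≫ f.appLE U V hVU).hom := by
    rw [Scheme.Hom.appLE_comp_appLE]
    exact h1
  rw [CommRingCat.hom_comp] at h2
  exact qp_of_comp_smooth _ _ (Smooth.smooth_appLE g hW hU hUW) h2

end Groth.Agent.H56.PcMor
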