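import Groth.Agent.H56.DCompB

/-!
# `RHom(Čech, -)` and derived completion: the universal property (helper56)

* `FLocal f X` : `f` acts invertibly on every term of the complex `X`.
* `coconeProj φ : cocone φ ⟶ K` and `coconeProj_bijective` : restriction along
  `Hom•(K, J) ⟶ Hom•(cocone φ, J)` is bijective on maps to derived complete objects when
  `Hom•(L[-1], J)` is left orthogonal to them.
* `aug M fs : extCech M fs ⟶ M[0]`, `aug_bijective`.
* `extCech_isKFlat`, `extCech_complete`.
-/

set_option autoImplicit false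
set_option linter.unusedSectionVars false
set_option linter.style.haveILetI false
universe u
open CategoryTheory CategoryTheory.Limits MonoidalCategory HomologicalComplex CochainComplex
open CochainComplex.HomComplex Pretriangulated
attribute [local instance] HasDerivedCategory.standard

namespace Groth.Agent.H56.DCompTri

open Groth.Agent.H33.RHomCxKInj Groth.Agent.H33.RHomCxComp Groth.Agent.H35.LTC
open Groth.Agent.H33.TensorHom Groth.Agent.H33.HomKFlat Groth.Agent.H35.DerCompKos
open Groth.Agent.H35.DerCompKos2 Groth.Agent.H56.DCompB DerCA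

variable {A : Type u} [CommRing A]

/-! ### `f`-local complexes -/

/-- `f` acts invertibly on every term of `X`. -/
def FLocal (f : A) (X : DRing.Cx A) : Prop := ∀ n : ℤ, IsIso (f • 𝟙 (X.X n))

lemma FLocal.shift {f : A} {X : DRing.Cx A} (h : FLocal f X) (a : ℤ) : FLocal f (X⟦a⟧) :=
  fun n => h (n + a)

lemma isIso_smul_id_loc (f : A) (M : ModuleCat.{u} A) :
    IsIso (f • 𝟙 ((DerCA.locFunctor (Submonoid.powers f)).obj M)) := by
  have hu : IsUnit (algebraMap A (Module.End A (LocalizedModule (Submonoid.powers f) M)) f) :=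
    IsLocalizedModule.map_units (LocalizedModule.mkLinearMap (Submonoid.powers f) M)
      ⟨f, Submonoid.mem_powers f⟩
  rw [Module.End.isUnit_iff] at hu
  have hb : Function.Bijective (fun x : LocalizedModule (Submonoid.powers f) M => f • x) := hu
  exact (ConcreteCategory.isIso_iff_bijective _).2 hb

lemma fLocal_locCx (f : A) (C : DRing.Cx A) :
    FLocal f ((DerCA.locCx (Submonoid.powers f)).obj C) :=
  fun n => isIso_smul_id_loc f (C.X n)

lemma FLocal.isIso_smul {f : A} {X : DRing.Cx A} (h : FLocal f X) : IsIso (f • 𝟙 X) := by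
  haveI : ∀ n, IsIso ((f • 𝟙 X).f n) := fun n => h n
  exact HomologicalComplex.Hom.isIso_of_components _

lemma homCxPre_smul_id (f : A) (X J : DRing.Cx A) :
    homCxPre (f • 𝟙 X) J = f • 𝟙 (DRing.homCx X J) := by
  refine HomologicalComplex.hom_ext _ _ fun i =>
    ModuleCat.hom_ext (LinearMap.ext fun (z : Cochain X J i) => ?_)
  show (Cochain.ofHom (f • 𝟙 X)).comp z (zero_add i) = f • z
  refine Cochain.ext _ _ fun p q hpq => ?_
  rw [Cochain.zero_cochain_comp_v, Cochain.ofHom_v, Cochain.smul_v]
  show (f • 𝟙 (X.X p)) ≫ z.v p q hpq = f • z.v p q hpq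
  rw [Linear.smul_comp, Category.id_comp]

lemma FLocal.isIso_smul_Q {f : A} {X : DRing.Cx A} (h : FLocal f X) (J : DRing.Cx A) :
    IsIso (f • 𝟙 (DerivedCategory.Q.obj (DRing.homCx X J))) := by
  haveI := h.isIso_smul
  have h1 : IsIso (homCxPre (f • 𝟙 X) J) := by
    refine ⟨⟨homCxPre (inv (f • 𝟙 X)) J, ?_, ?_⟩⟩
    · rw [← homCxPre_comp, IsIso.inv_hom_id]
      exact homCxPre_id X J
    · rw [← homCxPre_comp, IsIso.hom_inv_id]
      exact homCxPre_id X J
  rw [homCxPre_smul_id] at h1
  have h2 : DerivedCategory.Q.map (f • 𝟙 (DRing.homCx X J)) =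
      f • 𝟙 (DerivedCategory.Q.obj (DRing.homCx X J)) := by
    rw [Functor.map_smul, CategoryTheory.Functor.map_id]
  rw [← h2]
  infer_instance

/-- If `f ∈ I` acts invertibly on `W`, then `W` is left orthogonal to the derived complete
objects (uses the existence of derived completions). -/
lemma LO_of_isIso_smul (I : Ideal A) [DRing.HasDerivedCompletion I] {f : A} (hf : f ∈ I)
    (W : Dual.D A) (h : IsIso (f • 𝟙 W)) : LO I W := by
  obtain ⟨W', p, d, hT⟩ := exists_isConeMul f W
  have hz : IsZero W' := (Triangle.isZero₃_iff_isIso₁ _ hT).2 h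
  exact LO_of_isConeMul I hf ⟨p, d, hT⟩ (fun L _ x => hz.eq_of_src x 0)

/-! ### the step -/

section Step

variable {K L : DRing.Cx A} (φ : K ⟶ L)

/-- the short complex `L⟦-1⟧ ⟶ cocone φ ⟶ K⟦1⟧⟦-1⟧`. -/
noncomputable def coconeSC : ShortComplex (DRing.Cx A) :=
  (CochainComplex.mappingCone.triangleRotateShortComplex φ).map
    (shiftFunctor (DRing.Cx A) (-1 : ℤ))

/-- its degreewise splitting. -/
noncomputable def coconeSCSplitting (n : ℤ) :
    ((coconeSC φ).map (HomologicalComplex.eval (ModuleCat.{u} A) (ComplexShape.up ℤ) n)).Splitting :=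
  let σ := CochainComplex.mappingCone.triangleRotateShortComplexSplitting φ (n + -1)
  { r := σ.r
    s := σ.s
    f_r := σ.f_r
    s_g := σ.s_g
    id := σ.id }

/-- the projection `cocone φ ⟶ K` (up to sign). -/
noncomputable def coconeProj : CochainComplex.mappingCocone φ ⟶ K :=
  (coconeSC φ).g ≫ ((shiftFunctorCompIsoId (DRing.Cx A) (1 : ℤ) (-1) (by norm_num)).app K).hom

theorem step_bijective (I : Ideal A) (J : DRing.Cx A)
    (hLO : LO I (DerivedCategory.Q.obj (DRing.homCx (L⟦(-1 : ℤ)⟧) J)))
    (E : Dual.D A) (hE : DRing.IsDerivedComplete I E) :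
    Function.Bijective (fun x : DerivedCategory.Q.obj
        (DRing.homCx (CochainComplex.mappingCocone φ) J) ⟶ E =>
      DerivedCategory.Q.map (homCxPre (coconeSC φ).g J) ≫ x) := by
  have hS := shortExact_homSC (coconeSC φ) (coconeSCSplitting φ) J
  have hT := DerivedCategory.triangleOfSES_distinguished hS
  exact bijective_of_LO I (DerivedCategory.Q.map (homSC (coconeSC φ) J).f)
    (DerivedCategory.Q.map (homSC (coconeSC φ) J).g) (DerivedCategory.triangleOfSESδ hS) hT hLO E hE

theorem coconeProj_bijective (I : Ideal A) (J : DRing.Cx A)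
    (hLO : LO I (DerivedCategory.Q.obj (DRing.homCx (L⟦(-1 : ℤ)⟧) J)))
    (E : Dual.D A) (hE : DRing.IsDerivedComplete I E) :
    Function.Bijective (fun x : DerivedCategory.Q.obj
        (DRing.homCx (CochainComplex.mappingCocone φ) J) ⟶ E =>
      DerivedCategory.Q.map (homCxPre (coconeProj φ) J) ≫ x) := by
  have h1 := step_bijective φ I J hLO E hE
  let e := (shiftFunctorCompIsoId (DRing.Cx A) (1 : ℤ) (-1) (by norm_num)).app K
  let ε : DRing.homCx K J ≅ DRing.homCx ((K⟦(1 : ℤ)⟧)⟦(-1 : ℤ)⟧) J := homCxIsoOfIso e.symm J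
  have h3 : Function.Bijective (fun y : DerivedCategory.Q.obj
      (DRing.homCx ((K⟦(1 : ℤ)⟧)⟦(-1 : ℤ)⟧) J) ⟶ E => (DerivedCategory.Q.mapIso ε).hom ≫ y) :=
    ⟨fun a b h => (cancel_epi _).1 h, fun y => ⟨(DerivedCategory.Q.mapIso ε).inv ≫ y, by simp⟩⟩
  have h2 : (fun x : DerivedCategory.Q.obj
        (DRing.homCx (CochainComplex.mappingCocone φ) J) ⟶ E =>
      DerivedCategory.Q.map (homCxPre (coconeProj φ) J) ≫ x) =
      (fun y : DerivedCategory.Q.obj (DRing.homCx ((K⟦(1 : ℤ)⟧)⟦(-1 : ℤ)⟧) J) ⟶ E =>
        (DerivedCategory.Q.mapIso ε).hom ≫ y) ∘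
      (fun x : DerivedCategory.Q.obj (DRing.homCx (CochainComplex.mappingCocone φ) J) ⟶ E =>
        DerivedCategory.Q.map (homCxPre (coconeSC φ).g J) ≫ x) := by
    funext x
    show DerivedCategory.Q.map (homCxPre ((coconeSC φ).g ≫ e.hom) J) ≫ x =
      DerivedCategory.Q.map (homCxPre e.hom J) ≫
        (DerivedCategory.Q.map (homCxPre (coconeSC φ).g J) ≫ x)
    exact (congrArg (fun t => DerivedCategory.Q.map t ≫ x)
      (homCxPre_comp (coconeSC φ).g e.hom J)).trans
      ((congrArg (fun t => t ≫ x) (DerivedCategory.Q.map_comp _ _)).trans (Category.assoc _ _ _))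
  rw [h2]
  exact h3.comp h1

end Step

/-! ### the extended Čech complex -/

section Cech

variable (M : ModuleCat.{u} A)

/-- the augmentation `extCech M fs ⟶ M[0]` (up to sign). -/
noncomputable def aug : (fs : List A) → (extCech M fs ⟶ extCech M [])
  | [] => 𝟙 _
  | f :: fs =>
    (show extCech M (f :: fs) ⟶ extCech M fs from
      coconeProj (locCxUnit (Submonoid.powers f) (extCech M fs))) ≫ aug fs

lemma vanishesAbove_locCx (S : Submonoid A) {C : DRing.Cx A} {b : ℤ}
    (h : DRing.VanishesAbove C b) : DRing.VanishesAbove ((locCx S).obj C) b :=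
  fun i hi => (locFunctor S).map_isZero (h i hi)

lemma flat_locCx (S : Submonoid A) {C : DRing.Cx A} (h : DRing.TermwiseFlat C) :
    DRing.TermwiseFlat ((locCx S).obj C) := fun i => by
  haveI := h i
  exact Module.Flat.of_linearEquiv (tensorAwayEquiv S (C.X i))

lemma extCech_vanishesAbove (fs : List A) : DRing.VanishesAbove (extCech M fs) fs.length := by
  induction fs with
  | nil =>
    intro i hi
    exact HomologicalComplex.isZero_single_obj_X _ _ _ _ (by simp at hi; omega)
  | cons f fs ih =>
    intro i hi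
    have h1 := Groth.Agent.H35.TorAmp.vanishesAbove_mappingCone
      (locCxUnit (Submonoid.powers f) (extCech M fs)) fs.length fs.length ih
      (vanishesAbove_locCx _ ih)
    have hi' : ((fs.length : ℤ) + 1) < i := by
      simpa [List.length_cons] using hi
    exact h1 (i + -1) (max_lt (by omega) (by omega))

lemma extCech_flat [Module.Flat A M] (fs : List A) : DRing.TermwiseFlat (extCech M fs) := by
  induction fs with
  | nil =>
    intro i
    by_cases h : i = 0
    · subst h
      exact Module.Flat.of_linearEquiv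
        (HomologicalComplex.singleObjXSelf (ComplexShape.up ℤ) 0 M).toLinearEquiv
    · exact Groth.Agent.H31.KFlatRing.flat_of_isZero _
        (HomologicalComplex.isZero_single_obj_X _ _ _ _ h)
  | cons f fs ih =>
    intro i
    exact Groth.Agent.H35.TorAmp.flat_mappingCone
      (locCxUnit (Submonoid.powers f) (extCech M fs)) ih (flat_locCx _ ih) (i + -1)

lemma extCech_isKFlat [Module.Flat A M] (fs : List A) : DRing.IsKFlat A (extCech M fs) :=
  Groth.Agent.H31.KFlatRing.isKFlat_of_bounded_above_flat _ fs.length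
    (extCech_vanishesAbove M fs) (extCech_flat M fs)

/-- `Hom•(Čech, J)` is derived complete. -/
theorem extCech_complete [Module.Flat A M] (fs : List A) (J : DRing.Cx A) [J.IsKInjective] :
    DRing.IsDerivedComplete (Ideal.span {x : A | x ∈ fs})
      (DerivedCategory.Q.obj (DRing.homCx (extCech M fs) J)) := by
  rw [Groth.Agent.H35.isDerivedComplete_span_iff]
  intro f hf
  rw [← Groth.Agent.H35.homVanish_away_iff_seqComplete_homology]
  intro n
  exact homVanish_homCx f _ J (extCech_isKFlat M fs)
    (Groth.Agent.H46.locCx_extCech_acyclic M fs f hf) n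

/-- restriction along the augmentation is bijective on maps to derived complete objects. -/
theorem aug_bijective (I : Ideal A) (J : DRing.Cx A)
    (hV : ∀ f ∈ I, ∀ X : DRing.Cx A, FLocal f X →
      LO I (DerivedCategory.Q.obj (DRing.homCx X J)))
    (fs : List A) (hfs : ∀ f ∈ fs, f ∈ I) (E : Dual.D A) (hE : DRing.IsDerivedComplete I E) :
    Function.Bijective (fun x : DerivedCategory.Q.obj (DRing.homCx (extCech M fs) J) ⟶ E =>
      DerivedCategory.Q.map (homCxPre (aug M fs) J) ≫ x) := by
  induction fs with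
  | nil =>
    have h : (fun x : DerivedCategory.Q.obj (DRing.homCx (extCech M []) J) ⟶ E =>
        DerivedCategory.Q.map (homCxPre (aug M []) J) ≫ x) = id := by
      funext x
      show DerivedCategory.Q.map (homCxPre (𝟙 _) J) ≫ x = x
      rw [homCxPre_id, CategoryTheory.Functor.map_id, Category.id_comp]
    rw [h]
    exact Function.bijective_id
  | cons f fs ih =>
    have ih' := ih (fun g hg => hfs g (List.mem_cons_of_mem _ hg))
    have hLO : LO I (DerivedCategory.Q.obj (DRing.homCx
        (((locCx (Submonoid.powers f)).obj (extCech M fs))⟦(-1 : ℤ)⟧) J)) :=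
      hV f (hfs f List.mem_cons_self) _ ((fLocal_locCx f _).shift (-1))
    have h1 := coconeProj_bijective (locCxUnit (Submonoid.powers f) (extCech M fs)) I J hLO E hE
    have h2 : (fun x : DerivedCategory.Q.obj (DRing.homCx (extCech M (f :: fs)) J) ⟶ E =>
        DerivedCategory.Q.map (homCxPre (aug M (f :: fs)) J) ≫ x) =
        (fun y : DerivedCategory.Q.obj (DRing.homCx (extCech M fs) J) ⟶ E =>
          DerivedCategory.Q.map (homCxPre (aug M fs) J) ≫ y) ∘
        (fun x : DerivedCategory.Q.obj (DRing.homCx (CochainComplex.mappingCocone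
            (locCxUnit (Submonoid.powers f) (extCech M fs))) J) ⟶ E =>
          DerivedCategory.Q.map (homCxPre (coconeProj
            (locCxUnit (Submonoid.powers f) (extCech M fs))) J) ≫ x) := by
      funext x
      show DerivedCategory.Q.map (homCxPre (coconeProj
          (locCxUnit (Submonoid.powers f) (extCech M fs)) ≫ aug M fs) J) ≫ x =
        DerivedCategory.Q.map (homCxPre (aug M fs) J) ≫
          (DerivedCategory.Q.map (homCxPre (coconeProj
            (locCxUnit (Submonoid.powers f) (extCech M fs))) J) ≫ x)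
      exact (congrArg (fun t => DerivedCategory.Q.map t ≫ x)
        (homCxPre_comp (coconeProj (locCxUnit (Submonoid.powers f) (extCech M fs)))
          (aug M fs) J)).trans
        ((congrArg (fun t => t ≫ x) (DerivedCategory.Q.map_comp _ _)).trans
          (Category.assoc _ _ _))
    rw [h2]
    exact ih'.comp h1

end Cech

/-- `Hom•(A[0], J) ≅ J`. -/
noncomputable def homUnitIso : DRing.homCxFunctor (𝟙_ (DRing.Cx A)) ≅ 𝟭 (DRing.Cx A) :=
  Adjunction.rightAdjointUniq (tensorHomAdj (𝟙_ (DRing.Cx A)))
    (Adjunction.id.ofNatIsoLeft (rightUnitorNatIso (DRing.Cx A)).symm)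

/-- `J ≅ Hom•(extCech A [], J)`. -/
noncomputable def baseIso (J : DRing.Cx A) :
    J ≅ DRing.homCx (extCech (ModuleCat.of A A) []) J :=
  (homUnitIso.app J).symm

end Groth.Agent.H56.DCompTri
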