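import Mathlib
import Groth.Prelude.Def_DerCA

/-!
# Extension of scalars commutes with localisation at an element (helper56)

For `φ : A →+* B`, `f : A`, `g : B` with `φ f = g ^ p`, `0 < p` (e.g. `g = φ f`, `p = 1`, or `φ` the
Frobenius, `g = f`), and an `A`-module `N`:
`betaIso : B ⊗_A N_f ≅ (B ⊗_A N)_g`, natural in `N` (`beta_naturality`) and compatible with the
localisation maps (`ext_map_unit_beta`).  Chain level: `c0 : ext (K_f) ≅ (ext K)_g` with `ext_map_locCxUnit_c0`.
-/

set_option autoImplicit false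
universe u
open CategoryTheory DerCA TensorProduct ChangeOfRings

namespace Groth.Agent.H56.ExtLoc

section Gen

/-- multiplication by `a` as a morphism of `ModuleCat`. -/
noncomputable def smulHom {R : Type u} [CommRing R] (a : R) (Y : ModuleCat.{u} R) : Y ⟶ Y :=
  ModuleCat.ofHom (a • (LinearMap.id : Y →ₗ[R] Y))

lemma smulHom_apply {R : Type u} [CommRing R] (a : R) (Y : ModuleCat.{u} R) (y : Y) :
    (smulHom a Y) y = a • y := rfl

lemma isUnit_iff_isIso_smulHom {R : Type u} [CommRing R] (b : R) (M : ModuleCat.{u} R) :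
    IsUnit (algebraMap R (Module.End R M) b) ↔ IsIso (smulHom b M) := by
  rw [Module.End.isUnit_iff, ConcreteCategory.isIso_iff_bijective]
  rfl

lemma isUnit_pow_iff' {R : Type u} [CommRing R] {M : Type u} [AddCommGroup M] [Module R M] (b : R)
    (n : ℕ) (hn : 0 < n) :
    IsUnit (algebraMap R (Module.End R M) (b ^ n)) ↔ IsUnit (algebraMap R (Module.End R M) b) := by
  rw [map_pow]
  exact isUnit_pow_iff (by omega)

lemma isUnit_of_mem_powers {R : Type u} [CommRing R] {M : Type u} [AddCommGroup M] [Module R M]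
    (b : R) (h : IsUnit (algebraMap R (Module.End R M) b)) (x : Submonoid.powers b) :
    IsUnit (algebraMap R (Module.End R M) x) := by
  obtain ⟨x, k, rfl⟩ := x
  show IsUnit (algebraMap R (Module.End R M) (b ^ k))
  rw [map_pow]
  exact h.pow k

end Gen

variable {A B : Type u} [CommRing A] [CommRing B] (φ : A →+* B)

lemma tmul_smul_one (a : A) (Y : ModuleCat.{u} A) (y : Y) :
    ((1 : B) ⊗ₜ[A,φ] (a • y) : (ModuleCat.extendScalars.{u,u,u} φ).obj Y) = (φ a) ⊗ₜ[A,φ] y := by
  let _ : Module A B := Module.compHom _ φ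
  have h := (TensorProduct.smul_tmul (R := A) (R' := A) a (1 : B) y).symm
  refine h.trans ?_
  congr 1
  show φ a • (1 : B) = φ a
  rw [smul_eq_mul, mul_one]

lemma ext_map_smulHom (a : A) (Y : ModuleCat.{u} A) :
    (ModuleCat.extendScalars.{u,u,u} φ).map (smulHom a Y) = smulHom (φ a) _ := by
  refine ModuleCat.ExtendScalars.hom_ext (fun y => ?_)
  show ((1 : B) ⊗ₜ[A,φ] (a • y) : (ModuleCat.extendScalars.{u,u,u} φ).obj Y) =
    ((φ a * 1 : B) ⊗ₜ[A,φ] y)
  rw [mul_one]
  exact tmul_smul_one φ a Y y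

lemma isUnit_ext {Y : ModuleCat.{u} A} (a : A) (h : IsUnit (algebraMap A (Module.End A Y) a)) :
    IsUnit (algebraMap B (Module.End B ((ModuleCat.extendScalars.{u,u,u} φ).obj Y)) (φ a)) := by
  rw [isUnit_iff_isIso_smulHom] at h ⊢
  rw [← ext_map_smulHom]
  infer_instance

lemma isUnit_res {Z : ModuleCat.{u} B} (a : A)
    (h : IsUnit (algebraMap B (Module.End B Z) (φ a))) :
    IsUnit (algebraMap A (Module.End A ((ModuleCat.restrictScalars φ).obj Z)) a) := by
  rw [Module.End.isUnit_iff] at h ⊢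
  exact h

section Loc

variable (f : A) (g : B) (p : ℕ) (hp : 0 < p) (hfg : φ f = g ^ p)

include hp hfg

lemma units_ext (N : ModuleCat.{u} A) (x : Submonoid.powers g) :
    IsUnit (algebraMap B (Module.End B ((ModuleCat.extendScalars.{u,u,u} φ).obj
      ((locFunctor (Submonoid.powers f)).obj N))) x) := by
  refine isUnit_of_mem_powers g ?_ x
  rw [← isUnit_pow_iff' g p hp, ← hfg]
  exact isUnit_ext φ f (IsLocalizedModule.map_units
    (LocalizedModule.mkLinearMap (Submonoid.powers f) N) ⟨f, Submonoid.mem_powers f⟩)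

omit hp in
lemma units_res (W : ModuleCat.{u} B) (x : Submonoid.powers f) :
    IsUnit (algebraMap A (Module.End A ((ModuleCat.restrictScalars φ).obj
      ((locFunctor (Submonoid.powers g)).obj W))) x) := by
  refine isUnit_of_mem_powers f ?_ x
  refine isUnit_res φ f ?_
  rw [hfg]
  exact IsLocalizedModule.map_units (S := Submonoid.powers g)
    (LocalizedModule.mkLinearMap (Submonoid.powers g) W) ⟨g ^ p, ⟨p, rfl⟩⟩

omit hp hfg in
lemma units_res_ext (N : ModuleCat.{u} A) (x : Submonoid.powers f) :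
    IsUnit (algebraMap A (Module.End A ((ModuleCat.restrictScalars φ).obj
      ((ModuleCat.extendScalars.{u,u,u} φ).obj ((locFunctor (Submonoid.powers f)).obj N)))) x) := by
  refine isUnit_of_mem_powers f ?_ x
  refine isUnit_res φ f ?_
  exact isUnit_ext φ f (IsLocalizedModule.map_units
    (LocalizedModule.mkLinearMap (Submonoid.powers f) N) ⟨f, Submonoid.mem_powers f⟩)

/-- `α : (B ⊗ N)_g ⟶ B ⊗ N_f`. -/
noncomputable def alpha (N : ModuleCat.{u} A) :
    (locFunctor (Submonoid.powers g)).obj ((ModuleCat.extendScalars.{u,u,u} φ).obj N) ⟶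
      (ModuleCat.extendScalars.{u,u,u} φ).obj ((locFunctor (Submonoid.powers f)).obj N) :=
  ModuleCat.ofHom
    (X := LocalizedModule (Submonoid.powers g) ((ModuleCat.extendScalars.{u,u,u} φ).obj N))
    (Y := ((ModuleCat.extendScalars.{u,u,u} φ).obj ((locFunctor (Submonoid.powers f)).obj N)))
    (IsLocalizedModule.lift
    (M'' := ((ModuleCat.extendScalars.{u,u,u} φ).obj ((locFunctor (Submonoid.powers f)).obj N)))
    (Submonoid.powers g)
    (LocalizedModule.mkLinearMap (Submonoid.powers g) ((ModuleCat.extendScalars.{u,u,u} φ).obj N))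
    ((ModuleCat.extendScalars.{u,u,u} φ).map ((locUnit (Submonoid.powers f)).app N)).hom
    (units_ext φ f g p hp hfg N))

/-- the `A`-linear map `N_f ⟶ (B ⊗ N)_g`. -/
noncomputable def vmap (N : ModuleCat.{u} A) :
    (locFunctor (Submonoid.powers f)).obj N ⟶ (ModuleCat.restrictScalars φ).obj
      ((locFunctor (Submonoid.powers g)).obj ((ModuleCat.extendScalars.{u,u,u} φ).obj N)) :=
  ModuleCat.ofHom
    (X := LocalizedModule (Submonoid.powers f) N)
    (Y := ((ModuleCat.restrictScalars φ).obj
      ((locFunctor (Submonoid.powers g)).obj ((ModuleCat.extendScalars.{u,u,u} φ).obj N))))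
    (IsLocalizedModule.lift
    (M'' := ((ModuleCat.restrictScalars φ).obj
      ((locFunctor (Submonoid.powers g)).obj ((ModuleCat.extendScalars.{u,u,u} φ).obj N))))
    (Submonoid.powers f)
    (LocalizedModule.mkLinearMap (Submonoid.powers f) N)
    ((ModuleCat.extendRestrictScalarsAdj.{u,u,u} φ).unit.app N ≫
      (ModuleCat.restrictScalars φ).map
        ((locUnit (Submonoid.powers g)).app ((ModuleCat.extendScalars.{u,u,u} φ).obj N))).hom
    (units_res φ f g p hfg _))

/-- `β : B ⊗ N_f ⟶ (B ⊗ N)_g`. -/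
noncomputable def beta (N : ModuleCat.{u} A) :
    (ModuleCat.extendScalars.{u,u,u} φ).obj ((locFunctor (Submonoid.powers f)).obj N) ⟶
      (locFunctor (Submonoid.powers g)).obj ((ModuleCat.extendScalars.{u,u,u} φ).obj N) :=
  ((ModuleCat.extendRestrictScalarsAdj.{u,u,u} φ).homEquiv _ _).symm (vmap φ f g p hfg N)

lemma beta_one_tmul (N : ModuleCat.{u} A) (y : (locFunctor (Submonoid.powers f)).obj N) :
    (beta φ f g p hfg N) ((1 : B) ⊗ₜ[A,φ] y) = (vmap φ f g p hfg N) y := by
  have h := ((ModuleCat.extendRestrictScalarsAdj.{u,u,u} φ).homEquiv _ _).apply_symm_apply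
    (vmap φ f g p hfg N)
  exact ConcreteCategory.congr_hom h y

lemma ext_map_unit_beta (N : ModuleCat.{u} A) :
    (ModuleCat.extendScalars.{u,u,u} φ).map ((locUnit (Submonoid.powers f)).app N) ≫
      beta φ f g p hfg N =
    (locUnit (Submonoid.powers g)).app ((ModuleCat.extendScalars.{u,u,u} φ).obj N) := by
  refine ModuleCat.ExtendScalars.hom_ext (fun n => ?_)
  refine (beta_one_tmul φ f g p hp hfg N ((locUnit (Submonoid.powers f)).app N n)).trans ?_
  exact IsLocalizedModule.lift_apply
    (M'' := ((ModuleCat.restrictScalars φ).obj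
      ((locFunctor (Submonoid.powers g)).obj ((ModuleCat.extendScalars.{u,u,u} φ).obj N))))
    (Submonoid.powers f) (LocalizedModule.mkLinearMap (Submonoid.powers f) N)
    ((ModuleCat.extendRestrictScalarsAdj.{u,u,u} φ).unit.app N ≫
      (ModuleCat.restrictScalars φ).map
        ((locUnit (Submonoid.powers g)).app ((ModuleCat.extendScalars.{u,u,u} φ).obj N))).hom
    (units_res φ f g p hfg _) n

lemma unit_alpha (N : ModuleCat.{u} A) :
    (locUnit (Submonoid.powers g)).app ((ModuleCat.extendScalars.{u,u,u} φ).obj N) ≫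
      alpha φ f g p hp hfg N =
    (ModuleCat.extendScalars.{u,u,u} φ).map ((locUnit (Submonoid.powers f)).app N) :=
  ModuleCat.hom_ext (IsLocalizedModule.lift_comp
    (M'' := ((ModuleCat.extendScalars.{u,u,u} φ).obj ((locFunctor (Submonoid.powers f)).obj N)))
    (Submonoid.powers g)
    (LocalizedModule.mkLinearMap (Submonoid.powers g) ((ModuleCat.extendScalars.{u,u,u} φ).obj N))
    ((ModuleCat.extendScalars.{u,u,u} φ).map ((locUnit (Submonoid.powers f)).app N)).hom
    (units_ext φ f g p hp hfg N))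

lemma alpha_beta (N : ModuleCat.{u} A) :
    alpha φ f g p hp hfg N ≫ beta φ f g p hfg N = 𝟙 _ := by
  apply ModuleCat.hom_ext
  refine IsLocalizedModule.ext (Submonoid.powers g)
    (LocalizedModule.mkLinearMap (Submonoid.powers g) ((ModuleCat.extendScalars.{u,u,u} φ).obj N))
    (IsLocalizedModule.map_units
      (LocalizedModule.mkLinearMap (Submonoid.powers g) ((ModuleCat.extendScalars.{u,u,u} φ).obj N))) ?_
  have h : (locUnit (Submonoid.powers g)).app ((ModuleCat.extendScalars.{u,u,u} φ).obj N) ≫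
      (alpha φ f g p hp hfg N ≫ beta φ f g p hfg N) =
      (locUnit (Submonoid.powers g)).app ((ModuleCat.extendScalars.{u,u,u} φ).obj N) ≫ 𝟙 _ := by
    rw [← Category.assoc, unit_alpha φ f g p hp hfg, ext_map_unit_beta φ f g p hp hfg,
      Category.comp_id]
  exact congrArg ModuleCat.Hom.hom h

lemma beta_alpha (N : ModuleCat.{u} A) :
    beta φ f g p hfg N ≫ alpha φ f g p hp hfg N = 𝟙 _ := by
  apply ((ModuleCat.extendRestrictScalarsAdj.{u,u,u} φ).homEquiv _ _).injective
  apply ModuleCat.hom_ext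
  refine IsLocalizedModule.ext (Submonoid.powers f)
    (LocalizedModule.mkLinearMap (Submonoid.powers f) N) (units_res_ext φ f N) ?_
  refine LinearMap.ext (fun n => ?_)
  have e1 : beta φ f g p hfg N ((1 : B) ⊗ₜ[A,φ] ((locUnit (Submonoid.powers f)).app N n)) =
      (locUnit (Submonoid.powers g)).app ((ModuleCat.extendScalars.{u,u,u} φ).obj N)
        ((1 : B) ⊗ₜ[A,φ] n) :=
    ConcreteCategory.congr_hom (ext_map_unit_beta φ f g p hp hfg N) ((1 : B) ⊗ₜ[A,φ] n)
  have e2 : alpha φ f g p hp hfg N
      ((locUnit (Submonoid.powers g)).app ((ModuleCat.extendScalars.{u,u,u} φ).obj N)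
        ((1 : B) ⊗ₜ[A,φ] n)) =
      (ModuleCat.extendScalars.{u,u,u} φ).map ((locUnit (Submonoid.powers f)).app N)
        ((1 : B) ⊗ₜ[A,φ] n) :=
    ConcreteCategory.congr_hom (unit_alpha φ f g p hp hfg N) ((1 : B) ⊗ₜ[A,φ] n)
  exact (congrArg (alpha φ f g p hp hfg N) e1).trans e2

/-- `B ⊗_A N_f ≅ (B ⊗_A N)_g`. -/
noncomputable def betaIso (N : ModuleCat.{u} A) :
    (ModuleCat.extendScalars.{u,u,u} φ).obj ((locFunctor (Submonoid.powers f)).obj N) ≅
      (locFunctor (Submonoid.powers g)).obj ((ModuleCat.extendScalars.{u,u,u} φ).obj N) where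
  hom := beta φ f g p hfg N
  inv := alpha φ f g p hp hfg N
  hom_inv_id := beta_alpha φ f g p hp hfg N
  inv_hom_id := alpha_beta φ f g p hp hfg N

/-- maps out of `B ⊗ N_f` into a `g`-local module are determined on `B ⊗ N`. -/
lemma hom_ext_of_units (N : ModuleCat.{u} A) {Z : ModuleCat.{u} B}
    (hZ : ∀ x : Submonoid.powers g, IsUnit (algebraMap B (Module.End B Z) x))
    (k₁ k₂ : (ModuleCat.extendScalars.{u,u,u} φ).obj ((locFunctor (Submonoid.powers f)).obj N) ⟶ Z)
    (h : (ModuleCat.extendScalars.{u,u,u} φ).map ((locUnit (Submonoid.powers f)).app N) ≫ k₁ =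
      (ModuleCat.extendScalars.{u,u,u} φ).map ((locUnit (Submonoid.powers f)).app N) ≫ k₂) :
    k₁ = k₂ := by
  have h' : alpha φ f g p hp hfg N ≫ k₁ = alpha φ f g p hp hfg N ≫ k₂ := by
    apply ModuleCat.hom_ext
    refine IsLocalizedModule.ext (Submonoid.powers g)
      (LocalizedModule.mkLinearMap (Submonoid.powers g)
        ((ModuleCat.extendScalars.{u,u,u} φ).obj N)) hZ ?_
    have h2 : (locUnit (Submonoid.powers g)).app ((ModuleCat.extendScalars.{u,u,u} φ).obj N) ≫
        (alpha φ f g p hp hfg N ≫ k₁) =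
        (locUnit (Submonoid.powers g)).app ((ModuleCat.extendScalars.{u,u,u} φ).obj N) ≫
        (alpha φ f g p hp hfg N ≫ k₂) := by
      rw [← Category.assoc, ← Category.assoc, unit_alpha φ f g p hp hfg, h]
    exact congrArg ModuleCat.Hom.hom h2
  have h3 := congrArg (fun t => beta φ f g p hfg N ≫ t) h'
  simpa [← Category.assoc, beta_alpha φ f g p hp hfg] using h3

lemma beta_naturality {N N' : ModuleCat.{u} A} (h : N ⟶ N') :
    (ModuleCat.extendScalars.{u,u,u} φ).map ((locFunctor (Submonoid.powers f)).map h) ≫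
      beta φ f g p hfg N' =
    beta φ f g p hfg N ≫
      (locFunctor (Submonoid.powers g)).map ((ModuleCat.extendScalars.{u,u,u} φ).map h) := by
  have hZ : ∀ x : Submonoid.powers g, IsUnit (algebraMap B (Module.End B
      (LocalizedModule (Submonoid.powers g) ((ModuleCat.extendScalars.{u,u,u} φ).obj N'))) x) :=
    IsLocalizedModule.map_units (LocalizedModule.mkLinearMap (Submonoid.powers g)
      ((ModuleCat.extendScalars.{u,u,u} φ).obj N'))
  refine hom_ext_of_units φ f g p hp hfg N
    (Z := (locFunctor (Submonoid.powers g)).obj ((ModuleCat.extendScalars.{u,u,u} φ).obj N'))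
    hZ _ _ ?_
  have n1 := (locUnit (Submonoid.powers f)).naturality h
  have n2 := (locUnit (Submonoid.powers g)).naturality ((ModuleCat.extendScalars.{u,u,u} φ).map h)
  simp only [Functor.id_map] at n1 n2
  rw [← Category.assoc, ← Functor.map_comp, ← n1, Functor.map_comp, Category.assoc,
    ext_map_unit_beta φ f g p hp hfg, ← Category.assoc, ext_map_unit_beta φ f g p hp hfg, n2]

/-- chain level: `ext (K_f) ≅ (ext K)_g`. -/
noncomputable def c0 (K : DRing.Cx A) :
    ((ModuleCat.extendScalars.{u,u,u} φ).mapHomologicalComplex (ComplexShape.up ℤ)).obj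
        ((locCx (Submonoid.powers f)).obj K) ≅
      (locCx (Submonoid.powers g)).obj
        (((ModuleCat.extendScalars.{u,u,u} φ).mapHomologicalComplex (ComplexShape.up ℤ)).obj K) :=
  HomologicalComplex.Hom.isoOfComponents (fun n => betaIso φ f g p hp hfg (K.X n))
    (fun i j _ => (beta_naturality φ f g p hp hfg (K.d i j)).symm)

lemma ext_map_locCxUnit_c0 (K : DRing.Cx A) :
    ((ModuleCat.extendScalars.{u,u,u} φ).mapHomologicalComplex (ComplexShape.up ℤ)).map
        (locCxUnit (Submonoid.powers f) K) ≫ (c0 φ f g p hp hfg K).hom =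
      locCxUnit (Submonoid.powers g)
        (((ModuleCat.extendScalars.{u,u,u} φ).mapHomologicalComplex (ComplexShape.up ℤ)).obj K) :=
  HomologicalComplex.hom_ext _ _ (fun n => ext_map_unit_beta φ f g p hp hfg (K.X n))

end Loc

end Groth.Agent.H56.ExtLoc
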