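import Groth.Agent.H46.GammaTower
import Groth.Agent.H46.LCDerived
import Groth.Agent.H53.LBaseChange
import Groth.Agent.H56.DCompTri
import Groth.Agent.H56.ExtLoc

/-!
# The extended Čech complex as an iterated fibre, and its base change (helper56)

* `exists_fib_id`, `exists_fib`: the (image under an additive functor of the) mapping cocone of `ψ`
  is a fibre of `Q ψ` in the derived category.
* `isCech_tower`: for a functor `Φ` on complexes which sends mapping cocones to fibres and commutes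
  with localisation at elements, `Q (Φ (extCech M fs))` is an iterated fibre (`H46.CechTower.IsCech`)
  of localisation maps over `Q (Φ M[0])`.
* `isCech_extCech`: `Φ = 𝟭`; `isCech_ext_extCech`: `Φ` = extension of scalars along `φ` with
  `φ f = (γ f) ^ p`.
* `extSelf : B ⊗_A A ≅ B`, `extSingleIso`.
-/

set_option autoImplicit false
universe u
open CategoryTheory CategoryTheory.Limits Pretriangulated DerCA TensorProduct ChangeOfRings
attribute [local instance] HasDerivedCategory.standard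

namespace Groth.Agent.H56.CechBC

open DerivedCategory Groth.Agent.H35.TriChase Groth.Agent.H46.LocD Groth.Agent.H46.CechTower
  Groth.Agent.H56.ExtLoc

variable {A B : Type u} [CommRing A] [CommRing B]

/-- The mapping cocone of `ψ` is a fibre of `Q ψ`. -/
lemma exists_fib_id {K L : DRing.Cx B} (ψ : K ⟶ L) :
    ∃ p₂ : Q.obj (CochainComplex.mappingCocone ψ) ⟶ Q.obj K, DT p₂ (Q.map ψ) := by
  have hT₀ : Q.mapTriangle.obj (CochainComplex.mappingCone.triangle ψ) ∈
      distTriang (DerivedCategory (ModuleCat.{u} B)) :=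
    (DerivedCategory.mem_distTriang_iff _).2 ⟨_, _, ψ, ⟨Iso.refl _⟩⟩
  have hT₁ := inv_rot_of_distTriang _ hT₀
  have h1 : DT (Q.mapTriangle.obj (CochainComplex.mappingCone.triangle ψ)).invRotate.mor₁
      (Q.mapTriangle.obj (CochainComplex.mappingCone.triangle ψ)).invRotate.mor₂ :=
    DT.of_dist _ hT₁
  have b : (Q.obj (CochainComplex.mappingCone ψ))⟦(-1 : ℤ)⟧ ≅
      Q.obj (CochainComplex.mappingCocone ψ) :=
    ((Q.commShiftIso (-1 : ℤ)).app (CochainComplex.mappingCone ψ)).symm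
  exact ⟨b.inv ≫ (Q.mapTriangle.obj (CochainComplex.mappingCone.triangle ψ)).invRotate.mor₁,
    DT.of_iso_left h1 b⟩

/-- For an additive functor `H`, the image of the mapping cocone of `ψ` is a fibre of `Q (H ψ)`. -/
lemma exists_fib (H : ModuleCat.{u} A ⥤ ModuleCat.{u} B) [H.Additive] {K L : DRing.Cx A}
    (ψ : K ⟶ L) :
    ∃ p₂ : Q.obj ((H.mapHomologicalComplex (ComplexShape.up ℤ)).obj
        (CochainComplex.mappingCocone ψ)) ⟶
        Q.obj ((H.mapHomologicalComplex (ComplexShape.up ℤ)).obj K),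
      DT p₂ (Q.map ((H.mapHomologicalComplex (ComplexShape.up ℤ)).map ψ)) := by
  obtain ⟨p₂, h₂⟩ := exists_fib_id ((H.mapHomologicalComplex (ComplexShape.up ℤ)).map ψ)
  have e₁ : (H.mapHomologicalComplex (ComplexShape.up ℤ)).obj
        ((CochainComplex.mappingCone ψ)⟦(-1 : ℤ)⟧) ≅
      ((H.mapHomologicalComplex (ComplexShape.up ℤ)).obj (CochainComplex.mappingCone ψ))⟦(-1 : ℤ)⟧ :=
    ((H.mapHomologicalComplex (ComplexShape.up ℤ)).commShiftIso (-1 : ℤ)).app _
  have e₂ : ((H.mapHomologicalComplex (ComplexShape.up ℤ)).obj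
        (CochainComplex.mappingCone ψ))⟦(-1 : ℤ)⟧ ≅
      (CochainComplex.mappingCone ((H.mapHomologicalComplex (ComplexShape.up ℤ)).map ψ))⟦(-1 : ℤ)⟧ :=
    (shiftFunctor (DRing.Cx B) (-1 : ℤ)).mapIso
      (CochainComplex.mappingCone.mapHomologicalComplexIso ψ H)
  have b : Q.obj (CochainComplex.mappingCocone
        ((H.mapHomologicalComplex (ComplexShape.up ℤ)).map ψ)) ≅
      Q.obj ((H.mapHomologicalComplex (ComplexShape.up ℤ)).obj (CochainComplex.mappingCocone ψ)) :=
    Q.mapIso (e₁ ≪≫ e₂).symm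
  exact ⟨b.inv ≫ p₂, DT.of_iso_left h₂ b⟩

/-- The Čech tower of a functor on complexes compatible with cocones and localisation. -/
theorem isCech_tower (Φ : DRing.Cx A ⥤ DRing.Cx B) (γ : A → B)
    (hfib : ∀ {K L : DRing.Cx A} (ψ : K ⟶ L),
      ∃ p₂ : Q.obj (Φ.obj (CochainComplex.mappingCocone ψ)) ⟶ Q.obj (Φ.obj K),
        DT p₂ (Q.map (Φ.map ψ)))
    (hloc : ∀ (f : A) (K : DRing.Cx A),
      ∃ c : Φ.obj ((locCx (Submonoid.powers f)).obj K) ≅
          (locCx (Submonoid.powers (γ f))).obj (Φ.obj K),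
        Φ.map (locCxUnit (Submonoid.powers f) K) ≫ c.hom =
          locCxUnit (Submonoid.powers (γ f)) (Φ.obj K))
    (M : ModuleCat.{u} A) :
    ∀ fs : List A, ∃ p : Q.obj (Φ.obj (extCech M fs)) ⟶ Q.obj (Φ.obj (extCech M [])),
      IsCech (fs.map γ) (Q.obj (Φ.obj (extCech M []))) (Q.obj (Φ.obj (extCech M fs))) p
  | [] => by
    refine ⟨𝟙 _, ?_⟩
    show IsIso (𝟙 _)
    infer_instance
  | f :: fs => by
    obtain ⟨p₁, h₁⟩ := isCech_tower Φ γ hfib hloc M fs
    obtain ⟨p₂, h₂⟩ := hfib (locCxUnit (Submonoid.powers f) (extCech M fs))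
    obtain ⟨c, hc⟩ := hloc f (extCech M fs)
    refine ⟨(show Q.obj (Φ.obj (extCech M (f :: fs))) ⟶ Q.obj (Φ.obj (extCech M fs)) from p₂) ≫ p₁,
      ?_⟩
    show IsCech (γ f :: fs.map γ) _ _ _
    refine ⟨Q.obj (Φ.obj (extCech M fs)), p₁, p₂, h₁, ?_, rfl⟩
    show DT p₂ ((ηD (Submonoid.powers (γ f))).app (Q.obj (Φ.obj (extCech M fs))))
    rw [ηD_app_Q]
    have h3 := DT.of_iso_right h₂ (Q.mapIso c ≪≫
      ((LfFac (Submonoid.powers (γ f))).app (Φ.obj (extCech M fs))).symm)
    have e : Q.map (Φ.map (locCxUnit (Submonoid.powers f) (extCech M fs))) ≫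
        (Q.mapIso c ≪≫ ((LfFac (Submonoid.powers (γ f))).app (Φ.obj (extCech M fs))).symm).hom =
        Q.map (locCxUnit (Submonoid.powers (γ f)) (Φ.obj (extCech M fs))) ≫
          (LfFac (Submonoid.powers (γ f))).inv.app (Φ.obj (extCech M fs)) := by
      rw [← hc, Functor.map_comp, Category.assoc]
      rfl
    rw [← e]
    exact h3

/-- `Q (extCech M fs)` is an iterated fibre of localisation maps over `Q M[0]`. -/
theorem isCech_extCech (M : ModuleCat.{u} A) (fs : List A) :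
    ∃ p : Q.obj (extCech M fs) ⟶ Q.obj (extCech M []),
      IsCech fs (Q.obj (extCech M [])) (Q.obj (extCech M fs)) p := by
  obtain ⟨p, hp⟩ := isCech_tower (𝟭 (DRing.Cx A)) id (fun ψ => exists_fib_id ψ)
    (fun f K => ⟨Iso.refl _, Category.comp_id _⟩) M fs
  rw [List.map_id] at hp
  exact ⟨p, hp⟩

/-- Base change of the extended Čech complex is an iterated fibre over the base change of `M[0]`. -/
theorem isCech_ext_extCech (φ : A →+* B) (γ : A → B) (p : ℕ) (hp : 0 < p)
    (hγ : ∀ f : A, φ f = γ f ^ p) (M : ModuleCat.{u} A) (fs : List A) :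
    ∃ q : Q.obj (((ModuleCat.extendScalars.{u,u,u} φ).mapHomologicalComplex
          (ComplexShape.up ℤ)).obj (extCech M fs)) ⟶
        Q.obj (((ModuleCat.extendScalars.{u,u,u} φ).mapHomologicalComplex
          (ComplexShape.up ℤ)).obj (extCech M [])),
      IsCech (fs.map γ)
        (Q.obj (((ModuleCat.extendScalars.{u,u,u} φ).mapHomologicalComplex
          (ComplexShape.up ℤ)).obj (extCech M [])))
        (Q.obj (((ModuleCat.extendScalars.{u,u,u} φ).mapHomologicalComplex
          (ComplexShape.up ℤ)).obj (extCech M fs))) q :=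
  isCech_tower ((ModuleCat.extendScalars.{u,u,u} φ).mapHomologicalComplex (ComplexShape.up ℤ)) γ
    (fun ψ => exists_fib (ModuleCat.extendScalars.{u,u,u} φ) ψ)
    (fun f K => ⟨c0 φ f (γ f) p hp (hγ f) K, ext_map_locCxUnit_c0 φ f (γ f) p hp (hγ f) K⟩) M fs

/-! ### `B ⊗_A A ≅ B` -/

/-- `φ` as an `A`-linear map `A ⟶ B|_A`. -/
noncomputable def ringLin (φ : A →+* B) :
    ModuleCat.of A A ⟶ (ModuleCat.restrictScalars φ).obj (ModuleCat.of B B) :=
  ModuleCat.ofHom (X := A) (Y := ((ModuleCat.restrictScalars φ).obj (ModuleCat.of B B)))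
    { toFun := fun a => φ a
      map_add' := fun a b => map_add φ a b
      map_smul' := fun a x => map_mul φ a x }

/-- `B ⊗_A A ≅ B`. -/
noncomputable def extSelf (φ : A →+* B) :
    (ModuleCat.extendScalars.{u,u,u} φ).obj (ModuleCat.of A A) ≅ ModuleCat.of B B where
  hom := ((ModuleCat.extendRestrictScalarsAdj.{u,u,u} φ).homEquiv _ _).symm (ringLin φ)
  inv := ModuleCat.ofHom (X := B) (Y := ((ModuleCat.extendScalars.{u,u,u} φ).obj (ModuleCat.of A A)))
    (LinearMap.toSpanSingleton B ((ModuleCat.extendScalars.{u,u,u} φ).obj (ModuleCat.of A A))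
      ((1 : B) ⊗ₜ[A,φ] (1 : A)))
  hom_inv_id := by
    refine ModuleCat.ExtendScalars.hom_ext (fun a => ?_)
    have h1 : (((ModuleCat.extendRestrictScalarsAdj.{u,u,u} φ).homEquiv _ _).symm (ringLin φ))
        ((1 : B) ⊗ₜ[A,φ] a) = φ a :=
      ConcreteCategory.congr_hom
        (((ModuleCat.extendRestrictScalarsAdj.{u,u,u} φ).homEquiv _ _).apply_symm_apply (ringLin φ)) a
    refine (congrArg (LinearMap.toSpanSingleton B
      ((ModuleCat.extendScalars.{u,u,u} φ).obj (ModuleCat.of A A)) ((1 : B) ⊗ₜ[A,φ] (1 : A))) h1).trans ?_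
    show ((φ a * 1 : B) ⊗ₜ[A,φ] (1 : A) :
      (ModuleCat.extendScalars.{u,u,u} φ).obj (ModuleCat.of A A)) = (1 : B) ⊗ₜ[A,φ] a
    have h3 : ((1 : B) ⊗ₜ[A,φ] (a • (1 : A)) :
        (ModuleCat.extendScalars.{u,u,u} φ).obj (ModuleCat.of A A)) = (1 : B) ⊗ₜ[A,φ] a :=
      congrArg (fun t : A => ((1 : B) ⊗ₜ[A,φ] t :
        (ModuleCat.extendScalars.{u,u,u} φ).obj (ModuleCat.of A A))) (mul_one a)
    have h4 : (φ a * 1 : B) = φ a := mul_one _
    exact (congrArg (fun b : B => (b ⊗ₜ[A,φ] (1 : A) :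
        (ModuleCat.extendScalars.{u,u,u} φ).obj (ModuleCat.of A A))) h4).trans
      ((tmul_smul_one φ a (ModuleCat.of A A) (1 : A)).symm.trans h3)
  inv_hom_id := by
    apply ModuleCat.hom_ext
    refine LinearMap.ext_ring ?_
    have h1 : (((ModuleCat.extendRestrictScalarsAdj.{u,u,u} φ).homEquiv _ _).symm (ringLin φ))
        ((1 : B) ⊗ₜ[A,φ] (1 : A)) = φ 1 :=
      ConcreteCategory.congr_hom
        (((ModuleCat.extendRestrictScalarsAdj.{u,u,u} φ).homEquiv _ _).apply_symm_apply (ringLin φ))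
        (1 : A)
    have h2 : (LinearMap.toSpanSingleton B
        ((ModuleCat.extendScalars.{u,u,u} φ).obj (ModuleCat.of A A)) ((1 : B) ⊗ₜ[A,φ] (1 : A)))
        (1 : B) = (1 : B) ⊗ₜ[A,φ] (1 : A) := one_smul B _
    exact (congrArg (fun t => (((ModuleCat.extendRestrictScalarsAdj.{u,u,u} φ).homEquiv _ _).symm
      (ringLin φ)) t) h2).trans (h1.trans (map_one φ))

/-- `ext (A[0]) ≅ B[0]`. -/
noncomputable def extSingleIso (φ : A →+* B) :
    ((ModuleCat.extendScalars.{u,u,u} φ).mapHomologicalComplex (ComplexShape.up ℤ)).obj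
        (extCech (ModuleCat.of A A) []) ≅ extCech (ModuleCat.of B B) [] :=
  (HomologicalComplex.singleMapHomologicalComplex (ModuleCat.extendScalars.{u,u,u} φ)
      (ComplexShape.up ℤ) 0).app (ModuleCat.of A A) ≪≫
    (HomologicalComplex.single (ModuleCat.{u} B) (ComplexShape.up ℤ) 0).mapIso (extSelf φ)

end Groth.Agent.H56.CechBC
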