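import Groth.Agent.H56.RelPC
import Mathlib.Algebra.Module.FinitePresentation
import Mathlib.LinearAlgebra.Dimension.Free

/-!
Pseudo-coherence over coherent rings (helper56).
-/

set_option autoImplicit false
set_option linter.style.haveILetI false
universe u
open CategoryTheory CategoryTheory.Limits Pretriangulated

namespace Groth.Agent.H56

open DerivedCategory DerivedCategory.TStructure DRing

attribute [local instance] HasDerivedCategory.standard

section Coherent

variable {R : Type u} [CommRing R]

lemma fp_of_fg_submodule_pi (hR : ∀ I : Ideal R, I.FG → Module.FinitePresentation R I) (n : ℕ) :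
    ∀ (N : Submodule R (Fin n → R)), N.FG → Module.FinitePresentation R N := by
  induction n with
  | zero =>
    intro N _
    haveI : Subsingleton N := ⟨fun x y => Subtype.ext (Subsingleton.elim _ _)⟩
    infer_instance
  | succ n ih =>
    intro N hN
    haveI : Module.Finite R N := Module.Finite.iff_fg.2 hN
    let π : (Fin (n + 1) → R) →ₗ[R] R := LinearMap.proj 0
    have hI : (N.map π).FG := hN.map π
    haveI : Module.FinitePresentation R (N.map π) := hR (N.map π) hI
    let p : N →ₗ[R] (N.map π) := π.restrict (fun x hx => Submodule.mem_map_of_mem hx)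
    have hp : Function.Surjective p := by
      rintro ⟨y, x, hx, rfl⟩
      exact ⟨⟨x, hx⟩, rfl⟩
    have hker : (LinearMap.ker p).FG := Module.FinitePresentation.fg_ker p hp
    haveI : Module.Finite R (LinearMap.ker p) := Module.Finite.iff_fg.2 hker
    let ι : LinearMap.ker p →ₗ[R] (Fin n → R) :=
      (LinearMap.funLeft R R Fin.succ).comp (N.subtype.comp (LinearMap.ker p).subtype)
    have hι : Function.Injective ι := by
      intro a b hab
      obtain ⟨⟨x, hxN⟩, hx⟩ := a
      obtain ⟨⟨y, hyN⟩, hy⟩ := b
      have hx' : x 0 = 0 := congrArg Subtype.val (LinearMap.mem_ker.1 hx)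
      have hy' : y 0 = 0 := congrArg Subtype.val (LinearMap.mem_ker.1 hy)
      have h1 : x 0 = y 0 := by rw [hx', hy']
      have h2 : ∀ j : Fin n, x j.succ = y j.succ := fun j => congrFun hab j
      have h3 : x = y := funext (fun j => Fin.cases h1 h2 j)
      exact Subtype.ext (Subtype.ext h3)
    haveI : Module.FinitePresentation R (LinearMap.range ι) :=
      ih _ (Module.Finite.iff_fg.1 inferInstance)
    haveI : Module.FinitePresentation R (LinearMap.ker p) :=
      Module.FinitePresentation.of_equiv (M := LinearMap.range ι) (N := LinearMap.ker p)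
        (LinearEquiv.ofInjective ι hι).symm
    exact Module.finitePresentation_of_ker p hp

lemma fp_of_fg_submodule_free (hR : ∀ I : Ideal R, I.FG → Module.FinitePresentation R I)
    (F : Type u) [AddCommGroup F] [Module R F] [Module.Finite R F] [Module.Free R F]
    (N : Submodule R F) (hN : N.FG) : Module.FinitePresentation R N := by
  rcases subsingleton_or_nontrivial R with h | h
  · haveI : Subsingleton N := Module.subsingleton R N
    infer_instance
  · let e : F ≃ₗ[R] (Fin (Module.finrank R F) → R) := (Module.finBasis R F).equivFun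
    haveI : Module.FinitePresentation R (N.map (e : F →ₗ[R] (Fin (Module.finrank R F) → R))) :=
      fp_of_fg_submodule_pi hR _ _ (hN.map _)
    exact Module.FinitePresentation.of_equiv (e.submoduleMap N).symm

lemma fg_ker_of_free (hR : ∀ I : Ideal R, I.FG → Module.FinitePresentation R I)
    {F F' : Type u} [AddCommGroup F] [Module R F] [Module.Finite R F]
    [AddCommGroup F'] [Module R F'] [Module.Finite R F'] [Module.Free R F'] (d : F →ₗ[R] F') :
    (LinearMap.ker d).FG := by
  have hr : (LinearMap.range d).FG := by
    rw [LinearMap.range_eq_map]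
    exact Module.Finite.fg_top.map d
  haveI : Module.FinitePresentation R (LinearMap.range d) :=
    fp_of_fg_submodule_free hR F' _ hr
  have h := Module.FinitePresentation.fg_ker d.rangeRestrict d.surjective_rangeRestrict
  rwa [LinearMap.ker_rangeRestrict] at h

lemma fp_homology_of_termwiseFiniteFree
    (hR : ∀ I : Ideal R, I.FG → Module.FinitePresentation R I) (E : Cx R)
    (hf : TermwiseFiniteFree E) (i : ℤ) : Module.FinitePresentation R (E.homology i) := by
  haveI := (hf i).1
  haveI := (hf i).2
  haveI := (hf (i + 1)).1
  haveI := (hf (i + 1)).2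
  haveI := (hf (i - 1)).1
  have hkerfg : (LinearMap.ker (E.d i (i + 1)).hom).FG := fg_ker_of_free hR _
  haveI : Module.FinitePresentation R (LinearMap.ker (E.d i (i + 1)).hom) :=
    fp_of_fg_submodule_free hR (E.X i) _ hkerfg
  have hinj : Function.Injective (E.iCycles i).hom :=
    (ModuleCat.mono_iff_injective _).1 inferInstance
  have hrange : LinearMap.range (E.iCycles i).hom = LinearMap.ker (E.d i (i + 1)).hom := by
    apply le_antisymm
    · rintro _ ⟨y, rfl⟩
      exact LinearMap.mem_ker.2 (congrArg (fun f => f.hom y) (E.iCycles_d i (i + 1)))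
    · intro x hx
      have hS : (ShortComplex.mk (E.iCycles i) (E.d i (i + 1)) (E.iCycles_d i (i + 1))).Exact :=
        ShortComplex.exact_of_f_is_kernel _ (E.cyclesIsKernel i (i + 1) (by simp))
      obtain ⟨y, hy⟩ := (ShortComplex.moduleCat_exact_iff _).1 hS x (LinearMap.mem_ker.1 hx)
      exact ⟨y, hy⟩
  haveI : Module.FinitePresentation R (E.cycles i) :=
    Module.FinitePresentation.of_equiv
      ((LinearEquiv.ofInjective (E.iCycles i).hom hinj).trans (LinearEquiv.ofEq _ _ hrange)).symm
  have hsurj : Function.Surjective (E.homologyπ i).hom :=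
    (ModuleCat.epi_iff_surjective _).1 inferInstance
  have hk : (LinearMap.ker (E.homologyπ i).hom).FG := by
    have hS : (ShortComplex.mk (E.toCycles (i - 1) i) (E.homologyπ i)
        (E.toCycles_comp_homologyπ (i - 1) i)).Exact :=
      ShortComplex.exact_of_g_is_cokernel _ (E.homologyIsCokernel (i - 1) i (by simp))
    have hkr : LinearMap.ker (E.homologyπ i).hom = LinearMap.range (E.toCycles (i - 1) i).hom := by
      apply le_antisymm
      · intro x hx
        obtain ⟨y, hy⟩ := (ShortComplex.moduleCat_exact_iff _).1 hS x (LinearMap.mem_ker.1 hx)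
        exact ⟨y, hy⟩
      · rintro _ ⟨y, rfl⟩
        exact LinearMap.mem_ker.2
          (congrArg (fun f => f.hom y) (E.toCycles_comp_homologyπ (i - 1) i))
    rw [hkr, LinearMap.range_eq_map]
    exact Module.Finite.fg_top.map _
  exact Module.finitePresentation_of_surjective _ hsurj hk

lemma fp_homology_Q_obj (hR : ∀ I : Ideal R, I.FG → Module.FinitePresentation R I) (E : Cx R)
    (hf : TermwiseFiniteFree E) (i : ℤ) :
    Module.FinitePresentation R ((homologyFunctor (ModuleCat.{u} R) i).obj (Q.obj E)) := by
  haveI h3 : Module.FinitePresentation R ((HomologicalComplex.homologyFunctor (ModuleCat.{u} R)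
      (ComplexShape.up ℤ) i).obj E) := fp_homology_of_termwiseFiniteFree hR E hf i
  exact Module.FinitePresentation.of_equiv
    ((homologyFunctorFactors (ModuleCat.{u} R) i).app E).toLinearEquiv.symm

lemma fp_homology_of_isPseudoCoherent
    (hR : ∀ I : Ideal R, I.FG → Module.FinitePresentation R I) {K : Dual.D R} {m : ℤ}
    (h : IsPseudoCoherent R m K) (i : ℤ) (hi : m < i) :
    Module.FinitePresentation R ((homologyFunctor (ModuleCat.{u} R) i).obj K) := by
  obtain ⟨E, a, b, α, hv, hf, hiso, hepi⟩ := h
  haveI := fp_homology_Q_obj hR E hf i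
  haveI := hiso i hi
  exact Module.FinitePresentation.of_equiv
    (asIso ((homologyFunctor (ModuleCat.{u} R) i).map α)).toLinearEquiv

lemma finite_homology_of_isPseudoCoherent_of_coherent
    (hR : ∀ I : Ideal R, I.FG → Module.FinitePresentation R I) {K : Dual.D R} {m : ℤ}
    (h : IsPseudoCoherent R m K) :
    Module.Finite R ((homologyFunctor (ModuleCat.{u} R) m).obj K) := by
  obtain ⟨E, a, b, α, hv, hf, hiso, hepi⟩ := h
  haveI := fp_homology_Q_obj hR E hf m
  exact Module.Finite.of_surjective ((homologyFunctor (ModuleCat.{u} R) m).map α).hom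
    ((ModuleCat.epi_iff_surjective _).1 hepi)

lemma isPseudoCoherent_single_fp_aux
    (hR : ∀ I : Ideal R, I.FG → Module.FinitePresentation R I) (n : ℕ) :
    ∀ (M : ModuleCat.{u} R), Module.FinitePresentation R M →
      IsPseudoCoherent R (1 - n) ((singleFunctor (ModuleCat.{u} R) 0).obj M) := by
  induction n with
  | zero =>
    intro M _
    exact isPseudoCoherent_of_isLE _ _ 0 (by omega) inferInstance
  | succ n ih =>
    intro M hfp
    obtain ⟨k, k', f, g, hf, hfg⟩ := Module.FinitePresentation.exists_fin' R M
    have hkfg : (LinearMap.ker f).FG := by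
      rw [LinearMap.exact_iff.1 hfg, LinearMap.range_eq_map]
      exact Module.Finite.fg_top.map g
    have hkfp : Module.FinitePresentation R (LinearMap.ker f) :=
      fp_of_fg_submodule_pi hR k _ hkfg
    obtain ⟨F, hFfin, hFfree, π, hπ, hNfp⟩ : ∃ (F : ModuleCat.{u} R) (_ : Module.Finite R F)
        (_ : Module.Free R F) (π : F ⟶ M), Epi π ∧
        Module.FinitePresentation R (kernel π : ModuleCat.{u} R) := by
      refine ⟨ModuleCat.of R (Fin k → R), inferInstance, inferInstance, ModuleCat.ofHom f,
        (ModuleCat.epi_iff_surjective _).2 hf, ?_⟩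
      haveI : Module.FinitePresentation R
          (ModuleCat.of R (LinearMap.ker (ModuleCat.ofHom f).hom) : ModuleCat.{u} R) := hkfp
      exact Module.FinitePresentation.of_equiv
        (ModuleCat.kernelIsoKer (ModuleCat.ofHom f)).toLinearEquiv.symm
    haveI := hπ
    have hS : (ShortComplex.mk (kernel.ι π) π (kernel.condition π)).ShortExact :=
      { exact := ShortComplex.exact_kernel π
        mono_f := by dsimp; infer_instance
        epi_g := hπ }
    have e : (1 - ((n + 1 : ℕ) : ℤ)) + 1 = 1 - n := by push_cast; ring
    have h₁ : IsPseudoCoherent R ((1 - ((n + 1 : ℕ) : ℤ)) + 1) hS.singleTriangle.obj₁ := by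
      rw [e]; exact ih _ hNfp
    exact isPseudoCoherent_obj₃ hS.singleTriangle hS.singleTriangle_distinguished _ h₁
      (isPseudoCoherent_single_free 0 F hFfin hFfree _)

/-- over a coherent ring, a finitely presented module is pseudo-coherent. -/
lemma isPseudoCoherent_single_fp (hR : ∀ I : Ideal R, I.FG → Module.FinitePresentation R I)
    (M : ModuleCat.{u} R) (hfp : Module.FinitePresentation R M) (m : ℤ) :
    IsPseudoCoherent R m ((singleFunctor (ModuleCat.{u} R) 0).obj M) := by
  by_cases hm : 1 ≤ m
  · exact isPseudoCoherent_of_isLE _ _ 0 (by omega) inferInstance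
  · have := isPseudoCoherent_single_fp_aux hR (1 - m).toNat M hfp
    have e : 1 - (((1 - m).toNat : ℕ) : ℤ) = m := by omega
    rw [e] at this
    exact this

/-- Stacks 15.64.17-ish: over a coherent ring, a bounded above `K` is `m`-pseudo-coherent iff
`H^m(K)` is finite and `H^i(K)` is finitely presented for `i > m`. -/
theorem isPseudoCoherent_iff_of_coherent
    (hR : ∀ I : Ideal R, I.FG → Module.FinitePresentation R I) (K : Dual.D R) (c : ℤ)
    (hK : K.IsLE c) (m : ℤ) :
    IsPseudoCoherent R m K ↔
      Module.Finite R ((homologyFunctor (ModuleCat.{u} R) m).obj K) ∧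
      ∀ i : ℤ, m < i → Module.FinitePresentation R ((homologyFunctor (ModuleCat.{u} R) i).obj K) := by
  constructor
  · intro h
    exact ⟨finite_homology_of_isPseudoCoherent_of_coherent hR h,
      fun i hi => fp_homology_of_isPseudoCoherent hR h i hi⟩
  · rintro ⟨hfin, hfp⟩
    apply isPseudoCoherent_of_homology m K c hK
    intro i
    rcases lt_trichotomy i m with hi | hi | hi
    · exact isPseudoCoherent_of_isLE _ _ 0 (by omega) inferInstance
    · subst hi
      rw [sub_self]
      exact (isPseudoCoherent_zero_single_iff _).2 hfin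
    · exact isPseudoCoherent_single_fp hR _ (hfp i hi) _

end Coherent

end Groth.Agent.H56
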