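import Groth.Agent.H33.RHomCxComp
import Groth.Agent.H46.ExtCech
import Groth.Agent.H35.DerCompKos2
import Groth.Agent.H35.DerSeq

/-!
# Hom complexes and morphisms in `D(A)` (helper56)

* `exactAt_homCx_iff` : exactness of `Hom•(X, H)` in terms of cocycles and coboundaries.
* `subsingleton_hom_of_exact` / `exact_of_subsingleton_hom` : for `H` K-injective, `Hom•(X, H)` is
  acyclic iff `Hom_{D(A)}(X, H[n]) = 0` for all `n`.
* `exact_homCx_of_acyclic` : `Hom•(Z, J)` is acyclic for `Z` acyclic and `J` K-injective.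
* `locTensorIso` : `M_S ≅ M ⊗ A_S` naturally.
* `homVanish_homCx` : `Hom•(P, J)` is `f`-derived complete when `P` is K-flat, `P_f` acyclic.
-/

set_option autoImplicit false
set_option linter.unusedSectionVars false
universe u
open CategoryTheory CategoryTheory.Limits MonoidalCategory HomologicalComplex CochainComplex
open CochainComplex.HomComplex
open scoped TensorProduct
attribute [local instance] HasDerivedCategory.standard

namespace Groth.Agent.H56.DCompB

open Groth.Agent.H33.RHomCxKInj Groth.Agent.H33.RHomCxComp Groth.Agent.H35.LTC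

variable {A : Type u} [CommRing A]

lemma exactAt_homCx_iff (X H : DRing.Cx A) (n : ℤ) :
    (DRing.homCx X H).ExactAt n ↔
      ∀ z : Cochain X H n, δ n (n + 1) z = 0 → ∃ w : Cochain X H (n - 1), δ (n - 1) n w = z := by
  rw [HomologicalComplex.exactAt_iff' _ (n - 1) n (n + 1) (by simp) (by simp),
    ShortComplex.moduleCat_exact_iff]
  constructor
  · intro h z hz
    obtain ⟨w, hw⟩ := h z hz
    exact ⟨w, hw⟩
  · intro h z hz
    obtain ⟨w, hw⟩ := h z hz
    exact ⟨w, hw⟩

lemma isZero_Q_obj_of_exactAt (L : DRing.Cx A) (h : ∀ i, L.ExactAt i) :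
    IsZero (DerivedCategory.Q.obj L) := by
  haveI : L.IsLE 0 := by
    rw [CochainComplex.isLE_iff]
    intro i _
    exact h i
  haveI : L.IsGE 1 := by
    rw [CochainComplex.isGE_iff]
    intro i _
    exact h i
  exact DerivedCategory.TStructure.t.isZero (DerivedCategory.Q.obj L) 0 1 (by omega)

/-- `Hom•(X, H)` acyclic implies `Hom_{D(A)}(X, H[n]) = 0` (`H` K-injective). -/
theorem subsingleton_hom_of_exact (X H : DRing.Cx A) [H.IsKInjective]
    (hex : ∀ n, (DRing.homCx X H).ExactAt n) (n : ℤ) :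
    Subsingleton (DerivedCategory.Q.obj X ⟶ (DerivedCategory.Q.obj H)⟦n⟧) := by
  suffices h : ∀ g : DerivedCategory.Q.obj X ⟶ (DerivedCategory.Q.obj H)⟦n⟧, g = 0 from
    ⟨fun g₁ g₂ => by rw [h g₁, h g₂]⟩
  intro g
  let e : (DerivedCategory.Q.obj H)⟦n⟧ ≅ DerivedCategory.Q.obj (H⟦n⟧) :=
    ((DerivedCategory.Q.commShiftIso n).app H).symm
  haveI : (H⟦n⟧).IsKInjective := inferInstance
  obtain ⟨ψ, hψ⟩ := Groth.Agent.H6.QCoprod.exists_lift X (H⟦n⟧) (g ≫ e.hom)
  have hz : Nonempty (Homotopy ψ 0) := by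
    let z : Cocycle X H n := Cocycle.equivHomShift ψ
    obtain ⟨w, hw⟩ := (exactAt_homCx_iff X H n).1 (hex n) z.1 (Cocycle.δ_eq_zero z (n + 1))
    have hzc : z ∈ coboundaries X H n := (mem_coboundaries_iff z (n - 1) (by omega)).2 ⟨w, hw⟩
    have h1 : CohomologyClass.toHom (CohomologyClass.mk z) = 0 :=
      (CohomologyClass.toHom_mk_eq_zero_iff z).2 hzc
    rw [CohomologyClass.toHom_mk] at h1
    have h2 : Cocycle.equivHomShift.symm z = ψ := Cocycle.equivHomShift.symm_apply_apply ψ
    rw [h2] at h1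
    exact (HomotopyCategory.quotient_map_eq_zero_iff _).1 h1
  obtain ⟨hh⟩ := hz
  have h0 : DerivedCategory.Q.map ψ = 0 := by
    rw [Groth.Agent.H6.QCoprod.Q_map_eq_of_homotopy ψ 0 hh, Functor.map_zero]
  rw [← cancel_mono e.hom, zero_comp, ← hψ, h0]

/-- `Hom_{D(A)}(X, H[n]) = 0` for all `n` implies `Hom•(X, H)` acyclic (`H` K-injective). -/
theorem exact_of_subsingleton_hom (X H : DRing.Cx A) [H.IsKInjective]
    (hs : ∀ n : ℤ, Subsingleton (DerivedCategory.Q.obj X ⟶ (DerivedCategory.Q.obj H)⟦n⟧))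
    (n : ℤ) : (DRing.homCx X H).ExactAt n := by
  rw [exactAt_homCx_iff]
  intro z hz
  let zc : Cocycle X H n := Cocycle.mk z (n + 1) rfl hz
  let ψ : X ⟶ H⟦n⟧ := Cocycle.equivHomShift.symm zc
  let e : DerivedCategory.Q.obj (H⟦n⟧) ≅ (DerivedCategory.Q.obj H)⟦n⟧ :=
    (DerivedCategory.Q.commShiftIso n).app H
  have h0 : DerivedCategory.Q.map ψ = 0 := by
    rw [← cancel_mono e.hom, zero_comp]
    exact @Subsingleton.elim _ (hs n) (DerivedCategory.Q.map ψ ≫ e.hom) 0
  haveI : (H⟦n⟧).IsKInjective := inferInstance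
  obtain ⟨hh⟩ := Groth.Agent.H6.QCoprod.homotopy_of_Q_map_eq X (H⟦n⟧) ψ 0
    (by rw [h0, Functor.map_zero])
  have h1 : CohomologyClass.toHom (CohomologyClass.mk zc) = 0 := by
    rw [CohomologyClass.toHom_mk]
    exact (HomotopyCategory.quotient_map_eq_zero_iff _).2 ⟨hh⟩
  have h2 := (CohomologyClass.toHom_mk_eq_zero_iff zc).1 h1
  obtain ⟨w, hw⟩ := (mem_coboundaries_iff zc (n - 1) (by omega)).1 h2
  exact ⟨w, hw⟩

/-- `Hom•(Z, J)` is acyclic for `Z` acyclic and `J` K-injective. -/
theorem exact_homCx_of_acyclic (Z J : DRing.Cx A) [J.IsKInjective] (hZ : ∀ i, Z.ExactAt i)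
    (n : ℤ) : (DRing.homCx Z J).ExactAt n := by
  have hz : IsZero (DerivedCategory.Q.obj Z) := isZero_Q_obj_of_exactAt Z hZ
  exact exact_of_subsingleton_hom Z J (fun m => ⟨fun a b => hz.eq_of_src a b⟩) n

/-! ### localisation as a tensor product -/

/-- `M_S ≃ M ⊗ A_S`. -/
noncomputable def tensorAwayEquiv (S : Submonoid A) (M : Type u) [AddCommGroup M] [Module A M] :
    LocalizedModule S M ≃ₗ[A] M ⊗[A] Localization S :=
  ((LocalizedModule.equivTensorProduct S M).restrictScalars A).trans
    (TensorProduct.comm A (Localization S) M)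

lemma tensorAwayEquiv_mk (S : Submonoid A) (M : Type u) [AddCommGroup M] [Module A M] (x : M)
    (s : S) : tensorAwayEquiv S M (LocalizedModule.mk x s) = x ⊗ₜ[A] Localization.mk 1 s := by
  show (TensorProduct.comm A (Localization S) M)
    ((LocalizedModule.equivTensorProduct S M) (LocalizedModule.mk x s)) = _
  rw [LocalizedModule.equivTensorProduct_apply_mk, TensorProduct.comm_tmul]

/-- `M_S ≅ M ⊗ A_S`, naturally in `M`. -/
noncomputable def locTensorIso (S : Submonoid A) :
    DerCA.locFunctor S ≅ tensorRight (ModuleCat.of A (Localization S)) :=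
  NatIso.ofComponents (fun M => (tensorAwayEquiv S M).toModuleIso) (by
    intro M N g
    refine ModuleCat.hom_ext (LinearMap.ext fun y => ?_)
    induction y using LocalizedModule.induction_on with
    | h x s =>
      have h1 : (IsLocalizedModule.map S (LocalizedModule.mkLinearMap S M)
          (LocalizedModule.mkLinearMap S N) g.hom) (LocalizedModule.mk x s) =
          LocalizedModule.mk (g.hom x) s := by
        rw [IsLocalizedModule.mk_eq_mk', IsLocalizedModule.map_mk', ← IsLocalizedModule.mk_eq_mk']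
      show tensorAwayEquiv S N ((IsLocalizedModule.map S (LocalizedModule.mkLinearMap S M)
          (LocalizedModule.mkLinearMap S N) g.hom) (LocalizedModule.mk x s)) =
        (g ▷ ModuleCat.of A (Localization S)).hom (tensorAwayEquiv S M (LocalizedModule.mk x s))
      rw [h1, tensorAwayEquiv_mk, tensorAwayEquiv_mk]
      rfl)

/-- `A_f[0] ⊗ P` is acyclic when `P_f` is. -/
lemma exactAt_sg_tensor (f : A) (P : DRing.Cx A)
    (hloc : ∀ i, ((DerCA.locCx (Submonoid.powers f)).obj P).ExactAt i) (i : ℤ) :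
    (sg (ModuleCat.of A (Localization.Away f)) ⊗ P).ExactAt i :=
  (hloc i).of_iso ((NatIso.mapHomologicalComplex (locTensorIso (Submonoid.powers f))
    (ComplexShape.up ℤ)).app P ≪≫ singleTensorIso (ModuleCat.of A (Localization.Away f)) P)

/-- `Hom•(P, J)` is `f`-derived complete when `P` is K-flat and `P_f` is acyclic. -/
theorem homVanish_homCx (f : A) (P J : DRing.Cx A) (hP : DRing.IsKFlat A P) [J.IsKInjective]
    (hloc : ∀ i, ((DerCA.locCx (Submonoid.powers f)).obj P).ExactAt i) (n : ℤ) :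
    Subsingleton (Dual.inD A (Localization.Away f) ⟶
      (DerivedCategory.Q.obj (DRing.homCx P J))⟦n⟧) := by
  haveI : (DRing.homCx P J).IsKInjective := isKInjective_homCx P J hP
  have h1 : ∀ i, (DRing.homCx (sg (ModuleCat.of A (Localization.Away f)) ⊗ P) J).ExactAt i :=
    exact_homCx_of_acyclic _ J (exactAt_sg_tensor f P hloc)
  have e : DRing.homCx (sg (ModuleCat.of A (Localization.Away f))) (DRing.homCx P J) ≅
      DRing.homCx (sg (ModuleCat.of A (Localization.Away f)) ⊗ P) J :=
    (homHomIso (sg (ModuleCat.of A (Localization.Away f))) P).app J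
  have h2 : ∀ i, (DRing.homCx (sg (ModuleCat.of A (Localization.Away f)))
      (DRing.homCx P J)).ExactAt i := fun i => (h1 i).of_iso e.symm
  have h3 := subsingleton_hom_of_exact (sg (ModuleCat.of A (Localization.Away f)))
    (DRing.homCx P J) h2 n
  let e0 : Dual.inD A (Localization.Away f) ≅
      DerivedCategory.Q.obj (sg (ModuleCat.of A (Localization.Away f))) :=
    (DerivedCategory.singleFunctorIsoCompQ (ModuleCat.{u} A) 0).app _
  exact ⟨fun a b => by
    rw [← cancel_epi e0.inv]
    exact h3.elim _ _⟩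

end Groth.Agent.H56.DCompB
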