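import Groth.Agent.H56.DerCat

set_option autoImplicit false
universe w v u
open CategoryTheory CategoryTheory.Limits Pretriangulated

namespace Groth.Agent.H56

open DerivedCategory DerivedCategory.TStructure

variable {A : Type u} [Category.{v} A] [Abelian A] [HasDerivedCategory.{w} A]

lemma chainMap_eq_zero' {X Y : CochainComplex A ℤ} (a : ℤ) [X.IsStrictlyLE a] [Y.IsStrictlyGE a]
    (g : X ⟶ Y) (hg : HomologicalComplex.homologyMap g a = 0) : g = 0 := by
  ext i
  by_cases hi : a < i
  · apply (X.isZero_of_isStrictlyLE a i hi).eq_of_src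
  · by_cases hi' : i < a
    · apply (Y.isZero_of_isStrictlyGE a i hi').eq_of_tgt
    · obtain rfl : i = a := by omega
      have h1 : IsIso (X.iCycles i) := by
        apply HomologicalComplex.isIso_iCycles X i (i + 1) (by simp)
        apply (X.isZero_of_isStrictlyLE i (i + 1) (by omega)).eq_of_tgt
      have h2 : IsIso (Y.homologyπ i) := by
        apply HomologicalComplex.isIso_homologyπ Y (i - 1) i (by simp)
        apply (Y.isZero_of_isStrictlyGE i (i - 1) (by omega)).eq_of_src
      have h3 : HomologicalComplex.cyclesMap g i = 0 := by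
        rw [← cancel_mono (Y.homologyπ i), zero_comp, ← HomologicalComplex.homologyπ_naturality,
          hg, comp_zero]
      rw [← cancel_epi (X.iCycles i), HomologicalComplex.zero_f, comp_zero,
        ← HomologicalComplex.cyclesMap_i, h3, zero_comp]

lemma Q_hom_eq_zero' {X Y : CochainComplex A ℤ} (a : ℤ) [X.IsStrictlyLE a] [Y.IsStrictlyGE a]
    (f : Q.obj X ⟶ Q.obj Y) (hf : (homologyFunctor A a).map f = 0) : f = 0 := by
  obtain ⟨X', _, s, _, g, rfl⟩ := right_fac_of_isStrictlyLE f a
  have h1 : (homologyFunctor A a).map (Q.map g) = 0 := by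
    have : Q.map g = Q.map s ≫ (inv (Q.map s) ≫ Q.map g) := by simp
    rw [this, Functor.map_comp, hf, comp_zero]
  have h2 := homologyFunctorFactors_hom_naturality g a
  rw [h1, zero_comp] at h2
  have hg : HomologicalComplex.homologyMap g a = 0 :=
    (cancel_epi ((homologyFunctorFactors A a).hom.app X')).1 (h2.symm.trans comp_zero.symm)
  rw [chainMap_eq_zero' a g hg, Q.map_zero, comp_zero]

/-- a morphism from an object `≤ a` to an object `≥ a` is determined by `H^a`. -/
lemma hom_eq_zero_of_homologyMap_eq_zero {X Z : DerivedCategory A} (a : ℤ) [hX : X.IsLE a]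
    [hZ : Z.IsGE a] (u : X ⟶ Z) (hu : (homologyFunctor A a).map u = 0) : u = 0 := by
  obtain ⟨K, _, ⟨e⟩⟩ := X.exists_iso_Q_obj_of_isLE a
  obtain ⟨L, _, ⟨e'⟩⟩ := Z.exists_iso_Q_obj_of_isGE a
  have : e.inv ≫ u ≫ e'.hom = 0 := by
    apply Q_hom_eq_zero' a
    rw [Functor.map_comp, Functor.map_comp, hu, zero_comp, comp_zero]
  rw [← cancel_epi e.inv, ← cancel_mono e'.hom, Category.assoc, this, comp_zero, zero_comp]

/-- one step: a map from an object `≤ a` which is zero on `H^a` factors through an object `≤ a-1`. -/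
lemma exists_factor_of_homologyMap_eq_zero {X Y : DerivedCategory A} (a : ℤ) [hX : X.IsLE a]
    (g : X ⟶ Y) (hg : (homologyFunctor A a).map g = 0) :
    ∃ (W : DerivedCategory A) (_ : W.IsLE (a - 1)) (g' : X ⟶ W) (c : W ⟶ Y), g = g' ≫ c := by
  have h0 : g ≫ (t.truncGEπ a).app Y = 0 := by
    have : ((t.truncGE a).obj Y).IsGE a := inferInstanceAs (t.IsGE ((t.truncGE a).obj Y) a)
    apply hom_eq_zero_of_homologyMap_eq_zero a
    rw [Functor.map_comp, hg, zero_comp]
  obtain ⟨g', hg'⟩ := Triangle.coyoneda_exact₂ _ (t.triangleLTGE_distinguished a Y) g h0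
  exact ⟨(t.truncLT a).obj Y, inferInstanceAs (t.IsLE ((t.truncLT a).obj Y) (a - 1)), g',
    (t.truncLTι a).app Y, hg'⟩

/-- a morphism from an object `≤ n` to `Q.obj K` factors through the canonical truncation. -/
lemma exists_lift_truncLE (K : CochainComplex A ℤ) (n : ℤ) (W : DerivedCategory A) [W.IsLE n]
    (c : W ⟶ Q.obj K) :
    ∃ c' : W ⟶ Q.obj (K.truncLE n), c' ≫ Q.map (K.ιTruncLE n) = c := by
  have h := K.shortComplexTruncLE_shortExact n
  have hT := triangleOfSES_distinguished h
  have hGE : (Q.obj (K.shortComplexTruncLE n).X₃).IsGE (n + 1) :=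
    t.isGE_of_iso (asIso (Q.map (K.shortComplexTruncLEX₃ToTruncGE n (n + 1) rfl))).symm (n + 1)
  have hGE' : t.IsGE (triangleOfSES h).obj₃ (n + 1) := hGE
  have h0 : c ≫ (triangleOfSES h).mor₂ = 0 := t.zero _ n (n + 1) (by omega)
  obtain ⟨c', hc'⟩ := Triangle.coyoneda_exact₂ _ hT c h0
  exact ⟨c', hc'.symm⟩

end Groth.Agent.H56
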