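import Groth.Agent.H56.DerCat2

set_option autoImplicit false
universe w v u
open CategoryTheory CategoryTheory.Limits Pretriangulated

namespace Groth.Agent.H56

open DerivedCategory DerivedCategory.TStructure

variable {A : Type u} [Category.{v} A] [Abelian A] [HasDerivedCategory.{w} A]

lemma exists_desc_of_shortExact (S : ShortComplex (CochainComplex A ℤ)) (hS : S.ShortExact)
    (Z : DerivedCategory A) (u : Q.obj S.X₂ ⟶ Z) (hu : Q.map S.f ≫ u = 0) :
    ∃ v : Q.obj S.X₃ ⟶ Z, u = Q.map S.g ≫ v :=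
  Triangle.yoneda_exact₂ _ (triangleOfSES_distinguished hS) u hu

lemma desc_aux {K L X₃ : CochainComplex A ℤ} (g : K ⟶ X₃) (p : X₃ ⟶ L) (π : K ⟶ L)
    (hp : g ≫ p = π) [QuasiIso p] {Z : DerivedCategory A} (u : Q.obj K ⟶ Z)
    (v : Q.obj X₃ ⟶ Z) (hv : u = Q.map g ≫ v) : Q.map π ≫ inv (Q.map p) ≫ v = u := by
  subst hp
  rw [Functor.map_comp, Category.assoc, IsIso.hom_inv_id_assoc, hv]

/-- a morphism out of `Q.obj K` killing the canonical truncation `τ≤n₀ K` factors through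
`K ⟶ τ≥n₁ K`, `n₀ + 1 = n₁`. -/
lemma exists_desc_truncGE (K : CochainComplex A ℤ) (n₀ n₁ : ℤ) (h01 : n₀ + 1 = n₁)
    (Z : DerivedCategory A) (u : Q.obj K ⟶ Z) (hu : Q.map (K.ιTruncLE n₀) ≫ u = 0) :
    ∃ u' : Q.obj (K.truncGE n₁) ⟶ Z, Q.map (K.πTruncGE n₁) ≫ u' = u := by
  obtain ⟨v, hv⟩ := exists_desc_of_shortExact (K.shortComplexTruncLE n₀)
    (K.shortComplexTruncLE_shortExact n₀) Z u hu
  exact ⟨_, desc_aux (K.shortComplexTruncLE n₀).g (K.shortComplexTruncLEX₃ToTruncGE n₀ n₁ h01)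
    (K.πTruncGE n₁) (K.g_shortComplexTruncLEX₃ToTruncGE n₀ n₁ h01) u v hv⟩

lemma homologyMap_Q_map_eq_zero {K L : CochainComplex A ℤ} (g : K ⟶ L) (n : ℤ)
    (hg : HomologicalComplex.homologyMap g n = 0) :
    (homologyFunctor A n).map (Q.map g) = 0 := by
  have h2 := homologyFunctorFactors_hom_naturality g n
  rw [hg] at h2
  exact (cancel_mono ((homologyFunctorFactors A n).hom.app L)).1
    (h2.trans (comp_zero.trans zero_comp.symm))

end Groth.Agent.H56
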