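import Mathlib

/-!
# Density of a set of elements of a ring, and its ascent along etale ring maps (helper56)

`DenseAlong φ J` (for `φ : A →+* B`, `J : Set A`) says: whenever `b ∈ B` is killed by a power of
`a * φ f` for every `f ∈ J` (i.e. the section `b` of `D(a)` vanishes on all `D(a φ(f))`), then `b` is
killed by a power of `a` (vanishes on `D(a)`).  For `φ = id` this is the ring-level form of
"the open `⋃_{f ∈ J} D(f)` is schematically dense, tested on all opens".

Main results: `denseAlong_of_free` (finite free algebras, via Cayley--Hamilton),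
`denseAlong_of_isStandardEtale`, `denseAlong_of_etale`.  No finiteness on `J` is needed.
-/

set_option autoImplicit false

open Polynomial

namespace Groth.Agent.H56.EtDense

/-- see the module docstring -/
def DenseAlong {A B : Type*} [CommRing A] [CommRing B] (φ : A →+* B) (J : Set A) : Prop :=
  ∀ a b : B, (∀ f ∈ J, ∃ n : ℕ, (a * φ f) ^ n * b = 0) → ∃ m : ℕ, a ^ m * b = 0

section annRad

variable {C : Type*} [CommRing C]

/-- radical of the annihilator of `b` -/
def annRad (b : C) : Ideal C := Ideal.radical (LinearMap.ker (LinearMap.toSpanSingleton C C b))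

lemma mem_annRad {b y : C} : y ∈ annRad b ↔ ∃ n : ℕ, y ^ n * b = 0 := by
  unfold annRad
  simp only [Ideal.mem_radical_iff, LinearMap.mem_ker, LinearMap.toSpanSingleton_apply, smul_eq_mul]

lemma mem_annRad_of_sq {b y : C} (h : y ^ 2 ∈ annRad b) : y ∈ annRad b :=
  (Ideal.radical_isRadical _ : (annRad b).IsRadical) (Ideal.mem_radical_iff.2 ⟨2, h⟩)

/-- the inductive step, a statement about one commutative ring -/
lemma step' {a b g h cc : C} {J' : Set C}
    (hD : ∀ y : C, (∀ f ∈ J', cc * f ∈ annRad y) → cc ∈ annRad y)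
    (hH : ∀ f ∈ J', a * f ∈ annRad b) (hg : g = a * h + cc) (hag : a * g ∈ annRad b) :
    cc * a ∈ annRad b := by
  obtain ⟨N, hN⟩ := mem_annRad.1 hag
  have hc_mem : cc ∈ Ideal.span {a} ⊔ Ideal.span {g} := by
    have : cc = g - a * h := by rw [hg]; ring
    rw [this]
    exact sub_mem (Ideal.mem_sup_right (Ideal.subset_span rfl))
      (Ideal.mem_sup_left (Ideal.mul_mem_right _ _ (Ideal.subset_span rfl)))
  have h1 : cc ^ (N + N) ∈ Ideal.span {a} ^ N ⊔ Ideal.span {g} ^ N :=
    Ideal.sup_pow_add_le_pow_sup_pow (Ideal.pow_mem_pow hc_mem _)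
  rw [Ideal.span_singleton_pow, Ideal.span_singleton_pow] at h1
  obtain ⟨x, hx, z, hz, hxz⟩ := Submodule.mem_sup.1 h1
  obtain ⟨u, rfl⟩ := Ideal.mem_span_singleton'.1 hx
  obtain ⟨v, rfl⟩ := Ideal.mem_span_singleton'.1 hz
  obtain ⟨b', hb'⟩ : ∃ b', b' = u * a ^ N * b := ⟨_, rfl⟩
  have h2 : g ∈ annRad b' := mem_annRad.2 ⟨N, by
    rw [hb']
    calc g ^ N * (u * a ^ N * b) = u * ((a * g) ^ N * b) := by ring
      _ = 0 := by rw [hN, mul_zero]⟩
  have h3 : ∀ f ∈ J', a * f ∈ annRad b' := fun f hf => by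
    obtain ⟨n, hn⟩ := mem_annRad.1 (hH f hf)
    exact mem_annRad.2 ⟨n, by
      rw [hb']
      calc (a * f) ^ n * (u * a ^ N * b) = u * a ^ N * ((a * f) ^ n * b) := by ring
        _ = 0 := by rw [hn, mul_zero]⟩
  have h4 : ∀ f ∈ J', cc * f ∈ annRad b' := fun f hf => by
    have : cc * f = g * f - (a * f) * h := by rw [hg]; ring
    rw [this]
    exact sub_mem (Ideal.mul_mem_right _ _ h2) (Ideal.mul_mem_right _ _ (h3 f hf))
  obtain ⟨m', hm'⟩ := mem_annRad.1 (hD b' h4)
  have h5 : a ^ N * b' = a ^ N * cc ^ (N + N) * b := by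
    rw [hb', ← hxz]
    calc a ^ N * (u * a ^ N * b)
        = a ^ N * (u * a ^ N + v * g ^ N) * b - v * ((a * g) ^ N * b) := by ring
      _ = a ^ N * (u * a ^ N + v * g ^ N) * b := by rw [hN, mul_zero, sub_zero]
  exact mem_annRad.2 ⟨m' + N + N, by
    calc (cc * a) ^ (m' + N + N) * b
        = a ^ (m' + N) * (cc ^ m' * (a ^ N * cc ^ (N + N) * b)) := by ring
      _ = a ^ (m' + N) * (cc ^ m' * (a ^ N * b')) := by rw [h5]
      _ = a ^ (m' + N) * (a ^ N * (cc ^ m' * b')) := by ring
      _ = 0 := by rw [hm', mul_zero, mul_zero]⟩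

end annRad

section free

variable {A C : Type*} [CommRing A] [CommRing C] [Algebra A C] [Module.Free A C]
  [Module.Finite A C]

lemma denseMod {J : Set A} (hJ : DenseAlong (RingHom.id A) J) (c : A) (y : C)
    (h : ∀ f ∈ J, ∃ n : ℕ, (c * f) ^ n • y = 0) : ∃ m : ℕ, c ^ m • y = 0 := by
  classical
  let bs := Module.Free.chooseBasis A C
  have hk : ∀ k, ∃ m : ℕ, c ^ m * bs.repr y k = 0 := by
    intro k
    apply hJ c (bs.repr y k)
    intro f hf
    obtain ⟨n, hn⟩ := h f hf
    refine ⟨n, ?_⟩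
    have h1 : bs.repr ((c * f) ^ n • y) k = (c * f) ^ n * bs.repr y k := by
      rw [map_smul, Finsupp.smul_apply, smul_eq_mul]
    rw [hn, map_zero, Finsupp.zero_apply] at h1
    exact h1.symm
  choose m hm using hk
  refine ⟨Finset.univ.sup m, ?_⟩
  apply bs.repr.injective
  ext k
  have hle : m k ≤ Finset.univ.sup m := Finset.le_sup (Finset.mem_univ k)
  obtain ⟨d, hd⟩ := Nat.exists_eq_add_of_le hle
  rw [map_smul, Finsupp.smul_apply, smul_eq_mul, map_zero, Finsupp.zero_apply, hd, pow_add,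
    mul_comm (c ^ m k) (c ^ d), mul_assoc, hm k, mul_zero]

theorem denseAlong_of_free {J : Set A} (hJ : DenseAlong (RingHom.id A) J) :
    DenseAlong (algebraMap A C) J := by
  intro a b hH
  have hD : ∀ (c : A) (y : C),
      (∀ f ∈ (algebraMap A C) '' J, algebraMap A C c * f ∈ annRad y) →
      algebraMap A C c ∈ annRad y := by
    intro c y hy
    obtain ⟨m, hm⟩ := denseMod hJ c y (fun f hf => by
      obtain ⟨n, hn⟩ := mem_annRad.1 (hy _ ⟨f, hf, rfl⟩)
      refine ⟨n, ?_⟩
      rw [Algebra.smul_def, map_pow, map_mul]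
      exact hn)
    exact mem_annRad.2 ⟨m, by rw [← map_pow, ← Algebra.smul_def]; exact hm⟩
  have hH' : ∀ f ∈ (algebraMap A C) '' J, a * f ∈ annRad b := by
    rintro _ ⟨f, hf, rfl⟩
    exact mem_annRad.2 (hH f hf)
  obtain ⟨χ, hχ⟩ : ∃ χ : A[X], χ = (Algebra.lmul A C a).charpoly := ⟨_, rfl⟩
  have hmonic : χ.Monic := hχ ▸ LinearMap.charpoly_monic _
  have hCH : aeval a χ = 0 := by
    have h1 : aeval (Algebra.lmul A C a) χ = 0 := hχ ▸ LinearMap.aeval_self_charpoly _
    have h2 : aeval (Algebra.lmul A C a) χ = Algebra.lmul A C (aeval a χ) :=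
      Polynomial.aeval_algHom_apply (Algebra.lmul A C) a χ
    have h3 := LinearMap.congr_fun (h2.symm.trans h1) 1
    simpa using h3
  obtain ⟨p, hp⟩ : ∃ p : ℕ → A[X], p = fun e => Polynomial.divX^[e] χ := ⟨_, rfl⟩
  have hp0 : p 0 = χ := by rw [hp]; rfl
  have hps : ∀ e, p (e + 1) = Polynomial.divX (p e) := by
    intro e; rw [hp]; exact Function.iterate_succ_apply' _ _ _
  have hcoef : ∀ e n, (p e).coeff n = χ.coeff (n + e) := by
    intro e
    induction e with
    | zero => intro n; rw [hp0, add_zero]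
    | succ e ih =>
      intro n
      rw [hps, Polynomial.coeff_divX, ih (n + 1)]
      congr 1
      omega
  have hG : ∀ e, aeval a (p e) = a * aeval a (p (e + 1)) + algebraMap A C (χ.coeff e) := by
    intro e
    have h1 : p e = p (e + 1) * X + Polynomial.C ((p e).coeff 0) := by
      rw [hps]; exact (Polynomial.divX_mul_X_add (p e)).symm
    have h2 := congrArg (aeval a) h1
    rw [map_add, map_mul, aeval_X, aeval_C, hcoef e 0, zero_add] at h2
    rw [h2]; ring
  have hQ : ∀ e, a * aeval a (p e) ∈ annRad b := by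
    intro e
    induction e with
    | zero => rw [hp0, hCH, mul_zero]; exact zero_mem _
    | succ e ih =>
      have hP : algebraMap A C (χ.coeff e) * a ∈ annRad b :=
        step' (hD (χ.coeff e)) hH' (hG e) ih
      have h1 : a ^ 2 * aeval a (p (e + 1)) ∈ annRad b := by
        have : a ^ 2 * aeval a (p (e + 1)) =
            a * aeval a (p e) - algebraMap A C (χ.coeff e) * a := by rw [hG e]; ring
        rw [this]; exact sub_mem ih hP
      apply mem_annRad_of_sq
      have : (a * aeval a (p (e + 1))) ^ 2 =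
          (a ^ 2 * aeval a (p (e + 1))) * aeval a (p (e + 1)) := by ring
      rw [this]; exact Ideal.mul_mem_right _ _ h1
  have hP := step' (hD (χ.coeff χ.natDegree)) hH' (hG χ.natDegree) (hQ χ.natDegree)
  rw [hmonic.coeff_natDegree, map_one, one_mul] at hP
  exact mem_annRad.1 hP

end free

theorem denseAlong_away {A C L : Type*} [CommRing A] [CommRing C] [CommRing L] [Algebra A C]
    [Algebra C L] [Algebra A L] [IsScalarTower A C L] (g : C) [IsLocalization.Away g L]
    {J : Set A} (h : DenseAlong (algebraMap A C) J) : DenseAlong (algebraMap A L) J := by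
  intro a b hab
  obtain ⟨ka, a₀, ha⟩ := IsLocalization.Away.surj g a
  obtain ⟨kb, b₀, hb⟩ := IsLocalization.Away.surj g b
  have hu : IsUnit (algebraMap C L g) := IsLocalization.Away.algebraMap_isUnit g
  have key : ∀ f ∈ J, ∃ n : ℕ, ((g * a₀) * algebraMap A C f) ^ n * b₀ = 0 := by
    intro f hf
    obtain ⟨n, hn⟩ := hab f hf
    have h1 : algebraMap C L ((a₀ * algebraMap A C f) ^ n * b₀) = algebraMap C L 0 := by
      rw [map_mul, map_pow, map_mul, ← ha, ← hb, ← IsScalarTower.algebraMap_apply, map_zero]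
      calc (a * algebraMap C L g ^ ka * algebraMap A L f) ^ n * (b * algebraMap C L g ^ kb)
          = (algebraMap C L g ^ ka) ^ n * algebraMap C L g ^ kb *
              ((a * algebraMap A L f) ^ n * b) := by ring
        _ = 0 := by rw [hn, mul_zero]
    obtain ⟨t, ht⟩ := IsLocalization.Away.exists_of_eq g h1
    rw [mul_zero] at ht
    refine ⟨n + t, ?_⟩
    calc ((g * a₀) * algebraMap A C f) ^ (n + t) * b₀
        = g ^ n * (a₀ * algebraMap A C f) ^ t *
            (g ^ t * ((a₀ * algebraMap A C f) ^ n * b₀)) := by ring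
      _ = 0 := by rw [ht, mul_zero]
  obtain ⟨m, hm⟩ := h (g * a₀) b₀ key
  refine ⟨m, ?_⟩
  have h2 : algebraMap C L ((g * a₀) ^ m * b₀) = 0 := by rw [hm, map_zero]
  rw [map_mul, map_pow, map_mul, ← ha, ← hb] at h2
  have h3 : (algebraMap C L g ^ (m + ka * m + kb)) * (a ^ m * b) = 0 := by
    rw [← h2]; ring
  exact (hu.pow _).mul_right_eq_zero.1 h3

theorem denseAlong_of_algEquiv {A L B : Type*} [CommRing A] [CommRing L] [CommRing B]
    [Algebra A L] [Algebra A B] (e : L ≃ₐ[A] B) {J : Set A}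
    (h : DenseAlong (algebraMap A L) J) : DenseAlong (algebraMap A B) J := by
  intro a b hab
  obtain ⟨m, hm⟩ := h (e.symm a) (e.symm b) (fun f hf => by
    obtain ⟨n, hn⟩ := hab f hf
    refine ⟨n, ?_⟩
    have h1 := congrArg e.symm hn
    rw [map_mul, map_pow, map_mul, e.symm.commutes, map_zero] at h1
    exact h1)
  refine ⟨m, ?_⟩
  have h1 := congrArg e hm
  rw [map_mul, map_pow, e.apply_symm_apply, e.apply_symm_apply, map_zero] at h1
  exact h1

theorem denseAlong_of_isStandardEtale {A B : Type*} [CommRing A] [CommRing B] [Algebra A B]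
    [Algebra.IsStandardEtale A B] {J : Set A} (hJ : DenseAlong (RingHom.id A) J) :
    DenseAlong (algebraMap A B) J := by
  have P : StandardEtalePresentation A B :=
    Algebra.IsStandardEtale.nonempty_standardEtalePresentation.some
  haveI := P.monic_f.free_adjoinRoot
  haveI := P.monic_f.finite_adjoinRoot
  have h1 : DenseAlong (algebraMap A (AdjoinRoot P.f)) J := denseAlong_of_free hJ
  have h2 : DenseAlong (algebraMap A (Localization.Away (AdjoinRoot.mk P.f P.g))) J :=
    denseAlong_away (AdjoinRoot.mk P.f P.g) h1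
  exact denseAlong_of_algEquiv (P.equivRing.trans P.P.equivAwayAdjoinRoot).symm h2

theorem denseAlong_of_etale {A B : Type*} [CommRing A] [CommRing B] [Algebra A B]
    [Algebra.Etale A B] {J : Set A} (hJ : DenseAlong (RingHom.id A) J) :
    DenseAlong (algebraMap A B) J := by
  intro a b hab
  let I : Ideal B :=
    { carrier := {x | ∃ m : ℕ, x * a ^ m * b = 0}
      add_mem' := by
        rintro x y ⟨m, hm⟩ ⟨k, hk⟩
        refine ⟨m + k, ?_⟩
        calc (x + y) * a ^ (m + k) * b
            = a ^ k * (x * a ^ m * b) + a ^ m * (y * a ^ k * b) := by ring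
          _ = 0 := by rw [hm, hk, mul_zero, mul_zero, add_zero]
      zero_mem' := ⟨0, by simp⟩
      smul_mem' := by
        rintro c x ⟨m, hm⟩
        refine ⟨m, ?_⟩
        calc c • x * a ^ m * b = c * (x * a ^ m * b) := by rw [smul_eq_mul]; ring
          _ = 0 := by rw [hm, mul_zero] }
  have hI : I = ⊤ := by
    by_contra hne
    obtain ⟨𝔪, h𝔪, hle⟩ := Ideal.exists_le_maximal I hne
    haveI : 𝔪.IsPrime := h𝔪.isPrime
    haveI : Algebra.IsEtaleAt A 𝔪 := inferInstance
    obtain ⟨r, hr𝔪, hstd⟩ := Algebra.IsEtaleAt.exists_isStandardEtale (R := A) 𝔪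
    have hd : DenseAlong (algebraMap A (Localization.Away r)) J :=
      denseAlong_of_isStandardEtale hJ
    obtain ⟨m, hm⟩ := hd (algebraMap B _ a) (algebraMap B _ b) (fun f hf => by
      obtain ⟨n, hn⟩ := hab f hf
      refine ⟨n, ?_⟩
      rw [IsScalarTower.algebraMap_apply A B (Localization.Away r), ← map_mul, ← map_pow,
        ← map_mul, hn, map_zero])
    rw [← map_pow, ← map_mul] at hm
    obtain ⟨k, hk⟩ := IsLocalization.Away.exists_of_eq r (hm.trans (map_zero _).symm)
    have hmem : r ^ k ∈ I := ⟨m, by rw [mul_assoc, hk, mul_zero]⟩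
    exact hr𝔪 (h𝔪.isPrime.mem_of_pow_mem k (hle hmem))
  have h1 : (1 : B) ∈ I := by rw [hI]; trivial
  obtain ⟨m, hm⟩ := h1
  exact ⟨m, by rwa [one_mul] at hm⟩

end Groth.Agent.H56.EtDense
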