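import Mathlib
import Groth.Prelude.Def_CInt
import Groth.Agent.H56.EtDenseAlg

/-!
# Schematic density (tested on all opens) pulls back along etale morphisms and descends along
flat surjective morphisms (helper56)

* `isSchematicallyDense_preimage_of_etale`: `g : V' ⟶ V` etale, `W ⊆ V` open with
  `CInt.IsSchematicallyDense W` (NO quasi-compactness) ⟹ `CInt.IsSchematicallyDense (g ⁻¹ᵁ W)`.
* `isSchematicallyDense_of_preimage`: `h` flat surjective and `h ⁻¹ᵁ W` dense ⟹ `W` dense.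
* `isSchematicallyDense_mono`, `isSchematicallyDense_inf`.
-/

set_option autoImplicit false
universe u
open CategoryTheory AlgebraicGeometry Opposite TopologicalSpace

namespace Groth.Agent.H56.EtDense

variable {X : Scheme.{u}}

/-- restriction of sections, as a ring homomorphism -/
noncomputable abbrev res {A B : X.Opens} (h : A ≤ B) : Γ(X, B) →+* Γ(X, A) :=
  (X.presheaf.map (homOfLE h).op).hom

lemma res_res {A B C : X.Opens} (h₁ : A ≤ B) (h₂ : B ≤ C) (s : Γ(X, C)) :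
    res h₁ (res h₂ s) = res (h₁.trans h₂) s := by
  show (X.presheaf.map (homOfLE h₁).op) ((X.presheaf.map (homOfLE h₂).op) s) = _
  rw [← CommRingCat.comp_apply, ← X.presheaf.map_comp]
  rfl

lemma eq_zero_of_locally {V : X.Opens} (s : Γ(X, V)) {ι : Type*} (U : ι → X.Opens)
    (hUV : ∀ i, U i ≤ V) (hcov : V ≤ iSup U) (h : ∀ i, res (hUV i) s = 0) : s = 0 := by
  refine X.sheaf.eq_of_locally_eq' U V (fun i => homOfLE (hUV i)) hcov s 0 (fun i => ?_)
  exact (h i).trans (map_zero (res (hUV i))).symm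

lemma res_basicOpen_eq_zero_iff {U : X.Opens} (hU : IsAffineOpen U) (r b : Γ(X, U)) :
    res (X.basicOpen_le r) b = 0 ↔ ∃ n : ℕ, r ^ n * b = 0 := by
  letI : Algebra Γ(X, U) Γ(X, X.basicOpen r) := (res (X.basicOpen_le r)).toAlgebra
  haveI : IsLocalization.Away r Γ(X, X.basicOpen r) :=
    hU.isLocalization_of_eq_basicOpen r (homOfLE (X.basicOpen_le r)) rfl
  constructor
  · intro h
    have h0 : algebraMap Γ(X, U) Γ(X, X.basicOpen r) b = algebraMap Γ(X, U) Γ(X, X.basicOpen r) 0 := by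
      rw [map_zero]; exact h
    obtain ⟨n, hn⟩ := IsLocalization.Away.exists_of_eq r h0
    exact ⟨n, by rw [hn, mul_zero]⟩
  · rintro ⟨n, hn⟩
    have h1 : algebraMap Γ(X, U) Γ(X, X.basicOpen r) (r ^ n * b) = 0 := by rw [hn, map_zero]
    rw [map_mul, map_pow] at h1
    exact ((IsLocalization.Away.algebraMap_isUnit r).pow n).mul_right_eq_zero.1 h1

/-- scheme-level density gives ring-level density on every affine open -/
theorem denseAlong_id_of_isSchematicallyDense {W : X.Opens} (hW : CInt.IsSchematicallyDense W)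
    {U : X.Opens} (hU : IsAffineOpen U) :
    DenseAlong (RingHom.id Γ(X, U)) {f | X.basicOpen f ≤ W} := by
  intro a b h
  rw [← res_basicOpen_eq_zero_iff hU a b]
  apply hW (X.basicOpen a)
  show res (inf_le_left : X.basicOpen a ⊓ W ≤ X.basicOpen a) (res (X.basicOpen_le a) b) =
    res (inf_le_left : X.basicOpen a ⊓ W ≤ X.basicOpen a) 0
  rw [map_zero, res_res]
  refine eq_zero_of_locally _
    (fun f : {f : Γ(X, U) // X.basicOpen f ≤ W} => X.basicOpen (a * f.1)) (fun f => ?_) ?_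
    (fun f => ?_)
  · rw [X.basicOpen_mul]; exact inf_le_inf le_rfl f.2
  · intro x hx
    obtain ⟨hxa, hxW⟩ := Opens.mem_inf.1 hx
    obtain ⟨f, hfW, hxf⟩ := hU.exists_basicOpen_le (V := W) ⟨x, hxW⟩ (X.basicOpen_le a hxa)
    refine Opens.mem_iSup.2 ⟨⟨f, hfW⟩, ?_⟩
    rw [X.basicOpen_mul]; exact Opens.mem_inf.2 ⟨hxa, hxf⟩
  · rw [res_res]
    obtain ⟨n, hn⟩ := h f.1 f.2
    exact (res_basicOpen_eq_zero_iff hU (a * f.1) b).2 ⟨n, hn⟩

theorem isSchematicallyDense_mono {W₁ W₂ : X.Opens} (h : W₁ ≤ W₂)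
    (h₁ : CInt.IsSchematicallyDense W₁) : CInt.IsSchematicallyDense W₂ := by
  intro V₁
  show Function.Injective (res (inf_le_left : V₁ ⊓ W₂ ≤ V₁))
  rw [injective_iff_map_eq_zero]
  intro s hs
  apply h₁ V₁
  show res (inf_le_left : V₁ ⊓ W₁ ≤ V₁) s = res (inf_le_left : V₁ ⊓ W₁ ≤ V₁) 0
  have h2 : res (inf_le_left : V₁ ⊓ W₁ ≤ V₁) s =
      res (inf_le_inf le_rfl h : V₁ ⊓ W₁ ≤ V₁ ⊓ W₂) (res inf_le_left s) := (res_res _ _ _).symm
  rw [h2, hs, map_zero, map_zero]

theorem isSchematicallyDense_inf {W₁ W₂ : X.Opens} (h₁ : CInt.IsSchematicallyDense W₁)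
    (h₂ : CInt.IsSchematicallyDense W₂) : CInt.IsSchematicallyDense (W₁ ⊓ W₂) := by
  intro V₁
  show Function.Injective (res (inf_le_left : V₁ ⊓ (W₁ ⊓ W₂) ≤ V₁))
  rw [injective_iff_map_eq_zero]
  intro s hs
  apply h₁ V₁
  show res (inf_le_left : V₁ ⊓ W₁ ≤ V₁) s = res (inf_le_left : V₁ ⊓ W₁ ≤ V₁) 0
  rw [map_zero]
  apply h₂ (V₁ ⊓ W₁)
  show res (inf_le_left : V₁ ⊓ W₁ ⊓ W₂ ≤ V₁ ⊓ W₁) (res inf_le_left s) =
    res (inf_le_left : V₁ ⊓ W₁ ⊓ W₂ ≤ V₁ ⊓ W₁) 0
  rw [map_zero, res_res]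
  have hle : V₁ ⊓ W₁ ⊓ W₂ ≤ V₁ ⊓ (W₁ ⊓ W₂) := le_of_eq (inf_assoc _ _ _)
  have h3 : res ((inf_le_left : V₁ ⊓ W₁ ⊓ W₂ ≤ V₁ ⊓ W₁).trans inf_le_left) s =
      res hle (res inf_le_left s) := (res_res _ _ _).symm
  rw [h3, hs, map_zero]

/-- **Key lemma**: schematic density (on all opens, no quasi-compactness) pulls back along etale
morphisms. -/
theorem isSchematicallyDense_preimage_of_etale {V' V : Scheme.{u}} (g : V' ⟶ V) [Etale g]
    (W : V.Opens) (hW : CInt.IsSchematicallyDense W) : CInt.IsSchematicallyDense (g ⁻¹ᵁ W) := by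
  intro V₁
  show Function.Injective (res (inf_le_left : V₁ ⊓ g ⁻¹ᵁ W ≤ V₁))
  rw [injective_iff_map_eq_zero]
  intro s hs
  have key : ∀ y : V₁, ∃ D : V'.Opens, ∃ hD : D ≤ V₁, y.1 ∈ D ∧ res hD s = 0 := by
    intro y
    obtain ⟨U, hU, hyU, -⟩ := exists_isAffineOpen_mem_and_subset (x := g y.1) (U := ⊤) trivial
    obtain ⟨U'', hU'', hyU'', hU''le⟩ :=
      exists_isAffineOpen_mem_and_subset (x := y.1) (U := g ⁻¹ᵁ U) hyU
    obtain ⟨a, haV₁, hya⟩ := hU''.exists_basicOpen_le (V := V₁) y hyU''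
    refine ⟨V'.basicOpen a, haV₁, hya, ?_⟩
    have e : U'' ≤ g ⁻¹ᵁ U := hU''le
    have hφ : (g.appLE U U'' e).hom.Etale :=
      HasRingHomProperty.appLE (P := @Etale) g inferInstance ⟨U, hU⟩ ⟨U'', hU''⟩ e
    letI := (g.appLE U U'' e).hom.toAlgebra
    haveI : Algebra.Etale Γ(V, U) Γ(V', U'') := hφ
    have hd : DenseAlong (algebraMap Γ(V, U) Γ(V', U'')) {f | V.basicOpen f ≤ W} :=
      denseAlong_of_etale (denseAlong_id_of_isSchematicallyDense hW hU)
    letI : Algebra Γ(V', U'') Γ(V', V'.basicOpen a) := (res (V'.basicOpen_le a)).toAlgebra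
    haveI : IsLocalization.Away a Γ(V', V'.basicOpen a) :=
      hU''.isLocalization_of_eq_basicOpen a (homOfLE (V'.basicOpen_le a)) rfl
    obtain ⟨k, b, hb⟩ := IsLocalization.Away.surj a (res haV₁ s)
    have hb' : res haV₁ s * res (V'.basicOpen_le a) a ^ k = res (V'.basicOpen_le a) b := hb
    have hab : ∀ f ∈ {f | V.basicOpen f ≤ W},
        ∃ n : ℕ, (a * algebraMap Γ(V, U) Γ(V', U'') f) ^ n * b = 0 := by
      intro f hf
      have hφf : algebraMap Γ(V, U) Γ(V', U'') f = g.appLE U U'' e f := rfl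
      rw [← res_basicOpen_eq_zero_iff hU'' (a * algebraMap Γ(V, U) Γ(V', U'') f) b]
      have hle1 : V'.basicOpen (a * algebraMap Γ(V, U) Γ(V', U'') f) ≤ V'.basicOpen a := by
        rw [V'.basicOpen_mul]; exact inf_le_left
      have hle2 : V'.basicOpen (a * algebraMap Γ(V, U) Γ(V', U'') f) ≤ V₁ ⊓ g ⁻¹ᵁ W := by
        rw [V'.basicOpen_mul]
        refine inf_le_inf haV₁ ?_
        rw [hφf, Scheme.basicOpen_appLE]
        exact inf_le_right.trans (g.preimage_mono hf)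
      have h1 : res (V'.basicOpen_le (a * algebraMap Γ(V, U) Γ(V', U'') f)) b =
          res hle1 (res (V'.basicOpen_le a) b) := (res_res _ _ _).symm
      rw [h1, ← hb', map_mul, res_res]
      have h2 : res (hle1.trans haV₁) s = 0 := by
        have h3 : res (hle1.trans haV₁) s = res hle2 (res inf_le_left s) := (res_res _ _ _).symm
        rw [h3, hs, map_zero]
      rw [h2, zero_mul]
    obtain ⟨m, hm⟩ := hd a b hab
    have h3 : res (V'.basicOpen_le a) b = 0 := (res_basicOpen_eq_zero_iff hU'' a b).2 ⟨m, hm⟩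
    rw [h3] at hb'
    exact ((IsLocalization.Away.algebraMap_isUnit a).pow k).mul_left_eq_zero.1 hb'
  choose D hD hyD hsD using key
  exact eq_zero_of_locally s D hD (fun x hx => Opens.mem_iSup.2 ⟨⟨x, hx⟩, hyD ⟨x, hx⟩⟩) hsD

lemma app_res {T V : Scheme.{u}} (h : T ⟶ V) {A B : V.Opens} (hAB : A ≤ B) (s : Γ(V, B)) :
    h.app A (res hAB s) = res (h.preimage_mono hAB) (h.app B s) := by
  have nat := h.naturality (homOfLE hAB).op
  have h1 := congrArg (fun φ => φ.hom s) nat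
  simp only [CommRingCat.hom_comp, RingHom.comp_apply] at h1
  exact h1

set_option backward.isDefEq.respectTransparency.types false in
lemma stalkMap_injective_of_flat {T V : Scheme.{u}} (h : T ⟶ V) [Flat h] (t : T) :
    Function.Injective (h.stalkMap t).hom := by
  algebraize [(h.stalkMap t).hom]
  have : Module.FaithfullyFlat (V.presheaf.stalk (h t)) (T.presheaf.stalk t) :=
    @Module.FaithfullyFlat.of_flat_of_isLocalHom _ _ _ _ _ _ _
      (Flat.stalkMap h t) (h.toLRSHom.prop t)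
  exact ‹RingHom.FaithfullyFlat _›.injective

/-- schematic density descends along flat surjective morphisms -/
theorem isSchematicallyDense_of_preimage {T V : Scheme.{u}} (h : T ⟶ V) [Flat h] [Surjective h]
    (W : V.Opens) (hW : CInt.IsSchematicallyDense (h ⁻¹ᵁ W)) : CInt.IsSchematicallyDense W := by
  intro V₁
  show Function.Injective (res (inf_le_left : V₁ ⊓ W ≤ V₁))
  rw [injective_iff_map_eq_zero]
  intro s hs
  have h1 : h.app V₁ s = 0 := by
    have key : ∀ (A : T.Opens) (hA : A ≤ h ⁻¹ᵁ V₁) (_ : A ≤ h ⁻¹ᵁ (V₁ ⊓ W)),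
        res hA (h.app V₁ s) = 0 := by
      intro A hA hA'
      have h2 : res hA (h.app V₁ s) = res hA' (h.app (V₁ ⊓ W) (res inf_le_left s)) := by
        rw [app_res h inf_le_left s, res_res]
      rw [h2, hs, map_zero, map_zero]
    apply hW (h ⁻¹ᵁ V₁)
    show res (inf_le_left : h ⁻¹ᵁ V₁ ⊓ h ⁻¹ᵁ W ≤ h ⁻¹ᵁ V₁) (h.app V₁ s) =
      res (inf_le_left : h ⁻¹ᵁ V₁ ⊓ h ⁻¹ᵁ W ≤ h ⁻¹ᵁ V₁) 0
    rw [map_zero]
    refine key _ inf_le_left (fun x hx => ?_)
    obtain ⟨hx1, hx2⟩ := Opens.mem_inf.1 hx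
    exact Opens.mem_inf.2 ⟨hx1, hx2⟩
  refine TopCat.Presheaf.section_ext V.sheaf V₁ s 0 (fun x hx => ?_)
  obtain ⟨t, rfl⟩ := h.surjective x
  apply stalkMap_injective_of_flat h t
  show h.stalkMap t (V.presheaf.germ V₁ (h t) hx s) = h.stalkMap t (V.presheaf.germ V₁ (h t) hx 0)
  rw [Scheme.Hom.germ_stalkMap_apply, Scheme.Hom.germ_stalkMap_apply, h1]
  simp only [map_zero]

end Groth.Agent.H56.EtDense
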