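import Groth.Prelude.Def_DRing2
import Groth.Agent.H56.ConeLift
import Groth.Agent.H56.StupidInd
import Groth.Agent.H56.DerCat
import Mathlib.Algebra.Category.ModuleCat.Biproducts
import Mathlib.Algebra.Category.ModuleCat.Injective
import Mathlib.Algebra.Homology.HomotopyCategory.KInjective

set_option autoImplicit false
universe u
open CategoryTheory CategoryTheory.Limits Pretriangulated
attribute [local instance] HasDerivedCategory.standard

namespace Groth.Agent.H56

open DRing DerivedCategory DerivedCategory.TStructure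

variable {R : Type u} [CommRing R]

lemma hasFiniteInjDim_of_iso {K L : Dual.D R} (e : K ≅ L) (h : HasFiniteInjDim R K) :
    HasFiniteInjDim R L := by
  obtain ⟨a, b, E, h1, h2, ⟨e'⟩⟩ := h
  exact ⟨a, b, E, h1, h2, ⟨e' ≪≫ e⟩⟩

lemma hasFiniteInjDim_shift {K : Dual.D R} (h : HasFiniteInjDim R K) (n : ℤ) :
    HasFiniteInjDim R (K⟦n⟧) := by
  obtain ⟨a, b, E, h1, h2, ⟨e⟩⟩ := h
  refine ⟨a - n, b - n, E⟦n⟧, ?_, ?_,
    ⟨(Q.commShiftIso n).app E ≪≫ (shiftFunctor (Dual.D R) n).mapIso e⟩⟩
  · intro i hi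
    exact h1 (i + n) (by omega)
  · intro i
    exact h2 (i + n)

lemma moduleInjective_of_isZero (N : ModuleCat.{u} R) (h : IsZero N) : Module.Injective R N := by
  haveI : Injective N := h.injective
  exact Module.injective_module_of_injective_object R N

lemma hasFiniteInjDim_of_isZero {Z : Dual.D R} (hZ : IsZero Z) : HasFiniteInjDim R Z := by
  refine ⟨0, 0, HomologicalComplex.zero, ?_, ?_, ⟨?_⟩⟩
  · intro i _
    exact isZero_zero _
  · intro i
    exact moduleInjective_of_isZero _ (isZero_zero _)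
  · exact (Q.map_isZero HomologicalComplex.isZero_zero).iso hZ

lemma termwiseInjective_mappingCone {E₁ E₂ : Cx R} (φ : E₁ ⟶ E₂) (a₁ b₁ a₂ b₂ : ℤ)
    (h1 : VanishesOutside E₁ a₁ b₁) (h1' : TermwiseInjective E₁)
    (h2 : VanishesOutside E₂ a₂ b₂) (h2' : TermwiseInjective E₂) :
    VanishesOutside (CochainComplex.mappingCone φ) (min (a₁ - 1) a₂) (max (b₁ - 1) b₂) ∧
      TermwiseInjective (CochainComplex.mappingCone φ) := by
  have eX : ∀ i : ℤ, (CochainComplex.mappingCone φ).X i ≅ E₁.X (i + 1) ⊞ E₂.X i := fun i =>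
    HomologicalComplex.homotopyCofiber.XIsoBiprod φ i (i + 1) rfl
  constructor
  · intro i hi
    refine IsZero.of_iso ?_ (eX i)
    rw [biprod_isZero_iff]
    rcases hi with hi | hi
    · have := lt_min_iff.mp hi
      exact ⟨h1 (i + 1) (Or.inl (by omega)), h2 i (Or.inl (by omega))⟩
    · have := max_lt_iff.mp hi
      exact ⟨h1 (i + 1) (Or.inr (by omega)), h2 i (Or.inr (by omega))⟩
  · intro i
    haveI : Injective (E₁.X (i + 1)) :=
      Module.injective_object_of_injective_module R _ (inj := h1' (i + 1))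
    haveI : Injective (E₂.X i) := Module.injective_object_of_injective_module R _ (inj := h2' i)
    haveI : Injective ((CochainComplex.mappingCone φ).X i) := Injective.of_iso (eX i).symm inferInstance
    exact Module.injective_module_of_injective_object R _

lemma hasFiniteInjDim_obj₃ (T : Triangle (Dual.D R)) (hT : T ∈ distTriang _)
    (h₁ : HasFiniteInjDim R T.obj₁) (h₂ : HasFiniteInjDim R T.obj₂) :
    HasFiniteInjDim R T.obj₃ := by
  obtain ⟨a₁, b₁, E₁, v₁, p₁, ⟨e₁⟩⟩ := h₁
  obtain ⟨a₂, b₂, E₂, v₂, p₂, ⟨e₂⟩⟩ := h₂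
  haveI : E₂.IsStrictlyGE a₂ := by
    rw [CochainComplex.isStrictlyGE_iff]
    intro i hi
    exact v₂ i (Or.inl hi)
  haveI : ∀ n, Injective (E₂.X n) := fun n =>
    Module.injective_object_of_injective_module R _ (inj := p₂ n)
  haveI : E₂.IsKInjective := CochainComplex.isKInjective_of_injective E₂ a₂
  obtain ⟨φ, hφ⟩ := exists_chainMap_of_isKInjective E₁ E₂ (e₁.hom ≫ T.mor₁ ≫ e₂.inv)
  obtain ⟨e₃⟩ := nonempty_obj₃_iso_mappingCone T hT e₁.symm e₂.symm φ hφ
  obtain ⟨hv, hp⟩ := termwiseInjective_mappingCone φ a₁ b₁ a₂ b₂ v₁ p₁ v₂ p₂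
  exact ⟨_, _, _, hv, hp, ⟨e₃.symm⟩⟩

lemma hasFiniteInjDim_obj₂ (T : Triangle (Dual.D R)) (hT : T ∈ distTriang _)
    (h₁ : HasFiniteInjDim R T.obj₁) (h₃ : HasFiniteInjDim R T.obj₃) :
    HasFiniteInjDim R T.obj₂ :=
  hasFiniteInjDim_obj₃ T.invRotate (inv_rot_of_distTriang T hT) (hasFiniteInjDim_shift h₃ (-1)) h₁

lemma hasFiniteInjDim_obj₁ (T : Triangle (Dual.D R)) (hT : T ∈ distTriang _)
    (h₂ : HasFiniteInjDim R T.obj₂) (h₃ : HasFiniteInjDim R T.obj₃) :
    HasFiniteInjDim R T.obj₁ := by
  have h := hasFiniteInjDim_obj₃ T.rotate (rot_of_distTriang T hT) h₂ h₃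
  exact hasFiniteInjDim_of_iso
    ((shiftFunctorCompIsoId (Dual.D R) (1 : ℤ) (-1) (by norm_num)).app T.obj₁)
    (hasFiniteInjDim_shift h (-1))

lemma hasFiniteInjDim_single (N : ModuleCat.{u} R) (j : ℤ)
    (h : HasFiniteInjDim R ((singleFunctor (ModuleCat.{u} R) 0).obj N)) :
    HasFiniteInjDim R ((singleFunctor (ModuleCat.{u} R) j).obj N) :=
  hasFiniteInjDim_of_iso (((singleFunctors (ModuleCat.{u} R)).shiftIso (-j) j 0 (by omega)).app N)
    (hasFiniteInjDim_shift h (-j))

theorem hasFiniteInjDim_of_bounded_homology :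
    ∀ (n : ℕ) (K : Dual.D R) (a b : ℤ), b < a + n →
      (∀ i : ℤ, i < a ∨ b < i → IsZero ((homologyFunctor (ModuleCat.{u} R) i).obj K)) →
      (∀ i : ℤ, HasFiniteInjDim R ((singleFunctor (ModuleCat.{u} R) 0).obj
        ((homologyFunctor (ModuleCat.{u} R) i).obj K))) →
      HasFiniteInjDim R K := by
  intro n
  induction n with
  | zero =>
    intro K a b hab hz _
    have h1 : K.IsLE (a - 1) := by
      rw [isLE_iff]
      intro i hi
      exact hz i (by omega)
    have h2 : K.IsGE a := by
      rw [isGE_iff]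
      intro i hi
      exact hz i (Or.inl hi)
    exact hasFiniteInjDim_of_isZero (t.isZero K (a - 1) a (by omega))
  | succ n ih =>
    intro K a b hab hz hp
    have hLE : K.IsLE b := by
      rw [isLE_iff]
      intro i hi
      exact hz i (Or.inr hi)
    have hT := t.triangleLTGE_distinguished b K
    have g1 : ((t.truncGE b).obj K).IsGE b := inferInstanceAs (t.IsGE ((t.truncGE b).obj K) b)
    have g2 : ((t.truncGE b).obj K).IsLE b := inferInstanceAs (t.IsLE ((t.truncGE b).obj K) b)
    obtain ⟨eZ⟩ := nonempty_iso_single ((t.truncGE b).obj K) b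
    have hiso := isIso_homologyMap_truncGEπ K b b le_rfl
    have h3 : HasFiniteInjDim R ((t.truncGE b).obj K) := by
      refine hasFiniteInjDim_of_iso eZ.symm ?_
      apply hasFiniteInjDim_single
      exact hasFiniteInjDim_of_iso ((singleFunctor (ModuleCat.{u} R) 0).mapIso
        (asIso ((homologyFunctor (ModuleCat.{u} R) b).map ((t.truncGEπ b).app K)))) (hp b)
    have l1 : ((t.truncLT b).obj K).IsLE (b - 1) :=
      inferInstanceAs (t.IsLE ((t.truncLT b).obj K) (b - 1))
    have h1 : HasFiniteInjDim R ((t.truncLT b).obj K) := by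
      apply ih _ a (b - 1) (by omega)
      · intro i hi
        by_cases hib : i < b
        · have := isIso_homologyMap_truncLTι K b i hib
          exact (hz i (by omega)).of_iso
            (asIso ((homologyFunctor (ModuleCat.{u} R) i).map ((t.truncLTι b).app K)))
        · exact isZero_of_isLE _ (b - 1) i (by omega)
      · intro i
        by_cases hib : i < b
        · have := isIso_homologyMap_truncLTι K b i hib
          exact hasFiniteInjDim_of_iso ((singleFunctor (ModuleCat.{u} R) 0).mapIso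
            (asIso ((homologyFunctor (ModuleCat.{u} R) i).map ((t.truncLTι b).app K))).symm) (hp i)
        · exact hasFiniteInjDim_of_isZero ((singleFunctor (ModuleCat.{u} R) 0).map_isZero
            (isZero_of_isLE _ (b - 1) i (by omega)))
    exact hasFiniteInjDim_obj₂ _ hT h1 h3

/-- a bounded complex whose terms have finite injective dimension has finite injective
dimension. -/
theorem hasFiniteInjDim_of_bounded_terms (K : Cx R) (a b : ℤ) (hK : VanishesOutside K a b)
    (h : ∀ i : ℤ, HasFiniteInjDim R ((singleFunctor (ModuleCat.{u} R) 0).obj (K.X i))) :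
    HasFiniteInjDim R (Q.obj K) := by
  let Pr : ObjectProperty (Dual.D R) := fun X => HasFiniteInjDim R X
  haveI : Pr.IsClosedUnderIsomorphisms := ⟨fun e h => hasFiniteInjDim_of_iso e h⟩
  refine prop_Q_obj_of_bounded Pr ?hzero ?hext (b - a + 1).toNat K a b (by omega) hK ?hterm
  case hzero => exact fun Z hZ => hasFiniteInjDim_of_isZero hZ
  case hext => exact fun T hT h1 h3 => hasFiniteInjDim_obj₂ T hT h1 h3
  case hterm => exact fun i => hasFiniteInjDim_single _ i (h i)

end Groth.Agent.H56
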