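import Mathlib
import Groth.Agent.H57.FPRes
import Groth.Agent.H56.Cancel
import Groth.Agent.H56.RestrictPC
import Groth.Agent.H56.PcMor4
import Groth.Agent.H35.TorBridge

/-!
Flat finitely presented ring maps are perfect; pseudo-coherence over flat f.p. algebras
(helper56; uses helper57's finite free resolutions `H57/FPRes`).
-/

set_option autoImplicit false
set_option linter.style.haveILetI false
universe u
open CategoryTheory CategoryTheory.Limits Pretriangulated
attribute [local instance] HasDerivedCategory.standard

namespace Groth.Agent.H56.PcMor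

open DRing Groth.Agent.H56 Groth.Agent.H56.FlatPc DerivedCategory Groth.Agent.H35.TorAmp

lemma q_algebraMap_iff {A B : Type u} [CommRing A] [CommRing B] [inst : Algebra A B] :
    Q (algebraMap A B) ↔ MoreMor.IsPseudoCoherentHom A B := by
  have e : (algebraMap A B).toAlgebra = inst := Algebra.algebra_ext _ _ (fun _ => rfl)
  unfold Q
  rw [e]

/-- a projective resolution by finite free modules shows pseudo-coherence. -/
lemma isPseudoCoherent'_of_finFreeRes {R : Type u} [CommRing R] {X : ModuleCat.{u} R}
    (P : ProjectiveResolution X)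
    (hP : ∀ n : ℕ, Module.Finite R (P.complex.X n) ∧ Module.Free R (P.complex.X n)) :
    IsPseudoCoherent' R ((singleFunctor (ModuleCat.{u} R) 0).obj X) := by
  refine ⟨P.cochainComplex, 0, vanishesAbove_cochainComplex P, ?_, ⟨cochainComplexIso P⟩⟩
  intro i
  by_cases hi : i ≤ 0
  · obtain ⟨n, rfl⟩ : ∃ n : ℕ, i = -(n : ℤ) := ⟨(-i).toNat, by omega⟩
    have e := P.cochainComplexXIso (-(n : ℤ)) n rfl
    obtain ⟨h1, h2⟩ := hP n
    exact ⟨Module.Finite.equiv e.toLinearEquiv.symm, Module.Free.of_equiv e.toLinearEquiv.symm⟩
  · have hz := vanishesAbove_cochainComplex P i (by omega)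
    have : Subsingleton (P.cochainComplex.X i) := ModuleCat.subsingleton_of_isZero hz
    exact ⟨inferInstance, inferInstance⟩

/-- over a flat finitely presented `A`-algebra `B`, a finitely presented `B`-module which is flat
over `A` is pseudo-coherent. -/
theorem isPseudoCoherentModule'_of_flat_fp (A B M : Type u) [CommRing A] [CommRing B]
    [Algebra A B] [Algebra.FinitePresentation A B] [Module.Flat A B] [AddCommGroup M]
    [Module B M] [Module A M] [IsScalarTower A B M] [Module.FinitePresentation B M]
    [Module.Flat A M] : IsPseudoCoherentModule' B M := by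
  obtain ⟨P, hP⟩ := Groth.Agent.H57.FPRes.exists_finFreeRes (A := A) (B := B) M
  exact isPseudoCoherent'_of_finFreeRes P hP

lemma finitePresentation_of_surjective_algebraMap (P B : Type u) [CommRing P] [CommRing B]
    [Algebra P B] (hs : Function.Surjective (algebraMap P B))
    (hk : (RingHom.ker (algebraMap P B)).FG) : Module.FinitePresentation P B := by
  refine Module.finitePresentation_of_surjective (Algebra.linearMap P B) hs ?_
  have e : LinearMap.ker (Algebra.linearMap P B) = RingHom.ker (algebraMap P B) :=
    Submodule.ext fun x => by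
      rw [LinearMap.mem_ker, RingHom.mem_ker]
      rfl
  rw [e]
  exact hk

/-- a flat ring map of finite presentation is perfect. -/
theorem isPerfectHom_of_flat_fp (A B : Type u) [CommRing A] [CommRing B] [Algebra A B]
    [Module.Flat A B] [Algebra.FinitePresentation A B] : MoreMor.IsPerfectHom A B := by
  obtain ⟨n, f, hf, hker⟩ := Algebra.FinitePresentation.out (R := A) (A := B)
  refine ⟨⟨n, f, hf, ?_⟩, ⟨0, (hasTorDimLE_zero_iff_flat B).2 inferInstance⟩⟩
  letI : Algebra (MvPolynomial (Fin n) A) B := f.toRingHom.toAlgebra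
  haveI : IsScalarTower A (MvPolynomial (Fin n) A) B :=
    IsScalarTower.of_algebraMap_eq (fun a => (f.commutes a).symm)
  haveI : Module.FinitePresentation (MvPolynomial (Fin n) A) B :=
    finitePresentation_of_surjective_algebraMap _ _ hf hker
  exact isPseudoCoherentModule'_of_flat_fp A (MvPolynomial (Fin n) A) B

theorem qp_of_flat_fp (A B : Type u) [CommRing A] [CommRing B] [Algebra A B]
    [Module.Flat A B] [Algebra.FinitePresentation A B] : QP (algebraMap A B) :=
  qp_algebraMap_iff.2 (isPerfectHom_of_flat_fp A B)

section Tower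

variable (P B : Type u) [CommRing P] [CommRing B] [Algebra P B] (C : Type u) [AddCommGroup C]
  [Module B C] [Module P C] [IsScalarTower P B C]

/-- `C` with its `P`-module structure through `B`. -/
noncomputable def restrictIsoM :
    (ModuleCat.restrictScalars.{u} (algebraMap P B)).obj (ModuleCat.of B C) ≅ ModuleCat.of P C :=
  @LinearEquiv.toModuleIso P _ C C _ _ (Module.compHom C (algebraMap P B)) _
    (@LinearEquiv.mk P P _ _ (RingHom.id P) (RingHom.id P) _ _ C C _ _
      (Module.compHom C (algebraMap P B)) _
      (@LinearMap.mk P P _ _ (RingHom.id P) C C _ _ (Module.compHom C (algebraMap P B)) _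
        ⟨fun c => c, fun _ _ => rfl⟩ (fun a c => IsScalarTower.algebraMap_smul B a c))
      (fun c => c) (fun _ => rfl) (fun _ => rfl))

/-- if `B` is a pseudo-coherent `P`-module, a `B`-module is pseudo-coherent over `P` iff it is
over `B`. -/
lemma isPseudoCoherentModule'_tower_iff (hB : IsPseudoCoherentModule' P B) :
    IsPseudoCoherentModule' P C ↔ IsPseudoCoherentModule' B C := by
  have key : ∀ m : ℤ, IsPseudoCoherent P m (Dual.inD P C) ↔
      IsPseudoCoherent B m (Dual.inD B C) := by
    intro m
    have h1 : IsPseudoCoherent B m (Dual.inD B C) ↔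
        IsPseudoCoherent P m ((restrictD (algebraMap P B)).obj (Dual.inD B C)) :=
      ⟨isPseudoCoherent_restrictD hB _ m, isPseudoCoherent_of_restrictD hB _ m⟩
    rw [h1, isPseudoCoherent_restrictD_single_iff]
    exact ⟨isPseudoCoherent_of_iso
        ((singleFunctor (ModuleCat.{u} P) 0).mapIso (restrictIsoM P B C).symm) m,
      isPseudoCoherent_of_iso
        ((singleFunctor (ModuleCat.{u} P) 0).mapIso (restrictIsoM P B C)) m⟩
  unfold IsPseudoCoherentModule'
  rw [isPseudoCoherent'_iff_forall, isPseudoCoherent'_iff_forall]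
  exact forall_congr' key

end Tower

/-- an ideal is pseudo-coherent iff the quotient is. -/
lemma isPseudoCoherentModule'_quotient_iff {B : Type u} [CommRing B] (I : Ideal B) :
    IsPseudoCoherentModule' B (B ⧸ I) ↔ IsPseudoCoherentModule' B ↥I := by
  let S : ShortComplex (ModuleCat.{u} B) :=
    ShortComplex.mk (ModuleCat.ofHom I.subtype) (ModuleCat.ofHom (Submodule.mkQ I))
      (ModuleCat.hom_ext (LinearMap.ext fun x => (Submodule.Quotient.mk_eq_zero I).2 x.2))
  have hS : S.ShortExact := by
    refine { exact := ?_, mono_f := ?_, epi_g := ?_ }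
    · rw [ShortComplex.moduleCat_exact_iff]
      intro x hx
      have hx' : x ∈ I := (Submodule.Quotient.mk_eq_zero I).1 hx
      exact ⟨⟨x, hx'⟩, rfl⟩
    · exact (ModuleCat.mono_iff_injective _).2 Subtype.val_injective
    · exact (ModuleCat.epi_iff_surjective _).2 (Submodule.mkQ_surjective I)
  have hBB : IsPseudoCoherentModule' B B := isPseudoCoherentModule'_of_finite_free B
  constructor
  · intro h3
    exact isPseudoCoherent'_obj₁ hS.singleTriangle hS.singleTriangle_distinguished hBB h3
  · intro h1
    exact isPseudoCoherent'_obj₃ hS.singleTriangle hS.singleTriangle_distinguished h1 hBB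

/-- `A → B` flat of finite presentation, `I ⊆ B`: `A → B/I` is pseudo-coherent iff `I` is a
pseudo-coherent `B`-module. -/
theorem isPseudoCoherentHom_quotient_iff {A B : Type u} [CommRing A] [CommRing B] [Algebra A B]
    [Module.Flat A B] [Algebra.FinitePresentation A B] (I : Ideal B) :
    MoreMor.IsPseudoCoherentHom A (B ⧸ I) ↔ IsPseudoCoherentModule' B ↥I := by
  obtain ⟨n, f, hf, hker⟩ := Algebra.FinitePresentation.out (R := A) (A := B)
  letI : Algebra (MvPolynomial (Fin n) A) B := f.toRingHom.toAlgebra
  haveI : IsScalarTower A (MvPolynomial (Fin n) A) B :=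
    IsScalarTower.of_algebraMap_eq (fun a => (f.commutes a).symm)
  haveI : Module.FinitePresentation (MvPolynomial (Fin n) A) B :=
    finitePresentation_of_surjective_algebraMap _ _ hf hker
  have hB : IsPseudoCoherentModule' (MvPolynomial (Fin n) A) B :=
    isPseudoCoherentModule'_of_flat_fp A (MvPolynomial (Fin n) A) B
  let δ : MvPolynomial (Fin n) A →+* B ⧸ I := (Ideal.Quotient.mk I).comp f.toRingHom
  have hδs : Function.Surjective δ := Ideal.Quotient.mk_surjective.comp hf
  have hδC : ∀ r, δ (MvPolynomial.C r) = algebraMap A (B ⧸ I) r := by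
    intro r
    show Ideal.Quotient.mk I (f (MvPolynomial.C r)) = _
    rw [MvPolynomial.algHom_C]
    rfl
  letI : Algebra (MvPolynomial (Fin n) A) (B ⧸ I) := δ.toAlgebra
  haveI : IsScalarTower (MvPolynomial (Fin n) A) B (B ⧸ I) :=
    IsScalarTower.of_algebraMap_eq (fun _ => rfl)
  rw [← q_algebraMap_iff, q_iff_pcHom (algebraMap A (B ⧸ I)) δ hδs hδC]
  have h1 : PcHom δ ↔ IsPseudoCoherentModule' (MvPolynomial (Fin n) A) (B ⧸ I) :=
    pcHom_algebraMap_iff
  rw [h1, isPseudoCoherentModule'_tower_iff _ B (B ⧸ I) hB]
  exact isPseudoCoherentModule'_quotient_iff I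

end Groth.Agent.H56.PcMor
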