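import Mathlib.Algebra.Homology.DerivedCategory.HomologySequence
import Mathlib.Algebra.Homology.DerivedCategory.TStructure
import Mathlib.Algebra.Homology.DerivedCategory.SingleTriangle
import Mathlib.CategoryTheory.Abelian.DiagramLemmas.Four
import Mathlib.Algebra.Homology.ExactSequence
import Mathlib.CategoryTheory.Triangulated.Functor

set_option autoImplicit false
universe w w' v v' u u'
open CategoryTheory CategoryTheory.Limits Pretriangulated

namespace Groth.Agent.H56

open DerivedCategory DerivedCategory.TStructure ComposableArrows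

section Four

variable {B : Type u} [Category.{v} B] [Abelian B] [HasDerivedCategory.{w} B]

/-- the sequence `H^{n₀}(X₂) → H^{n₀}(X₃) → H^{n₁}(X₁) → H^{n₁}(X₂)` of a triangle. -/
noncomputable def homologySeqA (T : Triangle (DerivedCategory B)) (n₀ n₁ : ℤ) (h : n₀ + 1 = n₁) :
    ComposableArrows B 3 :=
  mk₃ ((homologyFunctor B n₀).map T.mor₂) (HomologySequence.δ T n₀ n₁ h)
    ((homologyFunctor B n₁).map T.mor₁)

/-- the sequence `H^{n₀}(X₃) → H^{n₁}(X₁) → H^{n₁}(X₂) → H^{n₁}(X₃)` of a triangle. -/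
noncomputable def homologySeqB (T : Triangle (DerivedCategory B)) (n₀ n₁ : ℤ) (h : n₀ + 1 = n₁) :
    ComposableArrows B 3 :=
  mk₃ (HomologySequence.δ T n₀ n₁ h) ((homologyFunctor B n₁).map T.mor₁)
    ((homologyFunctor B n₁).map T.mor₂)

lemma homologySeqA_exact (T : Triangle (DerivedCategory B)) (hT : T ∈ distTriang _)
    (n₀ n₁ : ℤ) (h : n₀ + 1 = n₁) : (homologySeqA T n₀ n₁ h).Exact :=
  exact_of_δ₀ (HomologySequence.exact₃ T hT n₀ n₁ h).exact_toComposableArrows
    (HomologySequence.exact₁ T hT n₀ n₁ h).exact_toComposableArrows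

lemma homologySeqB_exact (T : Triangle (DerivedCategory B)) (hT : T ∈ distTriang _)
    (n₀ n₁ : ℤ) (h : n₀ + 1 = n₁) : (homologySeqB T n₀ n₁ h).Exact :=
  exact_of_δ₀ (HomologySequence.exact₁ T hT n₀ n₁ h).exact_toComposableArrows
    (HomologySequence.exact₂ T hT n₁).exact_toComposableArrows

variable {T T' : Triangle (DerivedCategory B)}

lemma δ_naturality' (φ : T ⟶ T') (n₀ n₁ : ℤ) (h : n₀ + 1 = n₁) :
    HomologySequence.δ T n₀ n₁ h ≫ (homologyFunctor B n₁).map φ.hom₁ =
      (homologyFunctor B n₀).map φ.hom₃ ≫ HomologySequence.δ T' n₀ n₁ h :=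
  ((homologyFunctor B 0).homologySequenceδ_naturality T T' φ n₀ n₁ h).symm

lemma homology_comm₁ (φ : T ⟶ T') (n : ℤ) :
    (homologyFunctor B n).map T.mor₁ ≫ (homologyFunctor B n).map φ.hom₂ =
      (homologyFunctor B n).map φ.hom₁ ≫ (homologyFunctor B n).map T'.mor₁ := by
  rw [← Functor.map_comp, ← Functor.map_comp, φ.comm₁]

lemma homology_comm₂ (φ : T ⟶ T') (n : ℤ) :
    (homologyFunctor B n).map T.mor₂ ≫ (homologyFunctor B n).map φ.hom₃ =
      (homologyFunctor B n).map φ.hom₂ ≫ (homologyFunctor B n).map T'.mor₂ := by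
  rw [← Functor.map_comp, ← Functor.map_comp, φ.comm₂]

/-- morphism of sequences of type `A`. -/
noncomputable def homologySeqAMap (φ : T ⟶ T') (n₀ n₁ : ℤ) (h : n₀ + 1 = n₁) :
    homologySeqA T n₀ n₁ h ⟶ homologySeqA T' n₀ n₁ h :=
  homMk₃ ((homologyFunctor B n₀).map φ.hom₂) ((homologyFunctor B n₀).map φ.hom₃)
    ((homologyFunctor B n₁).map φ.hom₁) ((homologyFunctor B n₁).map φ.hom₂)
    (homology_comm₂ φ n₀) (δ_naturality' φ n₀ n₁ h) (homology_comm₁ φ n₁)

/-- morphism of sequences of type `B`. -/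
noncomputable def homologySeqBMap (φ : T ⟶ T') (n₀ n₁ : ℤ) (h : n₀ + 1 = n₁) :
    homologySeqB T n₀ n₁ h ⟶ homologySeqB T' n₀ n₁ h :=
  homMk₃ ((homologyFunctor B n₀).map φ.hom₃) ((homologyFunctor B n₁).map φ.hom₁)
    ((homologyFunctor B n₁).map φ.hom₂) ((homologyFunctor B n₁).map φ.hom₃)
    (δ_naturality' φ n₀ n₁ h) (homology_comm₁ φ n₁) (homology_comm₂ φ n₁)

/-- four lemma (mono) for a morphism of distinguished triangles, at `H^{n₁}(hom₁)`. -/
lemma mono_homologyMap_hom₁ (hT : T ∈ distTriang _) (hT' : T' ∈ distTriang _) (φ : T ⟶ T')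
    (n₀ n₁ : ℤ) (h : n₀ + 1 = n₁)
    (h₀ : Epi ((homologyFunctor B n₀).map φ.hom₂))
    (h₁ : Mono ((homologyFunctor B n₀).map φ.hom₃))
    (h₃ : Mono ((homologyFunctor B n₁).map φ.hom₂)) :
    Mono ((homologyFunctor B n₁).map φ.hom₁) :=
  Abelian.mono_of_epi_of_mono_of_mono (homologySeqAMap φ n₀ n₁ h)
    (homologySeqA_exact T hT n₀ n₁ h) (homologySeqA_exact T' hT' n₀ n₁ h) h₀ h₁ h₃

/-- four lemma (epi) for a morphism of distinguished triangles, at `H^{n₁}(hom₁)`. -/
lemma epi_homologyMap_hom₁ (hT : T ∈ distTriang _) (hT' : T' ∈ distTriang _) (φ : T ⟶ T')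
    (n₀ n₁ : ℤ) (h : n₀ + 1 = n₁)
    (h₀ : Epi ((homologyFunctor B n₀).map φ.hom₃))
    (h₂ : Epi ((homologyFunctor B n₁).map φ.hom₂))
    (h₃ : Mono ((homologyFunctor B n₁).map φ.hom₃)) :
    Epi ((homologyFunctor B n₁).map φ.hom₁) :=
  Abelian.epi_of_epi_of_epi_of_mono (homologySeqBMap φ n₀ n₁ h)
    (homologySeqB_exact T hT n₀ n₁ h) (homologySeqB_exact T' hT' n₀ n₁ h) h₀ h₂ h₃

end Four

section NatTrans

variable {C : Type*} {D : Type*} [Category C] [Category D] [HasShift C ℤ] [HasShift D ℤ]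
  [HasZeroObject C] [HasZeroObject D] [Preadditive C] [Preadditive D]
  [∀ (n : ℤ), (shiftFunctor C n).Additive] [∀ (n : ℤ), (shiftFunctor D n).Additive]
  [Pretriangulated C] [Pretriangulated D]

set_option backward.isDefEq.respectTransparency.types false in
set_option backward.defeqAttrib.useBackward true in
/-- the morphism of triangles `F(T) ⟶ G(T)` induced by a natural transformation of triangulated
functors. -/
noncomputable def mapTriangleHom {F G : C ⥤ D} [F.CommShift ℤ] [G.CommShift ℤ]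
    (η : F ⟶ G) [NatTrans.CommShift η ℤ] (T : Triangle C) :
    F.mapTriangle.obj T ⟶ G.mapTriangle.obj T :=
  Triangle.homMk _ _ (η.app _) (η.app _) (η.app _) (by simp) (by simp) (by
    dsimp
    simp only [Category.assoc, NatTrans.shift_app_comm η (1 : ℤ) T.obj₁,
      NatTrans.naturality_assoc])

end NatTrans

section WayOut

variable {A : Type u} [Category.{v} A] [Abelian A] [HasDerivedCategory.{w} A]
  {B : Type u'} [Category.{v'} B] [Abelian B] [HasDerivedCategory.{w'} B]

lemma mono_homology_app_obj₁ {F G : DerivedCategory A ⥤ DerivedCategory B} [F.CommShift ℤ]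
    [G.CommShift ℤ] [F.IsTriangulated] [G.IsTriangulated] (η : F ⟶ G) [NatTrans.CommShift η ℤ]
    (T : Triangle (DerivedCategory A)) (hT : T ∈ distTriang _) (n₀ n₁ : ℤ) (h : n₀ + 1 = n₁)
    (h₀ : Epi ((homologyFunctor B n₀).map (η.app T.obj₂)))
    (h₁ : Mono ((homologyFunctor B n₀).map (η.app T.obj₃)))
    (h₃ : Mono ((homologyFunctor B n₁).map (η.app T.obj₂))) :
    Mono ((homologyFunctor B n₁).map (η.app T.obj₁)) :=
  mono_homologyMap_hom₁ (F.map_distinguished _ hT) (G.map_distinguished _ hT)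
    (mapTriangleHom η T) n₀ n₁ h h₀ h₁ h₃

lemma epi_homology_app_obj₁ {F G : DerivedCategory A ⥤ DerivedCategory B} [F.CommShift ℤ]
    [G.CommShift ℤ] [F.IsTriangulated] [G.IsTriangulated] (η : F ⟶ G) [NatTrans.CommShift η ℤ]
    (T : Triangle (DerivedCategory A)) (hT : T ∈ distTriang _) (n₀ n₁ : ℤ) (h : n₀ + 1 = n₁)
    (h₀ : Epi ((homologyFunctor B n₀).map (η.app T.obj₃)))
    (h₂ : Epi ((homologyFunctor B n₁).map (η.app T.obj₂)))
    (h₃ : Mono ((homologyFunctor B n₁).map (η.app T.obj₃))) :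
    Epi ((homologyFunctor B n₁).map (η.app T.obj₁)) :=
  epi_homologyMap_hom₁ (F.map_distinguished _ hT) (G.map_distinguished _ hT)
    (mapTriangleHom η T) n₀ n₁ h h₀ h₂ h₃

lemma isGE_obj_single_of_wayOut (F : DerivedCategory A ⥤ DerivedCategory B) [F.CommShift ℤ]
    (n₂ : ℤ) (hF : ∀ Y : DerivedCategory A, Y.IsGE n₂ → (F.obj Y).IsGE 0) (X : A) :
    (F.obj ((singleFunctor A 0).obj X)).IsGE (-n₂) := by
  have h1 : (((singleFunctor A 0).obj X)⟦-n₂⟧).IsGE n₂ :=
    t.isGE_shift ((singleFunctor A 0).obj X) 0 (-n₂) n₂ (by omega)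
  haveI h2 : (F.obj (((singleFunctor A 0).obj X)⟦-n₂⟧)).IsGE 0 := hF _ h1
  haveI h3 : ((F.obj ((singleFunctor A 0).obj X))⟦-n₂⟧).IsGE 0 :=
    t.isGE_of_iso (show F.obj (((singleFunctor A 0).obj X)⟦-n₂⟧) ≅
      (F.obj ((singleFunctor A 0).obj X))⟦-n₂⟧ from
        (F.commShiftIso (-n₂)).app ((singleFunctor A 0).obj X)) 0
  exact t.isGE_of_shift (F.obj ((singleFunctor A 0).obj X)) (-n₂) (-n₂) 0 (by omega)

/-- Way-out lemma: if `η` is an isomorphism on a cogenerating class of objects (placed in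
degree `0`) and `F`, `G` are way-out right, then `η` is an isomorphism on all objects placed in
degree `0`. -/
theorem wayOut_single_of_cogenerating
    (P : ObjectProperty A) (hP : ∀ X : A, ∃ (Y : A) (i : X ⟶ Y), P Y ∧ Mono i)
    (F G : DerivedCategory A ⥤ DerivedCategory B) [F.CommShift ℤ] [G.CommShift ℤ]
    [F.IsTriangulated] [G.IsTriangulated] (η : F ⟶ G) [NatTrans.CommShift η ℤ]
    (hF : ∀ n₁ : ℤ, ∃ n₂ : ℤ, ∀ Y : DerivedCategory A, Y.IsGE n₂ → (F.obj Y).IsGE n₁)
    (hG : ∀ n₁ : ℤ, ∃ n₂ : ℤ, ∀ Y : DerivedCategory A, Y.IsGE n₂ → (G.obj Y).IsGE n₁)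
    (hη : ∀ X : A, P X → IsIso (η.app ((singleFunctor A 0).obj X)))
    (X : A) : IsIso (η.app ((singleFunctor A 0).obj X)) := by
  obtain ⟨nF, hnF⟩ := hF 0
  obtain ⟨nG, hnG⟩ := hG 0
  have bF : ∀ X : A, (F.obj ((singleFunctor A 0).obj X)).IsGE (-nF) :=
    fun X => isGE_obj_single_of_wayOut F nF hnF X
  have bG : ∀ X : A, (G.obj ((singleFunctor A 0).obj X)).IsGE (-nG) :=
    fun X => isGE_obj_single_of_wayOut G nG hnG X
  obtain ⟨N, hNF, hNG⟩ : ∃ N : ℤ, N ≤ -nF ∧ N ≤ -nG :=
    ⟨min (-nF) (-nG), min_le_left _ _, min_le_right _ _⟩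
  -- the short exact sequences and their triangles
  have ses : ∀ X : A, ∃ (S : ShortComplex A) (hS : S.ShortExact), S.X₁ = X ∧ P S.X₂ := by
    intro X
    obtain ⟨Y, i, hY, hi⟩ := hP X
    exact ⟨ShortComplex.mk i (cokernel.π i) (cokernel.condition i),
      { exact := ShortComplex.exact_cokernel i
        mono_f := hi
        epi_g := by dsimp; infer_instance }, rfl, hY⟩
  have key : ∀ (n : ℕ) (X : A) (j : ℤ), j < N + n →
      IsIso ((homologyFunctor B j).map (η.app ((singleFunctor A 0).obj X))) := by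
    intro n
    induction n with
    | zero =>
      intro X j hj
      haveI := bF X
      haveI := bG X
      have h1 := isZero_of_isGE (F.obj ((singleFunctor A 0).obj X)) (-nF) j (by omega)
      have h2 := isZero_of_isGE (G.obj ((singleFunctor A 0).obj X)) (-nG) j (by omega)
      exact ⟨⟨0, h1.eq_of_src _ _, h2.eq_of_src _ _⟩⟩
    | succ n ih =>
      have hmono : ∀ (X : A) (j : ℤ), j < N + (n + 1 : ℕ) →
          Mono ((homologyFunctor B j).map (η.app ((singleFunctor A 0).obj X))) := by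
        intro X j hj
        by_cases hj' : j < N + n
        · haveI := ih X j hj'
          infer_instance
        · obtain ⟨S, hS, rfl, hY⟩ := ses X
          haveI := hη S.X₂ hY
          haveI := ih S.X₃ (j - 1) (by push_cast at hj; omega)
          have e₀ : Epi ((homologyFunctor B (j - 1)).map
              (η.app ((singleFunctor A 0).obj S.X₂))) := inferInstance
          have m₁ : Mono ((homologyFunctor B (j - 1)).map
              (η.app ((singleFunctor A 0).obj S.X₃))) := inferInstance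
          have m₃ : Mono ((homologyFunctor B j).map
              (η.app ((singleFunctor A 0).obj S.X₂))) := inferInstance
          exact mono_homology_app_obj₁ η hS.singleTriangle hS.singleTriangle_distinguished
            (j - 1) j (by omega) e₀ m₁ m₃
      intro X j hj
      by_cases hj' : j < N + n
      · exact ih X j hj'
      · obtain ⟨S, hS, rfl, hY⟩ := ses X
        haveI := hη S.X₂ hY
        haveI := ih S.X₃ (j - 1) (by push_cast at hj; omega)
        haveI := hmono S.X₃ j hj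
        haveI := hmono S.X₁ j hj
        have e₀ : Epi ((homologyFunctor B (j - 1)).map
            (η.app ((singleFunctor A 0).obj S.X₃))) := inferInstance
        have e₂ : Epi ((homologyFunctor B j).map
            (η.app ((singleFunctor A 0).obj S.X₂))) := inferInstance
        have m₃ : Mono ((homologyFunctor B j).map
            (η.app ((singleFunctor A 0).obj S.X₃))) := inferInstance
        haveI : Epi ((homologyFunctor B j).map (η.app ((singleFunctor A 0).obj S.X₁))) :=
          epi_homology_app_obj₁ η hS.singleTriangle hS.singleTriangle_distinguished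
            (j - 1) j (by omega) e₀ e₂ m₃
        exact isIso_of_mono_of_epi _
  rw [isIso_iff]
  intro j
  exact key (j + 1 - N).toNat X j (by omega)

end WayOut

end Groth.Agent.H56
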