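import Mathlib
import Groth.Prelude.Def_W4c2gaugesfzipsQuiet
import Groth.Agent.H3.RelFrob1

/-!
# Root towers from bases of reduced monomials (helper56)

If `B` is an `R`-algebra, `y i ^ p = t i` for `t i ∈ R`, and the reduced monomials in the `y i`
form an `R`-basis of `B`, then `B` is a tower of `n` elementary `p`-th root extractions of `R`.
-/

set_option autoImplicit false

open Polynomial

namespace Groth.Agent.H56.RootTower

open Groth.Agent.H3.RelFrob

universe u

/-- reindexing a basis-via statement -/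
theorem IsBasisVia.reindex {R S ι ι' : Type*} [CommRing R] [CommRing S] [Fintype ι] [Fintype ι']
    {φ : R →+* S} {v : ι → S} (h : IsBasisVia φ v) (e : ι' ≃ ι) :
    IsBasisVia φ (fun j => v (e j)) := by
  constructor
  · intro c hc j
    have h1 := h.1 (fun i => c (e.symm i)) ?_ (e j)
    · simpa using h1
    · rw [← hc]
      exact Fintype.sum_equiv e.symm _ _ (fun i => by simp)
  · intro s
    obtain ⟨c, hc⟩ := h.2 s
    refine ⟨fun j => c (e j), ?_⟩
    rw [hc]
    exact (Fintype.sum_equiv e _ _ (fun j => rfl)).symm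

/-- transporting a basis-via statement along ring isomorphisms -/
theorem IsBasisVia.transport {R S R₁ S₁ ι : Type*} [CommRing R] [CommRing S] [CommRing R₁]
    [CommRing S₁] [Fintype ι] {φ : R →+* S} {v : ι → S} (h : IsBasisVia φ v)
    (e1 : R ≃+* R₁) (e2 : S ≃+* S₁) (φ₁ : R₁ →+* S₁)
    (hc : ∀ r, φ₁ (e1 r) = e2 (φ r)) : IsBasisVia φ₁ (fun i => e2 (v i)) := by
  constructor
  · intro c hc0 i
    have h1 : ∀ i, φ₁ (c i) = e2 (φ (e1.symm (c i))) := fun i => by
      rw [← hc, RingEquiv.apply_symm_apply]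
    have h2 : e2 (∑ i, φ (e1.symm (c i)) * v i) = 0 := by
      rw [map_sum, ← hc0]
      exact Finset.sum_congr rfl fun i _ => by rw [map_mul, h1]
    have h3 := h.1 (fun i => e1.symm (c i)) ((map_eq_zero_iff e2 e2.injective).mp h2) i
    exact (map_eq_zero_iff e1.symm e1.symm.injective).mp h3
  · intro s
    obtain ⟨c, hcs⟩ := h.2 (e2.symm s)
    refine ⟨fun i => e1 (c i), ?_⟩
    apply e2.symm.injective
    rw [hcs, map_sum]
    exact Finset.sum_congr rfl fun i _ => by
      rw [map_mul, hc, RingEquiv.symm_apply_apply, RingEquiv.symm_apply_apply]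

theorem sum_cons {M : Type*} [AddCommMonoid M] {n p : ℕ} (G : (Fin (n + 1) → Fin p) → M) :
    ∑ α, G α = ∑ β : Fin n → Fin p, ∑ j : Fin p, G (Fin.cons j β) := by
  calc ∑ α, G α = ∑ x : Fin p × (Fin n → Fin p), G (Fin.cons x.1 x.2) :=
        (Fintype.sum_equiv (Fin.consEquiv (fun _ => Fin p)) _ _ (fun x => rfl)).symm
    _ = _ := Fintype.sum_prod_type_right (fun x : Fin p × (Fin n → Fin p) => G (Fin.cons x.1 x.2))

theorem rootRing_span {p : ℕ} (hp : 0 < p) {R : Type u} [CommRing R] (a : R)
    (z : AdjoinRoot (X ^ p - C a : R[X])) :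
    ∃ d : Fin p → R, z = ∑ j : Fin p,
      AdjoinRoot.of (X ^ p - C a) (d j) * AdjoinRoot.root (X ^ p - C a) ^ (j : ℕ) := by
  rcases subsingleton_or_nontrivial R with hR | hR
  · haveI : Subsingleton (AdjoinRoot (X ^ p - C a : R[X])) := Module.subsingleton R _
    exact ⟨0, Subsingleton.elim _ _⟩
  have hm : (X ^ p - C a : R[X]).Monic := monic_X_pow_sub_C a hp.ne'
  let pb := AdjoinRoot.powerBasis' hm
  have hdim : pb.dim = p := natDegree_X_pow_sub_C
  refine ⟨fun j => pb.basis.repr z (finCongr hdim.symm j), ?_⟩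
  conv_lhs => rw [← pb.basis.sum_repr z]
  refine Fintype.sum_equiv (finCongr hdim) _ _ (fun i => ?_)
  rw [PowerBasis.coe_basis, Algebra.smul_def, AdjoinRoot.algebraMap_eq]
  simp [pb]

theorem isRootTower_of_basis (p : ℕ) (hp : 0 < p) :
    ∀ (n : ℕ) (R B : Type u) [CommRing R] [CommRing B] [Algebra R B]
      (y : Fin n → B) (t : Fin n → R), (∀ i, y i ^ p = algebraMap R B (t i)) →
      IsBasisVia (algebraMap R B) (fun α : Fin n → Fin p => ∏ i, y i ^ (α i : ℕ)) →
      Quiet.IsRootTower p n R B := by
  intro n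
  induction n with
  | zero =>
    intro R B _ _ _ y t hy hb
    show Nonempty (B ≃ₐ[R] R)
    have hinj : Function.Injective (algebraMap R B) := by
      rw [injective_iff_map_eq_zero]
      intro r hr
      exact hb.1 (fun _ => r) (by simp [hr]) default
    have hsurj : Function.Surjective (algebraMap R B) := by
      intro s
      obtain ⟨c, hc⟩ := hb.2 s
      exact ⟨c default, by rw [hc]; simp⟩
    exact ⟨(AlgEquiv.ofBijective (Algebra.ofId R B) ⟨hinj, hsurj⟩).symm⟩
  | succ n ih =>
    intro R B _ _ _ y t hy hb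
    have h0 : (X ^ p - C (t 0) : R[X]).eval₂ (algebraMap R B) (y 0) = 0 := by
      simp [eval₂_sub, eval₂_pow, hy 0]
    let ψ : AdjoinRoot (X ^ p - C (t 0) : R[X]) →+* B := AdjoinRoot.lift (algebraMap R B) (y 0) h0
    have hψof : ∀ r : R, ψ (AdjoinRoot.of _ r) = algebraMap R B r := fun r => AdjoinRoot.lift_of h0
    have hψroot : ψ (AdjoinRoot.root _) = y 0 := AdjoinRoot.lift_root h0
    show ∃ (a : R) (_ : Algebra (Quiet.RootRing p R a) B),
      IsScalarTower R (Quiet.RootRing p R a) B ∧ Quiet.IsRootTower p n (Quiet.RootRing p R a) B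
    let alg : Algebra (Quiet.RootRing p R (t 0)) B := ψ.toAlgebra
    refine ⟨t 0, alg, ?_, ?_⟩
    · refine IsScalarTower.of_algebraMap_eq fun r => ?_
      rw [AdjoinRoot.algebraMap_eq]
      exact (hψof r).symm
    · have hv : ∀ (j : Fin p) (β : Fin n → Fin p),
          (∏ i, y i ^ (((Fin.cons j β : Fin (n + 1) → Fin p) i : Fin p) : ℕ)) =
            y 0 ^ (j : ℕ) * ∏ i : Fin n, y i.succ ^ (β i : ℕ) := by
        intro j β
        rw [Fin.prod_univ_succ]
        simp
      refine ih (Quiet.RootRing p R (t 0)) B (fun i => y i.succ)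
        (fun i => AdjoinRoot.of _ (t i.succ)) ?_ ⟨?_, ?_⟩
      · intro i
        rw [hy]
        exact (hψof _).symm
      · -- independence
        intro c' hc' β₀
        choose d hd using fun β => rootRing_span hp (t 0) (c' β)
        have hψc : ∀ β, ψ (c' β) = ∑ j : Fin p, algebraMap R B (d β j) * y 0 ^ (j : ℕ) := by
          intro β
          rw [hd β, map_sum]
          exact Finset.sum_congr rfl fun j _ => by rw [map_mul, map_pow, hψof, hψroot]
        have hz : ∑ α : Fin (n + 1) → Fin p,
            algebraMap R B (d (Fin.tail α) (α 0)) * ∏ i, y i ^ (α i : ℕ) = 0 := by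
          rw [sum_cons, ← hc']
          refine Finset.sum_congr rfl fun β _ => ?_
          change _ = ψ (c' β) * _
          rw [hψc, Finset.sum_mul]
          refine Finset.sum_congr rfl fun j _ => ?_
          rw [hv, Fin.tail_cons, Fin.cons_zero, mul_assoc]
        have hd0 : ∀ β j, d β j = 0 := by
          intro β j
          have := hb.1 _ hz (Fin.cons j β)
          simpa using this
        rw [hd β₀]
        simp [hd0]
      · -- spanning
        intro s
        obtain ⟨c, hc⟩ := hb.2 s
        refine ⟨fun β => ∑ j : Fin p, AdjoinRoot.of _ (c (Fin.cons j β)) *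
          AdjoinRoot.root _ ^ (j : ℕ), ?_⟩
        rw [hc, sum_cons]
        refine Finset.sum_congr rfl fun β _ => ?_
        change _ = ψ _ * _
        rw [map_sum, Finset.sum_mul]
        refine Finset.sum_congr rfl fun j _ => ?_
        dsimp only
        rw [hv, map_mul, map_pow, hψof, hψroot, mul_assoc]

end Groth.Agent.H56.RootTower
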