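import Mathlib
import Groth.Agent.H3.RelFrob11
import Groth.Agent.H56.RootTower

/-!
# Frobenius of a smooth algebra over a perfect field: local root towers (helper56)
-/

set_option autoImplicit false

open TensorProduct MvPolynomial

namespace Groth.Agent.H56.FrobSmooth

open Groth.Agent.H3.RelFrob Groth.Agent.H56.RootTower

universe u

section twist

variable (p : ℕ) [Fact p.Prime] (k : Type u) [Field k] [CharP k p] [PerfectRing k p]
  (B : Type u) [CommRing B] [Algebra k B] [CharP B p]

theorem algebraMap_twist_bijective : Function.Bijective (algebraMap k (FrobAlg.Twist p k)) := by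
  change Function.Bijective
    ((FrobAlg.toTwist p k : k →+* FrobAlg.Twist p k).comp (frobenius k p))
  rw [RingHom.coe_comp]
  exact (FrobAlg.toTwist p k).bijective.comp (bijective_frobenius k p)

/-- the ring isomorphism `B ≃ B ⊗_k k^{Frob}` for a perfect field `k` -/
noncomputable def tw : B ≃+* FrobAlg.BaseChange p k B :=
  ((Algebra.TensorProduct.rid k k B).symm.trans
    (Algebra.TensorProduct.congr AlgEquiv.refl
      (AlgEquiv.ofBijective (Algebra.ofId k (FrobAlg.Twist p k))
        (algebraMap_twist_bijective p k)))).toRingEquiv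

theorem tw_apply (b : B) : tw p k B b = b ⊗ₜ 1 := by
  simp [tw]

theorem relFrob_comp_tw :
    (FrobAlg.relFrob p k B).comp (tw p k B).toRingHom = frobenius B p := by
  ext b
  simp only [RingHom.coe_comp, Function.comp_apply, RingEquiv.toRingHom_eq_coe, RingHom.coe_coe,
    tw_apply]
  rw [relFrob_tmul]
  simp [frobenius_def]

theorem isBasisVia_frobenius {ι : Type*} [Fintype ι] {v : ι → B}
    (h : IsBasisVia (FrobAlg.relFrob p k B) v) : IsBasisVia (frobenius B p) v :=
  (h.comp_equiv (tw p k B)).of_eq (relFrob_comp_tw p k B)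

theorem frobenius_flat [Algebra.Smooth k B] : (frobenius B p).Flat := by
  rw [← relFrob_comp_tw p k B]
  exact RingHom.Flat.comp (RingHom.Flat.of_bijective (tw p k B).bijective)
    (relFrob_flat_univ p k B)

end twist

section comap

variable (p : ℕ) [Fact p.Prime] (A : Type u) [CommRing A] [CharP A p]

theorem comap_frobenius (q : PrimeSpectrum A) : PrimeSpectrum.comap (frobenius A p) q = q := by
  apply PrimeSpectrum.ext
  ext a
  simp only [PrimeSpectrum.comap_asIdeal, Ideal.mem_comap, frobenius_def]
  exact ⟨fun h => q.isPrime.mem_of_pow_mem p h,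
    fun h => Ideal.pow_mem_of_mem _ h p (Fact.out : p.Prime).pos⟩

theorem frobenius_faithfullyFlat_of_flat (h : (frobenius A p).Flat) :
    (frobenius A p).FaithfullyFlat := by
  rw [RingHom.FaithfullyFlat.iff_flat_and_comap_surjective]
  exact ⟨h, fun q => ⟨q, comap_frobenius p A q⟩⟩

end comap

section good

variable (p : ℕ) [Fact p.Prime] (A : Type u) [CommRing A] [CharP A p]
  (B : Type u) [CommRing B] [Algebra A B] [CharP B p] [Algebra.Smooth A B]

theorem exists_good_monomial (q : Ideal B) [q.IsPrime] :
    ∃ g ∉ q, ∃ (_ : CharP (Localization.Away g) p) (n : ℕ) (y : Fin n → Localization.Away g),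
      IsBasisVia (FrobAlg.relFrob p A (Localization.Away g))
        (fun α : Fin n → Fin p => ∏ i, y i ^ (α i : ℕ)) := by
  obtain ⟨g, hgq, n, _, _, _⟩ :=
    Algebra.IsSmoothAt.exists_isStandardEtale_mvPolynomial (R := A) (p := q)
  have hgn : ¬ IsNilpotent g := fun ⟨k, hk⟩ =>
    hgq (‹q.IsPrime›.mem_of_pow_mem k (hk ▸ q.zero_mem))
  haveI hchar := charP_localization_away p B g hgn
  refine ⟨g, hgq, hchar, n, ?_⟩
  -- transport to a universe-u index type
  let σ : Type u := ULift.{u} (Fin n)
  let e : MvPolynomial σ A ≃ₐ[A] MvPolynomial (Fin n) A := MvPolynomial.renameEquiv A Equiv.ulift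
  letI a1 : Algebra (MvPolynomial σ A) (MvPolynomial (Fin n) A) := e.toRingHom.toAlgebra
  letI a2 : Algebra (MvPolynomial σ A) (Localization.Away g) :=
    ((algebraMap (MvPolynomial (Fin n) A) (Localization.Away g)).comp e.toRingHom).toAlgebra
  haveI t1 : IsScalarTower (MvPolynomial σ A) (MvPolynomial (Fin n) A) (Localization.Away g) :=
    .of_algebraMap_eq' rfl
  haveI t2 : IsScalarTower A (MvPolynomial σ A) (Localization.Away g) := by
    refine .of_algebraMap_eq fun a => ?_
    change _ = algebraMap (MvPolynomial (Fin n) A) (Localization.Away g) (e (algebraMap A _ a))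
    rw [e.commutes, ← IsScalarTower.algebraMap_apply]
  haveI : Algebra.Etale (MvPolynomial σ A) (MvPolynomial (Fin n) A) :=
    Algebra.Etale.of_equiv
      ({ e.toRingEquiv with commutes' := fun _ => rfl } :
        MvPolynomial σ A ≃ₐ[MvPolynomial σ A] MvPolynomial (Fin n) A)
  haveI : Algebra.Etale (MvPolynomial σ A) (Localization.Away g) :=
    Algebra.Etale.comp (MvPolynomial σ A) (MvPolynomial (Fin n) A) (Localization.Away g)
  have hbase := isBasisVia_of_etale p A (Localization.Away g) σ
  refine ⟨fun i => algebraMap (MvPolynomial σ A) (Localization.Away g) (X (ULift.up i)), ?_⟩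
  have h2 := IsBasisVia.reindex hbase (Equiv.arrowCongr Equiv.ulift.symm (Equiv.refl (Fin p)))
  have hv : (fun α : Fin n → Fin p =>
      ∏ i, algebraMap (MvPolynomial σ A) (Localization.Away g) (X (ULift.up i)) ^ (α i : ℕ)) =
      fun β => algebraMap (MvPolynomial σ A) (Localization.Away g)
        (monomial (redExp p ((Equiv.arrowCongr Equiv.ulift.symm (Equiv.refl (Fin p))) β)) (1 : A)) := by
    funext β
    rw [MvPolynomial.monomial_eq, Finsupp.prod_fintype _ _ (fun i => pow_zero _)]
    simp only [C_1, one_mul, map_prod, map_pow, redExp_apply]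
    exact (Fintype.prod_equiv Equiv.ulift _ _ (fun s => rfl)).symm
  rw [hv]
  exact h2

end good

section local_

variable (p : ℕ) [Fact p.Prime] {A : Type u} [CommRing A] [CharP A p]

theorem isRootTower_of_local (g : A) (hchar : CharP (Localization.Away g) p) (n : ℕ)
    (y : Fin n → Localization.Away g)
    (hb : IsBasisVia (frobenius (Localization.Away g) p)
      (fun α : Fin n → Fin p => ∏ i, y i ^ (α i : ℕ)))
    (R₁ B₁ : Type u) [CommRing R₁] [CommRing B₁] [Algebra A R₁] [Algebra A B₁]
    [IsLocalization.Away g R₁] [IsLocalization.Away (g ^ p) B₁]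
    (φ₁ : R₁ →+* B₁) (hφ : ∀ a : A, φ₁ (algebraMap A R₁ a) = algebraMap A B₁ (a ^ p)) :
    letI := φ₁.toAlgebra
    Quiet.IsRootTower p n R₁ B₁ := by
  have hp : 0 < p := (Fact.out : p.Prime).pos
  haveI hB : IsLocalization (Submonoid.powers g) B₁ := by
    refine IsLocalization.of_le_of_exists_dvd (Submonoid.powers (g ^ p)) (Submonoid.powers g)
      ?_ ?_
    · rw [Submonoid.powers_le]
      exact ⟨p, rfl⟩
    · rintro m ⟨j, rfl⟩
      refine ⟨(g ^ p) ^ j, ⟨j, rfl⟩, ?_⟩
      rw [← pow_mul]
      exact pow_dvd_pow g (Nat.le_mul_of_pos_left j hp)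
  let e1 : Localization.Away g ≃ₐ[A] R₁ := IsLocalization.algEquiv (Submonoid.powers g) _ _
  let e2 : Localization.Away g ≃ₐ[A] B₁ := IsLocalization.algEquiv (Submonoid.powers g) _ _
  have hsq' : φ₁.comp (e1 : Localization.Away g →+* R₁) =
      (e2 : Localization.Away g →+* B₁).comp (frobenius (Localization.Away g) p) := by
    refine IsLocalization.ringHom_ext (Submonoid.powers g) ?_
    ext a
    simp only [RingHom.coe_comp, Function.comp_apply, RingHom.coe_coe, AlgEquiv.commutes,
      frobenius_def, hφ]
    rw [← map_pow, AlgEquiv.commutes]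
  have hsq : ∀ r, φ₁ (e1 r) = e2 (frobenius (Localization.Away g) p r) := fun r =>
    congrArg (fun f => f r) hsq'
  have hb1 := IsBasisVia.transport hb e1.toRingEquiv e2.toRingEquiv φ₁ hsq
  letI := φ₁.toAlgebra
  refine isRootTower_of_basis p hp n R₁ B₁ (fun i => e2 (y i)) (fun i => e1 (y i)) ?_ ?_
  · intro i
    change _ = φ₁ (e1 (y i))
    rw [hsq, frobenius_def, map_pow]
  · have hv : (fun α : Fin n → Fin p => ∏ i, e2 (y i) ^ (α i : ℕ)) =
        fun α => e2.toRingEquiv (∏ i, y i ^ (α i : ℕ)) := by
      funext α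
      simp [map_prod, map_pow]
    change IsBasisVia φ₁ _
    rw [hv]
    exact hb1

end local_

end Groth.Agent.H56.FrobSmooth
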