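import Mathlib
import Groth.Agent.H56.FrobSmooth

/-!
# Frobenius on quotients: bases, root towers, faithful flatness (helper56)
-/

set_option autoImplicit false

namespace Groth.Agent.H56.FrobQuot

open Groth.Agent.H3.RelFrob Groth.Agent.H56.RootTower Groth.Agent.H56.FrobSmooth

universe u

section Q

variable {R S R₁ S₁ ι : Type*} [CommRing R] [CommRing S] [CommRing R₁] [CommRing S₁] [Fintype ι]

/-- elements of `K.map φ` have coordinates in `K` -/
theorem exists_coord_mem {φ : R →+* S} {v : ι → S} (h : IsBasisVia φ v) (K : Ideal R) {x : S}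
    (hx : x ∈ K.map φ) : ∃ d : ι → R, (∀ i, d i ∈ K) ∧ x = ∑ i, φ (d i) * v i := by
  classical
  change x ∈ Submodule.span S (φ '' K) at hx
  induction hx using Submodule.span_induction with
  | mem x hx =>
    obtain ⟨k, hk, rfl⟩ := hx
    obtain ⟨e, he⟩ := h.2 1
    refine ⟨fun i => k * e i, fun i => K.mul_mem_right _ hk, ?_⟩
    calc φ k = φ k * 1 := (mul_one _).symm
      _ = φ k * ∑ i, φ (e i) * v i := by rw [← he]
      _ = ∑ i, φ (k * e i) * v i := by
        rw [Finset.mul_sum]
        exact Finset.sum_congr rfl fun i _ => by rw [map_mul, mul_assoc]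
  | zero => exact ⟨0, fun i => K.zero_mem, by simp⟩
  | add x y _ _ hx hy =>
    obtain ⟨d, hd, rfl⟩ := hx
    obtain ⟨d', hd', rfl⟩ := hy
    exact ⟨d + d', fun i => K.add_mem (hd i) (hd' i), by
      simp [add_mul, Finset.sum_add_distrib]⟩
  | smul s x _ hx =>
    obtain ⟨d, hd, rfl⟩ := hx
    choose m hm using fun i => h.2 (s * v i)
    refine ⟨fun j => ∑ i, d i * m i j,
      fun j => K.sum_mem fun i _ => K.mul_mem_right _ (hd i), ?_⟩
    rw [smul_eq_mul, Finset.mul_sum]
    calc ∑ i, s * (φ (d i) * v i) = ∑ i, φ (d i) * (s * v i) :=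
          Finset.sum_congr rfl fun i _ => by ring
      _ = ∑ i, φ (d i) * ∑ j, φ (m i j) * v j :=
          Finset.sum_congr rfl fun i _ => by rw [← hm i]
      _ = ∑ i, ∑ j, φ (d i * m i j) * v j :=
          Finset.sum_congr rfl fun i _ => by
            rw [Finset.mul_sum]
            exact Finset.sum_congr rfl fun j _ => by rw [map_mul, mul_assoc]
      _ = ∑ j, ∑ i, φ (d i * m i j) * v j := Finset.sum_comm
      _ = ∑ j, φ (∑ i, d i * m i j) * v j :=
          Finset.sum_congr rfl fun j _ => by rw [map_sum, Finset.sum_mul]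

/-- base change of a basis along a quotient -/
theorem isBasisVia_quotient {φ : R →+* S} {v : ι → S} (h : IsBasisVia φ v)
    (π1 : R →+* R₁) (π2 : S →+* S₁) (φ₁ : R₁ →+* S₁) (hπ1 : Function.Surjective π1)
    (hπ2 : Function.Surjective π2) (hsq : ∀ r, φ₁ (π1 r) = π2 (φ r))
    (hker : RingHom.ker π2 ≤ (RingHom.ker π1).map φ) :
    IsBasisVia φ₁ (fun i => π2 (v i)) := by
  constructor
  · intro c₁ hc₁ i
    choose c hc using fun i => hπ1 (c₁ i)
    have h1 : π2 (∑ i, φ (c i) * v i) = 0 := by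
      rw [map_sum, ← hc₁]
      exact Finset.sum_congr rfl fun i _ => by rw [map_mul, ← hsq, hc]
    obtain ⟨d, hd, hd'⟩ := exists_coord_mem h _ (hker ((RingHom.mem_ker).mpr h1))
    have h2 : ∑ i, φ (c i - d i) * v i = 0 := by
      simp only [map_sub, sub_mul, Finset.sum_sub_distrib]
      rw [← hd', sub_self]
    have h3 := h.1 _ h2 i
    rw [← hc i, sub_eq_zero.mp h3]
    exact (RingHom.mem_ker).mp (hd i)
  · intro s₁
    obtain ⟨s, rfl⟩ := hπ2 s₁
    obtain ⟨c, hc⟩ := h.2 s
    refine ⟨fun i => π1 (c i), ?_⟩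
    rw [hc, map_sum]
    exact Finset.sum_congr rfl fun i _ => by rw [map_mul, hsq]

end Q

section ff

theorem quotientMap_faithfullyFlat {R S : Type*} [CommRing R] [CommRing S] (φ : R →+* S)
    (hφ : φ.FaithfullyFlat) (I : Ideal R) :
    (Ideal.quotientMap (I.map φ) φ Ideal.le_comap_map).FaithfullyFlat := by
  algebraize [φ]
  have e := Algebra.TensorProduct.quotIdealMapEquivQuotTensor S I
  have h1 : Module.FaithfullyFlat (R ⧸ I) (TensorProduct R (R ⧸ I) S) := inferInstance
  have h2 : Module.FaithfullyFlat (R ⧸ I) (S ⧸ I.map (algebraMap R S)) :=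
    Module.FaithfullyFlat.of_linearEquiv _ _ e.toLinearEquiv
  exact RingHom.faithfullyFlat_algebraMap_iff.mpr h2

theorem isRegular_map_of_faithfullyFlat {R S : Type*} [CommRing R] [CommRing S] (φ : R →+* S)
    (hφ : φ.FaithfullyFlat) {rs : List R} (reg : RingTheory.Sequence.IsRegular R rs) :
    RingTheory.Sequence.IsRegular S (rs.map φ) := by
  algebraize [φ]
  exact reg.of_faithfullyFlat

end ff

section localq

variable (p : ℕ) [Fact p.Prime] {P : Type u} [CommRing P] [CharP P p]

theorem isRootTower_of_local_quot (I₀ : Ideal P) (g : P)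
    (Pg : Type u) [CommRing Pg] [Algebra P Pg] [IsLocalization.Away g Pg] [CharP Pg p] (n : ℕ)
    (y : Fin n → Pg)
    (hb : IsBasisVia (frobenius Pg p) (fun α : Fin n → Fin p => ∏ i, y i ^ (α i : ℕ)))
    (R₁ B₁ : Type u) [CommRing R₁] [CommRing B₁] [Algebra (P ⧸ I₀) R₁]
    [Algebra (P ⧸ I₀.map (frobenius P p)) B₁]
    [IsLocalization.Away (Ideal.Quotient.mk I₀ g) R₁]
    [IsLocalization.Away (Ideal.Quotient.mk (I₀.map (frobenius P p)) (g ^ p)) B₁]
    (φ₁ : R₁ →+* B₁)
    (hφ : ∀ a, φ₁ (algebraMap (P ⧸ I₀) R₁ a) = algebraMap (P ⧸ I₀.map (frobenius P p)) B₁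
      (Ideal.quotientMap (I₀.map (frobenius P p)) (frobenius P p) Ideal.le_comap_map a)) :
    letI := φ₁.toAlgebra
    Quiet.IsRootTower p n R₁ B₁ := by
  have hp : 0 < p := (Fact.out : p.Prime).pos
  have hcomm : ∀ a, frobenius Pg p (algebraMap P Pg a) = algebraMap P Pg (frobenius P p a) := by
    intro a
    simp [frobenius_def]
  have hcomm' : (algebraMap P Pg).comp (frobenius P p) =
      (frobenius Pg p).comp (algebraMap P Pg) := by
    ext a
    exact (hcomm a).symm
  have hJg : (I₀.map (frobenius P p)).map (algebraMap P Pg) =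
      (I₀.map (algebraMap P Pg)).map (frobenius Pg p) := by
    rw [Ideal.map_map, Ideal.map_map, hcomm']
  have hle : I₀.map (algebraMap P Pg) ≤
      ((I₀.map (frobenius P p)).map (algebraMap P Pg)).comap (frobenius Pg p) := by
    rw [hJg]
    exact Ideal.le_comap_map
  let φ₁' : Pg ⧸ I₀.map (algebraMap P Pg) →+*
      Pg ⧸ (I₀.map (frobenius P p)).map (algebraMap P Pg) :=
    Ideal.quotientMap _ (frobenius Pg p) hle
  have hb' : IsBasisVia φ₁' (fun α : Fin n → Fin p =>
      Ideal.Quotient.mk ((I₀.map (frobenius P p)).map (algebraMap P Pg))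
        (∏ i, y i ^ (α i : ℕ))) :=
    isBasisVia_quotient hb (Ideal.Quotient.mk _) (Ideal.Quotient.mk _) φ₁'
      Ideal.Quotient.mk_surjective Ideal.Quotient.mk_surjective (fun r => rfl)
      (by rw [Ideal.mk_ker, Ideal.mk_ker, hJg])
  -- localization structures
  have hM1 : Algebra.algebraMapSubmonoid (P ⧸ I₀) (Submonoid.powers g) =
      Submonoid.powers (Ideal.Quotient.mk I₀ g) := by
    simp [Algebra.algebraMapSubmonoid, Submonoid.map_powers]
  have hM2 : Algebra.algebraMapSubmonoid (P ⧸ I₀.map (frobenius P p)) (Submonoid.powers g) =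
      Submonoid.powers (Ideal.Quotient.mk (I₀.map (frobenius P p)) g) := by
    simp [Algebra.algebraMapSubmonoid, Submonoid.map_powers]
  have l1 : IsLocalization (Algebra.algebraMapSubmonoid (P ⧸ I₀) (Submonoid.powers g)) R₁ := by
    rw [hM1]; infer_instance
  have l2 : IsLocalization
      (Algebra.algebraMapSubmonoid (P ⧸ I₀.map (frobenius P p)) (Submonoid.powers g)) B₁ := by
    rw [hM2]
    have l3 : IsLocalization
        (Submonoid.powers ((Ideal.Quotient.mk (I₀.map (frobenius P p)) g) ^ p)) B₁ := by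
      rw [← map_pow]; infer_instance
    refine IsLocalization.of_le_of_exists_dvd
      (Submonoid.powers ((Ideal.Quotient.mk (I₀.map (frobenius P p)) g) ^ p))
      (Submonoid.powers (Ideal.Quotient.mk (I₀.map (frobenius P p)) g)) ?_ ?_
    · rw [Submonoid.powers_le]
      exact ⟨p, rfl⟩
    · rintro m ⟨j, rfl⟩
      refine ⟨((Ideal.Quotient.mk (I₀.map (frobenius P p)) g) ^ p) ^ j, ⟨j, rfl⟩, ?_⟩
      rw [← pow_mul]
      exact pow_dvd_pow _ (Nat.le_mul_of_pos_left j hp)
  let e1 : (Pg ⧸ I₀.map (algebraMap P Pg)) ≃ₐ[P ⧸ I₀] R₁ :=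
    IsLocalization.algEquiv (Algebra.algebraMapSubmonoid (P ⧸ I₀) (Submonoid.powers g)) _ _
  let e2 : (Pg ⧸ (I₀.map (frobenius P p)).map (algebraMap P Pg))
      ≃ₐ[P ⧸ I₀.map (frobenius P p)] B₁ :=
    IsLocalization.algEquiv
      (Algebra.algebraMapSubmonoid (P ⧸ I₀.map (frobenius P p)) (Submonoid.powers g)) _ _
  have hsq' : φ₁.comp (e1 : (Pg ⧸ I₀.map (algebraMap P Pg)) →+* R₁) =
      (e2 : (Pg ⧸ (I₀.map (frobenius P p)).map (algebraMap P Pg)) →+* B₁).comp φ₁' := by
    refine IsLocalization.ringHom_ext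
      (Algebra.algebraMapSubmonoid (P ⧸ I₀) (Submonoid.powers g)) ?_
    refine Ideal.Quotient.ringHom_ext ?_
    ext a
    simp only [RingHom.coe_comp, Function.comp_apply, RingHom.coe_coe, AlgEquiv.commutes, hφ]
    have h1 : φ₁' (algebraMap (P ⧸ I₀) (Pg ⧸ I₀.map (algebraMap P Pg))
        (Ideal.Quotient.mk I₀ a)) =
        algebraMap (P ⧸ I₀.map (frobenius P p))
          (Pg ⧸ (I₀.map (frobenius P p)).map (algebraMap P Pg))
          (Ideal.Quotient.mk _ (frobenius P p a)) := by
      change Ideal.Quotient.mk _ (frobenius Pg p (algebraMap P Pg a)) =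
        Ideal.Quotient.mk _ (algebraMap P Pg (frobenius P p a))
      rw [hcomm]
    rw [h1, AlgEquiv.commutes]
    rfl
  have hsq : ∀ r, φ₁ (e1 r) = e2 (φ₁' r) := fun r => congrArg (fun f => f r) hsq'
  have hb1 := IsBasisVia.transport hb' e1.toRingEquiv e2.toRingEquiv φ₁ hsq
  letI := φ₁.toAlgebra
  refine isRootTower_of_basis p hp n R₁ B₁ (fun i => e2 (Ideal.Quotient.mk _ (y i)))
    (fun i => e1 (Ideal.Quotient.mk _ (y i))) ?_ ?_
  · intro i
    change _ = φ₁ (e1 (Ideal.Quotient.mk _ (y i)))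
    rw [hsq]
    change _ = e2 (Ideal.Quotient.mk _ (frobenius Pg p (y i)))
    rw [frobenius_def, map_pow, map_pow]
  · have hv : (fun α : Fin n → Fin p => ∏ i, e2 (Ideal.Quotient.mk _ (y i)) ^ (α i : ℕ)) =
        fun α => e2.toRingEquiv (Ideal.Quotient.mk _ (∏ i, y i ^ (α i : ℕ))) := by
      funext α
      simp [map_prod, map_pow]
    change IsBasisVia φ₁ _
    rw [hv]
    exact hb1

end localq

section regular

open MvPolynomial RingTheory.Sequence

theorem frobenius_faithfullyFlat_smooth (p : ℕ) [Fact p.Prime] (k : Type u) [Field k] [CharP k p]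
    [PerfectRing k p] (A : Type u) [CommRing A] [Algebra k A] [CharP A p] [Algebra.Smooth k A] :
    (frobenius A p).FaithfullyFlat :=
  frobenius_faithfullyFlat_of_flat p A (frobenius_flat p k A)

theorem smooth_mvPolynomial (k : Type u) [Field k] (A : Type u) [CommRing A] [Algebra k A]
    [Algebra.Smooth k A] (r : ℕ) : Algebra.Smooth k (MvPolynomial (Fin r) A) := by
  haveI : Algebra.Smooth A (MvPolynomial (Fin r) A) := {}
  exact Algebra.Smooth.comp k A (MvPolynomial (Fin r) A)

theorem ofList_ofFn {R : Type*} [CommRing R] {n : ℕ} (f : Fin n → R) :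
    Ideal.ofList (List.ofFn f) = Ideal.span (Set.range f) := by
  have : {x | x ∈ List.ofFn f} = Set.range f := by
    ext x
    simp [List.mem_ofFn]
  show Ideal.span {x | x ∈ List.ofFn f} = _
  rw [this]

theorem isRegular_append {R : Type*} [CommRing R] (rs₁ rs₂ : List R)
    (h1 : IsRegular R rs₁)
    (h2 : IsRegular (R ⧸ Ideal.ofList rs₁) (rs₂.map (Ideal.Quotient.mk (Ideal.ofList rs₁)))) :
    IsRegular R (rs₁ ++ rs₂) := by
  have hI : Ideal.ofList rs₁ = (Ideal.ofList rs₁ • ⊤ : Submodule R R) := by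
    rw [smul_eq_mul, Ideal.mul_top]
  refine ⟨(isWeaklyRegular_append_iff R rs₁ rs₂).mpr ⟨h1.1, ?_⟩, ?_⟩
  · have h3 : IsWeaklyRegular (R ⧸ Ideal.ofList rs₁) rs₂ :=
      (isWeaklyRegular_map_algebraMap_iff (R ⧸ Ideal.ofList rs₁) (R ⧸ Ideal.ofList rs₁)
        rs₂).mp h2.1
    exact ((Submodule.quotEquivOfEq _ _ hI).isWeaklyRegular_congr rs₂).mp h3
  · intro htop
    apply h2.2
    have h4 : Ideal.ofList (rs₁ ++ rs₂) = ⊤ := by
      have := htop.symm
      rwa [smul_eq_mul, Ideal.mul_top] at this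
    have h5 : Ideal.ofList (rs₂.map (Ideal.Quotient.mk (Ideal.ofList rs₁))) = ⊤ := by
      rw [← Ideal.map_ofList]
      have h6 := congrArg (Ideal.map (Ideal.Quotient.mk (Ideal.ofList rs₁))) h4
      rw [Ideal.ofList_append, Ideal.map_sup, Ideal.map_quotient_self, bot_sup_eq,
        Ideal.map_top] at h6
      exact h6
    rw [h5, smul_eq_mul, Ideal.mul_top]

theorem part_ii (p : ℕ) [Fact p.Prime] (k : Type u) [Field k] [CharP k p]
    [PerfectRing k p] (A : Type u) [CommRing A] [Algebra k A] [CharP A p] [Algebra.Smooth k A]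
    (n : ℕ) (t : Fin n → A) (ht : IsRegular A (List.ofFn t))
    (r m : ℕ) (v : Fin m → MvPolynomial (Fin r) A)
    (hv : IsRegular
      (MvPolynomial (Fin r) A ⧸ Ideal.span (Set.range fun i => C (t i) ^ p))
      (List.ofFn fun j => Ideal.Quotient.mk (Ideal.span (Set.range fun i => C (t i) ^ p)) (v j))) :
    IsRegular (MvPolynomial (Fin r) A)
      (List.ofFn (fun i => C (t i) ^ (p ^ 2)) ++ List.ofFn (fun j => v j ^ p)) := by
  have hp1 : p ≠ 1 := (Fact.out : p.Prime).ne_one
  haveI : Nontrivial A := CharP.nontrivial_of_char_ne_one (R := A) hp1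
  haveI := smooth_mvPolynomial k A r
  have hffA := frobenius_faithfullyFlat_smooth p k A
  have hffP := frobenius_faithfullyFlat_smooth p k (MvPolynomial (Fin r) A)
  -- step 1
  have regA := isRegular_map_of_faithfullyFlat _ hffA ht
  have regP : IsRegular (MvPolynomial (Fin r) A)
      (List.ofFn fun i => (C (t i) ^ p : MvPolynomial (Fin r) A)) := by
    have := regA.of_faithfullyFlat (S := MvPolynomial (Fin r) A)
    have hl : ((List.ofFn t).map (frobenius A p)).map (algebraMap A (MvPolynomial (Fin r) A)) =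
        List.ofFn fun i => (C (t i) ^ p : MvPolynomial (Fin r) A) := by
      rw [List.map_map, List.map_ofFn]
      congr 1
      funext i
      simp [frobenius_def, MvPolynomial.algebraMap_eq]
    rwa [hl] at this
  -- step 2
  have hI := ofList_ofFn (fun i => (C (t i) ^ p : MvPolynomial (Fin r) A))
  have hv' : IsRegular (MvPolynomial (Fin r) A ⧸
        Ideal.ofList (List.ofFn fun i => (C (t i) ^ p : MvPolynomial (Fin r) A)))
      ((List.ofFn v).map (Ideal.Quotient.mk (Ideal.ofList
        (List.ofFn fun i => (C (t i) ^ p : MvPolynomial (Fin r) A))))) := by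
    rw [hI, List.map_ofFn]
    exact hv
  have reg := isRegular_append _ _ regP hv'
  -- step 3
  have reg' := isRegular_map_of_faithfullyFlat _ hffP reg
  have hl : (List.ofFn (fun i => (C (t i) ^ p : MvPolynomial (Fin r) A)) ++ List.ofFn v).map
      (frobenius (MvPolynomial (Fin r) A) p) =
      List.ofFn (fun i => C (t i) ^ (p ^ 2)) ++ List.ofFn (fun j => v j ^ p) := by
    rw [List.map_append, List.map_ofFn, List.map_ofFn]
    congr 2
    funext i
    simp [frobenius_def, ← pow_mul, sq]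
  rwa [hl] at reg'

end regular

end Groth.Agent.H56.FrobQuot
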