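import Mathlib
import Groth.Agent.H56.FrobQuot

/-!
# Root towers over basic opens of `Spec`, general interface (helper56)
-/

set_option autoImplicit false

open CategoryTheory AlgebraicGeometry

namespace Groth.Agent.H56.FrobQuot

universe u

set_option backward.isDefEq.respectTransparency.types false in
theorem isRootTower_basicOpen' (p n : ℕ) (R S : CommRingCat.{u}) (β : R ⟶ S) (g : R)
    (hyp : ∀ (R₁ B₁ : Type u) [CommRing R₁] [CommRing B₁] [Algebra R R₁] [Algebra S B₁]
      [IsLocalization.Away g R₁] [IsLocalization.Away (β.hom g) B₁] (φ₁ : R₁ →+* B₁),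
      (∀ a, φ₁ (algebraMap R R₁ a) = algebraMap S B₁ (β.hom a)) →
      (letI := φ₁.toAlgebra; Quiet.IsRootTower p n R₁ B₁)) :
    letI := ((Spec.map β).app (PrimeSpectrum.basicOpen g)).hom.toAlgebra
    Quiet.IsRootTower p n Γ(Spec R, PrimeSpectrum.basicOpen g)
      Γ(Spec S, Spec.map β ⁻¹ᵁ (PrimeSpectrum.basicOpen g)) := by
  have i1 : IsLocalization.Away g Γ(Spec R, PrimeSpectrum.basicOpen g) := inferInstance
  have i2 : IsLocalization.Away (β.hom g)
      Γ(Spec S, Spec.map β ⁻¹ᵁ (PrimeSpectrum.basicOpen g)) :=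
    inferInstanceAs (IsLocalization.Away (β.hom g) Γ(Spec S, PrimeSpectrum.basicOpen (β.hom g)))
  refine hyp _ _ ((Spec.map β).app (PrimeSpectrum.basicOpen g)).hom ?_
  intro a
  exact congr($(AlgebraicGeometry.StructureSheaf.toOpen_comp_comap β.hom
    (PrimeSpectrum.basicOpen g)).hom a)

open Groth.Agent.H3.RelFrob Groth.Agent.H56.RootTower Groth.Agent.H56.FrobSmooth in
theorem isPthRoot_quotientMap (p : ℕ) [Fact p.Prime] (k : Type u) [Field k] [CharP k p]
    [PerfectRing k p] (P : Type u) [CommRing P] [Algebra k P] [CharP P p] [Algebra.Smooth k P]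
    (I₀ : Ideal P) :
    Quiet.IsPthRoot p (Spec.map (CommRingCat.ofHom
      (Ideal.quotientMap (I₀.map (frobenius P p)) (frobenius P p) Ideal.le_comap_map))) := by
  intro x
  have hxp : x.asIdeal.IsPrime := x.isPrime
  have hq : (x.asIdeal.comap (Ideal.Quotient.mk I₀)).IsPrime := Ideal.comap_isPrime _ _
  obtain ⟨g, hgq, hchar, n, y, hb⟩ :=
    exists_good_monomial p k P (x.asIdeal.comap (Ideal.Quotient.mk I₀))
  have hb' := isBasisVia_frobenius p k (Localization.Away g) hb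
  have hU : IsAffineOpen (X := Spec (CommRingCat.of (P ⧸ I₀)))
      (PrimeSpectrum.basicOpen (Ideal.Quotient.mk I₀ g)) :=
    IsAffineOpen.Spec_basicOpen (R := CommRingCat.of (P ⧸ I₀)) (Ideal.Quotient.mk I₀ g)
  have hU' : IsAffineOpen (X := Spec (CommRingCat.of (P ⧸ I₀.map (frobenius P p))))
      (PrimeSpectrum.basicOpen (Ideal.Quotient.mk (I₀.map (frobenius P p)) (g ^ p))) :=
    IsAffineOpen.Spec_basicOpen (R := CommRingCat.of (P ⧸ I₀.map (frobenius P p)))
      (Ideal.Quotient.mk (I₀.map (frobenius P p)) (g ^ p))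
  refine ⟨⟨PrimeSpectrum.basicOpen (Ideal.Quotient.mk I₀ g), hU⟩, hgq, hU', n, ?_⟩
  refine isRootTower_basicOpen' p n (CommRingCat.of (P ⧸ I₀))
    (CommRingCat.of (P ⧸ I₀.map (frobenius P p)))
    (CommRingCat.ofHom (Ideal.quotientMap (I₀.map (frobenius P p)) (frobenius P p)
      Ideal.le_comap_map)) (Ideal.Quotient.mk I₀ g) ?_
  intro R₁ B₁ i1 i2 i3 i4 i5 i6 φ₁ hφ
  exact @isRootTower_of_local_quot p _ P _ _ I₀ g (Localization.Away g) _ _ _ hchar n y hb'
    R₁ B₁ i1 i2 i3 i4 i5 i6 φ₁ hφ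

end Groth.Agent.H56.FrobQuot
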