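import Mathlib
import Groth.Agent.H56.FrobSmooth

/-!
# Frobenius of `Spec R` over a basic open as a root tower (helper56)
-/

set_option autoImplicit false

open CategoryTheory AlgebraicGeometry

namespace Groth.Agent.H56.FrobSmooth

open Groth.Agent.H3.RelFrob Groth.Agent.H56.RootTower

universe u

set_option backward.isDefEq.respectTransparency.types false in
theorem isRootTower_basicOpen (p : ℕ) [Fact p.Prime] (R : CommRingCat.{u}) [CharP R p]
    (φ : R ⟶ R) (hφ : ∀ a, φ.hom a = a ^ p) (g : R)
    (hchar : CharP (Localization.Away g) p) (n : ℕ) (y : Fin n → Localization.Away g)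
    (hb : IsBasisVia (frobenius (Localization.Away g) p)
      (fun α : Fin n → Fin p => ∏ i, y i ^ (α i : ℕ))) :
    letI := ((Spec.map φ).app (PrimeSpectrum.basicOpen g)).hom.toAlgebra
    Quiet.IsRootTower p n Γ(Spec R, PrimeSpectrum.basicOpen g)
      Γ(Spec R, Spec.map φ ⁻¹ᵁ (PrimeSpectrum.basicOpen g)) := by
  have i1 : IsLocalization.Away g Γ(Spec R, PrimeSpectrum.basicOpen g) := inferInstance
  have i2 : IsLocalization.Away (φ.hom g)
      Γ(Spec R, Spec.map φ ⁻¹ᵁ (PrimeSpectrum.basicOpen g)) :=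
    inferInstanceAs (IsLocalization.Away (φ.hom g) Γ(Spec R, PrimeSpectrum.basicOpen (φ.hom g)))
  rw [hφ] at i2
  refine isRootTower_of_local p g hchar n y hb _ _
    ((Spec.map φ).app (PrimeSpectrum.basicOpen g)).hom ?_
  intro a
  have h1 := congr($(AlgebraicGeometry.StructureSheaf.toOpen_comp_comap φ.hom
    (PrimeSpectrum.basicOpen g)).hom a)
  rw [← hφ]
  exact h1

end Groth.Agent.H56.FrobSmooth
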