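import Mathlib
import Groth.Prelude.Def_CAlgX
import Groth.Agent.H19.QReg

/-!
Graded pieces of a quasi-regular ideal (helper56): for a quasi-regular sequence `f` generating `J`,
`J^n / J^(n+1)` is, as an `A`-module, a finite direct sum of copies of `A/J` indexed by the exponent
vectors of degree `n` (`grEquiv`).
-/

set_option autoImplicit false
universe u
open MvPolynomial

namespace Groth.Agent.H56.GrFree

/-- exponent vectors of degree `n` in `c` variables. -/
abbrev Idx (c n : ℕ) : Type := ↥((Finset.univ : Finset (Fin c)).finsuppAntidiag n)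

lemma mem_idx {c n : ℕ} (d : Fin c →₀ ℕ) :
    d ∈ (Finset.univ : Finset (Fin c)).finsuppAntidiag n ↔ d.degree = n := by
  rw [Finset.mem_finsuppAntidiag, Finsupp.degree_eq_sum]
  exact ⟨fun h => h.1, fun h => ⟨h, Finset.subset_univ _⟩⟩

variable (A : Type u) [CommRing A] (c n : ℕ)

/-- `a ↦ Σ_d a_d X^d`. -/
noncomputable def polL : (Idx c n → A) →ₗ[A] MvPolynomial (Fin c) A :=
  ∑ d : Idx c n, (monomial d.1 : A →ₗ[A] MvPolynomial (Fin c) A) ∘ₗ
    (LinearMap.proj d : (Idx c n → A) →ₗ[A] A)

variable {A c}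

lemma polL_apply (a : Idx c n → A) : polL A c n a = ∑ d : Idx c n, monomial d.1 (a d) := by
  simp [polL, LinearMap.sum_apply]

lemma coeff_polL (a : Idx c n → A) (d : Idx c n) : coeff d.1 (polL A c n a) = a d := by
  rw [polL_apply, coeff_sum, Finset.sum_eq_single d]
  · rw [coeff_monomial, if_pos rfl]
  · intro e _ hed
    rw [coeff_monomial, if_neg (fun h => hed (Subtype.ext h))]
  · intro h
    exact absurd (Finset.mem_univ d) h

lemma coeff_polL_of_notMem (a : Idx c n → A) (e : Fin c →₀ ℕ)
    (he : e ∉ (Finset.univ : Finset (Fin c)).finsuppAntidiag n) :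
    coeff e (polL A c n a) = 0 := by
  rw [polL_apply, coeff_sum]
  refine Finset.sum_eq_zero fun d _ => ?_
  rw [coeff_monomial, if_neg]
  intro h
  apply he
  rw [← h]
  exact d.2

lemma isHomogeneous_polL (a : Idx c n → A) : (polL A c n a).IsHomogeneous n := by
  rw [polL_apply]
  exact IsHomogeneous.sum _ _ _ fun d _ => isHomogeneous_monomial _ ((mem_idx d.1).1 d.2)

lemma eq_polL_of_isHomogeneous {H : MvPolynomial (Fin c) A} (hH : H.IsHomogeneous n) :
    H = polL A c n (fun d => coeff d.1 H) := by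
  ext e
  by_cases he : e ∈ (Finset.univ : Finset (Fin c)).finsuppAntidiag n
  · exact (coeff_polL n (fun d : Idx c n => coeff d.1 H) ⟨e, he⟩).symm
  · rw [coeff_polL_of_notMem n _ e he]
    exact hH.coeff_eq_zero (fun h => he ((mem_idx e).2 h))

variable (f : Fin c → A)

lemma eval_polL_mem (a : Idx c n → A) :
    eval f (polL A c n a) ∈ Ideal.span (Set.range f) ^ n :=
  (Ideal.mem_span_pow_iff_exists_isHomogeneous f _).2 ⟨_, isHomogeneous_polL n a, rfl⟩

/-- evaluation at `f` as a linear map. -/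
noncomputable def evL : MvPolynomial (Fin c) A →ₗ[A] A where
  toFun p := eval f p
  map_add' p q := map_add _ p q
  map_smul' r p := by
    rw [RingHom.id_apply, MvPolynomial.smul_eq_C_mul, map_mul, eval_C, smul_eq_mul]

/-- `Φ : A^{Idx} → J^n / J^{n+1}`, `a ↦ [Σ a_d f^d]`. -/
noncomputable def Phi : (Idx c n → A) →ₗ[A]
    (↥(Ideal.span (Set.range f) ^ n) ⧸
      Submodule.comap (Ideal.span (Set.range f) ^ n).subtype (Ideal.span (Set.range f) ^ (n + 1))) :=
  (Submodule.comap (Ideal.span (Set.range f) ^ n).subtype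
      (Ideal.span (Set.range f) ^ (n + 1))).mkQ ∘ₗ
    LinearMap.codRestrict (Ideal.span (Set.range f) ^ n) (evL f ∘ₗ polL A c n)
      (fun a => eval_polL_mem n f a)

lemma Phi_eq_zero_iff (a : Idx c n → A) :
    Phi n f a = 0 ↔ eval f (polL A c n a) ∈ Ideal.span (Set.range f) ^ (n + 1) := by
  unfold Phi
  rw [LinearMap.comp_apply, Submodule.mkQ_apply, Submodule.Quotient.mk_eq_zero,
    Submodule.mem_comap]
  rfl

lemma Phi_surjective : Function.Surjective (Phi n f) := by
  intro y
  obtain ⟨⟨x, hx⟩, rfl⟩ := Submodule.Quotient.mk_surjective _ y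
  obtain ⟨H, hH, hHx⟩ := (Ideal.mem_span_pow_iff_exists_isHomogeneous f x).1 hx
  refine ⟨fun d => coeff d.1 H, ?_⟩
  unfold Phi
  rw [LinearMap.comp_apply, Submodule.mkQ_apply]
  congr 1
  apply Subtype.ext
  show eval f (polL A c n fun d => coeff d.1 H) = x
  rw [← eq_polL_of_isHomogeneous n hH, hHx]

lemma ker_Phi (hq : CAlgX.IsQuasiRegular f) :
    LinearMap.ker (Phi n f) =
      Submodule.pi Set.univ (fun _ : Idx c n => (Ideal.span (Set.range f) : Submodule A A)) := by
  ext a
  rw [LinearMap.mem_ker, Phi_eq_zero_iff, Submodule.mem_pi]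
  constructor
  · intro h d _
    have h1 := hq n (polL A c n a) (isHomogeneous_polL n a) h d.1
    rwa [coeff_polL] at h1
  · intro h
    have hc : polL A c n a ∈ (Ideal.span (Set.range f)).map (C : A →+* MvPolynomial (Fin c) A) := by
      rw [MvPolynomial.mem_map_C_iff]
      intro e
      by_cases he : e ∈ (Finset.univ : Finset (Fin c)).finsuppAntidiag n
      · have h2 : coeff e (polL A c n a) = a ⟨e, he⟩ := coeff_polL n a ⟨e, he⟩
        rw [h2]
        exact h ⟨e, he⟩ (Set.mem_univ _)
      · rw [coeff_polL_of_notMem n a e he]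
        exact Ideal.zero_mem _
    have h3 := Groth.Agent.H19.QReg.eval_mem_mul_pow f _ n (isHomogeneous_polL n a) hc
    rwa [← pow_succ'] at h3

/-- `J^n / J^{n+1} ≃ (A/J)^{Idx}` for a quasi-regular sequence. -/
noncomputable def grEquiv (hq : CAlgX.IsQuasiRegular f) :
    (↥(Ideal.span (Set.range f) ^ n) ⧸
      Submodule.comap (Ideal.span (Set.range f) ^ n).subtype
        (Ideal.span (Set.range f) ^ (n + 1))) ≃ₗ[A]
      (Idx c n → A ⧸ (Ideal.span (Set.range f) : Submodule A A)) :=
  ((Phi n f).quotKerEquivOfSurjective (Phi_surjective n f)).symm.trans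
    ((Submodule.quotEquivOfEq _ _ (ker_Phi n f hq)).trans
      (Submodule.quotientPi (fun _ : Idx c n => (Ideal.span (Set.range f) : Submodule A A))))

end Groth.Agent.H56.GrFree
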