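import Mathlib
import Groth.Prelude.Def_AlgSpMor6
import Groth.Agent.H56.LciSch3
import Groth.Agent.H56.LciSrcSch
import Groth.Agent.S8658
import Groth.Agent.S8662

/-!
# `AlgSp.lci` (Koszul at every point): Zariski local on the target, flat base change, fpqc descent
(helper56)
-/

set_option autoImplicit false
set_option linter.style.haveILetI false
universe u
open CategoryTheory CategoryTheory.Limits AlgebraicGeometry MorphismProperty

namespace Groth.Agent.H56.LciLocal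

open Groth.Agent.H56.LciSch

theorem lci_iff {X Y : Scheme.{u}} (f : X ⟶ Y) :
    AlgSp.lci f ↔ ∀ x, Synt.IsKoszulAt f x := Iff.rfl

theorem lci_comp {X Y Z : Scheme.{u}} (f : X ⟶ Y) (g : Y ⟶ Z) (hf : AlgSp.lci f)
    (hg : AlgSp.lci g) : AlgSp.lci (f ≫ g) := koszul_comp f g hf hg

theorem lci_of_smooth {X Y : Scheme.{u}} (f : X ⟶ Y) [Smooth f] : AlgSp.lci f :=
  koszul_of_smooth f

theorem lci_precomp_etale ⦃A B C : Scheme.{u}⦄ (k : A ⟶ B) (l : B ⟶ C) (hk : Etale k)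
    (hl : AlgSp.lci l) : AlgSp.lci (k ≫ l) :=
  lci_comp k l (lci_of_smooth k) hl

theorem lci_postcomp_etale ⦃A B C : Scheme.{u}⦄ (k : A ⟶ B) (l : B ⟶ C) (hl : Etale l)
    (hk : AlgSp.lci k) : AlgSp.lci (k ≫ l) :=
  lci_comp k l hk (lci_of_smooth l)

theorem lci_of_postcomp_etale ⦃A B C : Scheme.{u}⦄ (k : A ⟶ B) (l : B ⟶ C) (hl : Etale l)
    (h : AlgSp.lci (k ≫ l)) : AlgSp.lci k :=
  koszul_of_comp_smooth k l h

theorem lci_flatBC ⦃X Y X' Y' : Scheme.{u}⦄ (f : X ⟶ Y) (g : Y' ⟶ Y) (f' : X' ⟶ Y')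
    (g' : X' ⟶ X) (sq : IsPullback g' f' f g) (hg : Flat g) (hf : AlgSp.lci f) : AlgSp.lci f' :=
  Groth.Agent.S8658.result f g f' g' sq hf

instance lci_respectsIso : (AlgSp.lci : MorphismProperty Scheme.{u}).RespectsIso := by
  apply RespectsIso.mk
  · intro X Y Z e f hf
    exact lci_precomp_etale e.hom f inferInstance hf
  · intro X Y Z e f hf
    exact lci_postcomp_etale f e.hom inferInstance hf

/-- Koszul-regular immersions are stable under precomposition with isomorphisms. -/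
theorem regImm_iso_comp {Z' Z X : Scheme.{u}} (e : Z' ⟶ Z) [IsIso e] (i : Z ⟶ X) (k : RegImm.Kind)
    (h : RegImm.IsRegularImmersion k i) : RegImm.IsRegularImmersion k (e ≫ i) := by
  haveI := h.1
  refine ⟨inferInstance, fun z => ?_⟩
  obtain ⟨W, hzW, hcl, rs, hrs, hker⟩ := h.2 (e z)
  refine ⟨W, hzW, ?_, rs, hrs, ?_⟩
  · haveI := hcl
    haveI h1 : IsIso (e ∣_ i ⁻¹ᵁ W.1) := inferInstance
    haveI h2 : IsClosedImmersion (e ∣_ i ⁻¹ᵁ W.1) := inferInstance
    have h3 : IsClosedImmersion (e ∣_ i ⁻¹ᵁ W.1 ≫ i ∣_ W.1) := IsClosedImmersion.comp _ _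
    rw [morphismRestrict_comp]
    exact h3
  · rw [← hker]
    ext r
    rw [RingHom.mem_ker, RingHom.mem_ker]
    have h1 : ((e ≫ i).app W.1).hom r = (e.app (i ⁻¹ᵁ W.1)).hom ((i.app W.1).hom r) := by
      rw [Scheme.Hom.comp_app]; rfl
    rw [h1]
    have hinj : Function.Injective (e.app (i ⁻¹ᵁ W.1)).hom :=
      (ConcreteCategory.bijective_of_isIso (e.app (i ⁻¹ᵁ W.1))).1
    constructor
    · intro h0
      apply hinj
      rw [map_zero]
      exact h0
    · intro h0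
      rw [h0]
      exact map_zero _

instance lci_isZariskiLocalAtTarget :
    IsZariskiLocalAtTarget (AlgSp.lci : MorphismProperty Scheme.{u}) := by
  apply IsZariskiLocalAtTarget.mk'
  · intro X Y f U hf
    exact lci_flatBC f U.ι (f ∣_ U) (f ⁻¹ᵁ U).ι (isPullback_morphismRestrict f U).flip
      inferInstance hf
  · intro X Y f ι U hU H x
    have hx : f x ∈ (⨆ i, U i : Y.Opens) := by rw [hU]; trivial
    obtain ⟨i, hi⟩ := TopologicalSpace.Opens.mem_iSup.mp hx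
    obtain ⟨U', P, ι', π, hxU', hlft, hreg, hsm, hfac⟩ := H i ⟨x, hi⟩
    haveI := hlft
    haveI := hsm
    have hfac' : ((f ⁻¹ᵁ U i).ι.isoImage U').inv ≫ ι' ≫ π ≫ (U i).ι =
        ((f ⁻¹ᵁ U i).ι ''ᵁ U').ι ≫ f := by
      rw [reassoc_of% hfac, morphismRestrict_ι, ← Category.assoc U'.ι,
        ← Scheme.Hom.isoImage_hom_ι, Category.assoc, Iso.inv_hom_id_assoc]
    refine ⟨(f ⁻¹ᵁ U i).ι ''ᵁ U', P, ((f ⁻¹ᵁ U i).ι.isoImage U').inv ≫ ι', π ≫ (U i).ι,
      ⟨⟨x, hi⟩, hxU', rfl⟩, ?_, regImm_iso_comp _ _ _ hreg, inferInstance, ?_⟩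
    · rw [← hfac']
      have : ((f ⁻¹ᵁ U i).ι.isoImage U').inv ≫ ι' ≫ π ≫ (U i).ι =
          ((f ⁻¹ᵁ U i).ι.isoImage U').inv ≫ (U'.ι ≫ f ∣_ U i) ≫ (U i).ι := by
        rw [← hfac, Category.assoc]
      rw [this]
      infer_instance
    · rw [Category.assoc]
      exact hfac'

instance lci_descendsAlong : (AlgSp.lci : MorphismProperty Scheme.{u}).DescendsAlong
    (@Surjective ⊓ @Flat ⊓ @QuasiCompact) where
  of_isPullback {A X Y Z fst snd f g} h hf hfst := by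
    haveI : Surjective f := hf.1.1
    haveI : Flat f := hf.1.2
    haveI : QuasiCompact f := hf.2
    exact Groth.Agent.S8662.result g f fst snd h.flip hfst

end Groth.Agent.H56.LciLocal
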