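import Groth.Agent.H56.LocPFlat
import Groth.Agent.H52.EtLocalInst

/-!
# `AlgSp.LocP P` is fpqc local on the base for `P` stable only under FLAT base change, part 2
(helper56): refinement of fpqc coverings to flat lifts and the main theorem.
-/

set_option autoImplicit false
set_option linter.style.haveILetI false
universe u
open CategoryTheory CategoryTheory.Limits AlgebraicGeometry MorphismProperty Opposite
open AlgSp

namespace Groth.Agent.H56.LocPFlat

open Groth.Agent.H52 Groth.Agent.H51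

variable {S : Scheme.{u}}

/-- `h_c ≫ h` is flat (etale locally) when `c` is flat and `h` is etale. -/
theorem locP_flat_yon_comp {Y : Sp S} {W Z : Over S} (c : W ⟶ Z) (hc : Flat c.left)
    (h : (yon S).obj Z ⟶ Y) (hh : RepWith @Etale h) : LocP @Flat ((yon S).map c ≫ h) := by
  have := AlgSp.repWith_isMultiplicative (S := S) @Etale
  have := AlgSp.repWith_isMultiplicative (S := S) @Surjective
  exact locP_of_one_chart etLocal_flat _ (𝟙 _) h c ((RepWith @Etale).id_mem _)
    ((RepWith @Surjective).id_mem _) hh (Category.id_comp _) hc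

/-- A lift `l` of a flat `r : h_W ⟶ Y` (`W` affine) through a flat `g : Yi ⟶ Y` can be refined, on a
finite flat jointly surjective family of affines over `W`, to FLAT lifts. -/
theorem exists_flat_refinement {Y Yi : Sp S} (hY : IsAlgSpace Y) (hYi : IsAlgSpace Yi)
    (g : Yi ⟶ Y) (hg : LocP @Flat g) (W : Over S) (hW : IsAffine W.left)
    (r : (yon S).obj W ⟶ Y) (hr : LocP @Flat r) (l : (yon S).obj W ⟶ Yi) (hl : l ≫ g = r) :
    ∃ (n : ℕ) (T : Fin n → Over S) (d : ∀ k, T k ⟶ W) (e : ∀ k, (yon S).obj (T k) ⟶ Yi),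
      (∀ k, IsAffine (T k).left) ∧ (∀ k, Flat (d k).left) ∧
      (∀ w : ↥W.left, ∃ k, w ∈ Set.range (d k).left) ∧
      ∀ k, LocP @Flat (e k) ∧ e k ≫ g = (yon S).map (d k) ≫ r := by
  have hWs : IsAlgSpace ((yon S).obj W) := ((AlgSp.ofScheme S).obj W).property
  have sqT := IsPullback.of_hasPullback g r
  have hT : IsAlgSpace (pullback g r) := isAlgSpace_of_isPullback sqT hY.diag hYi hWs
  have hfst : LocP @Flat (pullback.fst g r) :=
    locP_baseChange etLocal_flat hWs hY hYi sqT.flip hr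
  have hsnd : LocP @Flat (pullback.snd g r) := locP_baseChange etLocal_flat hYi hY hWs sqT hg
  obtain ⟨σ, hσ₁, hσ₂⟩ : ∃ σ : (yon S).obj W ⟶ pullback g r,
      σ ≫ pullback.fst g r = l ∧ σ ≫ pullback.snd g r = 𝟙 _ :=
    ⟨pullback.lift l (𝟙 _) (by rw [hl, Category.id_comp]), pullback.lift_fst _ _ _,
      pullback.lift_snd _ _ _⟩
  obtain ⟨T', t, hte, hts⟩ := hT.atlas
  obtain ⟨π', hπ'⟩ := (yon S).map_surjective (t ≫ pullback.snd g r)
  have sqW' := hte.rep.isPullback' σ
  obtain ⟨w₂, hw₂⟩ : ∃ w₂, w₂ = hte.rep.fst' σ := ⟨_, rfl⟩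
  obtain ⟨w₁, hw₁⟩ : ∃ w₁, w₁ = hte.rep.snd σ := ⟨_, rfl⟩
  rw [← hw₂, ← hw₁] at sqW'
  have hw₁e : Etale w₁.left := by rw [hw₁]; exact hte.property_snd σ
  have hw₁s : Surjective w₁.left := by rw [hw₁]; exact hts.property_snd σ
  have hw : w₂ ≫ π' = w₁ := by
    apply (yon S).map_injective
    rw [Functor.map_comp, hπ', ← Category.assoc, sqW'.w, Category.assoc, hσ₂, Category.comp_id]
  haveI : CompactSpace ↥W.left := by haveI := hW; infer_instance
  have hopen : IsOpenMap w₁.left := w₁.left.isOpenMap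
  have hex : ∀ w : ↥W.left, ∃ O : T'.left.affineOpens,
      w ∈ w₁.left '' (w₂.left ⁻¹' ((O.1 : T'.left.Opens) : Set T'.left)) := by
    intro w
    obtain ⟨w', rfl⟩ := w₁.left.surjective w
    obtain ⟨O, hO, hxO, -⟩ :=
      TopologicalSpace.Opens.isBasis_iff_nbhd.mp T'.left.isBasis_affineOpens
        (show w₂.left w' ∈ (⊤ : T'.left.Opens) from trivial)
    exact ⟨⟨O, hO⟩, w', hxO, rfl⟩
  choose O hO using hex
  obtain ⟨tfin, htfin⟩ := CompactSpace.elim_nhds_subcover
    (fun w => w₁.left '' (w₂.left ⁻¹' (((O w).1 : T'.left.Opens) : Set T'.left)))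
    (fun w => (hopen _ ((O w).1.isOpen.preimage w₂.left.continuous)).mem_nhds (hO w))
  -- the data attached to a point
  let Tx : ↥W.left → Over S := fun x => Over.mk ((O x).1.ι ≫ T'.hom)
  let ιx : ∀ x, Tx x ⟶ T' := fun x => Over.homMk (O x).1.ι rfl
  let chart : ∀ x, (yon S).obj (Tx x) ⟶ pullback g r := fun x => (yon S).map (ιx x) ≫ t
  have := AlgSp.repWith_isMultiplicative (S := S) @Etale
  have hchart : ∀ x, RepWith @Etale (chart x) := by
    intro x
    have h1 : Etale (ιx x).left := by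
      change Etale (O x).1.ι
      infer_instance
    exact (RepWith @Etale).comp_mem _ _ ((repWith_yon_map_iff _ _).2 h1) hte
  have hid : RepWith @Etale (𝟙 ((yon S).obj W)) := (RepWith @Etale).id_mem _
  have hdx : ∀ x, chart x ≫ pullback.snd g r = (yon S).map (ιx x ≫ π') := by
    intro x
    rw [Functor.map_comp, hπ', Category.assoc]
  have hTaff : ∀ x, IsAffine (Tx x).left := by
    intro x
    change IsAffine ((O x).1 : Scheme.{u})
    exact (O x).2
  have hdflat : ∀ x, Flat (ιx x ≫ π').left := by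
    intro x
    exact hsnd (chart x) (𝟙 _) (ιx x ≫ π') (hchart x) hid (by rw [hdx, Category.comp_id])
  have he1 : ∀ x, LocP @Flat (chart x ≫ pullback.fst g r) := fun x =>
    locP_chart_comp hfst (chart x) (hchart x)
  have he2 : ∀ x, (chart x ≫ pullback.fst g r) ≫ g = (yon S).map (ιx x ≫ π') ≫ r := by
    intro x
    rw [Category.assoc, pullback.condition, ← Category.assoc, hdx]
  have hsurj : ∀ w : ↥W.left, ∃ x ∈ tfin, w ∈ Set.range (ιx x ≫ π').left := by
    intro w
    have hw' : w ∈ ⋃ x ∈ tfin, w₁.left '' (w₂.left ⁻¹' (((O x).1 : T'.left.Opens) : Set T'.left)) := by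
      rw [htfin]; trivial
    simp only [Set.mem_iUnion] at hw'
    obtain ⟨x, hx, w'', hw''O, rfl⟩ := hw'
    refine ⟨x, hx, ⟨⟨w₂.left w'', hw''O⟩, ?_⟩⟩
    rw [← hw]
    rfl
  -- reindex by `Fin n`
  obtain ⟨n, ⟨eqv⟩⟩ := Finite.exists_equiv_fin ↥tfin
  refine ⟨n, fun k => Tx (eqv.symm k).1, fun k => ιx (eqv.symm k).1 ≫ π',
    fun k => chart (eqv.symm k).1 ≫ pullback.fst g r, fun k => hTaff _, fun k => hdflat _,
    fun w => ?_, fun k => ⟨he1 _, he2 _⟩⟩
  obtain ⟨x, hx, hwx⟩ := hsurj w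
  refine ⟨eqv ⟨x, hx⟩, ?_⟩
  have key : ∀ (y : ↥tfin), y = ⟨x, hx⟩ → w ∈ Set.range (ιx y.1 ≫ π').left := by
    rintro y rfl
    exact hwx
  exact key _ (Equiv.symm_apply_apply eqv ⟨x, hx⟩)

/-- **Main theorem**: `LocP P` is fpqc local on the base. -/
theorem isLocalOnBase_fpqc_locP' {P : MorphismProperty Scheme.{u}} (hP : WEtLocal P)
    [IsZariskiLocalAtTarget P] [P.DescendsAlong (@Surjective ⊓ @Flat ⊓ @QuasiCompact)] :
    IsLocalOnBase (IsFpqcCover (S := S)) (LocP P) := by
  intro ι Y Yi g hY hYi hcov X f hX Xi p q hXi sq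
  constructor
  · intro hf i
    exact locP_baseChange_flat hP hX hY (hYi i) (sq i) hf (hcov.1 i)
  · intro hp
    refine locP_of_affine_baseChange_etale hP hX hY f (fun Z hZ h hhe Pz a b sqP => ?_)
    have hZs : IsAlgSpace ((yon S).obj Z) := ((AlgSp.ofScheme S).obj Z).property
    have hPz : IsAlgSpace Pz := isAlgSpace_of_isPullback sqP hY.diag hX hZs
    obtain ⟨m, W, c, hW, hflat, hsurj, hlift⟩ := hcov.2 Z hZ h
    choose idx l hl using hlift
    have hr : ∀ j, LocP @Flat ((yon S).map (c j) ≫ h) := fun j =>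
      locP_flat_yon_comp (c j) (hflat j) h hhe
    have hF := fun j => exists_flat_refinement hY (hYi (idx j)) (g (idx j)) (hcov.1 (idx j)) (W j)
      (hW j) ((yon S).map (c j) ≫ h) (hr j) (l j) (hl j)
    choose n T d e hT hd hds he using hF
    refine locP_of_fpqc_family' hP hPz b hZ (σ := Σ j : Fin m, Fin (n j))
      (fun s => T s.1 s.2) (fun s => d s.1 s.2 ≫ c s.1) (fun s => hT s.1 s.2) (fun s => ?_)
      (fun z => ?_) (fun s => ?_)
    · rw [Over.comp_left]
      haveI := hd s.1 s.2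
      haveI := hflat s.1
      infer_instance
    · obtain ⟨j, w, hw⟩ := hsurj z
      obtain ⟨k, w', hw'⟩ := hds j w
      refine ⟨⟨j, k⟩, w', ?_⟩
      rw [← hw, ← hw']
      rfl
    · obtain ⟨j, k⟩ := s
      have hcd : (yon S).map (d j k ≫ c j) ≫ h = e j k ≫ g (idx j) := by
        rw [(he j k).2, Functor.map_comp, Category.assoc]
      obtain ⟨Qi, li, ki, si, sq1, sq2⟩ :=
        exists_baseChange_of_lift (sq (idx j)) sqP (d j k ≫ c j) (e j k) hcd
      exact ⟨Qi, li, si, sq1, locP_baseChange_flat hP (hXi (idx j)) (hYi (idx j))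
        ((AlgSp.ofScheme S).obj (T j k)).property sq2 (hp (idx j)) (he j k).1⟩

end Groth.Agent.H56.LocPFlat
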