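import Mathlib
import Groth.Prelude.Def_AlgSpMor6
import Groth.Agent.H56.LciAlgSp
import Groth.Agent.H56.LciLocal
import Groth.Agent.H56.LocPFlat2
import Groth.Agent.S10667
import Groth.Agent.S0412
import Groth.Agent.S10567
import Groth.Agent.S10505
import Groth.Agent.H51.SrcLocP
import Groth.Agent.H65.SmoothST

/-!
Local complete intersection morphisms of algebraic spaces are smooth local on the
source-and-target (helper56).
-/

set_option autoImplicit false
set_option linter.style.haveILetI false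
universe u
open CategoryTheory CategoryTheory.Limits AlgebraicGeometry MorphismProperty
open AlgSp

namespace Groth.Agent.H56.LciSmoothST

open Groth.Agent.H52 Groth.Agent.H51 Groth.Agent.H56.LciSch Groth.Agent.H56.LocPFlat

variable {S : Scheme.{u}}

theorem wEtLocal_lci : WEtLocal (AlgSp.lci : MorphismProperty Scheme.{u}) :=
  ⟨Groth.Agent.H56.LciLocal.lci_precomp_etale, Groth.Agent.H56.LciLocal.lci_postcomp_etale,
    Groth.Agent.H56.LciLocal.lci_of_postcomp_etale, Groth.Agent.H56.LciSch.srcLocal_lci,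
    Groth.Agent.H56.LciLocal.lci_flatBC⟩

/-- `LocP P` is stable under composition of morphisms of algebraic spaces, for `P` stable under
composition and etale local (weak form). -/
theorem locP_comp {P : MorphismProperty Scheme.{u}} (hP : WEtLocal P)
    (hcomp : ∀ ⦃A B C : Scheme.{u}⦄ (k : A ⟶ B) (l : B ⟶ C), P k → P l → P (k ≫ l))
    {X Y Z : Sp S} (hX : IsAlgSpace X) (hY : IsAlgSpace Y) (hZ : IsAlgSpace Z)
    (f : X ⟶ Y) (g : Y ⟶ Z) (hf : LocP P f) (hg : LocP P g) : LocP P (f ≫ g) := by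
  have instE := AlgSp.repWith_isMultiplicative (S := S) @Etale
  have instS := AlgSp.repWith_isMultiplicative (S := S) @Surjective
  obtain ⟨W, c, hc, hcs⟩ := hZ.atlas
  obtain ⟨V, d, hd, hds⟩ := hY.atlas
  obtain ⟨U₀, a₀, ha₀, ha₀s⟩ := hX.atlas
  have sqV := hc.rep.isPullback' (d ≫ g)
  have hv₂e : Etale (hc.rep.snd (d ≫ g)).left := hc.property_snd (d ≫ g)
  have hv₂s : Surjective (hc.rep.snd (d ≫ g)).left := hcs.property_snd (d ≫ g)
  have hb' : RepWith @Etale ((yon S).map (hc.rep.snd (d ≫ g)) ≫ d) :=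
    (RepWith @Etale).comp_mem _ _ ((AlgSp.repWith_yon_map_iff @Etale _).2 hv₂e) hd
  have hb's : RepWith @Surjective ((yon S).map (hc.rep.snd (d ≫ g)) ≫ d) :=
    (RepWith @Surjective).comp_mem _ _ ((AlgSp.repWith_yon_map_iff @Surjective _).2 hv₂s) hds
  have sqU := hb'.rep.isPullback' (a₀ ≫ f)
  have hu₂e : Etale (hb'.rep.snd (a₀ ≫ f)).left := hb'.property_snd (a₀ ≫ f)
  have hu₂s : Surjective (hb'.rep.snd (a₀ ≫ f)).left := hb's.property_snd (a₀ ≫ f)
  have ha : RepWith @Etale ((yon S).map (hb'.rep.snd (a₀ ≫ f)) ≫ a₀) :=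
    (RepWith @Etale).comp_mem _ _ ((AlgSp.repWith_yon_map_iff @Etale _).2 hu₂e) ha₀
  have has : RepWith @Surjective ((yon S).map (hb'.rep.snd (a₀ ≫ f)) ≫ a₀) :=
    (RepWith @Surjective).comp_mem _ _ ((AlgSp.repWith_yon_map_iff @Surjective _).2 hu₂s) ha₀s
  have comm_f : ((yon S).map (hb'.rep.snd (a₀ ≫ f)) ≫ a₀) ≫ f =
      (yon S).map (hb'.rep.fst' (a₀ ≫ f)) ≫ ((yon S).map (hc.rep.snd (d ≫ g)) ≫ d) := by
    rw [Category.assoc]
    exact sqU.w.symm
  have hPu : P (hb'.rep.fst' (a₀ ≫ f)).left := hf _ _ _ ha hb' comm_f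
  have comm_g : ((yon S).map (hc.rep.snd (d ≫ g)) ≫ d) ≫ g =
      (yon S).map (hc.rep.fst' (d ≫ g)) ≫ c := by
    rw [Category.assoc]
    exact sqV.w.symm
  have hPv : P (hc.rep.fst' (d ≫ g)).left := hg _ _ _ hb' hc comm_g
  refine locP_of_one_chart' hP (f ≫ g) _ c (hb'.rep.fst' (a₀ ≫ f) ≫ hc.rep.fst' (d ≫ g))
    ha has hc ?_ ?_
  · have h1 := congrArg (· ≫ g) comm_f
    simp only [Category.assoc] at h1 comm_g ⊢
    rw [h1, comm_g, Functor.map_comp, Category.assoc]
  · rw [Over.comp_left]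
    exact hcomp _ _ hPu hPv

/-- Koszul morphisms of schemes are smooth local on the source. -/
instance lci_isLocalAtSource_smooth :
    (AlgSp.lci : MorphismProperty Scheme.{u}).IsLocalAtSource (Scheme.precoverage @Smooth) := by
  refine MorphismProperty.IsLocalAtSource.mk_of_iff fun {X Y f R} hR => ?_
  have hsm : ∀ ⦃U : Scheme.{u}⦄ ⦃g : U ⟶ X⦄, R g → Smooth g := fun U g hg => hR.2 hg
  have hsurj : ∀ x : X, ∃ (U : Scheme.{u}) (g : U ⟶ X), R g ∧ x ∈ Set.range g := by
    have h1 := hR.1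
    rw [Presieve.mem_comap_jointlySurjectivePrecoverage_iff] at h1
    exact h1
  constructor
  · intro hf U g hg
    haveI := hsm hg
    exact koszul_comp g f (koszul_of_smooth g) hf
  · intro H
    have key : ∀ x : X, ∃ (X' : Scheme.{u}) (e : X' ⟶ X), Etale e ∧ x ∈ Set.range e ∧
        AlgSp.lci (e ≫ f) := by
      intro x
      obtain ⟨U, g, hg, hx⟩ := hsurj x
      haveI := hsm hg
      obtain ⟨X', e, x', he, hx', s, hs⟩ := Groth.Agent.S0412.result g x hx
      refine ⟨X', e, he, ⟨x', hx'⟩, ?_⟩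
      haveI : Etale e := he
      have h1 : AlgSp.lci s := koszul_of_comp_smooth s g (by rw [hs]; exact koszul_of_smooth e)
      have h2 := koszul_comp s (g ≫ f) h1 (H hg)
      rwa [← Category.assoc, hs] at h2
    choose X' e he hx hl using key
    exact srcLocal_lci e f he (fun y => ⟨y, hx y⟩) hl

theorem isSmoothLocalST_lci : AlgSp.IsSmoothLocalST (AlgSp.LocP (S := S) AlgSp.lci) := by
  refine Groth.Agent.S10567.result _ (Groth.Agent.H51.isLocalOnSource_smooth_locP AlgSp.lci) ?_ ?_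
  · intro ι Y Yi g hY hYi hcov X f hX Xi p q hXi hsq
    exact Groth.Agent.S10667.result Yi g hY hYi
      (Groth.Agent.S10505.result (⟨Y, hY⟩ : AlgSp.Space S) (fun i => ⟨Yi i, hYi i⟩)
        (fun i => ObjectProperty.homMk (g i))
        (Groth.Agent.H65.SmoothST.isFppfCover_of_isSmCover Yi g hcov)) f hX Xi p q hXi hsq
  · intro X Y Z f g hf hg
    exact locP_comp wEtLocal_lci (fun _ _ _ k l hk hl => koszul_comp k l hk hl)
      X.property Y.property Z.property f.hom g.hom hf
      (Groth.Agent.H32.Cover.locP_mono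
        (fun _ _ g hg => by haveI : Smooth g := hg; exact koszul_of_smooth g) _ hg)

end Groth.Agent.H56.LciSmoothST
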