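import Groth.Agent.H51.FpqcLocP
import Groth.Agent.H51.FpqcCov2

/-!
# `AlgSp.LocP P` is fpqc local on the base for `P` stable only under FLAT base change (helper56)

A variant of helper51/helper52's engine (`H52.locP_baseChange`, `H51.isLocalOnBase_fpqc_locP`) for
properties of morphisms of schemes that are etale local on the source-and-target but stable only under
flat base change (e.g. local complete intersection morphisms).
-/

set_option autoImplicit false
set_option linter.style.haveILetI false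
universe u
open CategoryTheory CategoryTheory.Limits AlgebraicGeometry MorphismProperty Opposite
open AlgSp

namespace Groth.Agent.H56.LocPFlat

open Groth.Agent.H52 Groth.Agent.H51

/-- etale local on the source-and-target, stable under flat base change. -/
structure WEtLocal (P : MorphismProperty Scheme.{u}) : Prop where
  precomp : ∀ ⦃A B C : Scheme.{u}⦄ (k : A ⟶ B) (l : B ⟶ C), Etale k → P l → P (k ≫ l)
  postcomp : ∀ ⦃A B C : Scheme.{u}⦄ (k : A ⟶ B) (l : B ⟶ C), Etale l → P k → P (k ≫ l)
  of_postcomp : ∀ ⦃A B C : Scheme.{u}⦄ (k : A ⟶ B) (l : B ⟶ C), Etale l → P (k ≫ l) → P k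
  src : SrcLocal P
  flatBC : ∀ ⦃X Y X' Y' : Scheme.{u}⦄ (f : X ⟶ Y) (g : Y' ⟶ Y) (f' : X' ⟶ Y') (g' : X' ⟶ X),
    IsPullback g' f' f g → Flat g → P f → P f'

variable {S : Scheme.{u}}

/-- Chart independence (copy of `H52.locP_of_one_chart` without arbitrary base change). -/
theorem locP_of_one_chart' {P : MorphismProperty Scheme.{u}} (hP : WEtLocal P) {X Y : Sp S}
    (f : X ⟶ Y) {U V : Over S} (a : (yon S).obj U ⟶ X) (b : (yon S).obj V ⟶ Y) (h : U ⟶ V)
    (ha : RepWith @Etale a) (has : RepWith @Surjective a) (hb : RepWith @Etale b)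
    (comm : a ≫ f = (yon S).map h ≫ b) (hh : P h.left) : LocP P f := by
  intro U' V' a' b' h' ha' hb' comm'
  have sqW := ha.rep.isPullback' a'
  have hw₂e : Etale (ha.rep.snd a').left := ha.property_snd a'
  have hw₂s : Surjective (ha.rep.snd a').left := has.property_snd a'
  have hw₁e : Etale (ha.rep.fst' a').left := ha'.2 a ((yon S).map (ha.rep.snd a')) _ sqW.flip
  have sqV := hb.rep.isPullback' b'
  have hv₂e : Etale (hb.rep.snd b').left := hb.property_snd b'
  have hv₁e : Etale (hb.rep.fst' b').left := hb'.2 b ((yon S).map (hb.rep.snd b')) _ sqV.flip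
  have hcomp : (yon S).map (ha.rep.fst' a' ≫ h) ≫ b = (yon S).map (ha.rep.snd a' ≫ h') ≫ b' := by
    rw [Functor.map_comp, Functor.map_comp, Category.assoc, Category.assoc, ← comm, ← comm',
      ← Category.assoc, ← Category.assoc, sqW.w]
  obtain ⟨k, hk⟩ := (yon S).map_surjective (sqV.lift _ _ hcomp)
  have hk₁ : k ≫ hb.rep.fst' b' = ha.rep.fst' a' ≫ h := by
    apply (yon S).map_injective
    rw [Functor.map_comp, hk, sqV.lift_fst]
  have hk₂ : k ≫ hb.rep.snd b' = ha.rep.snd a' ≫ h' := by
    apply (yon S).map_injective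
    rw [Functor.map_comp, hk, sqV.lift_snd]
  have h1 : P ((ha.rep.fst' a').left ≫ h.left) := hP.precomp _ _ hw₁e hh
  have h2 : P (k.left ≫ (hb.rep.fst' b').left) := by
    rw [← Over.comp_left, hk₁, Over.comp_left]
    exact h1
  have h3 : P k.left := hP.of_postcomp _ _ hv₁e h2
  have h4 : P (k.left ≫ (hb.rep.snd b').left) := hP.postcomp _ _ hv₂e h3
  have h5 : P ((ha.rep.snd a').left ≫ h'.left) := by
    rw [← Over.comp_left, ← hk₂, Over.comp_left]
    exact h4
  exact SrcLocal.of_single (P := P) hP.src _ _ hw₂e hw₂s h5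

/-- If `f₀ : h_U ⟶ Y` has `P` etale locally, then its base change along a FLAT `t : h_T ⟶ Y` has `P`. -/
theorem P_snd_of_locP_flat {P : MorphismProperty Scheme.{u}} (hP : WEtLocal P) {Y : Sp S}
    (hY : IsAlgSpace Y) {U T W : Over S} (f₀ : (yon S).obj U ⟶ Y) (t : (yon S).obj T ⟶ Y)
    (a : W ⟶ U) (b : W ⟶ T) (sqW : IsPullback ((yon S).map a) ((yon S).map b) f₀ t)
    (hf : LocP P f₀) (ht : LocP @Flat t) : P b.left := by
  obtain ⟨V, v, hve, hvs⟩ := hY.atlas
  have sqT := hve.rep.isPullback' t
  have htse : Etale (hve.rep.snd t).left := hve.property_snd t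
  have sqU := hve.rep.isPullback' f₀
  have huse : Etale (hve.rep.snd f₀).left := hve.property_snd f₀
  have hPU : P (hve.rep.fst' f₀).left :=
    hf ((yon S).map (hve.rep.snd f₀)) v _ ((repWith_yon_map_iff _ _).2 huse) hve sqU.w.symm
  have hFT : Flat (hve.rep.fst' t).left :=
    ht ((yon S).map (hve.rep.snd t)) v _ ((repWith_yon_map_iff _ _).2 htse) hve sqT.w.symm
  have sqWV := hve.rep.isPullback' ((yon S).map b ≫ t)
  have hwse : Etale (hve.rep.snd ((yon S).map b ≫ t)).left := hve.property_snd _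
  have hwss : Surjective (hve.rep.snd ((yon S).map b ≫ t)).left := hvs.property_snd _
  set fW := hve.rep.fst' ((yon S).map b ≫ t) with hfW
  set sW := hve.rep.snd ((yon S).map b ≫ t) with hsW
  have hm0 : (yon S).map fW ≫ v = (yon S).map (sW ≫ b) ≫ t := by
    rw [Functor.map_comp, Category.assoc]; exact sqWV.w
  obtain ⟨m, hm⟩ := (yon S).map_surjective (sqT.lift _ _ hm0)
  have hm₁ : (yon S).map m ≫ (yon S).map (hve.rep.fst' t) = (yon S).map fW := by
    rw [hm, sqT.lift_fst]
  have hm₂ : (yon S).map m ≫ (yon S).map (hve.rep.snd t) = (yon S).map sW ≫ (yon S).map b := by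
    rw [hm, sqT.lift_snd, Functor.map_comp]
  have hn0 : (yon S).map fW ≫ v = (yon S).map (sW ≫ a) ≫ f₀ := by
    rw [Functor.map_comp, Category.assoc, sqW.w]; exact sqWV.w
  obtain ⟨n, hn⟩ := (yon S).map_surjective (sqU.lift _ _ hn0)
  have hn₁ : (yon S).map n ≫ (yon S).map (hve.rep.fst' f₀) = (yon S).map fW := by
    rw [hn, sqU.lift_fst]
  have hn₂ : (yon S).map n ≫ (yon S).map (hve.rep.snd f₀) = (yon S).map sW ≫ (yon S).map a := by
    rw [hn, sqU.lift_snd, Functor.map_comp]
  have sqL' : IsPullback ((yon S).map n) ((yon S).map sW) ((yon S).map (hve.rep.snd f₀))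
      ((yon S).map a) := by
    refine IsPullback.of_right ?_ hn₂ sqU
    rw [hn₁, sqW.w]
    exact sqWV
  have sqO : IsPullback ((yon S).map sW ≫ (yon S).map b) ((yon S).map n) t
      ((yon S).map (hve.rep.snd f₀) ≫ f₀) := sqL'.flip.paste_horiz sqW.flip
  have sqM : IsPullback ((yon S).map m) ((yon S).map n) ((yon S).map (hve.rep.fst' t))
      ((yon S).map (hve.rep.fst' f₀)) := by
    refine IsPullback.of_right ?_ (hm₁.trans hn₁.symm) sqT.flip
    rw [hm₂, sqU.w]
    exact sqO
  have hPm : P m.left := by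
    have e : m ≫ hve.rep.fst' t = n ≫ hve.rep.fst' f₀ := by
      apply (yon S).map_injective
      rw [Functor.map_comp, Functor.map_comp, hm₁, hn₁]
    have sqM' : IsPullback m n (hve.rep.fst' t) (hve.rep.fst' f₀) := IsPullback.of_map (yon S) e sqM
    have sqM'' := sqM'.map (Over.forget S)
    exact hP.flatBC _ _ _ _ sqM''.flip hFT hPU
  have h3 : P (m.left ≫ (hve.rep.snd t).left) := hP.postcomp _ _ htse hPm
  have h4 : m ≫ hve.rep.snd t = sW ≫ b := by
    apply (yon S).map_injective
    rw [Functor.map_comp, Functor.map_comp, hm₂]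
  have h5 : P (sW.left ≫ b.left) := by
    rw [← Over.comp_left, ← h4, Over.comp_left]
    exact h3
  exact SrcLocal.of_single (P := P) hP.src _ _ hwse hwss h5

/-- `LocP P` is stable under base change along `LocP @Flat` morphisms. -/
theorem locP_baseChange_flat {P : MorphismProperty Scheme.{u}} (hP : WEtLocal P) {X Y Y' X' : Sp S}
    (hX : IsAlgSpace X) (hY : IsAlgSpace Y) (hY' : IsAlgSpace Y')
    {f : X ⟶ Y} {g : Y' ⟶ Y} {fst : X' ⟶ X} {f' : X' ⟶ Y'}
    (sq : IsPullback fst f' f g) (hf : LocP P f) (hg : LocP @Flat g) : LocP P f' := by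
  obtain ⟨U, p, hpe, hps⟩ := hX.atlas
  obtain ⟨V, q, hqe, hqs⟩ := hY'.atlas
  obtain ⟨W, a, b, r, -, hr₂, sqW, hr⟩ := exists_chart_of_isPullback sq hY.diag p q
  have hb : P b.left := P_snd_of_locP_flat hP hY (p ≫ f) (q ≫ g) a b sqW
    (locP_chart_comp hf p hpe) (locP_chart_comp hg q hqe)
  exact locP_of_one_chart' hP f' r q b (hr @Etale hpe hqe) (hr @Surjective hps hqs) hqe hr₂ hb

/-- `LocP P` descends along finite families of flat morphisms from affines, jointly surjective onto an
affine base. -/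
theorem locP_of_fpqc_family' {P : MorphismProperty Scheme.{u}} (hP : WEtLocal P)
    [IsZariskiLocalAtTarget P] [P.DescendsAlong (@Surjective ⊓ @Flat ⊓ @QuasiCompact)]
    {Q' : Sp S} (hQ' : IsAlgSpace Q') {Z : Over S} (qsnd : Q' ⟶ (yon S).obj Z) (hZ : IsAffine Z.left)
    {σ : Type} [Finite σ] (W : σ → Over S) (c : ∀ j, W j ⟶ Z) (hW : ∀ j, IsAffine (W j).left)
    (hflat : ∀ j, Flat (c j).left) (hsurj : ∀ z : ↥Z.left, ∃ j, z ∈ Set.range (c j).left)
    (H : ∀ j, ∃ (Qi : Sp S) (li : Qi ⟶ Q') (si : Qi ⟶ (yon S).obj (W j)),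
      IsPullback li si qsnd ((yon S).map (c j)) ∧ LocP P si) : LocP P qsnd := by
  obtain ⟨U, a, hae, has⟩ := hQ'.atlas
  obtain ⟨k, hk⟩ := (yon S).map_surjective (a ≫ qsnd)
  have := AlgSp.repWith_isMultiplicative (S := S) @Etale
  have hid : RepWith @Etale (𝟙 ((yon S).obj Z)) := (RepWith @Etale).id_mem _
  refine locP_of_one_chart' hP qsnd a (𝟙 _) k hae has hid
    (by rw [hk, Category.comp_id]) ?_
  have := hZ
  have := hW
  have := hflat
  refine descend_of_flat_family P k.left (fun j => (W j).left) (fun j => (c j).left)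
    (fun z => by obtain ⟨j, w, hw⟩ := hsurj z; exact ⟨j, w, hw⟩) (fun j => ?_)
  obtain ⟨Qi, li, si, sq, hsi⟩ := H j
  refine ⟨(pullback k (c j)).left, (pullback.fst k (c j)).left, (pullback.snd k (c j)).left,
    (IsPullback.of_hasPullback k (c j)).map (Over.forget S), ?_⟩
  exact P_of_locP_baseChange_chart sq hae hk.symm ((IsPullback.of_hasPullback k (c j)).map (yon S)) hsi

/-- `LocP P` can be tested on base changes to affine schemes ETALE over the base. -/
theorem locP_of_affine_baseChange_etale {P : MorphismProperty Scheme.{u}} (hP : WEtLocal P)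
    [IsZariskiLocalAtTarget P] {X Y : Sp S} (hX : IsAlgSpace X) (hY : IsAlgSpace Y) (f : X ⟶ Y)
    (H : ∀ (T : Over S), IsAffine T.left → ∀ (c : (yon S).obj T ⟶ Y), RepWith @Etale c →
      ∀ (Q' : Sp S) (qfst : Q' ⟶ X) (qsnd : Q' ⟶ (yon S).obj T),
        IsPullback qfst qsnd f c → LocP P qsnd) : LocP P f := by
  obtain ⟨V, pV, hpe, hps⟩ := hY.atlas
  have hV : IsAlgSpace ((yon S).obj V) := ((AlgSp.ofScheme S).obj V).property
  have sqV := IsPullback.of_hasPullback f pV
  have hPV : IsAlgSpace (pullback f pV) := isAlgSpace_of_isPullback sqV hY.diag hX hV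
  obtain ⟨U, a, hae, has⟩ := hPV.atlas
  obtain ⟨k, hk⟩ := (yon S).map_surjective (a ≫ pullback.snd f pV)
  have := AlgSp.repWith_isStableUnderBaseChange (S := S) @Etale
  have := AlgSp.repWith_isMultiplicative (S := S) @Etale
  have := AlgSp.repWith_isStableUnderBaseChange (S := S) @Surjective
  have := AlgSp.repWith_isMultiplicative (S := S) @Surjective
  have hfe : RepWith @Etale (pullback.fst f pV) := MorphismProperty.of_isPullback sqV.flip hpe
  have hfs : RepWith @Surjective (pullback.fst f pV) := MorphismProperty.of_isPullback sqV.flip hps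
  refine locP_of_one_chart' hP f (a ≫ pullback.fst f pV) pV k
    ((RepWith @Etale).comp_mem _ _ hae hfe) ((RepWith @Surjective).comp_mem _ _ has hfs) hpe
    (by rw [Category.assoc, sqV.w, ← Category.assoc, hk]) ?_
  rw [IsZariskiLocalAtTarget.iff_of_openCover (P := P) V.left.affineCover]
  intro i
  let T : Over S := Over.mk (V.left.affineCover.f i ≫ V.hom)
  let ι : T ⟶ V := Over.homMk (V.left.affineCover.f i) rfl
  have hT : IsAffine T.left := by
    change IsAffine (V.left.affineCover.X i)
    infer_instance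
  have hιe : Etale ι.left := by
    change Etale (V.left.affineCover.f i)
    infer_instance
  have hce : RepWith @Etale ((yon S).map ι ≫ pV) :=
    (RepWith @Etale).comp_mem _ _ ((repWith_yon_map_iff _ _).2 hιe) hpe
  have sq1 := IsPullback.of_hasPullback (pullback.snd f pV) ((yon S).map ι)
  have big : IsPullback (pullback.fst (pullback.snd f pV) ((yon S).map ι) ≫ pullback.fst f pV)
      (pullback.snd (pullback.snd f pV) ((yon S).map ι)) f ((yon S).map ι ≫ pV) :=
    sq1.paste_horiz sqV
  have h1 : LocP P (pullback.snd (pullback.snd f pV) ((yon S).map ι)) := H T hT _ hce _ _ _ big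
  have h2 : P (pullback.snd k ι).left :=
    P_of_locP_baseChange_chart sq1 hae hk.symm ((IsPullback.of_hasPullback k ι).map (yon S)) h1
  exact P_snd_of_isPullback_of_isPullback P ((IsPullback.of_hasPullback k ι).map (Over.forget S))
    (IsPullback.of_hasPullback k.left (V.left.affineCover.f i)) h2

end Groth.Agent.H56.LocPFlat
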