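import Groth.Agent.H56.PerfDual
import Groth.Agent.S6515
import Groth.Agent.H31.LTensorCoprod
import Groth.Agent.H31.LocalD
import Mathlib.Algebra.Homology.DerivedCategory.ShortExact

/-!
# The triangle `N ⊗^L A ⟶ N ⊗^L B ⟶ N ⊗^L cone(f)` (helper56; squad piece (P2); namespace `Groth.Agent.H56.PC2` to avoid a clash with `Groth.Agent.H35.PC2`)
-/

set_option autoImplicit false
universe u
open CategoryTheory CategoryTheory.Limits AlgebraicGeometry HomologicalComplex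
open CategoryTheory.Pretriangulated
attribute [local instance] HasDerivedCategory.standard

namespace Groth.Agent.H56.PC2

open Groth.Agent.H31 Groth.Agent.H31.Stalk Groth.Agent.H31.KFlat Groth.Agent.H40.LTensorInv
  Groth.Agent.H40.LTensorComp

variable {Z : Scheme.{u}}

private lemma comm_aux {C : Type*} [Category C] {X X' X'' Y Y' Y'' : C}
    {t : X ⟶ Y} {b : Y ⟶ Y'} {e : Y' ⟶ Y''} {a : X ⟶ X'} {t' : X' ⟶ Y'} {e' : X' ⟶ X''}
    {m : X'' ⟶ Y''} (h1 : t ≫ b = a ≫ t') (h2 : t' ≫ e = e' ≫ m) :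
    t ≫ (b ≫ e) = (a ≫ e') ≫ m := by
  rw [← Category.assoc, h1, Category.assoc, h2, Category.assoc]

private lemma rot_aux {D : Type*} [Category D] [Preadditive D] [HasZeroObject D] [HasShift D ℤ]
    [∀ n : ℤ, (shiftFunctor D n).Additive] [Pretriangulated D]
    {X₁ X₂ X₃ Y : D} (a : X₁ ⟶ X₂) (b : X₂ ⟶ X₃) (d : X₃ ⟶ X₁⟦(1 : ℤ)⟧)
    (h : Triangle.mk a b d ∈ distTriang D) (θ : X₃ ≅ Y⟦(1 : ℤ)⟧) (u : Y ⟶ X₁)
    (hd : d = θ.hom ≫ u⟦(1 : ℤ)⟧') :
    Triangle.mk u a (-(b ≫ θ.hom)) ∈ distTriang D := by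
  rw [rotate_distinguished_triangle]
  let e₃ : Y⟦(1 : ℤ)⟧ ≅ X₃ :=
    { hom := -θ.inv
      inv := -θ.hom
      hom_inv_id := by
        rw [Preadditive.neg_comp, Preadditive.comp_neg, neg_neg, Iso.inv_hom_id]
      inv_hom_id := by
        rw [Preadditive.neg_comp, Preadditive.comp_neg, neg_neg, Iso.hom_inv_id] }
  refine isomorphic_distinguished _ h _
    (Triangle.isoMk _ _ (Iso.refl _) (Iso.refl _) e₃ ?_ ?_ ?_)
  · exact (Category.comp_id a).trans (Category.id_comp a).symm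
  · show (-(b ≫ θ.hom)) ≫ (-θ.inv) = 𝟙 _ ≫ b
    rw [Preadditive.neg_comp, Preadditive.comp_neg, neg_neg, Category.assoc, Iso.hom_inv_id,
      Category.comp_id, Category.id_comp]
  · show (-u⟦(1 : ℤ)⟧') ≫ (𝟙 _)⟦(1 : ℤ)⟧' = (-θ.inv) ≫ d
    rw [hd, CategoryTheory.Functor.map_id, Category.comp_id, Preadditive.neg_comp,
      Iso.inv_hom_id_assoc]

private lemma iso_aux {D : Type*} [Category D] [Preadditive D] [HasZeroObject D] [HasShift D ℤ]
    [∀ n : ℤ, (shiftFunctor D n).Additive] [Pretriangulated D]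
    {X₁ X₂ X₃ Y₁ Y₂ Y₃ : D} (a : X₁ ⟶ X₂) (b : X₂ ⟶ X₃) (d : X₃ ⟶ X₁⟦(1 : ℤ)⟧)
    (h : Triangle.mk a b d ∈ distTriang D) (a' : Y₁ ⟶ Y₂) (b' : Y₂ ⟶ Y₃)
    (e₁ : Y₁ ≅ X₁) (e₂ : Y₂ ≅ X₂) (e₃ : Y₃ ≅ X₃)
    (c₁ : a' ≫ e₂.hom = e₁.hom ≫ a) (c₂ : b' ≫ e₃.hom = e₂.hom ≫ b) :
    Triangle.mk a' b' (e₃.hom ≫ d ≫ e₁.inv⟦(1 : ℤ)⟧') ∈ distTriang D := by
  refine isomorphic_distinguished _ h _ (Triangle.isoMk _ _ e₁ e₂ e₃ c₁ c₂ ?_)
  show (e₃.hom ≫ d ≫ e₁.inv⟦(1 : ℤ)⟧') ≫ e₁.hom⟦(1 : ℤ)⟧' = e₃.hom ≫ d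
  rw [Category.assoc, Category.assoc, ← Functor.map_comp, Iso.inv_hom_id,
    CategoryTheory.Functor.map_id, Category.comp_id]

set_option maxHeartbeats 2000000 in
/-- Chain level: `Q(P ⊗ A) ⟶ Q(P ⊗ B) ⟶ Q(P ⊗ cone f)` extends to a distinguished triangle. -/
theorem exists_chain_triangle (P : CochainComplex Z.Modules ℤ) {A B : CochainComplex Z.Modules ℤ}
    (f : A ⟶ B) :
    ∃ δ : DerivedCategory.Q.obj ((DCoh.tensorCx.obj P).obj (CochainComplex.mappingCone f)) ⟶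
        (DerivedCategory.Q.obj ((DCoh.tensorCx.obj P).obj A))⟦(1 : ℤ)⟧,
      Triangle.mk (DerivedCategory.Q.map ((DCoh.tensorCx.obj P).map f))
        (DerivedCategory.Q.map ((DCoh.tensorCx.obj P).map (CochainComplex.mappingCone.inr f))) δ ∈
        distTriang (DCoh.D Z) := by
  have := hasExactColimitsOfShape_nat_Mod (O := shX Z)
  let Φ : CochainComplex Z.Modules ℤ ⥤ CochainComplex Z.Modules ℤ := DCoh.tensorCx.obj P
  let S := CochainComplex.mappingCone.triangleRotateShortComplex f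
  let S₀ := CochainComplex.mappingCone.triangleRotateShortComplex (𝟙 A)
  have hS : (S.map Φ).ShortExact :=
    shortExact_map_obj_of_split (ModSite.tensorBi (shX Z)) P S
      (fun n => ⟨CochainComplex.mappingCone.triangleRotateShortComplexSplitting f n⟩)
  have hS₀ : (S₀.map Φ).ShortExact :=
    shortExact_map_obj_of_split (ModSite.tensorBi (shX Z)) P S₀
      (fun n => ⟨CochainComplex.mappingCone.triangleRotateShortComplexSplitting (𝟙 A) n⟩)
  let tm := CochainComplex.mappingCone.triangleMap (𝟙 A) f (𝟙 A) f rfl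
  let ψ : S₀ ⟶ S :=
    { τ₁ := f
      τ₂ := CochainComplex.mappingCone.map (𝟙 A) f (𝟙 A) f rfl
      τ₃ := (𝟙 A)⟦(1 : ℤ)⟧'
      comm₁₂ := tm.comm₂.symm
      comm₂₃ := tm.comm₃.symm }
  let ψ' : S₀.map Φ ⟶ S.map Φ := Φ.mapShortComplex.map ψ
  have hnat := DerivedCategory.triangleOfSESδ_naturality hS₀ hS ψ'
  have hτ₃ : DerivedCategory.Q.map ψ'.τ₃ = 𝟙 _ := by
    show DerivedCategory.Q.map (Φ.map ((𝟙 A)⟦(1 : ℤ)⟧')) = 𝟙 _
    rw [CategoryTheory.Functor.map_id, CategoryTheory.Functor.map_id,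
      CategoryTheory.Functor.map_id]
  rw [hτ₃] at hnat
  have hnat' : DerivedCategory.triangleOfSESδ hS₀ ≫
      (DerivedCategory.Q.map (Φ.map f))⟦(1 : ℤ)⟧' = DerivedCategory.triangleOfSESδ hS :=
    hnat.trans (Category.id_comp _)
  -- δ₀ is an isomorphism
  have hac : ((DCoh.tensorCx.obj P).obj (CochainComplex.mappingCone (𝟙 A))).Acyclic :=
    acyclic_mapBifunctor_right (ModSite.tensorBi (shX Z)) P _
      (CochainComplex.mappingCone.homotopyToZeroOfId A)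
  have hz : IsZero (DerivedCategory.triangleOfSES hS₀).obj₂ := by
    show IsZero (DerivedCategory.Q.obj (Φ.obj (CochainComplex.mappingCone (𝟙 A))))
    rw [Groth.Agent.H31.LocalD.isZero_iff_homology]
    intro n
    exact IsZero.of_iso ((HomologicalComplex.exactAt_iff_isZero_homology _ _).1 (hac n))
      ((DerivedCategory.homologyFunctorFactors Z.Modules n).app _)
  have hiso : IsIso (DerivedCategory.triangleOfSESδ hS₀) :=
    ((DerivedCategory.triangleOfSES hS₀).isZero₂_iff_isIso₃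
      (DerivedCategory.triangleOfSES_distinguished hS₀)).1 hz
  let θ : DerivedCategory.Q.obj (Φ.obj (A⟦(1 : ℤ)⟧)) ≅ (DerivedCategory.Q.obj (Φ.obj A))⟦(1 : ℤ)⟧ :=
    @asIso _ _ _ _ (DerivedCategory.triangleOfSESδ hS₀) hiso
  let u := DerivedCategory.Q.map (Φ.map f)
  let v := DerivedCategory.Q.map (Φ.map (CochainComplex.mappingCone.inr f))
  let g' : DerivedCategory.Q.obj (Φ.obj (CochainComplex.mappingCone f)) ⟶
      DerivedCategory.Q.obj (Φ.obj (A⟦(1 : ℤ)⟧)) := DerivedCategory.Q.map (Φ.map S.g)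
  have hδ : DerivedCategory.triangleOfSESδ hS = θ.hom ≫ u⟦(1 : ℤ)⟧' := hnat'.symm
  exact ⟨-(g' ≫ θ.hom), rot_aux v g' (DerivedCategory.triangleOfSESδ hS)
    (DerivedCategory.triangleOfSES_distinguished hS) θ u hδ⟩

set_option maxHeartbeats 2000000 in
/-- **(P2)** -/
theorem exists_tensor_triangle {A B : CochainComplex Z.Modules ℤ} (f : A ⟶ B)
    [DCoh.HasLTensorCx A] [DCoh.HasLTensorCx B] [DCoh.HasLTensorCx (CochainComplex.mappingCone f)] :
    ∃ (τ₁ : DCoh.LTensorCx A ⟶ DCoh.LTensorCx B)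
      (τ₂ : DCoh.LTensorCx B ⟶ DCoh.LTensorCx (CochainComplex.mappingCone f)),
      ∀ N : DCoh.D Z, ∃ δ : (DCoh.LTensorCx (CochainComplex.mappingCone f)).obj N ⟶
          ((DCoh.LTensorCx A).obj N)⟦(1 : ℤ)⟧,
        Triangle.mk (τ₁.app N) (τ₂.app N) δ ∈ distTriang (DCoh.D Z) := by
  have := hasExactColimitsOfShape_nat_Mod (O := shX Z)
  haveI iA : ModSite.HasLTensorCx (O := shX Z) A := ‹DCoh.HasLTensorCx A›
  haveI iB : ModSite.HasLTensorCx (O := shX Z) B := ‹DCoh.HasLTensorCx B›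
  let C : CochainComplex Z.Modules ℤ := CochainComplex.mappingCone f
  let inrf : B ⟶ C := CochainComplex.mappingCone.inr f
  haveI iC : ModSite.HasLTensorCx (O := shX Z) C :=
    ‹DCoh.HasLTensorCx (CochainComplex.mappingCone f)›
  let W := HomologicalComplex.quasiIso (ModSite.Mod (shX Z)) (ComplexShape.up ℤ)
  let τ₁ : DCoh.LTensorCx A ⟶ DCoh.LTensorCx B :=
    Functor.leftDerivedNatTrans (ModSite.LTensorCx (O := shX Z) A)
      (ModSite.LTensorCx (O := shX Z) B) (ε (O := shX Z) A) (ε (O := shX Z) B) W (τ f)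
  let τ₂ : DCoh.LTensorCx B ⟶ DCoh.LTensorCx (CochainComplex.mappingCone f) :=
    Functor.leftDerivedNatTrans (ModSite.LTensorCx (O := shX Z) B)
      (ModSite.LTensorCx (O := shX Z) C) (ε (O := shX Z) B)
      (ε (O := shX Z) C) W (τ inrf)
  refine ⟨τ₁, τ₂, fun N => ?_⟩
  obtain ⟨P, q, hP, -, hq, -⟩ :=
    exists_kflat_resolution (T := Groth.Agent.H53.SiteTensor.Tf (shX Z))
      (Groth.Agent.H53.SiteTensor.tensorLike_Tf (shX Z))
      (DerivedCategory.Q.objPreimage N)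
  have hq' : IsIso (DerivedCategory.Q.map q) := (DerivedCategory.isIso_Q_map_iff_quasiIso _ _).2 hq
  let eN : DerivedCategory.Q.obj P ≅ N :=
    asIso (DerivedCategory.Q.map q) ≪≫ DerivedCategory.Q.objObjPreimageIso N
  have hεA : IsIso ((ε (O := shX Z) A).app P) := isIso_ε_app (O := shX Z) A P hP
  have hεB : IsIso ((ε (O := shX Z) B).app P) := isIso_ε_app (O := shX Z) B P hP
  have hεC : IsIso ((ε (O := shX Z) C).app P) :=
    isIso_ε_app (O := shX Z) C P hP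
  let aA : (DCoh.LTensorCx A).obj N ≅ DerivedCategory.Q.obj ((DCoh.tensorCx.obj P).obj A) :=
    (DCoh.LTensorCx A).mapIso eN.symm ≪≫ @asIso _ _ _ _ ((ε (O := shX Z) A).app P) hεA
  let aB : (DCoh.LTensorCx B).obj N ≅ DerivedCategory.Q.obj ((DCoh.tensorCx.obj P).obj B) :=
    (DCoh.LTensorCx B).mapIso eN.symm ≪≫ @asIso _ _ _ _ ((ε (O := shX Z) B).app P) hεB
  let aC : (DCoh.LTensorCx (CochainComplex.mappingCone f)).obj N ≅
      DerivedCategory.Q.obj ((DCoh.tensorCx.obj P).obj (CochainComplex.mappingCone f)) :=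
    (DCoh.LTensorCx (CochainComplex.mappingCone f)).mapIso eN.symm ≪≫
      @asIso _ _ _ _ ((ε (O := shX Z) C).app P) hεC
  obtain ⟨δ, hδ⟩ := exists_chain_triangle P f
  have c₁ : τ₁.app N ≫ aB.hom = aA.hom ≫
      DerivedCategory.Q.map ((DCoh.tensorCx.obj P).map f) := by
    have h1 : τ₁.app N ≫ (DCoh.LTensorCx B).map eN.inv =
        (DCoh.LTensorCx A).map eN.inv ≫ τ₁.app (DerivedCategory.Q.obj P) :=
      (τ₁.naturality eN.inv).symm
    have h2 : τ₁.app (DerivedCategory.Q.obj P) ≫ (ε (O := shX Z) B).app P =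
        (ε (O := shX Z) A).app P ≫ (τ f).app P :=
      Functor.leftDerivedNatTrans_app (ModSite.LTensorCx (O := shX Z) A)
        (ModSite.LTensorCx (O := shX Z) B) (ε (O := shX Z) A) (ε (O := shX Z) B)
        (HomologicalComplex.quasiIso (ModSite.Mod (shX Z)) (ComplexShape.up ℤ)) (τ f) P
    exact comm_aux h1 h2
  have c₂ : τ₂.app N ≫ aC.hom = aB.hom ≫
      DerivedCategory.Q.map ((DCoh.tensorCx.obj P).map (CochainComplex.mappingCone.inr f)) := by
    have h1 : τ₂.app N ≫ (DCoh.LTensorCx (CochainComplex.mappingCone f)).map eN.inv =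
        (DCoh.LTensorCx B).map eN.inv ≫ τ₂.app (DerivedCategory.Q.obj P) :=
      (τ₂.naturality eN.inv).symm
    have h2 : τ₂.app (DerivedCategory.Q.obj P) ≫ (ε (O := shX Z) C).app P =
        (ε (O := shX Z) B).app P ≫ (τ inrf).app P :=
      Functor.leftDerivedNatTrans_app (ModSite.LTensorCx (O := shX Z) B)
        (ModSite.LTensorCx (O := shX Z) C) (ε (O := shX Z) B) (ε (O := shX Z) C)
        (HomologicalComplex.quasiIso (ModSite.Mod (shX Z)) (ComplexShape.up ℤ)) (τ inrf) P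
    exact comm_aux h1 h2
  exact ⟨aC.hom ≫ δ ≫ aA.inv⟦(1 : ℤ)⟧', iso_aux _ _ δ hδ (τ₁.app N) (τ₂.app N) aA aB aC c₁ c₂⟩

end Groth.Agent.H56.PC2
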