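import Groth.Agent.H56.PCohMore
import Groth.Agent.H56.DerCat

set_option autoImplicit false
universe u
open CategoryTheory CategoryTheory.Limits Pretriangulated

namespace Groth.Agent.H56

open DerivedCategory DerivedCategory.TStructure DRing
open scoped ZeroObject

attribute [local instance] HasDerivedCategory.standard

variable {R : Type u} [CommRing R]

lemma isPseudoCoherent_single_shift (M : ModuleCat.{u} R) (c m : ℤ)
    (h : IsPseudoCoherent R (m - c) ((singleFunctor (ModuleCat.{u} R) 0).obj M)) :
    IsPseudoCoherent R m ((singleFunctor (ModuleCat.{u} R) c).obj M) := by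
  have e : m - c = -c + m := by ring
  rw [e] at h
  exact isPseudoCoherent_of_iso
    (((singleFunctors (ModuleCat.{u} R)).shiftIso (-c) c 0 (by omega)).app M) m
    (isPseudoCoherent_shift (-c + m) h (-c) m rfl)

lemma isPseudoCoherent_of_homology_aux (m : ℤ) (n : ℕ) :
    ∀ (K : Dual.D R) (c : ℤ), K.IsLE c →
      (∀ i : ℤ, IsPseudoCoherent R (m - i) ((singleFunctor (ModuleCat.{u} R) 0).obj
        ((homologyFunctor (ModuleCat.{u} R) i).obj K))) →
      c < m + n → IsPseudoCoherent R m K := by
  induction n with
  | zero =>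
    intro K c hK _ hc
    exact isPseudoCoherent_of_isLE K m c (by omega) hK
  | succ n ih =>
    intro K c hK hp hc
    have hT := t.triangleLTGE_distinguished c K
    haveI := hK
    haveI : ((t.truncGE c).obj K).IsLE c := inferInstance
    haveI : ((t.truncGE c).obj K).IsGE c := inferInstance
    obtain ⟨e⟩ := nonempty_iso_single ((t.truncGE c).obj K) c
    have hiso := isIso_homologyMap_truncGEπ K c c le_rfl
    have e' : (homologyFunctor (ModuleCat.{u} R) c).obj K ≅
        (homologyFunctor (ModuleCat.{u} R) c).obj ((t.truncGE c).obj K) :=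
      @asIso _ _ _ _ _ hiso
    have h₃ : IsPseudoCoherent R m ((t.truncGE c).obj K) :=
      isPseudoCoherent_of_iso (((singleFunctor (ModuleCat.{u} R) c).mapIso e') ≪≫ e.symm) m
        (isPseudoCoherent_single_shift _ c m (hp c))
    haveI : ((t.truncLT c).obj K).IsLE (c - 1) := inferInstance
    have hp₁ : ∀ i : ℤ, IsPseudoCoherent R (m - i) ((singleFunctor (ModuleCat.{u} R) 0).obj
        ((homologyFunctor (ModuleCat.{u} R) i).obj ((t.truncLT c).obj K))) := by
      intro i
      by_cases hi : i < c
      · have hiso' := isIso_homologyMap_truncLTι K c i hi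
        have e'' : (homologyFunctor (ModuleCat.{u} R) i).obj ((t.truncLT c).obj K) ≅
            (homologyFunctor (ModuleCat.{u} R) i).obj K := @asIso _ _ _ _ _ hiso'
        exact isPseudoCoherent_of_iso
          ((singleFunctor (ModuleCat.{u} R) 0).mapIso e''.symm) _ (hp i)
      · exact isPseudoCoherent_of_isZero ((singleFunctor (ModuleCat.{u} R) 0).map_isZero
          (isZero_of_isLE ((t.truncLT c).obj K) (c - 1) i (by omega))) _
    have h₁ : IsPseudoCoherent R m ((t.truncLT c).obj K) :=
      ih ((t.truncLT c).obj K) (c - 1) inferInstance hp₁ (by push_cast at hc; omega)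
    exact isPseudoCoherent_obj₂ _ hT m h₁ h₃

/-- if `K ∈ D^{≤ c}` and each `H^i(K)` is `(m-i)`-pseudo-coherent, then `K` is
`m`-pseudo-coherent. -/
theorem isPseudoCoherent_of_homology (m : ℤ) (K : Dual.D R) (c : ℤ) (hK : K.IsLE c)
    (hp : ∀ i : ℤ, IsPseudoCoherent R (m - i) ((singleFunctor (ModuleCat.{u} R) 0).obj
      ((homologyFunctor (ModuleCat.{u} R) i).obj K))) :
    IsPseudoCoherent R m K :=
  isPseudoCoherent_of_homology_aux m (c + 1 - m).toNat K c hK hp (by omega)

section Noetherian

variable [IsNoetherianRing R]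

lemma isPseudoCoherent_single_finite_aux (n : ℕ) :
    ∀ (M : ModuleCat.{u} R), Module.Finite R M →
      IsPseudoCoherent R (1 - n) ((singleFunctor (ModuleCat.{u} R) 0).obj M) := by
  induction n with
  | zero =>
    intro M _
    exact isPseudoCoherent_of_isLE _ _ 0 (by omega) inferInstance
  | succ n ih =>
    intro M hfin
    obtain ⟨k, f, hf⟩ := Module.Finite.exists_fin' R M
    obtain ⟨F, hFfin, hFfree, π, hπ⟩ : ∃ (F : ModuleCat.{u} R) (_ : Module.Finite R F)
        (_ : Module.Free R F) (π : F ⟶ M), Epi π :=
      ⟨ModuleCat.of R (Fin k → R), inferInstance, inferInstance, ModuleCat.ofHom f,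
        (ModuleCat.epi_iff_surjective _).2 hf⟩
    haveI := hπ
    have hNfin : Module.Finite R (kernel π : ModuleCat.{u} R) :=
      Module.Finite.of_injective (kernel.ι π).hom
        ((ModuleCat.mono_iff_injective _).1 inferInstance)
    have hS : (ShortComplex.mk (kernel.ι π) π (kernel.condition π)).ShortExact :=
      { exact := ShortComplex.exact_kernel π
        mono_f := by dsimp; infer_instance
        epi_g := hπ }
    have e : (1 - ((n + 1 : ℕ) : ℤ)) + 1 = 1 - n := by push_cast; ring
    have h₁ : IsPseudoCoherent R ((1 - ((n + 1 : ℕ) : ℤ)) + 1) hS.singleTriangle.obj₁ := by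
      rw [e]; exact ih _ hNfin
    exact isPseudoCoherent_obj₃ hS.singleTriangle hS.singleTriangle_distinguished _ h₁
      (isPseudoCoherent_single_free 0 F hFfin hFfree _)

/-- over a noetherian ring, a finite module is pseudo-coherent. -/
lemma isPseudoCoherent_single_finite (M : ModuleCat.{u} R) (hfin : Module.Finite R M) (m : ℤ) :
    IsPseudoCoherent R m ((singleFunctor (ModuleCat.{u} R) 0).obj M) := by
  by_cases hm : 1 ≤ m
  · exact isPseudoCoherent_of_isLE _ _ 0 (by omega) inferInstance
  · have := isPseudoCoherent_single_finite_aux (1 - m).toNat M hfin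
    have e : 1 - (((1 - m).toNat : ℕ) : ℤ) = m := by omega
    rw [e] at this
    exact this

lemma finite_homology_Q_obj (E : Cx R) (hf : TermwiseFiniteFree E) (i : ℤ) :
    Module.Finite R ((homologyFunctor (ModuleCat.{u} R) i).obj (Q.obj E)) := by
  haveI := (hf i).1
  haveI h1 : Module.Finite R (E.cycles i) :=
    Module.Finite.of_injective (E.iCycles i).hom
      ((ModuleCat.mono_iff_injective _).1 inferInstance)
  haveI h2 : Module.Finite R (E.homology i) :=
    Module.Finite.of_surjective (E.homologyπ i).hom
      ((ModuleCat.epi_iff_surjective _).1 inferInstance)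
  haveI h3 : Module.Finite R ((HomologicalComplex.homologyFunctor (ModuleCat.{u} R)
      (ComplexShape.up ℤ) i).obj E) := h2
  exact Module.Finite.equiv
    ((homologyFunctorFactors (ModuleCat.{u} R) i).app E).toLinearEquiv.symm

lemma finite_homology_of_isPseudoCoherent {K : Dual.D R} {m : ℤ} (h : IsPseudoCoherent R m K)
    (i : ℤ) (hi : m ≤ i) :
    Module.Finite R ((homologyFunctor (ModuleCat.{u} R) i).obj K) := by
  obtain ⟨E, a, b, α, hv, hf, hiso, hepi⟩ := h
  haveI := finite_homology_Q_obj E hf i
  have hepi' : Epi ((homologyFunctor (ModuleCat.{u} R) i).map α) := by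
    by_cases h : i = m
    · rw [h]; exact hepi
    · haveI := hiso i (by omega)
      infer_instance
  exact Module.Finite.of_surjective ((homologyFunctor (ModuleCat.{u} R) i).map α).hom
    ((ModuleCat.epi_iff_surjective _).1 hepi')

theorem isPseudoCoherent_iff_of_noetherian (m : ℤ) (K : Dual.D R) :
    IsPseudoCoherent R m K ↔ (∃ c : ℤ, K.IsLE c) ∧
      ∀ i : ℤ, m ≤ i → Module.Finite R ((homologyFunctor (ModuleCat.{u} R) i).obj K) := by
  constructor
  · intro h
    exact ⟨exists_isLE_of_isPseudoCoherent h, finite_homology_of_isPseudoCoherent h⟩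
  · rintro ⟨⟨c, hc⟩, hfin⟩
    apply isPseudoCoherent_of_homology m K c hc
    intro i
    by_cases hi : m ≤ i
    · exact isPseudoCoherent_single_finite _ (hfin i hi) _
    · exact isPseudoCoherent_of_isLE _ _ 0 (by omega) inferInstance

end Noetherian

end Groth.Agent.H56
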