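import Groth.Agent.H56.PCohStep
import Mathlib.CategoryTheory.Functor.OfSequence
import Mathlib.CategoryTheory.Limits.Constructions.EventuallyConstant
import Mathlib.Algebra.Homology.HomologicalComplexLimits
import Mathlib.Algebra.Category.ModuleCat.Colimits

set_option autoImplicit false
universe u
open CategoryTheory CategoryTheory.Limits Pretriangulated

namespace Groth.Agent.H56

open DerivedCategory DerivedCategory.TStructure DRing
open scoped ZeroObject

attribute [local instance] HasDerivedCategory.standard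

variable {R : Type u} [CommRing R]

lemma quasiIsoAt_iff_isIso_homologyFunctor_map_Q {E₁ E₂ : Cx R} (φ : E₁ ⟶ E₂) (i : ℤ) :
    QuasiIsoAt φ i ↔ IsIso ((homologyFunctor (ModuleCat.{u} R) i).map (Q.map φ)) := by
  rw [quasiIsoAt_iff_isIso_homologyMap]
  exact (NatIso.isIso_map_iff (homologyFunctorFactors (ModuleCat.{u} R) i) φ).symm

lemma quasiIsoAt_of_isIso_f {E₁ E₂ : Cx R} (φ : E₁ ⟶ E₂) (i : ℤ)
    (h₁ : IsIso (φ.f (i - 1))) (h₂ : IsIso (φ.f i)) (h₃ : IsIso (φ.f (i + 1))) :
    QuasiIsoAt φ i := by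
  rw [quasiIsoAt_iff' φ (i - 1) i (i + 1) (by simp) (by simp)]
  have : IsIso ((HomologicalComplex.shortComplexFunctor' (ModuleCat.{u} R) (ComplexShape.up ℤ)
      (i - 1) i (i + 1)).map φ) := by
    have : IsIso ((HomologicalComplex.shortComplexFunctor' (ModuleCat.{u} R)
      (ComplexShape.up ℤ) (i - 1) i (i + 1)).map φ).τ₁ := h₁
    have : IsIso ((HomologicalComplex.shortComplexFunctor' (ModuleCat.{u} R)
      (ComplexShape.up ℤ) (i - 1) i (i + 1)).map φ).τ₂ := h₂
    have : IsIso ((HomologicalComplex.shortComplexFunctor' (ModuleCat.{u} R)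
      (ComplexShape.up ℤ) (i - 1) i (i + 1)).map φ).τ₃ := h₃
    exact ShortComplex.isIso_of_isIso _
  infer_instance

/-- the data of an approximation of `L` by a bounded complex of finite free modules. -/
structure ApproxData (L : Cx R) (b : ℤ) (n : ℕ) where
  P : Cx R
  a : P ⟶ L
  van : VanishesOutside P (b + 1 - n) b
  ff : TermwiseFiniteFree P
  hiso : ∀ i : ℤ, b + 1 - n < i →
    IsIso ((homologyFunctor (ModuleCat.{u} R) i).map (Q.map a))
  hepi : Epi ((homologyFunctor (ModuleCat.{u} R) (b + 1 - n)).map (Q.map a))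

lemma approx_step (L : Cx R) (hL : ∀ m' : ℤ, IsPseudoCoherent R m' (Q.obj L)) (b : ℤ) (n : ℕ)
    (D : ApproxData L b n) :
    ∃ (D' : ApproxData L b (n + 1)) (ι : D.P ⟶ D'.P), ι ≫ D'.a = D.a ∧
      ∀ i : ℤ, b + 1 - n ≤ i → IsIso (ι.f i) := by
  obtain ⟨P', ι, a', h1, h2, h3, h4, h5, h6⟩ :=
    pc_step L hL (b + 1 - n) b (by omega) D.P D.a D.van D.ff D.hiso D.hepi
  have e : b + 1 - ((n + 1 : ℕ) : ℤ) = b + 1 - n - 1 := by push_cast; ring
  exact ⟨⟨P', a', by rw [e]; exact h2, h3, by rw [e]; exact h5, by rw [e]; exact h6⟩,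
    ι, h1, h4⟩

section Seq

variable (L : Cx R) (hL : ∀ m' : ℤ, IsPseudoCoherent R m' (Q.obj L)) (b : ℤ)
  (D0 : ApproxData L b 0)

noncomputable def approxSeq (n : ℕ) : ApproxData L b n :=
  Nat.rec (motive := fun n => ApproxData L b n) D0
    (fun n D => (approx_step L hL b n D).choose) n

noncomputable def approxι (n : ℕ) :
    (approxSeq L hL b D0 n).P ⟶ (approxSeq L hL b D0 (n + 1)).P :=
  (approx_step L hL b n (approxSeq L hL b D0 n)).choose_spec.choose

lemma approxι_comp (n : ℕ) :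
    approxι L hL b D0 n ≫ (approxSeq L hL b D0 (n + 1)).a = (approxSeq L hL b D0 n).a :=
  (approx_step L hL b n (approxSeq L hL b D0 n)).choose_spec.choose_spec.1

lemma approxι_isIso (n : ℕ) (i : ℤ) (hi : b + 1 - n ≤ i) :
    IsIso ((approxι L hL b D0 n).f i) :=
  (approx_step L hL b n (approxSeq L hL b D0 n)).choose_spec.choose_spec.2 i hi

noncomputable def approxF : ℕ ⥤ Cx R :=
  Functor.ofSequence (X := fun n => (approxSeq L hL b D0 n).P) (approxι L hL b D0)

lemma approxF_map_succ (n : ℕ) :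
    (approxF L hL b D0).map (homOfLE (Nat.le_add_right n 1)) = approxι L hL b D0 n :=
  Functor.ofSequence_map_homOfLE_succ _ n

lemma isIso_approxF_map_f (n₀ : ℕ) (i : ℤ) (hi : b + 1 - n₀ ≤ i) (j : ℕ) (hj : n₀ ≤ j) :
    IsIso (((approxF L hL b D0).map (homOfLE hj)).f i) := by
  induction j, hj using Nat.le_induction with
  | base =>
    have h : (homOfLE (le_refl n₀)) = 𝟙 n₀ := Subsingleton.elim _ _
    rw [h, CategoryTheory.Functor.map_id, HomologicalComplex.id_f]
    infer_instance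
  | succ j hj ih =>
    have h : homOfLE (hj.trans (Nat.le_succ j)) =
        homOfLE hj ≫ homOfLE (Nat.le_add_right j 1) := Subsingleton.elim _ _
    rw [h, Functor.map_comp, HomologicalComplex.comp_f, approxF_map_succ]
    exact IsIso.comp_isIso' ih (approxι_isIso L hL b D0 j i (by omega))

lemma approxF_eventuallyConst (n₀ : ℕ) (i : ℤ) (hi : b + 1 - n₀ ≤ i) :
    (approxF L hL b D0 ⋙ HomologicalComplex.eval (ModuleCat.{u} R)
      (ComplexShape.up ℤ) i).IsEventuallyConstantFrom n₀ := by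
  intro j f
  have h := isIso_approxF_map_f L hL b D0 n₀ i hi j (leOfHom f)
  rw [← Subsingleton.elim f (homOfLE (leOfHom f))] at h
  exact h

noncomputable def approxCocone : Cocone (approxF L hL b D0) where
  pt := L
  ι := NatTrans.ofSequence (fun n => (approxSeq L hL b D0 n).a) (by
    intro n
    rw [approxF_map_succ]
    exact (approxι_comp L hL b D0 n).trans (Category.comp_id _).symm)

noncomputable def approxE : Cx R := colimit (approxF L hL b D0)

noncomputable def approxA : approxE L hL b D0 ⟶ L :=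
  colimit.desc _ (approxCocone L hL b D0)

lemma approx_ι_desc (n : ℕ) :
    colimit.ι (approxF L hL b D0) n ≫ approxA L hL b D0 = (approxSeq L hL b D0 n).a :=
  colimit.ι_desc _ _

lemma isIso_colimit_ι_f (n₀ : ℕ) (i : ℤ) (hi : b + 1 - n₀ ≤ i) :
    IsIso ((colimit.ι (approxF L hL b D0) n₀).f i) :=
  (approxF_eventuallyConst L hL b D0 n₀ i hi).isIso_ι_of_isColimit
    (isColimitOfPreserves (HomologicalComplex.eval (ModuleCat.{u} R) (ComplexShape.up ℤ) i)
      (colimit.isColimit (approxF L hL b D0)))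

lemma approxE_vanishesAbove : VanishesAbove (approxE L hL b D0) b := by
  intro i hi
  have h := isIso_colimit_ι_f L hL b D0 0 i (by omega)
  have e : (approxSeq L hL b D0 0).P.X i ≅ (approxE L hL b D0).X i := @asIso _ _ _ _ _ h
  exact IsZero.of_iso ((approxSeq L hL b D0 0).van i (Or.inr hi)) e.symm

lemma approxE_ff : TermwiseFiniteFree (approxE L hL b D0) := by
  intro i
  obtain ⟨n₀, hn₀⟩ : ∃ n₀ : ℕ, b + 1 - n₀ ≤ i := ⟨(b + 1 - i).toNat, by omega⟩
  have h := isIso_colimit_ι_f L hL b D0 n₀ i hn₀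
  have e : (approxSeq L hL b D0 n₀).P.X i ≅ (approxE L hL b D0).X i := @asIso _ _ _ _ _ h
  have := ((approxSeq L hL b D0 n₀).ff i).1
  have := ((approxSeq L hL b D0 n₀).ff i).2
  exact ⟨Module.Finite.equiv e.toLinearEquiv, Module.Free.of_equiv e.toLinearEquiv⟩

lemma approxA_quasiIso : QuasiIso (approxA L hL b D0) := by
  rw [quasiIso_iff]
  intro i
  obtain ⟨n₀, hn₀⟩ : ∃ n₀ : ℕ, b + 1 - n₀ ≤ i - 1 := ⟨(b + 2 - i).toNat, by omega⟩
  have h1 : QuasiIsoAt (colimit.ι (approxF L hL b D0) n₀) i :=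
    quasiIsoAt_of_isIso_f _ i (isIso_colimit_ι_f L hL b D0 n₀ (i - 1) hn₀)
      (isIso_colimit_ι_f L hL b D0 n₀ i (by omega))
      (isIso_colimit_ι_f L hL b D0 n₀ (i + 1) (by omega))
  have h2 : QuasiIsoAt (colimit.ι (approxF L hL b D0) n₀ ≫ approxA L hL b D0) i := by
    rw [approx_ι_desc, quasiIsoAt_iff_isIso_homologyFunctor_map_Q]
    exact (approxSeq L hL b D0 n₀).hiso i (by omega)
  exact quasiIsoAt_of_comp_left (colimit.ι (approxF L hL b D0) n₀) (approxA L hL b D0) i

end Seq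

/-- an object which is `m`-pseudo-coherent for all `m` is pseudo-coherent. -/
theorem isPseudoCoherent'_of_forall_isPseudoCoherent (K : Dual.D R)
    (hK : ∀ m : ℤ, IsPseudoCoherent R m K) : IsPseudoCoherent' R K := by
  obtain ⟨L, ⟨e⟩⟩ : ∃ L : Cx R, Nonempty (Q.obj L ≅ K) := ⟨_, ⟨Q.objObjPreimageIso K⟩⟩
  have hL : ∀ m' : ℤ, IsPseudoCoherent R m' (Q.obj L) := fun m' =>
    isPseudoCoherent_of_iso e.symm m' (hK m')
  -- vanishing of cohomology above b
  obtain ⟨b, hb⟩ : ∃ b : ℤ, ∀ i : ℤ, b < i →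
      IsZero ((homologyFunctor (ModuleCat.{u} R) i).obj (Q.obj L)) := by
    obtain ⟨E, a₀, b₀, α, hv, hf, hiso, hepi⟩ := hL 0
    obtain ⟨b, hb1, hb2⟩ : ∃ b : ℤ, b₀ ≤ b ∧ 0 ≤ b :=
      ⟨max b₀ 0, le_max_left _ _, le_max_right _ _⟩
    refine ⟨b, fun i hi => ?_⟩
    have : E.IsStrictlyLE b₀ := by
      rw [CochainComplex.isStrictlyLE_iff]
      exact fun j hj => hv j (Or.inr hj)
    have : (Q.obj E).IsLE b₀ := inferInstance
    have := hiso i (by omega)
    exact IsZero.of_iso (isZero_of_isLE (Q.obj E) b₀ i (by omega))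
      (asIso ((homologyFunctor (ModuleCat.{u} R) i).map α)).symm
  -- the initial data
  have hz : IsZero (0 : Cx R) := isZero_zero _
  obtain ⟨D0⟩ : Nonempty (ApproxData L b 0) := ⟨
    { P := 0
      a := 0
      van := fun i _ => (HomologicalComplex.eval _ _ i).map_isZero hz
      ff := fun i => by
        have : Subsingleton ((0 : Cx R).X i) :=
          ModuleCat.subsingleton_of_isZero ((HomologicalComplex.eval _ _ i).map_isZero hz)
        exact ⟨inferInstance, inferInstance⟩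
      hiso := fun i hi => by
        have h1 : IsZero ((homologyFunctor (ModuleCat.{u} R) i).obj (Q.obj (0 : Cx R))) :=
          (homologyFunctor (ModuleCat.{u} R) i).map_isZero (Q.map_isZero hz)
        have h2 := hb i (by omega)
        exact ⟨⟨0, h1.eq_of_src _ _, h2.eq_of_src _ _⟩⟩
      hepi := ⟨fun _ _ _ => (hb (b + 1 - ((0 : ℕ) : ℤ)) (by omega)).eq_of_src _ _⟩ }⟩
  refine ⟨approxE L hL b D0, b, approxE_vanishesAbove L hL b D0, approxE_ff L hL b D0, ?_⟩
  have : IsIso (Q.map (approxA L hL b D0)) := by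
    rw [isIso_Q_map_iff_quasiIso]
    exact approxA_quasiIso L hL b D0
  exact ⟨asIso (Q.map (approxA L hL b D0)) ≪≫ e⟩

end Groth.Agent.H56
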