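import Groth.Agent.H31.PC1
import Groth.Agent.H56.PC2
import Groth.Agent.H6.PC3
import Groth.Agent.H45.PC4
import Groth.Agent.H28.PC5
import Groth.Agent.H56.PerfDual
import Groth.Agent.S6515
import Groth.Agent.H90.QCohHom
import Groth.Agent.H31.LocalD

/-!
# `RHom(F, G)` for `F` pseudo-coherent and `G` bounded below with quasi-coherent cohomology
(helper56 library; squad lemmas `Groth.Agent.PC.*`)

* `transpose_comp_conj`, `bijective_of_conj`, `injective_of_conj` : post-composition with a conjugate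
  (mate) natural transformation corresponds to pre-composition with the original one;
* `isIso_HD_conj` : for a chain map `f : A ⟶ B` whose cone `C` satisfies a bound
  `N ∈ D^{≤k} ⇒ N ⊗^L C ∈ D^{≤k+e}`, and `M ∈ D^{≥a}` : `H^j RHom(B, M) ≅ H^j RHom(A, M)` for
  `j + e + 1 < a`;
* `isQCoh_HD_RSheafHom` : the local statement.
-/

set_option autoImplicit false
universe u
open CategoryTheory CategoryTheory.Limits AlgebraicGeometry HomologicalComplex
open CategoryTheory.Pretriangulated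
attribute [local instance] HasDerivedCategory.standard

namespace Groth.Agent.H56.PCohRHom

section Abstract

variable {𝒞 : Type*} [Category 𝒞] {LA LB RA RB : 𝒞 ⥤ 𝒞}

theorem transpose_comp_conj (adjA : LA ⊣ RA) (adjB : LB ⊣ RB) (τ : LA ⟶ LB) {N M : 𝒞}
    (g : N ⟶ RB.obj M) :
    (adjA.homEquiv N M).symm (g ≫ (conjugateEquiv adjB adjA τ).app M) =
      τ.app N ≫ (adjB.homEquiv N M).symm g := by
  rw [Adjunction.homEquiv_counit, Adjunction.homEquiv_counit, Functor.map_comp, Category.assoc,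
    conjugateEquiv_counit, ← Category.assoc, τ.naturality, Category.assoc]

theorem conj_fun_eq (adjA : LA ⊣ RA) (adjB : LB ⊣ RB) (τ : LA ⟶ LB) (N M : 𝒞) :
    (fun g : N ⟶ RB.obj M => g ≫ (conjugateEquiv adjB adjA τ).app M) =
      (adjA.homEquiv N M) ∘ (fun h : LB.obj N ⟶ M => τ.app N ≫ h) ∘ (adjB.homEquiv N M).symm := by
  funext g
  show _ = (adjA.homEquiv N M) (τ.app N ≫ (adjB.homEquiv N M).symm g)
  rw [← transpose_comp_conj, Equiv.apply_symm_apply]

theorem injective_of_conj (adjA : LA ⊣ RA) (adjB : LB ⊣ RB) (τ : LA ⟶ LB) (N M : 𝒞)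
    (h : Function.Injective (fun h : LB.obj N ⟶ M => τ.app N ≫ h)) :
    Function.Injective (fun g : N ⟶ RB.obj M => g ≫ (conjugateEquiv adjB adjA τ).app M) := by
  rw [conj_fun_eq]
  exact (adjA.homEquiv N M).injective.comp (h.comp (adjB.homEquiv N M).symm.injective)

theorem bijective_of_conj (adjA : LA ⊣ RA) (adjB : LB ⊣ RB) (τ : LA ⟶ LB) (N M : 𝒞)
    (h : Function.Bijective (fun h : LB.obj N ⟶ M => τ.app N ≫ h)) :
    Function.Bijective (fun g : N ⟶ RB.obj M => g ≫ (conjugateEquiv adjB adjA τ).app M) := by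
  rw [conj_fun_eq]
  exact (adjA.homEquiv N M).bijective.comp (h.comp (adjB.homEquiv N M).symm.bijective)

end Abstract

variable {Z : Scheme.{u}}

theorem isIso_HD_conj {A B : CochainComplex Z.Modules ℤ} (f : A ⟶ B)
    [DCoh.HasLTensorCx A] [DCoh.HasLTensorCx B] [DCoh.HasLTensorCx (CochainComplex.mappingCone f)]
    [DCoh.HasRSheafHom A] [DCoh.HasRSheafHom B] (e : ℤ)
    (he : ∀ (N : DCoh.D Z) (k : ℤ), N.IsLE k →
      ((DCoh.LTensorCx (CochainComplex.mappingCone f)).obj N).IsLE (k + e))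
    (M : DCoh.D Z) (a : ℤ) [M.IsGE a] (j : ℤ) (hj : j + e + 1 < a) :
    Nonempty (DCoh.HD ((DCoh.RSheafHom B).obj M) j ≅ DCoh.HD ((DCoh.RSheafHom A).obj M) j) := by
  obtain ⟨τ₁, τ₂, hτ⟩ := Groth.Agent.H56.PC2.exists_tensor_triangle f
  have key_inj : ∀ (N : DCoh.D Z) (k : ℤ), N.IsLE k → k + e < a →
      Function.Injective (fun h : (DCoh.LTensorCx B).obj N ⟶ M => τ₁.app N ≫ h) := by
    intro N k hN hk h₁ h₂ h12
    obtain ⟨δ, hT⟩ := hτ N
    have h12' : τ₁.app N ≫ h₁ = τ₁.app N ≫ h₂ := h12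
    have h0 : (Triangle.mk (τ₁.app N) (τ₂.app N) δ).mor₁ ≫ (h₁ - h₂) = 0 := by
      show τ₁.app N ≫ (h₁ - h₂) = 0
      rw [Preadditive.comp_sub, h12', sub_self]
    obtain ⟨g, hg⟩ := Triangle.yoneda_exact₂ _ hT (h₁ - h₂) h0
    haveI : DerivedCategory.TStructure.t.IsLE (Triangle.mk (τ₁.app N) (τ₂.app N) δ).obj₃ (k + e) :=
      he N k hN
    have hg0 : g = 0 := DerivedCategory.TStructure.t.zero g (k + e) a hk
    rw [hg0, comp_zero] at hg
    exact sub_eq_zero.1 hg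
  have key_surj : ∀ (N : DCoh.D Z) (k : ℤ), N.IsLE k → k + e + 1 < a →
      Function.Surjective (fun h : (DCoh.LTensorCx B).obj N ⟶ M => τ₁.app N ≫ h) := by
    intro N k hN hk h₀
    obtain ⟨δ, hT⟩ := hτ N
    have hT' := inv_rot_of_distTriang _ hT
    haveI := he N k hN
    haveI hsh : DerivedCategory.TStructure.t.IsLE
        (((DCoh.LTensorCx (CochainComplex.mappingCone f)).obj N)⟦(-1 : ℤ)⟧) (k + e + 1) :=
      DerivedCategory.TStructure.t.isLE_shift _ (k + e) (-1) (k + e + 1) (by omega)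
    haveI : DerivedCategory.TStructure.t.IsLE
        (Triangle.mk (τ₁.app N) (τ₂.app N) δ).invRotate.obj₁ (k + e + 1) := hsh
    have h0 : (Triangle.mk (τ₁.app N) (τ₂.app N) δ).invRotate.mor₁ ≫ h₀ = 0 :=
      DerivedCategory.TStructure.t.zero _ (k + e + 1) a hk
    obtain ⟨g, hg⟩ := Triangle.yoneda_exact₂ _ hT' h₀ h0
    exact ⟨g, hg.symm⟩
  let adjA := DCoh.RSheafHomAdj A
  let adjB := DCoh.RSheafHomAdj B
  have hP4 := Groth.Agent.PC.isIso_homology_map_of_bijective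
    ((conjugateEquiv adjB adjA τ₁).app M) j
    (fun N hN => bijective_of_conj adjA adjB τ₁ N M
      ⟨key_inj N j hN (by omega), key_surj N j hN (by omega)⟩)
    (fun N hN => injective_of_conj adjA adjB τ₁ N M (key_inj N (j + 1) hN (by omega)))
    j le_rfl
  exact ⟨asIso ((DerivedCategory.homologyFunctor Z.Modules j).map
    ((conjugateEquiv adjB adjA τ₁).app M))⟩

/-- Restriction to an open preserves `IsGE`. -/
theorem isGE_restrictD {X : Scheme.{u}} (V : X.Opens) (G : DCoh.D X) (a : ℤ) [G.IsGE a] :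
    ((DCoh.restrictD V.ι).obj G).IsGE a := by
  haveI : PreservesFiniteLimits (Scheme.Modules.restrictFunctor V.ι) := inferInstance
  rw [DerivedCategory.isGE_iff]
  intro i hi
  have h1 : IsZero (DCoh.HD G i) := (DerivedCategory.isGE_iff G a).1 inferInstance i hi
  exact IsZero.of_iso ((Scheme.Modules.restrictFunctor V.ι).map_isZero h1)
    (Groth.Agent.H31.LocalD.HDRestrictIso V G i)

/-- Variant of `PerfDual.exists_derived_dual` remembering bounds and freeness of the dual. -/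
theorem exists_derived_dual' (P : CochainComplex Z.Modules ℤ) (a b : ℤ)
    (hP : DCoh.VanishesOutside P a b)
    (hfree : ∀ i : ℤ, ∃ n : ℕ, Nonempty (P.X i ≅ FlatMod.freeMod Z n)) [DCoh.HasLTensorCx P] :
    ∃ (D : CochainComplex Z.Modules ℤ) (_ : DCoh.HasLTensorCx D),
      DCoh.VanishesOutside D (-b) (-a) ∧
      (∀ i : ℤ, ∃ n : ℕ, Nonempty (D.X i ≅ FlatMod.freeMod Z n)) ∧
      Nonempty (DCoh.LTensorCx P ⊣ DCoh.LTensorCx D) := by
  obtain ⟨D, hDab, hDfree, ⟨adjC⟩⟩ := Groth.Agent.H56.PerfDual.exists_dual_adj P a b hP hfree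
  have hPsp := Groth.Agent.H56.PerfDual.isStrictlyPerfect_of_free P a b hP hfree
  have hDsp := Groth.Agent.H56.PerfDual.isStrictlyPerfect_of_free D (-b) (-a) hDab hDfree
  have iD : DCoh.HasLTensorCx D := Groth.Agent.H6.TensorQCoh.hasLTensorCx D
  exact ⟨D, iD, hDab, hDfree, ⟨Groth.Agent.H56.PerfDual.derivedAdj P D
    (Groth.Agent.H28.LpullLoc.isKFlat_of_isStrictlyPerfect hPsp)
    (Groth.Agent.H28.LpullLoc.isKFlat_of_isStrictlyPerfect hDsp) adjC⟩⟩

/-- The local model: near every point, `H^j RHom(F, G)` restricted to a neighbourhood `V` is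
`H^j (G|_V ⊗^L D)` for a bounded complex `D` of finite free modules on `V`, when `F` is
`m`-pseudo-coherent, `G ∈ D^{≥ a}` and `j + e + 1 < a` (`e` a bound for tensoring with complexes
acyclic in degrees `≥ m`). -/
theorem exists_local_model {X : Scheme.{u}} (F : CochainComplex X.Modules ℤ)
    [DCoh.HasLTensorCx F] [DCoh.HasRSheafHom F] (m : ℤ)
    (hF : DCoh.IsPseudoCoherentD m (DCoh.toD X F)) (G : DCoh.D X) (a : ℤ)
    [G.IsGE a] (e : ℤ)
    (hb : ∀ (Z : Scheme.{u}) (C : CochainComplex Z.Modules ℤ) [DCoh.HasLTensorCx C] (N : DCoh.D Z)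
      (k : ℤ), (∀ i : ℤ, m ≤ i → IsZero (C.homology i)) → N.IsLE k →
      ((DCoh.LTensorCx C).obj N).IsLE (k + e))
    (j : ℤ) (hj : j + e + 1 < a) (x : X) :
    ∃ (V : X.Opens), x ∈ V ∧ ∃ (D : CochainComplex (V : Scheme.{u}).Modules ℤ) (a' b' : ℤ)
      (_ : DCoh.HasLTensorCx D), DCoh.VanishesOutside D a' b' ∧
      (∀ i : ℤ, ∃ n : ℕ, Nonempty (D.X i ≅ FlatMod.freeMod (V : Scheme.{u}) n)) ∧
      Nonempty ((DCoh.HD ((DCoh.RSheafHom F).obj G) j).restrict V.ι ≅
        DCoh.HD ((DCoh.LTensorCx D).obj ((DCoh.restrictD V.ι).obj G)) j) := by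
  obtain ⟨V, hxV, E', P, a', b', f, ⟨eEP⟩, hPab, hPfree, hCf⟩ :=
    Groth.Agent.PC.exists_pc_chain_presentation F m hF x
  refine ⟨V, hxV, ?_⟩
  haveI : PreservesFiniteLimits (Scheme.Modules.restrictFunctor V.ι) := inferInstance
  let FV := (DCoh.restrictCx V).obj F
  haveI iFV : DCoh.HasLTensorCx FV := Groth.Agent.H6.TensorQCoh.hasLTensorCx FV
  haveI iE' : DCoh.HasLTensorCx E' := Groth.Agent.H6.TensorQCoh.hasLTensorCx E'
  haveI iP : DCoh.HasLTensorCx P := Groth.Agent.H6.TensorQCoh.hasLTensorCx P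
  haveI iC : DCoh.HasLTensorCx (CochainComplex.mappingCone f) :=
    Groth.Agent.H6.TensorQCoh.hasLTensorCx _
  haveI iRFV : DCoh.HasRSheafHom FV := Groth.Agent.PC.hasRSheafHom_restrict V F
  obtain ⟨D, iD, hDab, hDfree, ⟨adjP⟩⟩ := exists_derived_dual' P a' b' hPab hPfree
  obtain ⟨φ⟩ := Groth.Agent.H6.TensorQCoh.nonempty_LTensorCx_iso E' P eEP
  let adjE' : DCoh.LTensorCx E' ⊣ DCoh.LTensorCx D := adjP.ofNatIsoLeft φ.symm
  haveI iRE' : DCoh.HasRSheafHom E' := ⟨⟨DCoh.LTensorCx D, ⟨adjE'⟩⟩⟩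
  let u : DCoh.RSheafHom E' ≅ DCoh.LTensorCx D := (DCoh.RSheafHomAdj E').rightAdjointUniq adjE'
  obtain ⟨r⟩ := Groth.Agent.S6515.result V F G
  let GV := (DCoh.restrictD V.ι).obj G
  haveI : GV.IsGE a := isGE_restrictD V G a
  obtain ⟨c⟩ := isIso_HD_conj f e (fun N k hN => hb _ _ N k hCf hN) GV a j hj
  exact ⟨D, -b', -a', iD, hDab, hDfree,
    ⟨(Groth.Agent.H31.LocalD.HDRestrictIso V ((DCoh.RSheafHom F).obj G) j).symm ≪≫
      (DerivedCategory.homologyFunctor _ j).mapIso r ≪≫ c ≪≫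
      (DerivedCategory.homologyFunctor _ j).mapIso (u.app GV)⟩⟩

/-- Restriction to an open preserves `D_QCoh`. -/
theorem isQCohD_restrictD {X : Scheme.{u}} (V : X.Opens) (G : DCoh.D X) (hG : DCoh.IsQCohD G) :
    DCoh.IsQCohD ((DCoh.restrictD V.ι).obj G) := by
  haveI : PreservesFiniteLimits (Scheme.Modules.restrictFunctor V.ι) := inferInstance
  intro i
  haveI h1 : (DCoh.HD G i).IsQuasicoherent := hG i
  have h2 : ((Scheme.Modules.restrictFunctor V.ι).obj (DCoh.HD G i)).IsQuasicoherent :=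
    Scheme.Modules.isQuasicoherent_restrictFunctor V.ι (DCoh.HD G i)
  exact Groth.Agent.H6.LpullQCoh.qc_of_iso
    (Groth.Agent.H31.LocalD.HDRestrictIso V G i).symm h2

/-- The local statement: `H^j RHom(F, G)` is quasi-coherent for `F` `m`-pseudo-coherent,
`G ∈ D^{≥ a}_QCoh` and `j + e + 1 < a`. -/
theorem isQCoh_HD_RSheafHom {X : Scheme.{u}} (F : CochainComplex X.Modules ℤ)
    [DCoh.HasLTensorCx F] [DCoh.HasRSheafHom F] (m : ℤ)
    (hF : DCoh.IsPseudoCoherentD m (DCoh.toD X F)) (G : DCoh.D X) (hG : DCoh.IsQCohD G) (a : ℤ)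
    [G.IsGE a] (e : ℤ)
    (hb : ∀ (Z : Scheme.{u}) (C : CochainComplex Z.Modules ℤ) [DCoh.HasLTensorCx C] (N : DCoh.D Z)
      (k : ℤ), (∀ i : ℤ, m ≤ i → IsZero (C.homology i)) → N.IsLE k →
      ((DCoh.LTensorCx C).obj N).IsLE (k + e))
    (j : ℤ) (hj : j + e + 1 < a) :
    Coh.IsQCoh (DCoh.HD ((DCoh.RSheafHom F).obj G) j) := by
  refine Groth.Agent.H90.QH.isQCoh_of_locally _ (fun x => ?_)
  obtain ⟨V, hxV, D, a', b', iD, hDab, hDfree, ⟨c⟩⟩ :=
    exists_local_model F m hF G a e hb j hj x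
  refine ⟨V, hxV, ?_⟩
  have hDsp := Groth.Agent.H56.PerfDual.isStrictlyPerfect_of_free D a' b' hDab hDfree
  have hDq : DCoh.IsQCohD (DCoh.toD (V : Scheme.{u}) D) :=
    (Groth.Agent.H6.TensorQCoh.qc_iff D).1
      (fun i => Groth.Agent.H90.QH.isQCoh_homology_of_isStrictlyPerfect hDsp i)
  have hq : DCoh.IsQCohD ((DCoh.LTensorCx D).obj ((DCoh.restrictD V.ι).obj G)) :=
    Groth.Agent.H6.TensorQCoh.isQCohD_LTensorCx D hDq _ (isQCohD_restrictD V G hG)
  exact Groth.Agent.H6.LpullQCoh.qc_of_iso c.symm (hq j)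

/-- The (lossy) bound from `Groth.Agent.PC.isLE_LTensorCx`. -/
theorem bound_lossy (m : ℤ) (Z : Scheme.{u}) (C : CochainComplex Z.Modules ℤ) [DCoh.HasLTensorCx C]
    (N : DCoh.D Z) (k : ℤ) (hC : ∀ i : ℤ, m ≤ i → IsZero (C.homology i)) (hN : N.IsLE k) :
    ((DCoh.LTensorCx C).obj N).IsLE (k + m) := by
  haveI := hN
  have h := Groth.Agent.PC.isLE_LTensorCx C (m - 1) (fun i hi => hC i (by omega)) N k
  have e : k + (m - 1) + 1 = k + m := by ring
  rwa [e] at h

end Groth.Agent.H56.PCohRHom
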