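import Groth.Agent.H56.PCohRHom
import Groth.Agent.H22.RelTwistGG
import Groth.Agent.H77.PCQ1
import Groth.Agent.H45.PCQ2
import Groth.Agent.H10.PCQ4
import Groth.Agent.H87.PCQ3

/-!
# `RHom(K, L) ∈ D^+_Coh` for `K` pseudo-coherent, `L ∈ D^+_Coh` (helper56 library; squad lemmas
`Groth.Agent.PC.*` Q1, Q2, Q4)
-/

set_option autoImplicit false
universe u
open CategoryTheory CategoryTheory.Limits AlgebraicGeometry HomologicalComplex
open CategoryTheory.Pretriangulated
attribute [local instance] HasDerivedCategory.standard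

namespace Groth.Agent.H56.PCohRHom

/-- Restriction to an open preserves `D_Coh`. -/
theorem isCohD_restrictD {X : Scheme.{u}} (V : X.Opens) (G : DCoh.D X) (hG : DCoh.IsCohD G) :
    DCoh.IsCohD ((DCoh.restrictD V.ι).obj G) := by
  haveI : PreservesFiniteLimits (Scheme.Modules.restrictFunctor V.ι) := inferInstance
  intro i
  exact Groth.Agent.H90.QH.isCoh_of_iso (Groth.Agent.H31.LocalD.HDRestrictIso V G i).symm
    (Groth.Agent.H22.RelTwistGG.isCoh_restrict V.ι (hG i))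

/-- The coherent variant on a locally Noetherian scheme. -/
theorem isCoh_HD_RSheafHom {X : Scheme.{u}} [IsLocallyNoetherian X]
    (F : CochainComplex X.Modules ℤ)
    [DCoh.HasLTensorCx F] [DCoh.HasRSheafHom F] (m : ℤ)
    (hF : DCoh.IsPseudoCoherentD m (DCoh.toD X F)) (G : DCoh.D X) (hG : DCoh.IsCohD G) (a : ℤ)
    [G.IsGE a] (e : ℤ)
    (hb : ∀ (Z : Scheme.{u}) (C : CochainComplex Z.Modules ℤ) [DCoh.HasLTensorCx C] (N : DCoh.D Z)
      (k : ℤ), (∀ i : ℤ, m ≤ i → IsZero (C.homology i)) → N.IsLE k →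
      ((DCoh.LTensorCx C).obj N).IsLE (k + e))
    (j : ℤ) (hj : j + e + 1 < a) :
    Coh.IsCoh (DCoh.HD ((DCoh.RSheafHom F).obj G) j) := by
  refine Groth.Agent.PC.isCoh_of_locally _ (fun x => ?_)
  obtain ⟨V, hxV, D, a', b', iD, hDab, hDfree, ⟨c⟩⟩ :=
    exists_local_model F m hF G a e hb j hj x
  refine ⟨V, hxV, ?_⟩
  have hq : DCoh.IsCohD ((DCoh.LTensorCx D).obj ((DCoh.restrictD V.ι).obj G)) :=
    Groth.Agent.PC.isCohD_LTensorCx_of_free D a' b' hDab hDfree _ (isCohD_restrictD V G hG)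
  exact Groth.Agent.H90.QH.isCoh_of_iso c.symm (hq j)

/-- `RHom(K, L) ∈ D^{≥ a - b - 1}` for `K ∈ D^{≤ b}`, `L ∈ D^{≥ a}`. -/
theorem isGE_RSheafHom {X : Scheme.{u}} (K : CochainComplex X.Modules ℤ) (b : ℤ)
    [(DCoh.toD X K).IsLE b] [DCoh.HasLTensorCx K] [DCoh.HasRSheafHom K] (L : DCoh.D X) (a : ℤ)
    [L.IsGE a] : ((DCoh.RSheafHom K).obj L).IsGE (a - b - 1) := by
  have hK : ∀ i : ℤ, b < i → IsZero (K.homology i) := fun i hi =>
    IsZero.of_iso ((DerivedCategory.isLE_iff (DCoh.toD X K) b).1 inferInstance i hi)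
      ((DerivedCategory.homologyFunctorFactors X.Modules i).app K).symm
  have h := Groth.Agent.PC.isGE_of_hom_eq_zero ((DCoh.RSheafHom K).obj L) (a - b - 2) (by
    intro N hN g
    haveI := hN
    haveI h1 := Groth.Agent.PC.isLE_LTensorCx K b hK N (a - b - 2)
    have h0 : ((DCoh.RSheafHomAdj K).homEquiv N L).symm g = 0 :=
      DerivedCategory.TStructure.t.zero _ (a - b - 2 + b + 1) a (by omega)
    have h2 : g = (DCoh.RSheafHomAdj K).homEquiv N L
        (((DCoh.RSheafHomAdj K).homEquiv N L).symm g) := (Equiv.apply_symm_apply _ _).symm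
    rw [h2, h0, Adjunction.homEquiv_unit, Functor.map_zero, comp_zero])
  have e : a - b - 2 + 1 = a - b - 1 := by ring
  rwa [e] at h

end Groth.Agent.H56.PCohRHom
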