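import Groth.Agent.H56.PCohRHom
import Groth.Agent.H6.PC3Sharp

/-!
# The sharp tensor bound (helper56 library; squad lemma `Groth.Agent.PC.isLE_LTensorCx_sharp`)
-/

set_option autoImplicit false
universe u
open CategoryTheory CategoryTheory.Limits AlgebraicGeometry HomologicalComplex
open CategoryTheory.Pretriangulated
attribute [local instance] HasDerivedCategory.standard

namespace Groth.Agent.H56.PCohRHom

/-- The sharp bound from `Groth.Agent.PC.isLE_LTensorCx_sharp`. -/
theorem bound_sharp (m : ℤ) (Z : Scheme.{u}) (C : CochainComplex Z.Modules ℤ) [DCoh.HasLTensorCx C]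
    (N : DCoh.D Z) (k : ℤ) (hC : ∀ i : ℤ, m ≤ i → IsZero (C.homology i)) (hN : N.IsLE k) :
    ((DCoh.LTensorCx C).obj N).IsLE (k + (m - 1)) := by
  haveI := hN
  exact Groth.Agent.PC.isLE_LTensorCx_sharp C (m - 1) (fun i hi => hC i (by omega)) N k

end Groth.Agent.H56.PCohRHom
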