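import Groth.Agent.H56.PCohM
import Groth.Agent.H56.FourTri
import Groth.Agent.H56.InjAmp2
import Groth.Agent.H56.ProjAmp
import Groth.Agent.S2068
import Mathlib.RingTheory.Finiteness.Cardinality

set_option autoImplicit false
universe w v u
open CategoryTheory CategoryTheory.Limits Pretriangulated

namespace Groth.Agent.H56

open DerivedCategory DerivedCategory.TStructure

section General

variable {A : Type u} [Category.{v} A] [Abelian A] [HasDerivedCategory.{w} A]

/-- refinement of `nonempty_obj₃_iso_mappingCone`, with compatibility. -/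
lemma exists_iso_mappingCone_compat (T : Triangle (DerivedCategory A)) (hT : T ∈ distTriang _)
    {E₁ E₂ : CochainComplex A ℤ} (e₁ : T.obj₁ ≅ Q.obj E₁) (e₂ : T.obj₂ ≅ Q.obj E₂)
    (φ : E₁ ⟶ E₂) (hφ : Q.map φ = e₁.inv ≫ T.mor₁ ≫ e₂.hom) :
    ∃ e₃ : T.obj₃ ≅ Q.obj (CochainComplex.mappingCone φ),
      T.mor₂ ≫ e₃.hom = e₂.hom ≫ Q.map (CochainComplex.mappingCone.inr φ) := by
  have hT' := mappingCone_triangle_distinguished φ
  have comm : T.mor₁ ≫ e₂.hom =
      e₁.hom ≫ (Q.mapTriangle.obj (CochainComplex.mappingCone.triangle φ)).mor₁ := by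
    show T.mor₁ ≫ e₂.hom = e₁.hom ≫ Q.map φ
    rw [hφ, Iso.hom_inv_id_assoc]
  refine ⟨Triangle.π₃.mapIso (isoTriangleOfIso₁₂ T _ hT hT' e₁ e₂ comm), ?_⟩
  have h := (isoTriangleOfIso₁₂ T _ hT hT' e₁ e₂ comm).hom.comm₂
  rw [isoTriangleOfIso₁₂_hom_hom₂] at h
  exact h

omit [HasDerivedCategory.{w} A] in
lemma isIso_inr_f_of_isZero {S P : CochainComplex A ℤ} (g : S ⟶ P) (i : ℤ)
    (h : IsZero (S.X (i + 1))) : IsIso ((CochainComplex.mappingCone.inr g).f i) := by
  have h1 := CochainComplex.mappingCone.id_X g i (i + 1) rfl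
  rw [h.eq_of_tgt ((CochainComplex.mappingCone.fst g).1.v i (i + 1) rfl) 0, zero_comp,
    zero_add] at h1
  exact ⟨⟨(CochainComplex.mappingCone.snd g).v i i (add_zero i),
    CochainComplex.mappingCone.inr_f_snd_v g i, h1⟩⟩

omit [HasDerivedCategory.{w} A] in
lemma isKProjective_of_isZero_above (E : CochainComplex A ℤ) (b : ℤ)
    (hb : ∀ i : ℤ, b < i → IsZero (E.X i)) (hp : ∀ i : ℤ, Projective (E.X i)) :
    E.IsKProjective := by
  haveI : E.IsStrictlyLE b := by
    rw [CochainComplex.isStrictlyLE_iff]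
    exact hb
  haveI := hp
  exact CochainComplex.isKProjective_of_projective E b

end General

section Ring

attribute [local instance] HasDerivedCategory.standard

open DRing

variable {R : Type u} [CommRing R]

lemma projective_of_termwiseFiniteFree {E : Cx R} (hf : TermwiseFiniteFree E) (i : ℤ) :
    Projective (E.X i) := by
  haveI := (hf i).2
  exact (IsProjective.iff_projective _).mp Module.Projective.of_free

/-- the inductive step in the construction of a bounded above finite free resolution. -/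
lemma pc_step (L : Cx R) (hL : ∀ m' : ℤ, IsPseudoCoherent R m' (Q.obj L)) (m b : ℤ)
    (hmb : m ≤ b + 1) (P : Cx R) (a : P ⟶ L) (hv : VanishesOutside P m b)
    (hf : TermwiseFiniteFree P)
    (hiso : ∀ i : ℤ, m < i → IsIso ((homologyFunctor (ModuleCat.{u} R) i).map (Q.map a)))
    (hepi : Epi ((homologyFunctor (ModuleCat.{u} R) m).map (Q.map a))) :
    ∃ (P' : Cx R) (ι : P ⟶ P') (a' : P' ⟶ L), ι ≫ a' = a ∧ VanishesOutside P' (m - 1) b ∧
      TermwiseFiniteFree P' ∧ (∀ i : ℤ, m ≤ i → IsIso (ι.f i)) ∧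
      (∀ i : ℤ, m - 1 < i →
        IsIso ((homologyFunctor (ModuleCat.{u} R) i).map (Q.map a'))) ∧
      Epi ((homologyFunctor (ModuleCat.{u} R) (m - 1)).map (Q.map a')) := by
  -- 1. the cone of `Q a`
  obtain ⟨C, u, v, hT⟩ := distinguished_cocone_triangle (Q.map a)
  haveI hCle : C.IsLE (m - 1) :=
    isLE_cone_of_homology (Q.map a) u v hT m (m - 1) (by omega) hiso hepi
  -- 2. `C` is `(m-1)`-pseudo-coherent with finitely generated top cohomology
  have hQP : IsPseudoCoherent R (m - 1 + 1) (Q.obj P) :=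
    ⟨P, m, b, 𝟙 _, hv, hf, fun i _ => inferInstance, inferInstance⟩
  have hCpc : IsPseudoCoherent R (m - 1) C :=
    isPseudoCoherent_obj₃ (Triangle.mk (Q.map a) u v) hT (m - 1) hQP (hL (m - 1))
  haveI hfin : Module.Finite R ((homologyFunctor (ModuleCat.{u} R) (m - 1)).obj C) :=
    (Groth.Agent.S2068.result C (m - 1) hCpc).1 (fun i hi => isZero_of_isLE C (m - 1) i hi)
  -- 3. a finite free module mapping onto `H^{m-1}(C)`
  obtain ⟨k, π, hπ⟩ :=
    Module.Finite.exists_fin' R ((homologyFunctor (ModuleCat.{u} R) (m - 1)).obj C)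
  obtain ⟨F, hFfin, hFfree, πF, hπF⟩ : ∃ (F : ModuleCat.{u} R) (_ : Module.Finite R F)
      (_ : Module.Free R F) (πF : F ⟶ (homologyFunctor (ModuleCat.{u} R) (m - 1)).obj C),
      Epi πF :=
    ⟨ModuleCat.of R (Fin k → R), inferInstance, inferInstance, ModuleCat.ofHom π,
      (ModuleCat.epi_iff_surjective _).2 hπ⟩
  haveI hFproj : Projective F := (IsProjective.iff_projective _).mp Module.Projective.of_free
  haveI := hπF
  obtain ⟨ζ, hζ⟩ := exists_lift_single_projective_epi' C (m - 1) F πF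
  -- 4. the triangle with third map `ζ ≫ v`
  obtain ⟨W, f, g', hW⟩ := distinguished_cocone_triangle₂ (ζ ≫ v)
  -- 5. morphism of triangles
  obtain ⟨α', hα₁, hα₂⟩ : ∃ α' : W ⟶ Q.obj L, f ≫ α' = Q.map a ∧ g' ≫ ζ = α' ≫ u := by
    obtain ⟨b', h1, h2⟩ := complete_distinguished_triangle_morphism₂ _ _ hW hT (𝟙 _) ζ (by
      show (ζ ≫ v) ≫ (shiftFunctor _ (1 : ℤ)).map (𝟙 _) = ζ ≫ v
      rw [CategoryTheory.Functor.map_id, Category.comp_id])
    exact ⟨b', h1.trans (Category.id_comp _), h2⟩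
  have hQa : Q.map a = f ≫ α' := hα₁.symm
  -- 6. homology of `α'`
  obtain ⟨Φ, hΦ₂, hΦ₃, hΦ₁⟩ : ∃ Φ : Triangle.mk f g' (ζ ≫ v) ⟶ Triangle.mk (Q.map a) u v,
      Φ.hom₂ = α' ∧ Φ.hom₃ = ζ ∧ IsIso Φ.hom₁ :=
    ⟨Triangle.homMk _ _ (𝟙 _) α' ζ (hα₁.trans (Category.id_comp _).symm) hα₂ (by
      show (ζ ≫ v) ≫ (shiftFunctor _ (1 : ℤ)).map (𝟙 _) = ζ ≫ v
      rw [CategoryTheory.Functor.map_id, Category.comp_id]), rfl, rfl,
      (inferInstance : IsIso (𝟙 (Q.obj P)))⟩
  have hζepi : ∀ i : ℤ, m - 1 ≤ i →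
      Epi ((homologyFunctor (ModuleCat.{u} R) i).map ζ) := by
    intro i hi
    by_cases h : i = m - 1
    · rw [h]; exact hζ
    · exact ⟨fun _ _ _ => (isZero_of_isLE C (m - 1) i (by omega)).eq_of_src _ _⟩
  have hζmono : ∀ i : ℤ, m ≤ i → Mono ((homologyFunctor (ModuleCat.{u} R) i).map ζ) := by
    intro i hi
    exact ⟨fun _ _ _ => (isZero_of_isLE ((singleFunctor (ModuleCat.{u} R) (m - 1)).obj F)
      (m - 1) i (by omega)).eq_of_tgt _ _⟩
  have hid : ∀ i : ℤ, IsIso ((homologyFunctor (ModuleCat.{u} R) i).map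
      ((shiftFunctor (Dual.D R) (1 : ℤ)).map Φ.hom₁)) := by
    intro i
    haveI := hΦ₁
    infer_instance
  have hα'epi : ∀ i : ℤ, m - 1 ≤ i →
      Epi ((homologyFunctor (ModuleCat.{u} R) i).map α') := by
    intro i hi
    have e1 : Epi ((homologyFunctor (ModuleCat.{u} R) (i - 1)).map
        ((shiftFunctor (Dual.D R) (1 : ℤ)).map Φ.hom₁)) := by
      haveI := hid (i - 1)
      infer_instance
    have m1 : Mono ((homologyFunctor (ModuleCat.{u} R) i).map
        ((shiftFunctor (Dual.D R) (1 : ℤ)).map Φ.hom₁)) := by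
      haveI := hid i
      infer_instance
    have h2 : Epi ((homologyFunctor (ModuleCat.{u} R) i).map Φ.hom₃) := by
      rw [hΦ₃]; exact hζepi i hi
    have := epi_homologyMap_hom₁ (rot_of_distTriang _ hW) (rot_of_distTriang _ hT)
      ((rotate (Dual.D R)).map Φ) (i - 1) i (by omega) e1 h2 m1
    rw [← hΦ₂]
    exact this
  have hα'mono : ∀ i : ℤ, m ≤ i →
      Mono ((homologyFunctor (ModuleCat.{u} R) i).map α') := by
    intro i hi
    have m1 : Mono ((homologyFunctor (ModuleCat.{u} R) (i - 1)).map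
        ((shiftFunctor (Dual.D R) (1 : ℤ)).map Φ.hom₁)) := by
      haveI := hid (i - 1)
      infer_instance
    have h0 : Epi ((homologyFunctor (ModuleCat.{u} R) (i - 1)).map Φ.hom₃) := by
      rw [hΦ₃]; exact hζepi (i - 1) (by omega)
    have h3 : Mono ((homologyFunctor (ModuleCat.{u} R) i).map Φ.hom₃) := by
      rw [hΦ₃]; exact hζmono i hi
    have := mono_homologyMap_hom₁ (rot_of_distTriang _ hW) (rot_of_distTriang _ hT)
      ((rotate (Dual.D R)).map Φ) (i - 1) i (by omega) h0 m1 h3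
    rw [← hΦ₂]
    exact this
  -- 7. the complex `S₀ = F[-m]`
  obtain ⟨S₀, e₀, hS₀v, hS₀f⟩ : ∃ (S₀ : Cx R)
      (_ : Q.obj S₀ ≅ ((singleFunctor (ModuleCat.{u} R) (m - 1)).obj F)⟦(-1 : ℤ)⟧),
      VanishesOutside S₀ m m ∧ TermwiseFiniteFree S₀ := by
    refine ⟨(HomologicalComplex.single (ModuleCat.{u} R) (ComplexShape.up ℤ) m).obj F,
      ((singleFunctorIsoCompQ (ModuleCat.{u} R) m).app F).symm ≪≫
        (((singleFunctors (ModuleCat.{u} R)).shiftIso (-1) m (m - 1) (by omega)).app F).symm,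
      ?_, ?_⟩
    · intro i hi
      exact HomologicalComplex.isZero_single_obj_X _ _ _ _ (by omega)
    · intro i
      by_cases hi : i = m
      · subst hi
        exact ⟨Module.Finite.equiv (HomologicalComplex.singleObjXSelf (ComplexShape.up ℤ) i
            F).toLinearEquiv.symm,
          Module.Free.of_equiv (HomologicalComplex.singleObjXSelf (ComplexShape.up ℤ) i
            F).toLinearEquiv.symm⟩
      · haveI : Subsingleton (((HomologicalComplex.single (ModuleCat.{u} R)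
            (ComplexShape.up ℤ) m).obj F).X i) :=
          ModuleCat.subsingleton_of_isZero (HomologicalComplex.isZero_single_obj_X _ _ _ _ hi)
        exact ⟨inferInstance, inferInstance⟩
  haveI : S₀.IsKProjective := isKProjective_of_isZero_above S₀ m
    (fun i hi => hS₀v i (Or.inr hi)) (projective_of_termwiseFiniteFree hS₀f)
  haveI : (S₀⟦(1 : ℤ)⟧).IsKProjective := isKProjective_of_isZero_above (S₀⟦(1 : ℤ)⟧) m
    (fun i hi => hS₀v (i + 1) (Or.inr (by omega)))
    (fun i => projective_of_termwiseFiniteFree hS₀f (i + 1))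
  haveI : P.IsKProjective := isKProjective_of_isZero_above P b
    (fun i hi => hv i (Or.inr hi)) (projective_of_termwiseFiniteFree hf)
  -- 8. the chain map `g`
  obtain ⟨μ, g'', hT'⟩ : ∃ (μ : ((singleFunctor (ModuleCat.{u} R) (m - 1)).obj F)⟦(-1 : ℤ)⟧ ⟶
      Q.obj P) (g'' : W ⟶ (((singleFunctor (ModuleCat.{u} R) (m - 1)).obj F)⟦(-1 : ℤ)⟧)⟦(1 : ℤ)⟧),
      Triangle.mk μ f g'' ∈ distTriang (Dual.D R) := ⟨_, _, inv_rot_of_distTriang _ hW⟩
  obtain ⟨g, hg⟩ := exists_chainMap_of_isKProjective S₀ P (e₀.hom ≫ μ)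
  -- 9. the mapping cone of `g`
  obtain ⟨e₃, he₃⟩ : ∃ e₃ : W ≅ Q.obj (CochainComplex.mappingCone g),
      f ≫ e₃.hom = Q.map (CochainComplex.mappingCone.inr g) := by
    obtain ⟨e, he⟩ := exists_iso_mappingCone_compat (Triangle.mk μ f g'') hT' e₀.symm
      (Iso.refl _) g (hg.trans (congrArg (fun t => e₀.hom ≫ t) (Category.comp_id μ).symm))
    exact ⟨e, he.trans (Category.id_comp _)⟩
  -- 10. the good morphism in the derived category
  have hα'' : Q.map (CochainComplex.mappingCone.inr g) ≫ (e₃.inv ≫ α') = Q.map a := by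
    rw [← he₃, Category.assoc, Iso.hom_inv_id_assoc, hα₁]
  -- 11. a first strict extension
  have hga : Q.map (g ≫ a) = 0 := by
    have h12 : μ ≫ f = 0 := comp_distTriang_mor_zero₁₂ _ hT'
    rw [Functor.map_comp, hg, hQa, Category.assoc, reassoc_of% h12, zero_comp, comp_zero]
  obtain ⟨H₀⟩ := homotopy_zero_of_Q_map_eq_zero' (g ≫ a) hga
  obtain ⟨a₁, ha₁⟩ : ∃ a₁ : CochainComplex.mappingCone g ⟶ L,
      CochainComplex.mappingCone.inr g ≫ a₁ = a :=
    ⟨CochainComplex.mappingCone.desc g (CochainComplex.HomComplex.Cochain.ofHomotopy H₀) a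
      (by rw [CochainComplex.HomComplex.δ_ofHomotopy,
        CochainComplex.HomComplex.Cochain.ofHom_zero, sub_zero]),
      CochainComplex.mappingCone.inr_desc _ _ _ _⟩
  -- 12. the correction
  have hF' := mappingCone_triangle_distinguished g
  have hdiff : (Q.mapTriangle.obj (CochainComplex.mappingCone.triangle g)).mor₂ ≫
      ((e₃.inv ≫ α') - Q.map a₁) = 0 := by
    show Q.map (CochainComplex.mappingCone.inr g) ≫ ((e₃.inv ≫ α') - Q.map a₁) = 0
    rw [Preadditive.comp_sub, hα'', ← Functor.map_comp, ha₁, sub_self]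
  obtain ⟨θ, hθ⟩ := Triangle.yoneda_exact₃ _ hF' ((e₃.inv ≫ α') - Q.map a₁) hdiff
  obtain ⟨t, ht⟩ := exists_chainMap_of_isKProjective (S₀⟦(1 : ℤ)⟧) L
    ((Q.commShiftIso (1 : ℤ)).hom.app S₀ ≫ θ)
  obtain ⟨δg, hδg⟩ : ∃ δg : CochainComplex.mappingCone g ⟶ S₀⟦(1 : ℤ)⟧,
      δg = (CochainComplex.mappingCone.triangle g).mor₃ := ⟨_, rfl⟩
  have hinrδ : CochainComplex.mappingCone.inr g ≫ δg = 0 := by
    rw [hδg]
    exact CochainComplex.mappingCone.inr_triangleδ g
  have hQa' : Q.map (a₁ + δg ≫ t) = e₃.inv ≫ α' := by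
    have h1 : Q.map δg ≫ (Q.commShiftIso (1 : ℤ)).hom.app S₀ ≫ θ =
        (e₃.inv ≫ α') - Q.map a₁ := by
      rw [hδg, hθ]
      exact (Category.assoc _ _ _).symm
    rw [Functor.map_add, Functor.map_comp, ht, h1]
    abel
  -- 13. conclusion
  refine ⟨CochainComplex.mappingCone g, CochainComplex.mappingCone.inr g,
    a₁ + δg ≫ t, ?_, ?_, ?_, ?_, ?_, ?_⟩
  · rw [Preadditive.comp_add, ha₁, ← Category.assoc, hinrδ, zero_comp, add_zero]
  · have hvc := vanishesOutside_mappingCone g m m m b hS₀v hv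
    intro i hi
    apply hvc i
    rcases hi with hi | hi
    · left; exact lt_min hi (by omega)
    · right; exact max_lt (by omega) hi
  · exact (termwiseFiniteFree_mappingCone g m b (fun i hi => hS₀v i (Or.inr hi)) hS₀f
      (fun i hi => hv i (Or.inr hi)) hf).2
  · intro i hi
    exact isIso_inr_f_of_isZero g i (hS₀v (i + 1) (Or.inr (by omega)))
  · intro i hi
    rw [hQa', Functor.map_comp]
    haveI := hα'epi i (by omega)
    haveI := hα'mono i (by omega)
    haveI : IsIso ((homologyFunctor (ModuleCat.{u} R) i).map α') := isIso_of_mono_of_epi _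
    infer_instance
  · rw [hQa', Functor.map_comp]
    haveI := hα'epi (m - 1) le_rfl
    exact epi_comp _ _

end Ring

end Groth.Agent.H56
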