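import Groth.Agent.H56.RestrictPC
import Mathlib.Algebra.MvPolynomial.Equiv
import Mathlib.Algebra.Polynomial.Div
import Mathlib.Algebra.Homology.ShortComplex.ModuleCat

set_option autoImplicit false
universe u
open CategoryTheory CategoryTheory.Limits Pretriangulated

namespace Groth.Agent.H56

open DerivedCategory DerivedCategory.TStructure DRing

attribute [local instance] HasDerivedCategory.standard

section

variable {P₁ P₂ P₃ : Type u} [CommRing P₁] [CommRing P₂] [CommRing P₃]

/-- a ring map `ψ : P₁ → P₂` making `P₂` a pseudo-coherent `P₁`-module. -/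
def PcHom (ψ : P₁ →+* P₂) : Prop :=
  ∀ m : ℤ, IsPseudoCoherent P₁ m ((singleFunctor (ModuleCat.{u} P₁) 0).obj
    ((ModuleCat.restrictScalars.{u} ψ).obj (ModuleCat.of P₂ P₂)))

lemma pcHom_algebraMap_iff {A B : Type u} [CommRing A] [CommRing B] [Algebra A B] :
    PcHom (algebraMap A B) ↔ IsPseudoCoherentModule' A B := by
  have e : ModuleCat.of A B ≅
      (ModuleCat.restrictScalars.{u} (algebraMap A B)).obj (ModuleCat.of B B) :=
    @LinearEquiv.toModuleIso A _ B B _ _ Algebra.toModule (Module.compHom B (algebraMap A B))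
      (@LinearEquiv.mk A A _ _ (RingHom.id A) (RingHom.id A) _ _ B B _ _ Algebra.toModule
        (Module.compHom B (algebraMap A B))
        (@LinearMap.mk A A _ _ (RingHom.id A) B B _ _ Algebra.toModule
          (Module.compHom B (algebraMap A B))
          ⟨fun b => b, fun _ _ => rfl⟩ (fun a b => Algebra.smul_def a b))
        (fun b => b) (fun _ => rfl) (fun _ => rfl))
  constructor
  · intro h
    apply isPseudoCoherent'_of_forall_isPseudoCoherent
    intro m
    exact isPseudoCoherent_of_iso ((singleFunctor (ModuleCat.{u} A) 0).mapIso e.symm) m (h m)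
  · intro h m
    exact isPseudoCoherent_of_iso ((singleFunctor (ModuleCat.{u} A) 0).mapIso e) m
      (isPseudoCoherent_of_isPseudoCoherent' h m)

theorem PcHom.iff {ψ : P₁ →+* P₂} (h : PcHom ψ) (K : Dual.D P₂) (m : ℤ) :
    IsPseudoCoherent P₁ m ((restrictD ψ).obj K) ↔ IsPseudoCoherent P₂ m K := by
  letI : Algebra P₁ P₂ := ψ.toAlgebra
  have hB : IsPseudoCoherentModule' P₁ P₂ := pcHom_algebraMap_iff.1 h
  exact ⟨isPseudoCoherent_of_restrictD hB K m, isPseudoCoherent_restrictD hB K m⟩

lemma nonempty_restrictD_comp_iso (ψ : P₁ →+* P₂) (φ : P₂ →+* P₃) (K : Dual.D P₃) :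
    Nonempty ((restrictD (φ.comp ψ)).obj K ≅ (restrictD ψ).obj ((restrictD φ).obj K)) := by
  obtain ⟨E, ⟨e⟩⟩ : ∃ E : Cx P₃, Nonempty (Q.obj E ≅ K) := ⟨_, ⟨Q.objObjPreimageIso K⟩⟩
  have e₁ : (restrictD (φ.comp ψ)).obj K ≅ Q.obj (((ModuleCat.restrictScalars.{u}
      (φ.comp ψ)).mapHomologicalComplex (ComplexShape.up ℤ)).obj E) :=
    (restrictD (φ.comp ψ)).mapIso e.symm ≪≫
      (ModuleCat.restrictScalars.{u} (φ.comp ψ)).mapDerivedCategoryFactors.app E
  have e₂ : (restrictD ψ).obj ((restrictD φ).obj K) ≅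
      Q.obj (((ModuleCat.restrictScalars.{u} ψ).mapHomologicalComplex (ComplexShape.up ℤ)).obj
        (((ModuleCat.restrictScalars.{u} φ).mapHomologicalComplex (ComplexShape.up ℤ)).obj E)) :=
    (restrictD ψ).mapIso ((restrictD φ).mapIso e.symm ≪≫
      (ModuleCat.restrictScalars.{u} φ).mapDerivedCategoryFactors.app E) ≪≫
      (ModuleCat.restrictScalars.{u} ψ).mapDerivedCategoryFactors.app _
  have c : ((ModuleCat.restrictScalars.{u} (φ.comp ψ)).mapHomologicalComplex
      (ComplexShape.up ℤ)).obj E ≅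
      ((ModuleCat.restrictScalars.{u} ψ).mapHomologicalComplex (ComplexShape.up ℤ)).obj
        (((ModuleCat.restrictScalars.{u} φ).mapHomologicalComplex (ComplexShape.up ℤ)).obj E) :=
    (NatIso.mapHomologicalComplex (ModuleCat.restrictScalarsComp'.{u} ψ φ (φ.comp ψ) rfl)
      (ComplexShape.up ℤ)).app E
  exact ⟨e₁ ≪≫ Q.mapIso c ≪≫ e₂.symm⟩

theorem PcHom.transfer {ψ : P₁ →+* P₂} (h : PcHom ψ) (φ : P₂ →+* P₃) (K : Dual.D P₃) (m : ℤ) :
    IsPseudoCoherent P₁ m ((restrictD (φ.comp ψ)).obj K) ↔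
      IsPseudoCoherent P₂ m ((restrictD φ).obj K) := by
  obtain ⟨e⟩ := nonempty_restrictD_comp_iso ψ φ K
  rw [← h.iff ((restrictD φ).obj K) m]
  exact ⟨isPseudoCoherent_of_iso e m, isPseudoCoherent_of_iso e.symm m⟩

theorem PcHom.comp {ψ₁ : P₁ →+* P₂} {ψ₂ : P₂ →+* P₃} (h₁ : PcHom ψ₁) (h₂ : PcHom ψ₂) :
    PcHom (ψ₂.comp ψ₁) := by
  intro m
  have a := (h₁.iff ((singleFunctor (ModuleCat.{u} P₂) 0).obj
    ((ModuleCat.restrictScalars.{u} ψ₂).obj (ModuleCat.of P₃ P₃))) m).2 (h₂ m)
  have e₁ := ((ModuleCat.restrictScalars.{u} ψ₁).mapDerivedCategorySingleFunctor 0).app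
    ((ModuleCat.restrictScalars.{u} ψ₂).obj (ModuleCat.of P₃ P₃))
  have e₂ := (ModuleCat.restrictScalarsComp'App.{u} ψ₁ ψ₂ (ψ₂.comp ψ₁) rfl
    (ModuleCat.of P₃ P₃)).symm
  exact isPseudoCoherent_of_iso (e₁ ≪≫ (singleFunctor (ModuleCat.{u} P₁) 0).mapIso e₂) m a

lemma pcHom_of_bijective (ψ : P₁ →+* P₂) (hψ : Function.Bijective ψ) : PcHom ψ := by
  intro m
  letI : Module P₁ P₂ := Module.compHom P₂ ψ
  let f : P₁ →ₗ[P₁] P₂ :=
    { toFun := fun p => ψ p
      map_add' := map_add ψ
      map_smul' := fun p q => map_mul ψ p q }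
  have e : ModuleCat.of P₁ P₁ ≅
      (ModuleCat.restrictScalars.{u} ψ).obj (ModuleCat.of P₂ P₂) :=
    (LinearEquiv.ofBijective f hψ).toModuleIso
  exact isPseudoCoherent_of_iso ((singleFunctor (ModuleCat.{u} P₁) 0).mapIso e) m
    (isPseudoCoherent_single_free 0 (ModuleCat.of P₁ P₁) inferInstance inferInstance m)

end

lemma pcHom_evalRingHom {S : Type u} [CommRing S] (s : S) :
    PcHom (Polynomial.evalRingHom s) := by
  intro m
  letI : Module (Polynomial S) S := Module.compHom S (Polynomial.evalRingHom s)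
  let f : Polynomial S →ₗ[Polynomial S] Polynomial S :=
    LinearMap.mulLeft (Polynomial S) (Polynomial.X - Polynomial.C s)
  let g : Polynomial S →ₗ[Polynomial S] S :=
    { toFun := fun p => p.eval s
      map_add' := fun p q => Polynomial.eval_add
      map_smul' := fun p q => Polynomial.eval_mul }
  have hfg : ∀ q, g (f q) = 0 := by
    intro q
    show ((Polynomial.X - Polynomial.C s) * q).eval s = 0
    simp
  have hS : (ShortComplex.mk (ModuleCat.ofHom f) (ModuleCat.ofHom g)
      (ModuleCat.hom_ext (LinearMap.ext fun q => hfg q))).ShortExact := by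
    refine { exact := ?_, mono_f := ?_, epi_g := ?_ }
    · rw [ShortComplex.moduleCat_exact_iff]
      intro p hp
      have hp' : Polynomial.IsRoot p s := hp
      obtain ⟨q, hq⟩ := Polynomial.dvd_iff_isRoot.2 hp'
      exact ⟨q, hq.symm⟩
    · exact (ModuleCat.mono_iff_injective _).2
        (fun q₁ q₂ h => (Polynomial.monic_X_sub_C s).isRegular.left h)
    · exact (ModuleCat.epi_iff_surjective _).2 (fun t => ⟨Polynomial.C t, Polynomial.eval_C⟩)
  have h₁ := isPseudoCoherent_single_free 0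
    (ModuleCat.of (Polynomial S) (Polynomial S)) inferInstance inferInstance
  exact isPseudoCoherent_obj₃ hS.singleTriangle hS.singleTriangle_distinguished m
    (h₁ (m + 1)) (h₁ m)

lemma pcHom_aeval (k : ℕ) : ∀ (S : Type u) [CommRing S] (f : Fin k → S),
    PcHom ((MvPolynomial.aeval f : MvPolynomial (Fin k) S →ₐ[S] S) :
      MvPolynomial (Fin k) S →+* S) := by
  induction k with
  | zero =>
    intro S _ f
    apply pcHom_of_bijective
    have h : (MvPolynomial.aeval f : MvPolynomial (Fin 0) S →ₐ[S] S) =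
        (MvPolynomial.isEmptyAlgEquiv S (Fin 0)).toAlgHom :=
      MvPolynomial.algHom_ext (fun i => i.elim0)
    rw [h]
    exact (MvPolynomial.isEmptyAlgEquiv S (Fin 0)).bijective
  | succ k ih =>
    intro S _ f
    have h1 : PcHom ((MvPolynomial.finSuccEquiv S k :
        MvPolynomial (Fin (k + 1)) S ≃ₐ[S] Polynomial (MvPolynomial (Fin k) S)) :
        MvPolynomial (Fin (k + 1)) S →+* Polynomial (MvPolynomial (Fin k) S)) :=
      pcHom_of_bijective _ (MvPolynomial.finSuccEquiv S k).bijective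
    have h2 : PcHom (Polynomial.evalRingHom
        (MvPolynomial.C (f 0) : MvPolynomial (Fin k) S)) := pcHom_evalRingHom _
    have h3 := ih S (fun j => f j.succ)
    have heq : ((MvPolynomial.aeval f : MvPolynomial (Fin (k + 1)) S →ₐ[S] S) :
        MvPolynomial (Fin (k + 1)) S →+* S) =
        RingHom.comp ((MvPolynomial.aeval (fun j => f j.succ) :
          MvPolynomial (Fin k) S →ₐ[S] S) : MvPolynomial (Fin k) S →+* S)
          ((Polynomial.evalRingHom (MvPolynomial.C (f 0) : MvPolynomial (Fin k) S)).comp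
            ((MvPolynomial.finSuccEquiv S k :
              MvPolynomial (Fin (k + 1)) S ≃ₐ[S] Polynomial (MvPolynomial (Fin k) S)) :
              MvPolynomial (Fin (k + 1)) S →+* Polynomial (MvPolynomial (Fin k) S))) := by
      apply MvPolynomial.ringHom_ext
      · intro r
        simp [MvPolynomial.finSuccEquiv_apply]
      · intro i
        refine Fin.cases ?_ (fun j => ?_) i
        · simp [MvPolynomial.finSuccEquiv_X_zero]
        · simp [MvPolynomial.finSuccEquiv_X_succ]
    rw [heq]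
    exact (h1.comp h2).comp h3

section Rel

variable {R A : Type u} [CommRing R] [CommRing A] [Algebra R A]

lemma via_iff_sum {n k : ℕ} (α : MvPolynomial (Fin n) R →ₐ[R] A) (w : Fin k → A)
    (hw : ∀ j, w j ∈ Set.range α) (K : Dual.D A) (m : ℤ) :
    IsPseudoCoherent (MvPolynomial (Fin n) R) m
      ((restrictD (α : MvPolynomial (Fin n) R →+* A)).obj K) ↔
    IsPseudoCoherent (MvPolynomial (Fin k ⊕ Fin n) R) m
      ((restrictD ((MvPolynomial.aeval (Sum.elim w (fun i => α (MvPolynomial.X i))) :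
        MvPolynomial (Fin k ⊕ Fin n) R →ₐ[R] A) : MvPolynomial (Fin k ⊕ Fin n) R →+* A)).obj K) := by
  choose f hf using hw
  have h1 : PcHom ((MvPolynomial.sumAlgEquiv R (Fin k) (Fin n) :
      MvPolynomial (Fin k ⊕ Fin n) R ≃ₐ[R] MvPolynomial (Fin k) (MvPolynomial (Fin n) R)) :
      MvPolynomial (Fin k ⊕ Fin n) R →+* MvPolynomial (Fin k) (MvPolynomial (Fin n) R)) :=
    pcHom_of_bijective _ (MvPolynomial.sumAlgEquiv R (Fin k) (Fin n)).bijective
  have h2 := pcHom_aeval k (MvPolynomial (Fin n) R) f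
  have heq : ((MvPolynomial.aeval (Sum.elim w (fun i => α (MvPolynomial.X i))) :
      MvPolynomial (Fin k ⊕ Fin n) R →ₐ[R] A) : MvPolynomial (Fin k ⊕ Fin n) R →+* A) =
      RingHom.comp (α : MvPolynomial (Fin n) R →+* A)
        (RingHom.comp ((MvPolynomial.aeval f : MvPolynomial (Fin k) (MvPolynomial (Fin n) R) →ₐ[
          MvPolynomial (Fin n) R] MvPolynomial (Fin n) R) :
          MvPolynomial (Fin k) (MvPolynomial (Fin n) R) →+* MvPolynomial (Fin n) R)
          ((MvPolynomial.sumAlgEquiv R (Fin k) (Fin n) :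
            MvPolynomial (Fin k ⊕ Fin n) R ≃ₐ[R] MvPolynomial (Fin k) (MvPolynomial (Fin n) R)) :
            MvPolynomial (Fin k ⊕ Fin n) R →+* MvPolynomial (Fin k) (MvPolynomial (Fin n) R))) := by
    apply MvPolynomial.ringHom_ext
    · intro r
      simp
    · intro i
      rcases i with j | i
      · simp [hf]
      · simp
  rw [heq]
  exact ((h1.comp h2).transfer (α : MvPolynomial (Fin n) R →+* A) K m).symm

/-- independence of the presentation for relative pseudo-coherence. -/
theorem via_iff_via {n k : ℕ} (α : MvPolynomial (Fin n) R →ₐ[R] A) (hα : Function.Surjective α)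
    (β : MvPolynomial (Fin k) R →ₐ[R] A) (hβ : Function.Surjective β) (K : Dual.D A) (m : ℤ) :
    IsPseudoCoherent (MvPolynomial (Fin n) R) m
      ((restrictD (α : MvPolynomial (Fin n) R →+* A)).obj K) ↔
    IsPseudoCoherent (MvPolynomial (Fin k) R) m
      ((restrictD (β : MvPolynomial (Fin k) R →+* A)).obj K) := by
  rw [via_iff_sum α (fun j => β (MvPolynomial.X j)) (fun j => hα _) K m,
    via_iff_sum β (fun i => α (MvPolynomial.X i)) (fun i => hβ _) K m]
  have h1 : PcHom ((MvPolynomial.renameEquiv R (Equiv.sumComm (Fin n) (Fin k)) :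
      MvPolynomial (Fin n ⊕ Fin k) R ≃ₐ[R] MvPolynomial (Fin k ⊕ Fin n) R) :
      MvPolynomial (Fin n ⊕ Fin k) R →+* MvPolynomial (Fin k ⊕ Fin n) R) :=
    pcHom_of_bijective _ (MvPolynomial.renameEquiv R (Equiv.sumComm (Fin n) (Fin k))).bijective
  have heq : ((MvPolynomial.aeval (Sum.elim (fun i => α (MvPolynomial.X i))
      (fun j => β (MvPolynomial.X j))) : MvPolynomial (Fin n ⊕ Fin k) R →ₐ[R] A) :
      MvPolynomial (Fin n ⊕ Fin k) R →+* A) =
      RingHom.comp ((MvPolynomial.aeval (Sum.elim (fun j => β (MvPolynomial.X j))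
        (fun i => α (MvPolynomial.X i))) : MvPolynomial (Fin k ⊕ Fin n) R →ₐ[R] A) :
        MvPolynomial (Fin k ⊕ Fin n) R →+* A)
        ((MvPolynomial.renameEquiv R (Equiv.sumComm (Fin n) (Fin k)) :
          MvPolynomial (Fin n ⊕ Fin k) R ≃ₐ[R] MvPolynomial (Fin k ⊕ Fin n) R) :
          MvPolynomial (Fin n ⊕ Fin k) R →+* MvPolynomial (Fin k ⊕ Fin n) R) := by
    apply MvPolynomial.ringHom_ext
    · intro r
      simp
    · intro i
      rcases i with i | j
      · simp
      · simp
  rw [heq]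
  exact (h1.transfer _ K m).symm

end Rel

end Groth.Agent.H56
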