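import Mathlib
import Groth.Prelude.Def_MoreMor
import Groth.Agent.H56.PcMor4

/-!
fpqc descent of pseudo-coherent morphisms (helper56).  Adapted from Mathlib's
`IsZariskiLocalAtTarget.descendsAlong_inf_quasiCompact` / `HasRingHomProperty.descendsAlong`
(which assume stability under arbitrary base change) using only flat base change.
-/

set_option autoImplicit false
set_option linter.style.haveILetI false
universe u
open CategoryTheory CategoryTheory.Limits MorphismProperty

namespace Groth.Agent.H56.PcMor

open AlgebraicGeometry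

lemma le_surjective_inf_flat :
    (@IsLocalIso ⊓ @Surjective : MorphismProperty Scheme.{u}) ≤
      (@Surjective ⊓ @Flat : MorphismProperty Scheme.{u}) := by
  rw [inf_comm]
  exact inf_le_inf le_rfl (IsLocalIso.le_of_isZariskiLocalAtSource _)

lemma faithfullyFlat_of_surjective_inf_flat {R S : CommRingCat.{u}} {f : R ⟶ S}
    (h : (@Surjective ⊓ @Flat : MorphismProperty Scheme.{u}) (Spec.map f)) :
    f.hom.FaithfullyFlat := by
  obtain ⟨hf₁, hf₂⟩ := h
  rw [RingHom.FaithfullyFlat.iff_flat_and_comap_surjective]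
  refine ⟨?_, (Spec.map f).surjective⟩
  rwa [HasRingHomProperty.Spec_iff (P := @Flat)] at hf₂

/-- affine base and affine cover: descent. -/
lemma descent_affine {R S : CommRingCat.{u}} {Y : Scheme.{u}} (φ : R ⟶ S) (g : Y ⟶ Spec R)
    (h : (@Surjective ⊓ @Flat : MorphismProperty Scheme.{u}) (Spec.map φ))
    (hf : P (pullback.fst (Spec.map φ) g)) : P g := by
  wlog hY : ∃ S, Y = Spec S generalizing Y
  · rw [IsZariskiLocalAtSource.iff_of_openCover (P := P) Y.affineCover]
    intro i
    have heq : pullback.fst (Spec.map φ) (Y.affineCover.f i ≫ g) =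
        pullback.map _ _ _ _ (𝟙 _) (Y.affineCover.f i) (𝟙 _) (by simp) (by simp) ≫
          pullback.fst (Spec.map φ) g := (pullback.lift_fst _ _ _).symm
    exact this _ (heq ▸ AlgebraicGeometry.IsZariskiLocalAtSource.comp hf _) ⟨_, rfl⟩
  obtain ⟨S, rfl⟩ := hY
  apply of_pullback_fst_Spec_of_codescendsAlong P (@Surjective ⊓ @Flat)
    q_codescendsAlong_faithfullyFlat faithfullyFlat_of_surjective_inf_flat _ h hf
  simp [HasRingHomProperty.Spec_iff (P := P)]

set_option backward.isDefEq.respectTransparency.types false in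
/-- pseudo-coherent morphisms satisfy fpqc descent. -/
instance descendsAlong_fpqc :
    P.{u}.DescendsAlong (@Surjective ⊓ @Flat ⊓ @QuasiCompact) := by
  apply IsZariskiLocalAtTarget.descendsAlong
  intro R X Y f g hf h
  wlog hX : ∃ T, X = Spec T generalizing X
  · have _ : CompactSpace X := by simpa [← quasiCompact_iff_compactSpace f] using hf.2
    obtain ⟨Y', p, hsurj, hP', hY⟩ := X.exists_hom_isAffine_of_isZariskiLocalAtSource @IsLocalIso
    have hpf : (@Surjective ⊓ @Flat : MorphismProperty Scheme.{u}) p :=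
      le_surjective_inf_flat _ ⟨hP', hsurj⟩
    haveI hflp : Flat p := hpf.2
    refine this (f := (Y'.isoSpec.inv ≫ p) ≫ f) ?_ ?_ ⟨_, rfl⟩
    · rw [Category.assoc, (@Surjective ⊓ @Flat ⊓ @QuasiCompact :
        MorphismProperty Scheme.{u}).cancel_left_of_respectsIso]
      exact ⟨(@Surjective ⊓ @Flat : MorphismProperty Scheme.{u}).comp_mem _ _ hpf hf.1,
        inferInstance⟩
    · rw [← pullbackRightPullbackFstIso_inv_fst f g _, P.cancel_left_of_respectsIso]
      exact flat_baseChange (pullback.fst f g) (pullback.fst _ _) (pullback.snd _ _)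
        (Y'.isoSpec.inv ≫ p) (IsPullback.of_hasPullback _ _).flip h
  obtain ⟨T, rfl⟩ := hX
  obtain ⟨φ, rfl⟩ := Spec.map_surjective f
  exact descent_affine φ g hf.1 h

end Groth.Agent.H56.PcMor
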