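import Mathlib
import Groth.Prelude.Def_W4c2gaugesfzipsQuiet
import Groth.Agent.S15042
import Groth.Agent.S3176
import Groth.Agent.H3.RelFrob2

/-!
# Quiet morphisms: swapping an etale map past a root tower (helper56)

Ring-level core of `Quiet.isQuiet_comp`: if `A → B` is a tower of `p`-th root extractions in
characteristic `p` and `B → C` is etale, then `C` is a tower of the same length over an etale
`A`-algebra `C'`.
-/

set_option autoImplicit false
set_option linter.style.haveILetI false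
set_option linter.unusedSectionVars false
set_option linter.unusedVariables false

universe u

open Quiet TensorProduct Polynomial CategoryTheory

namespace Groth.Agent.H56.QuietSwap

/-- transport of a root tower along an isomorphism of the base ring. -/
theorem tower_of_base_equiv (p n : ℕ) {A A' B : Type u} [CommRing A] [CommRing A'] [CommRing B]
    [Algebra A B] [Algebra A' B] (eA : A ≃+* A')
    (h : ∀ a, algebraMap A' B (eA a) = algebraMap A B a)
    (hn : IsRootTower p n A B) : IsRootTower p n A' B := by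
  letI algAA' : Algebra A A' := eA.toRingHom.toAlgebra
  haveI tow : IsScalarTower A A' B := IsScalarTower.of_algebraMap_eq (fun a => (h a).symm)
  have hbc : IsRootTower p n A' (A' ⊗[A] B) :=
    Groth.Agent.S15042.isRootTower_baseChange p n A B A' hn
  let e0 : A' ≃ₐ[A] A := AlgEquiv.ofRingEquiv (f := eA.symm)
    (fun a => by show eA.symm (eA a) = a; exact eA.symm_apply_apply a)
  let E₁ : A' ⊗[A] B ≃ₐ[A] A ⊗[A] B := Algebra.TensorProduct.congr e0 (AlgEquiv.refl : B ≃ₐ[A] B)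
  let E₂ : A ⊗[A] B ≃ₐ[A] B := Algebra.TensorProduct.lid A B
  let E : A' ⊗[A] B ≃ₐ[A'] B := AlgEquiv.ofRingEquiv (f := (E₁.trans E₂).toRingEquiv) (by
    intro a'
    have h1 : algebraMap A' (A' ⊗[A] B) a' = a' ⊗ₜ[A] (1 : B) := rfl
    show E₂ (E₁ (algebraMap A' (A' ⊗[A] B) a')) = algebraMap A' B a'
    rw [h1]
    have h2 : E₁ (a' ⊗ₜ[A] (1 : B)) = (eA.symm a') ⊗ₜ[A] (1 : B) := by
      simp [E₁, e0]
    rw [h2]
    have h3 : E₂ ((eA.symm a') ⊗ₜ[A] (1 : B)) = eA.symm a' • (1 : B) :=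
      Algebra.TensorProduct.lid_tmul _ _
    rw [h3, Algebra.smul_def, mul_one, ← h (eA.symm a'), eA.apply_symm_apply])
  exact Groth.Agent.S15042.isRootTower_of_algEquiv p n A' (A' ⊗[A] B) B E hbc

/-- composition of root towers. -/
theorem tower_comp (p : ℕ) : ∀ (n m : ℕ) (A B C : Type u) [CommRing A] [CommRing B] [CommRing C]
    [Algebra A B] [Algebra B C] [Algebra A C] [IsScalarTower A B C],
    IsRootTower p n A B → IsRootTower p m B C → IsRootTower p (n + m) A C := by
  intro n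
  induction n with
  | zero =>
    intro m A B C _ _ _ _ _ _ _ h1 h2
    change Nonempty (B ≃ₐ[A] A) at h1
    obtain ⟨e⟩ := h1
    rw [Nat.zero_add]
    refine tower_of_base_equiv p m (e.toRingEquiv) (fun b => ?_) h2
    have hb : algebraMap A B (e b) = b :=
      (e.symm.commutes (e b)).symm.trans (e.symm_apply_apply b)
    show algebraMap A C (e b) = algebraMap B C b
    rw [IsScalarTower.algebraMap_apply A B C, hb]
  | succ n ih =>
    intro m A B C _ _ _ _ _ _ _ h1 h2
    change ∃ (a : A) (_ : Algebra (RootRing p A a) B),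
      IsScalarTower A (RootRing p A a) B ∧ IsRootTower p n (RootRing p A a) B at h1
    obtain ⟨a, alg, tow, hn⟩ := h1
    letI := alg
    haveI := tow
    have e : n + 1 + m = (n + m) + 1 := by omega
    rw [e]
    change ∃ (a : A) (_ : Algebra (RootRing p A a) C),
      IsScalarTower A (RootRing p A a) C ∧ IsRootTower p (n + m) (RootRing p A a) C
    letI algRC : Algebra (RootRing p A a) C :=
      ((algebraMap B C).comp (algebraMap (RootRing p A a) B)).toAlgebra
    haveI towRBC : IsScalarTower (RootRing p A a) B C :=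
      IsScalarTower.of_algebraMap_eq (fun x => rfl)
    have towARC : IsScalarTower A (RootRing p A a) C := by
      apply IsScalarTower.of_algebraMap_eq
      intro x
      show algebraMap A C x =
        algebraMap B C (algebraMap (RootRing p A a) B (algebraMap A (RootRing p A a) x))
      rw [← IsScalarTower.algebraMap_apply A (RootRing p A a) B,
        ← IsScalarTower.algebraMap_apply A B C]
    exact ⟨a, algRC, towARC, ih m (RootRing p A a) B C hn h2⟩

/-- abstract elementary swap: `R` an `A`-algebra of characteristic `p` with a ring map `φ : R → A`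
such that `A → R` after `φ` is the Frobenius of `R`. -/
theorem swap_core (p : ℕ) [Fact p.Prime] (A R : Type u) [CommRing A] [CommRing R] [Algebra A R]
    [CharP R p] (φ : R →+* A) (hφ : ∀ r, algebraMap A R (φ r) = r ^ p) {k : ℕ}
    (hk : IsRootTower p k A R)
    (C₁ : Type u) [CommRing C₁] [CharP C₁ p] [Algebra R C₁] [Algebra.Etale R C₁] :
    ∃ (C' : Type u) (_ : CommRing C') (α : A →+* C') (β : C' →+* C₁),
      α.Etale ∧ (∀ x : A, β (α x) = algebraMap R C₁ (algebraMap A R x)) ∧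
      (letI := β.toAlgebra; IsRootTower p k C' C₁) := by
  letI algRA : Algebra R A := φ.toAlgebra
  have hα : (algebraMap A (A ⊗[R] C₁)).Etale := RingHom.etale_algebraMap.mpr inferInstance
  -- the map `κ : A ⊗[R] C₁ → C₁`, `x ⊗ c ↦ x c^p`
  let f : A →ₐ[R] FrobAlg.Target p R C₁ :=
    { toRingHom := ((FrobAlg.toTarget p R C₁ : C₁ →+* FrobAlg.Target p R C₁).comp
        ((algebraMap R C₁).comp (algebraMap A R)))
      commutes' := fun r => by
        show FrobAlg.toTarget p R C₁ (algebraMap R C₁ (algebraMap A R (φ r))) =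
          FrobAlg.toTarget p R C₁ ((algebraMap R C₁ r) ^ p)
        rw [hφ, map_pow] }
  let κ₀ : A ⊗[R] C₁ →ₐ[R] FrobAlg.Target p R C₁ :=
    Algebra.TensorProduct.lift f (FrobAlg.frobHom p R C₁) (fun _ _ => Commute.all _ _)
  let κ : A ⊗[R] C₁ →+* C₁ :=
    ((FrobAlg.toTarget p R C₁).symm : FrobAlg.Target p R C₁ →+* C₁).comp κ₀.toRingHom
  have hκ : ∀ (x : A) (c : C₁),
      κ (x ⊗ₜ[R] c) = algebraMap R C₁ (algebraMap A R x) * c ^ p := by
    intro x c
    show (FrobAlg.toTarget p R C₁).symm (κ₀ (x ⊗ₜ[R] c)) = _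
    rw [Algebra.TensorProduct.lift_tmul]
    rfl
  have hcompat : ∀ x : A, κ (algebraMap A (A ⊗[R] C₁) x) =
      algebraMap R C₁ (algebraMap A R x) := by
    intro x
    have h1 : algebraMap A (A ⊗[R] C₁) x = x ⊗ₜ[R] (1 : C₁) := rfl
    rw [h1, hκ, one_pow, mul_one]
  letI algC'C₁ : Algebra (A ⊗[R] C₁) C₁ := κ.toAlgebra
  have hbc : IsRootTower p k (A ⊗[R] C₁) ((A ⊗[R] C₁) ⊗[A] R) :=
    Groth.Agent.S15042.isRootTower_baseChange p k A R (A ⊗[R] C₁) hk
  letI algAC₁ : Algebra A C₁ := ((algebraMap R C₁).comp (algebraMap A R)).toAlgebra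
  haveI towARC₁ : IsScalarTower A R C₁ := IsScalarTower.of_algebraMap_eq (fun x => rfl)
  haveI towAC'C₁ : IsScalarTower A (A ⊗[R] C₁) C₁ :=
    IsScalarTower.of_algebraMap_eq (fun x => (hcompat x).symm)
  let Ξ₀ : (A ⊗[R] C₁) ⊗[A] R →ₐ[A ⊗[R] C₁] C₁ :=
    Algebra.TensorProduct.lift (Algebra.ofId (A ⊗[R] C₁) C₁) (IsScalarTower.toAlgHom A R C₁)
      (fun _ _ => Commute.all _ _)
  have hΞ : ∀ (w : A ⊗[R] C₁) (r : R), Ξ₀ (w ⊗ₜ[A] r) = κ w * algebraMap R C₁ r := by
    intro w r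
    rw [Algebra.TensorProduct.lift_tmul]
    rfl
  -- relative Frobenius
  have hbij : Function.Bijective (FrobAlg.relFrob p R C₁) :=
    (Groth.Agent.S3176.result p R C₁).mp inferInstance
  have hrel : ∀ (c : C₁) (t : FrobAlg.Twist p R), FrobAlg.relFrob p R C₁ (c ⊗ₜ t) =
      c ^ p * algebraMap R C₁ ((FrobAlg.toTwist p R).symm t) :=
    Groth.Agent.H3.RelFrob.relFrob_tmul p R C₁
  -- the comparison map `Λ`
  have hkey : ∀ r : R, ((1 : A ⊗[R] C₁) ⊗ₜ[A] (r ^ p) : (A ⊗[R] C₁) ⊗[A] R) =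
      ((1 : A) ⊗ₜ[R] algebraMap R C₁ r) ⊗ₜ[A] (1 : R) := by
    intro r
    have e1 : (r ^ p : R) = φ r • (1 : R) := by rw [Algebra.smul_def, mul_one, hφ]
    have e3 : φ r • (1 : A) = r • (1 : A) := by
      rw [smul_eq_mul, mul_one, Algebra.smul_def, mul_one]
      rfl
    have e2 : φ r • (1 : A ⊗[R] C₁) = (1 : A) ⊗ₜ[R] algebraMap R C₁ r := by
      rw [Algebra.TensorProduct.one_def, TensorProduct.smul_tmul', e3, TensorProduct.smul_tmul,
        Algebra.smul_def, mul_one]
    rw [e1, ← TensorProduct.smul_tmul, e2]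
  let ρ : R →+* (A ⊗[R] C₁) ⊗[A] R :=
    (Algebra.TensorProduct.includeLeftRingHom :
      (A ⊗[R] C₁) →+* (A ⊗[R] C₁) ⊗[A] R).comp
      ((Algebra.TensorProduct.includeRight : C₁ →ₐ[R] A ⊗[R] C₁).toRingHom.comp
        (algebraMap R C₁))
  letI algRT : Algebra R ((A ⊗[R] C₁) ⊗[A] R) := ρ.toAlgebra
  haveI towRRT : @IsScalarTower R R ((A ⊗[R] C₁) ⊗[A] R) (Algebra.id R).toSMul algRT.toSMul
      algRT.toSMul :=
    @IsScalarTower.of_algebraMap_eq R R ((A ⊗[R] C₁) ⊗[A] R) _ _ _ (Algebra.id R) algRT algRT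
      (fun x => rfl)
  let f₁ : C₁ →ₐ[R] (A ⊗[R] C₁) ⊗[A] R :=
    { toRingHom := (Algebra.TensorProduct.includeLeftRingHom :
        (A ⊗[R] C₁) →+* (A ⊗[R] C₁) ⊗[A] R).comp
        (Algebra.TensorProduct.includeRight : C₁ →ₐ[R] A ⊗[R] C₁).toRingHom
      commutes' := fun r => rfl }
  let g₁ : FrobAlg.Twist p R →ₐ[R] (A ⊗[R] C₁) ⊗[A] R :=
    { toRingHom := (Algebra.TensorProduct.includeRight :
        R →ₐ[A] (A ⊗[R] C₁) ⊗[A] R).toRingHom.comp
        ((FrobAlg.toTwist p R).symm : FrobAlg.Twist p R →+* R)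
      commutes' := fun r => hkey r }
  let Λ : C₁ ⊗[R] FrobAlg.Twist p R →ₐ[R] (A ⊗[R] C₁) ⊗[A] R :=
    Algebra.TensorProduct.lift f₁ g₁ (fun _ _ => Commute.all _ _)
  have hΛ : ∀ (c : C₁) (t : FrobAlg.Twist p R), Λ (c ⊗ₜ t) =
      ((1 : A) ⊗ₜ[R] c) ⊗ₜ[A] ((FrobAlg.toTwist p R).symm t) := by
    intro c t
    rw [Algebra.TensorProduct.lift_tmul]
    show (((1 : A) ⊗ₜ[R] c) ⊗ₜ[A] (1 : R)) * ((1 : A ⊗[R] C₁) ⊗ₜ[A] ((FrobAlg.toTwist p R).symm t))
      = _
    rw [Algebra.TensorProduct.tmul_mul_tmul, mul_one, one_mul]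
  have hcomp : ∀ v : C₁ ⊗[R] FrobAlg.Twist p R, Ξ₀ (Λ v) = FrobAlg.relFrob p R C₁ v := by
    intro v
    induction v using TensorProduct.induction_on with
    | zero => rw [map_zero, map_zero, map_zero]
    | tmul c t =>
      rw [hΛ, hΞ, hκ, hrel, map_one, map_one, one_mul]
    | add v₁ v₂ h₁ h₂ => rw [map_add, map_add, map_add, h₁, h₂]
  have hsurjΛ : ∀ w : (A ⊗[R] C₁) ⊗[A] R, ∃ v, Λ v = w := by
    intro w
    induction w using TensorProduct.induction_on with
    | zero => exact ⟨0, map_zero _⟩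
    | tmul x' r =>
      induction x' using TensorProduct.induction_on with
      | zero => exact ⟨0, by rw [map_zero, TensorProduct.zero_tmul]⟩
      | tmul x c =>
        refine ⟨c ⊗ₜ (FrobAlg.toTwist p R (algebraMap A R x * r)), ?_⟩
        rw [hΛ, RingEquiv.symm_apply_apply]
        have e1 : algebraMap A R x * r = x • r := by rw [Algebra.smul_def]
        rw [e1, ← TensorProduct.smul_tmul, TensorProduct.smul_tmul', smul_eq_mul, mul_one]
      | add x₁ x₂ h₁ h₂ =>
        obtain ⟨v₁, hv₁⟩ := h₁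
        obtain ⟨v₂, hv₂⟩ := h₂
        exact ⟨v₁ + v₂, by rw [map_add, hv₁, hv₂, TensorProduct.add_tmul]⟩
    | add w₁ w₂ h₁ h₂ =>
      obtain ⟨v₁, hv₁⟩ := h₁
      obtain ⟨v₂, hv₂⟩ := h₂
      exact ⟨v₁ + v₂, by rw [map_add, hv₁, hv₂]⟩
  have hinj : Function.Injective Ξ₀ := by
    intro w₁ w₂ h
    obtain ⟨v₁, rfl⟩ := hsurjΛ w₁
    obtain ⟨v₂, rfl⟩ := hsurjΛ w₂
    rw [hcomp, hcomp] at h
    rw [hbij.1 h]
  have hsurj : Function.Surjective Ξ₀ := by
    intro c
    obtain ⟨v, rfl⟩ := hbij.2 c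
    exact ⟨Λ v, hcomp v⟩
  let Ξ : ((A ⊗[R] C₁) ⊗[A] R) ≃ₐ[A ⊗[R] C₁] C₁ := AlgEquiv.ofBijective Ξ₀ ⟨hinj, hsurj⟩
  exact ⟨A ⊗[R] C₁, inferInstance, algebraMap A (A ⊗[R] C₁), κ, hα, hcompat,
    Groth.Agent.S15042.isRootTower_of_algEquiv p k (A ⊗[R] C₁) ((A ⊗[R] C₁) ⊗[A] R) C₁ Ξ hbc⟩

/-- the elementary swap: an etale algebra over `A[x]/(x^p - a)` (characteristic `p`) is a single
`p`-th root extraction of an etale `A`-algebra. -/
theorem swap_step (p : ℕ) [Fact p.Prime] (A : Type u) [CommRing A] (hpA : (p : A) = 0) (a : A)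
    (C₁ : Type u) [CommRing C₁] [Nontrivial C₁] [Algebra (RootRing p A a) C₁]
    [Algebra.Etale (RootRing p A a) C₁] :
    ∃ (C' : Type u) (_ : CommRing C') (α : A →+* C') (β : C' →+* C₁),
      α.Etale ∧
      (∀ x : A, β (α x) = algebraMap (RootRing p A a) C₁ (algebraMap A (RootRing p A a) x)) ∧
      (letI := β.toAlgebra; IsRootTower p 1 C' C₁) := by
  have hp : p.Prime := Fact.out
  haveI : Nontrivial (RootRing p A a) := (algebraMap (RootRing p A a) C₁).domain_nontrivial
  haveI : Nontrivial A := (algebraMap A (RootRing p A a)).domain_nontrivial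
  haveI cA : CharP A p := (CharP.charP_iff_prime_eq_zero hp).2 hpA
  have hpR : (p : RootRing p A a) = 0 := by
    rw [← map_natCast (algebraMap A (RootRing p A a)) p, hpA, map_zero]
  haveI cR : CharP (RootRing p A a) p := (CharP.charP_iff_prime_eq_zero hp).2 hpR
  have hpC : (p : C₁) = 0 := by
    rw [← map_natCast (algebraMap (RootRing p A a) C₁) p, hpR, map_zero]
  haveI cC : CharP C₁ p := (CharP.charP_iff_prime_eq_zero hp).2 hpC
  have hrt : (AdjoinRoot.root (X ^ p - C a : A[X])) ^ p = AdjoinRoot.of (X ^ p - C a : A[X]) a := by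
    have h := AdjoinRoot.eval₂_root (X ^ p - C a : A[X])
    rw [eval₂_sub, eval₂_pow, eval₂_X, eval₂_C, sub_eq_zero] at h
    exact h
  have h0 : (X ^ p - C a : A[X]).eval₂ (frobenius A p) a = 0 := by
    rw [eval₂_sub, eval₂_pow, eval₂_X, eval₂_C, frobenius_def, sub_self]
  let φ : RootRing p A a →+* A := AdjoinRoot.lift (frobenius A p) a h0
  have hcomp : (((algebraMap A (RootRing p A a)).comp φ).comp (AdjoinRoot.mk (X ^ p - C a : A[X]))) =
      (frobenius (RootRing p A a) p).comp (AdjoinRoot.mk (X ^ p - C a : A[X])) := by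
    apply Polynomial.ringHom_ext
    · intro c
      show algebraMap A (RootRing p A a) (φ (AdjoinRoot.mk _ (C c))) = (AdjoinRoot.mk _ (C c)) ^ p
      rw [AdjoinRoot.mk_C, AdjoinRoot.lift_of, frobenius_def, map_pow]
      rfl
    · show algebraMap A (RootRing p A a) (φ (AdjoinRoot.mk _ X)) = (AdjoinRoot.mk _ X) ^ p
      rw [AdjoinRoot.mk_X, AdjoinRoot.lift_root]
      exact hrt.symm
  have hφ : ∀ r : RootRing p A a, algebraMap A (RootRing p A a) (φ r) = r ^ p := by
    intro r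
    obtain ⟨q, rfl⟩ := AdjoinRoot.mk_surjective r
    exact RingHom.congr_fun hcomp q
  have hk : IsRootTower p 1 A (RootRing p A a) := by
    show ∃ (a' : A) (_ : Algebra (RootRing p A a') (RootRing p A a)),
      IsScalarTower A (RootRing p A a') (RootRing p A a) ∧
        IsRootTower p 0 (RootRing p A a') (RootRing p A a)
    exact ⟨a, Algebra.id _, inferInstance, ⟨AlgEquiv.refl⟩⟩
  exact swap_core p A (RootRing p A a) φ hφ hk C₁

/-- the swap: an etale algebra over a root tower of `A` is a root tower over an etale `A`-algebra. -/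
theorem swap (p : ℕ) [Fact p.Prime] : ∀ (n : ℕ) (A B C : Type u) [CommRing A] [CommRing B]
    [CommRing C] [Algebra A B] [Algebra B C] [Nontrivial C] [Algebra.Etale B C], (p : A) = 0 →
    IsRootTower p n A B →
    ∃ (C' : Type u) (_ : CommRing C') (α : A →+* C') (β : C' →+* C),
      α.Etale ∧ (∀ x : A, β (α x) = algebraMap B C (algebraMap A B x)) ∧
      (letI := β.toAlgebra; IsRootTower p n C' C) := by
  intro n
  induction n with
  | zero =>
    intro A B C _ _ _ _ _ _ _ hpA h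
    change Nonempty (B ≃ₐ[A] A) at h
    obtain ⟨e⟩ := h
    letI algAC : Algebra A C := ((algebraMap B C).comp (algebraMap A B)).toAlgebra
    haveI : IsScalarTower A B C := IsScalarTower.of_algebraMap_eq (fun x => rfl)
    haveI : Algebra.Etale A B := Algebra.Etale.of_equiv e.symm
    have hAC : Algebra.Etale A C := Algebra.Etale.comp A B C
    refine ⟨C, inferInstance, (algebraMap B C).comp (algebraMap A B), RingHom.id C, hAC,
      fun x => rfl, ?_⟩
    letI := (RingHom.id C).toAlgebra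
    exact ⟨AlgEquiv.ofRingEquiv (f := RingEquiv.refl C) (fun x => rfl)⟩
  | succ n ih =>
    intro A B C _ _ _ _ _ _ _ hpA h
    change ∃ (a : A) (_ : Algebra (RootRing p A a) B),
      IsScalarTower A (RootRing p A a) B ∧ IsRootTower p n (RootRing p A a) B at h
    obtain ⟨a, alg, tow, hn⟩ := h
    letI := alg
    haveI := tow
    have hpR : (p : RootRing p A a) = 0 := by
      rw [← map_natCast (algebraMap A (RootRing p A a)) p, hpA, map_zero]
    obtain ⟨C₁, i1, α₁, β₁, hα₁, hc₁, ht₁⟩ := ih (RootRing p A a) B C hpR hn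
    letI := i1
    letI algRC₁ : Algebra (RootRing p A a) C₁ := α₁.toAlgebra
    haveI : Algebra.Etale (RootRing p A a) C₁ := hα₁
    haveI : Nontrivial C₁ := β₁.domain_nontrivial
    obtain ⟨C', j1, α, β', hα, hc, ht⟩ := swap_step p A hpA a C₁
    letI := j1
    letI algC'C₁ : Algebra C' C₁ := β'.toAlgebra
    letI algC₁C : Algebra C₁ C := β₁.toAlgebra
    letI algC'C : Algebra C' C := (β₁.comp β').toAlgebra
    haveI : IsScalarTower C' C₁ C := IsScalarTower.of_algebraMap_eq (fun x => rfl)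
    have h1n : IsRootTower p (1 + n) C' C := tower_comp p 1 n C' C₁ C ht ht₁
    rw [Nat.add_comm] at h1n
    refine ⟨C', j1, α, β₁.comp β', hα, fun x => ?_, h1n⟩
    show β₁ (β' (α x)) = _
    rw [hc x]
    have := hc₁ (algebraMap A (RootRing p A a) x)
    show β₁ (α₁ (algebraMap A (RootRing p A a) x)) = _
    rw [this, ← IsScalarTower.algebraMap_apply A (RootRing p A a) B]

/-! ### The bundled version -/

/-- a morphism of commutative rings is a root tower of length `n`. -/
def TowerHom (p n : ℕ) {A B : CommRingCat.{u}} (φ : A ⟶ B) : Prop :=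
  letI := φ.hom.toAlgebra
  IsRootTower p n A B

theorem TowerHom.comp_iso {p n : ℕ} {A B B' : CommRingCat.{u}} {φ : A ⟶ B}
    (h : TowerHom p n φ) (γ : B ⟶ B') [IsIso γ] : TowerHom p n (φ ≫ γ) := by
  letI algAB := φ.hom.toAlgebra
  letI algAB' := (φ ≫ γ).hom.toAlgebra
  exact Groth.Agent.S15042.isRootTower_of_algEquiv p n A B B'
    (AlgEquiv.ofRingEquiv (f := (asIso γ).commRingCatIsoToRingEquiv) (fun a => rfl)) h

theorem TowerHom.iso_comp {p n : ℕ} {A' A B : CommRingCat.{u}} {φ : A ⟶ B}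
    (γ : A' ⟶ A) [IsIso γ] (h : TowerHom p n φ) : TowerHom p n (γ ≫ φ) := by
  letI algAB := φ.hom.toAlgebra
  letI algA'B := (γ ≫ φ).hom.toAlgebra
  refine tower_of_base_equiv p n (asIso γ).symm.commRingCatIsoToRingEquiv (fun a => ?_) h
  show φ.hom (γ.hom ((inv γ).hom a)) = φ.hom a
  have : γ.hom ((inv γ).hom a) = a := by
    rw [← CommRingCat.comp_apply, IsIso.inv_hom_id, CommRingCat.id_apply]
  rw [this]

theorem TowerHom.comp {p n m : ℕ} {A B C : CommRingCat.{u}} {φ : A ⟶ B} {ψ : B ⟶ C}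
    (h1 : TowerHom p n φ) (h2 : TowerHom p m ψ) : TowerHom p (n + m) (φ ≫ ψ) := by
  letI := φ.hom.toAlgebra
  letI := ψ.hom.toAlgebra
  letI := (φ ≫ ψ).hom.toAlgebra
  haveI : IsScalarTower A B C := IsScalarTower.of_algebraMap_eq (fun x => rfl)
  exact tower_comp p n m A B C h1 h2

theorem TowerHom.swap {p : ℕ} [Fact p.Prime] {n : ℕ} {A B C : CommRingCat.{u}} {φ : A ⟶ B}
    {ψ : B ⟶ C} (hpA : (p : A) = 0) [Nontrivial C] (hψ : ψ.hom.Etale)
    (h : TowerHom p n φ) :
    ∃ (C' : CommRingCat.{u}) (α : A ⟶ C') (β : C' ⟶ C),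
      α.hom.Etale ∧ TowerHom p n β ∧ α ≫ β = φ ≫ ψ := by
  letI := φ.hom.toAlgebra
  letI := ψ.hom.toAlgebra
  haveI : Algebra.Etale B C := hψ
  obtain ⟨C', i1, α, β, hα, hc, ht⟩ := Groth.Agent.H56.QuietSwap.swap p n A B C hpA h
  letI := i1
  refine ⟨CommRingCat.of C', CommRingCat.ofHom α, CommRingCat.ofHom β, hα, ht, ?_⟩
  ext x
  exact hc x

end Groth.Agent.H56.QuietSwap
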