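import Mathlib
import Groth.Prelude.Def_W4c2gaugesfzipsQuiet
import Groth.Agent.S15042
import Groth.Agent.H56.QuietSwap

/-!
# Quiet morphisms: lifting root towers along surjections (helper56)

If `Ã → A₁` is surjective and `A₁ → B` is a tower of `p`-th root extractions, the tower lifts to a
tower `Ã → B̃` with `B = A₁ ⊗[Ã] B̃`.  (`equiv_aux'` is helper97's `exists_equiv_aux` from `S15042`
with the comparison map `rootMap` exposed.)
-/

set_option autoImplicit false
set_option linter.style.haveILetI false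
set_option linter.unusedSectionVars false
set_option linter.unusedVariables false

universe u

open Quiet TensorProduct Polynomial CategoryTheory CategoryTheory.Limits

namespace Groth.Agent.H56.QuietLift

open Groth.Agent.H56.QuietSwap

/-- the canonical map `A[x]/(x^p - a) → A'[x]/(x^p - a')` over `A → A'` with `a ↦ a'`. -/
noncomputable def rootMap {p : ℕ} {A A' : Type u} [CommRing A] [CommRing A'] [Algebra A A']
    (a : A) (a' : A') (ha' : algebraMap A A' a = a') : RootRing p A a →+* RootRing p A' a' :=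
  AdjoinRoot.lift ((AdjoinRoot.of (X ^ p - C a' : A'[X])).comp (algebraMap A A'))
    (AdjoinRoot.root (X ^ p - C a' : A'[X])) (by
      have hrt' : (AdjoinRoot.root (X ^ p - C a' : A'[X])) ^ p =
          AdjoinRoot.of (X ^ p - C a' : A'[X]) a' := by
        have h := AdjoinRoot.eval₂_root (X ^ p - C a' : A'[X])
        rw [eval₂_sub, eval₂_pow, eval₂_X, eval₂_C, sub_eq_zero] at h
        exact h
      rw [eval₂_sub, eval₂_pow, eval₂_X, eval₂_C, RingHom.comp_apply, ha', hrt', sub_self])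

theorem rootMap_surjective {p : ℕ} {A A' : Type u} [CommRing A] [CommRing A'] [Algebra A A']
    (a : A) (a' : A') (ha' : algebraMap A A' a = a')
    (hs : Function.Surjective (algebraMap A A')) :
    Function.Surjective (rootMap (p := p) a a' ha') := by
  intro y
  obtain ⟨q, rfl⟩ := AdjoinRoot.mk_surjective y
  obtain ⟨q', rfl⟩ := Polynomial.map_surjective (algebraMap A A') hs q
  refine ⟨AdjoinRoot.mk _ q', ?_⟩
  have hc : (rootMap (p := p) a a' ha').comp (AdjoinRoot.mk (X ^ p - C a : A[X])) =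
      (AdjoinRoot.mk (X ^ p - C a' : A'[X])).comp (Polynomial.mapRingHom (algebraMap A A')) := by
    apply Polynomial.ringHom_ext
    · intro c
      show rootMap (p := p) a a' ha' (AdjoinRoot.mk _ (C c)) =
        AdjoinRoot.mk _ (Polynomial.map (algebraMap A A') (C c))
      rw [Polynomial.map_C, AdjoinRoot.mk_C, AdjoinRoot.mk_C]
      exact AdjoinRoot.lift_of _
    · show rootMap (p := p) a a' ha' (AdjoinRoot.mk _ X) =
        AdjoinRoot.mk _ (Polynomial.map (algebraMap A A') X)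
      rw [Polynomial.map_X, AdjoinRoot.mk_X, AdjoinRoot.mk_X]
      exact AdjoinRoot.lift_root _
  exact RingHom.congr_fun hc q'

/-- transitivity of base change for one root extraction, with the comparison map exposed
(proof after helper97, `S15042.exists_equiv_aux`). -/
theorem equiv_aux' {p : ℕ} {A A' B : Type u} [CommRing A] [CommRing A'] [CommRing B]
    [Algebra A A'] [Algebra A B] (a : A) (a' : A') (ha' : algebraMap A A' a = a')
    [Algebra (Quiet.RootRing p A a) B] [IsScalarTower A (Quiet.RootRing p A a) B] :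
    letI : Algebra (Quiet.RootRing p A a) (Quiet.RootRing p A' a') := (rootMap a a' ha').toAlgebra
    ∃ E : (Quiet.RootRing p A' a' ⊗[Quiet.RootRing p A a] B) ≃+* (A' ⊗[A] B),
      ∀ x : A', E (((AdjoinRoot.of _ : A' →+* Quiet.RootRing p A' a') x)
        ⊗ₜ[Quiet.RootRing p A a] (1 : B)) = x ⊗ₜ[A] (1 : B) := by
  let ofR : A →+* Quiet.RootRing p A a := AdjoinRoot.of _
  let ofR' : A' →+* Quiet.RootRing p A' a' := AdjoinRoot.of _
  let rt : Quiet.RootRing p A a := AdjoinRoot.root _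
  let rt' : Quiet.RootRing p A' a' := AdjoinRoot.root _
  have hrt : rt ^ p = ofR a := by
    have h := AdjoinRoot.eval₂_root (X ^ p - C a : A[X])
    rw [eval₂_sub, eval₂_pow, eval₂_X, eval₂_C, sub_eq_zero] at h
    exact h
  have hrt' : rt' ^ p = ofR' a' := by
    have h := AdjoinRoot.eval₂_root (X ^ p - C a' : A'[X])
    rw [eval₂_sub, eval₂_pow, eval₂_X, eval₂_C, sub_eq_zero] at h
    exact h
  have h0 : (X ^ p - C a : A[X]).eval₂ (ofR'.comp (algebraMap A A')) rt' = 0 := by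
    rw [eval₂_sub, eval₂_pow, eval₂_X, eval₂_C, RingHom.comp_apply, ha', hrt', sub_self]
  let φ : Quiet.RootRing p A a →+* Quiet.RootRing p A' a' := rootMap a a' ha'
  have hφ_of : ∀ x : A, φ (ofR x) = ofR' (algebraMap A A' x) := fun x => AdjoinRoot.lift_of _
  have hφ_rt : φ rt = rt' := AdjoinRoot.lift_root _
  letI algRR' : Algebra (Quiet.RootRing p A a) (Quiet.RootRing p A' a') := φ.toAlgebra
  show ∃ E : (Quiet.RootRing p A' a' ⊗[Quiet.RootRing p A a] B) ≃+* (A' ⊗[A] B),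
    ∀ x : A', E ((ofR' x) ⊗ₜ[Quiet.RootRing p A a] (1 : B)) = x ⊗ₜ[A] (1 : B)
  let β : B := algebraMap (Quiet.RootRing p A a) B rt
  have hofB : ∀ x : A, algebraMap (Quiet.RootRing p A a) B (ofR x) = algebraMap A B x := fun x =>
    (IsScalarTower.algebraMap_apply A (Quiet.RootRing p A a) B x).symm
  have hβ : β ^ p = algebraMap A B a := by
    show (algebraMap (Quiet.RootRing p A a) B rt) ^ p = _
    rw [← map_pow, hrt, hofB]
  have ht1 : ∀ x : A, (algebraMap A A' x) ⊗ₜ[A] (1 : B) = (1 : A') ⊗ₜ[A] (algebraMap A B x) := by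
    intro x
    rw [Algebra.algebraMap_eq_smul_one, Algebra.algebraMap_eq_smul_one, TensorProduct.smul_tmul]
  have ht2 : ∀ r : Quiet.RootRing p A a, (φ r) ⊗ₜ[Quiet.RootRing p A a] (1 : B) =
      (1 : Quiet.RootRing p A' a') ⊗ₜ[Quiet.RootRing p A a]
        (algebraMap (Quiet.RootRing p A a) B r) := by
    intro r
    have e1 : φ r = r • (1 : Quiet.RootRing p A' a') := by
      rw [Algebra.smul_def, mul_one]
      rfl
    rw [e1, Algebra.algebraMap_eq_smul_one, TensorProduct.smul_tmul]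
  letI algRT : Algebra (Quiet.RootRing p A a) (A' ⊗[A] B) :=
    ((Algebra.TensorProduct.includeRight : B →ₐ[A] A' ⊗[A] B).toRingHom.comp
      (algebraMap (Quiet.RootRing p A a) B)).toAlgebra
  have h1 : (X ^ p - C a' : A'[X]).eval₂
      (Algebra.TensorProduct.includeLeftRingHom : A' →+* A' ⊗[A] B) ((1 : A') ⊗ₜ[A] β) = 0 := by
    rw [eval₂_sub, eval₂_pow, eval₂_X, eval₂_C]
    show ((1 : A') ⊗ₜ[A] β) ^ p - a' ⊗ₜ[A] (1 : B) = 0
    rw [Algebra.TensorProduct.tmul_pow, one_pow, hβ, ← ha', ht1, sub_self]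
  let f₀ : Quiet.RootRing p A' a' →+* A' ⊗[A] B :=
    AdjoinRoot.lift (Algebra.TensorProduct.includeLeftRingHom : A' →+* A' ⊗[A] B)
      ((1 : A') ⊗ₜ[A] β) h1
  have hf₀_of : ∀ x : A', f₀ (ofR' x) = x ⊗ₜ[A] (1 : B) := fun x => AdjoinRoot.lift_of h1
  have hf₀_rt : f₀ rt' = (1 : A') ⊗ₜ[A] β := AdjoinRoot.lift_root h1
  have hcomm : ∀ r : Quiet.RootRing p A a,
      f₀ (algebraMap (Quiet.RootRing p A a) (Quiet.RootRing p A' a') r) =
        algebraMap (Quiet.RootRing p A a) (A' ⊗[A] B) r := by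
    have hring : f₀.comp φ =
        (Algebra.TensorProduct.includeRight : B →ₐ[A] A' ⊗[A] B).toRingHom.comp
          (algebraMap (Quiet.RootRing p A a) B) := by
      apply AdjoinRoot.ringHom_ext
      · ext x
        show f₀ (φ (ofR x)) = (1 : A') ⊗ₜ[A] (algebraMap (Quiet.RootRing p A a) B (ofR x))
        rw [hφ_of, hf₀_of, hofB, ht1]
      · show f₀ (φ rt) = (1 : A') ⊗ₜ[A] β
        rw [hφ_rt, hf₀_rt]
    intro r
    exact RingHom.congr_fun hring r
  let f : Quiet.RootRing p A' a' →ₐ[Quiet.RootRing p A a] A' ⊗[A] B :=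
    { f₀ with commutes' := hcomm }
  let g : B →ₐ[Quiet.RootRing p A a] A' ⊗[A] B :=
    { (Algebra.TensorProduct.includeRight : B →ₐ[A] A' ⊗[A] B).toRingHom with
      commutes' := fun r => rfl }
  let F : Quiet.RootRing p A' a' ⊗[Quiet.RootRing p A a] B →ₐ[Quiet.RootRing p A a] A' ⊗[A] B :=
    Algebra.TensorProduct.lift f g (fun _ _ => Commute.all _ _)
  have hF : ∀ (r' : Quiet.RootRing p A' a') (b : B),
      F (r' ⊗ₜ b) = f₀ r' * ((1 : A') ⊗ₜ[A] b) := fun r' b => rfl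
  letI algAT2 : Algebra A (Quiet.RootRing p A' a' ⊗[Quiet.RootRing p A a] B) :=
    ((algebraMap (Quiet.RootRing p A a)
      (Quiet.RootRing p A' a' ⊗[Quiet.RootRing p A a] B)).comp ofR).toAlgebra
  have halgAT2 : ∀ x : A, algebraMap A (Quiet.RootRing p A' a' ⊗[Quiet.RootRing p A a] B) x =
      (φ (ofR x)) ⊗ₜ[Quiet.RootRing p A a] (1 : B) := fun x => rfl
  let f2 : A' →ₐ[A] Quiet.RootRing p A' a' ⊗[Quiet.RootRing p A a] B :=
    { (Algebra.TensorProduct.includeLeftRingHom :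
        Quiet.RootRing p A' a' →+* Quiet.RootRing p A' a' ⊗[Quiet.RootRing p A a] B).comp ofR' with
      commutes' := fun x => by
        rw [halgAT2, hφ_of]
        rfl }
  let g2 : B →ₐ[A] Quiet.RootRing p A' a' ⊗[Quiet.RootRing p A a] B :=
    { (Algebra.TensorProduct.includeRight :
        B →ₐ[Quiet.RootRing p A a] Quiet.RootRing p A' a' ⊗[Quiet.RootRing p A a] B).toRingHom with
      commutes' := fun x => by
        rw [halgAT2, ht2, hofB]
        rfl }
  let G : A' ⊗[A] B →ₐ[A] Quiet.RootRing p A' a' ⊗[Quiet.RootRing p A a] B :=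
    Algebra.TensorProduct.productMap f2 g2
  have hG : ∀ (x : A') (b : B), G (x ⊗ₜ b) =
      ((ofR' x) ⊗ₜ[Quiet.RootRing p A a] (1 : B)) *
        ((1 : Quiet.RootRing p A' a') ⊗ₜ[Quiet.RootRing p A a] b) := fun x b => rfl
  have hGf₀ : ∀ r' : Quiet.RootRing p A' a', G (f₀ r') = r' ⊗ₜ[Quiet.RootRing p A a] (1 : B) := by
    have hring : (G : A' ⊗[A] B →+* Quiet.RootRing p A' a' ⊗[Quiet.RootRing p A a] B).comp f₀ =
        (Algebra.TensorProduct.includeLeftRingHom :
          Quiet.RootRing p A' a' →+* Quiet.RootRing p A' a' ⊗[Quiet.RootRing p A a] B) := by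
      apply AdjoinRoot.ringHom_ext
      · ext x
        show G (f₀ (ofR' x)) = (ofR' x) ⊗ₜ[Quiet.RootRing p A a] (1 : B)
        rw [hf₀_of, hG, Algebra.TensorProduct.tmul_mul_tmul, mul_one, one_mul]
      · show G (f₀ rt') = rt' ⊗ₜ[Quiet.RootRing p A a] (1 : B)
        rw [hf₀_rt, hG, map_one, Algebra.TensorProduct.tmul_mul_tmul, one_mul, one_mul,
          ← hφ_rt, ht2]
    intro r'
    exact RingHom.congr_fun hring r'
  have h₁ : (F : Quiet.RootRing p A' a' ⊗[Quiet.RootRing p A a] B →+* A' ⊗[A] B).comp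
      (G : A' ⊗[A] B →+* Quiet.RootRing p A' a' ⊗[Quiet.RootRing p A a] B) =
      RingHom.id (A' ⊗[A] B) := by
    apply RingHom.ext
    intro t
    induction t using TensorProduct.induction_on with
    | zero => simp
    | tmul x b =>
      show F (G (x ⊗ₜ b)) = x ⊗ₜ b
      rw [hG, Algebra.TensorProduct.tmul_mul_tmul, mul_one, one_mul, hF, hf₀_of,
        Algebra.TensorProduct.tmul_mul_tmul, mul_one, one_mul]
    | add t1 t2 h1 h2 => simp only [map_add, h1, h2]
  have h₂ : (G : A' ⊗[A] B →+* Quiet.RootRing p A' a' ⊗[Quiet.RootRing p A a] B).comp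
      (F : Quiet.RootRing p A' a' ⊗[Quiet.RootRing p A a] B →+* A' ⊗[A] B) =
      RingHom.id (Quiet.RootRing p A' a' ⊗[Quiet.RootRing p A a] B) := by
    apply RingHom.ext
    intro t
    induction t using TensorProduct.induction_on with
    | zero => simp
    | tmul r' b =>
      show G (F (r' ⊗ₜ b)) = r' ⊗ₜ b
      rw [hF, map_mul, hGf₀, hG, map_one, Algebra.TensorProduct.tmul_mul_tmul,
        Algebra.TensorProduct.tmul_mul_tmul]
      simp only [mul_one, one_mul]
    | add t1 t2 h1 h2 => simp only [map_add, h1, h2]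
  refine ⟨RingEquiv.ofRingHom
    (F : Quiet.RootRing p A' a' ⊗[Quiet.RootRing p A a] B →+* A' ⊗[A] B)
    (G : A' ⊗[A] B →+* Quiet.RootRing p A' a' ⊗[Quiet.RootRing p A a] B) h₁ h₂, fun x => ?_⟩
  show F ((ofR' x) ⊗ₜ[Quiet.RootRing p A a] (1 : B)) = x ⊗ₜ[A] (1 : B)
  rw [hF, hf₀_of, Algebra.TensorProduct.tmul_mul_tmul, mul_one, one_mul]

/-- lifting a root tower along a surjection. -/
theorem tower_lift (p : ℕ) : ∀ (n : ℕ) (A₀ A₁ B : Type u) [CommRing A₀] [CommRing A₁] [CommRing B]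
    [Algebra A₀ A₁] [Algebra A₁ B], Function.Surjective (algebraMap A₀ A₁) →
    IsRootTower p n A₁ B →
    ∃ (B₀ : Type u) (_ : CommRing B₀) (_ : Algebra A₀ B₀),
      IsRootTower p n A₀ B₀ ∧ ∃ E : (A₁ ⊗[A₀] B₀) ≃+* B,
        ∀ x : A₁, E (x ⊗ₜ[A₀] (1 : B₀)) = algebraMap A₁ B x := by
  intro n
  induction n with
  | zero =>
    intro A₀ A₁ B _ _ _ _ _ hs h
    change Nonempty (B ≃ₐ[A₁] A₁) at h
    obtain ⟨e⟩ := h
    refine ⟨A₀, inferInstance, Algebra.id A₀, ⟨AlgEquiv.refl⟩, ?_⟩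
    refine ⟨((Algebra.TensorProduct.rid A₀ A₁ A₁).trans e.symm).toRingEquiv, fun x => ?_⟩
    show e.symm ((Algebra.TensorProduct.rid A₀ A₁ A₁) (x ⊗ₜ[A₀] (1 : A₀))) = algebraMap A₁ B x
    rw [Algebra.TensorProduct.rid_tmul, one_smul]
    exact e.symm.commutes x
  | succ n ih =>
    intro A₀ A₁ B _ _ _ _ _ hs h
    change ∃ (a : A₁) (_ : Algebra (RootRing p A₁ a) B),
      IsScalarTower A₁ (RootRing p A₁ a) B ∧ IsRootTower p n (RootRing p A₁ a) B at h
    obtain ⟨a₁, alg, tow, hn⟩ := h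
    letI := alg
    haveI := tow
    obtain ⟨a₀, ha₀⟩ := hs a₁
    letI algRR : Algebra (RootRing p A₀ a₀) (RootRing p A₁ a₁) := (rootMap a₀ a₁ ha₀).toAlgebra
    have hsR : Function.Surjective (algebraMap (RootRing p A₀ a₀) (RootRing p A₁ a₁)) :=
      rootMap_surjective a₀ a₁ ha₀ hs
    obtain ⟨B₀, i1, i2, htow, E₀, hE₀⟩ := ih (RootRing p A₀ a₀) (RootRing p A₁ a₁) B hsR hn
    letI := i1
    letI := i2
    letI algA₀B₀ : Algebra A₀ B₀ :=
      ((algebraMap (RootRing p A₀ a₀) B₀).comp (algebraMap A₀ (RootRing p A₀ a₀))).toAlgebra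
    haveI : IsScalarTower A₀ (RootRing p A₀ a₀) B₀ := IsScalarTower.of_algebraMap_eq (fun x => rfl)
    obtain ⟨E₁, hE₁⟩ := equiv_aux' (p := p) (A := A₀) (A' := A₁) (B := B₀) a₀ a₁ ha₀
    refine ⟨B₀, i1, algA₀B₀, ⟨a₀, i2, inferInstance, htow⟩, E₁.symm.trans E₀, fun x => ?_⟩
    show E₀ (E₁.symm (x ⊗ₜ[A₀] (1 : B₀))) = algebraMap A₁ B x
    rw [← hE₁ x, RingEquiv.symm_apply_apply, hE₀]
    exact (IsScalarTower.algebraMap_apply A₁ (RootRing p A₁ a₁) B x).symm

/-- bundled form: lifting a `TowerHom` along a surjection, as a pushout square. -/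
theorem TowerHom.lift {p n : ℕ} {A₀ A₁ B : CommRingCat.{u}} (φ : A₀ ⟶ A₁)
    (hφ : Function.Surjective φ.hom) {ψ : A₁ ⟶ B} (h : TowerHom p n ψ) :
    ∃ (B₀ : CommRingCat.{u}) (α : A₀ ⟶ B₀) (β : B₀ ⟶ B),
      TowerHom p n α ∧ IsPushout φ α ψ β := by
  letI := φ.hom.toAlgebra
  letI := ψ.hom.toAlgebra
  obtain ⟨B₀, i1, i2, htow, E, hE⟩ := tower_lift p n A₀ A₁ B hφ h
  have hT := CommRingCat.isPushout_tensorProduct A₀ A₁ B₀
  have hi2 : i2 = (algebraMap A₀ B₀).toAlgebra := Algebra.algebra_ext _ _ (fun r => rfl)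
  refine ⟨CommRingCat.of B₀, CommRingCat.ofHom (algebraMap A₀ B₀),
    CommRingCat.ofHom ((E : (A₁ ⊗[A₀] B₀) →+* B).comp
      (Algebra.TensorProduct.includeRight : B₀ →ₐ[A₀] A₁ ⊗[A₀] B₀).toRingHom), ?_, ?_⟩
  · show @IsRootTower p n A₀ B₀ _ _ (algebraMap A₀ B₀).toAlgebra
    rw [← hi2]
    exact htow
  · refine hT.of_iso (Iso.refl _) (Iso.refl _) (Iso.refl _) E.toCommRingCatIso ?_ ?_ ?_ ?_
    · rfl
    · rfl
    · ext x
      exact hE x
    · rfl

end Groth.Agent.H56.QuietLift
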