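import Mathlib
import Groth.Prelude.Def_RegImm
import Groth.Agent.S2104
import Groth.Agent.S2105
import Groth.Agent.H79.RegKindSeq
import Groth.Agent.H79.RegKindRel
import Groth.Agent.H56.KzQuot
import Groth.Agent.H56.KzFlat

/-!
Appending sequences of the kinds Koszul / H_1 / quasi along a surjection (helper56).
-/

set_option autoImplicit false
set_option linter.style.haveILetI false
set_option linter.unusedSectionVars false
universe u

namespace Groth.Agent.H56.RegKindAppend

open Groth.Agent.H56.KzSwap

section
variable {R R' : Type u} [CommRing R] [CommRing R']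

theorem isH1Regular_of_ringEquiv (e : R ≃+* R') {c : ℕ} (f : Fin c → R)
    (hf : CAlgX.IsH1Regular f) : CAlgX.IsH1Regular (fun i => e (f i)) := by
  letI : Algebra R R' := e.toRingHom.toAlgebra
  have hsm : ∀ (r : R) (x : R'), r • x = e r * x := fun r x => rfl
  let l : R' ≃ₗ[R] R :=
    { e.symm.toAddEquiv with
      map_smul' := fun r x => by
        show e.symm (r • x) = r * e.symm x
        rw [hsm, map_mul, RingEquiv.symm_apply_apply] }
  haveI : Module.Flat R R' := Module.Flat.of_linearEquiv l
  exact Groth.Agent.H79.RegKindFlat.isH1Regular_of_flat (R := R) (R' := R') f hf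

theorem span_range_get (f : List R) : Ideal.span (Set.range f.get) = Ideal.ofList f := by
  rw [Groth.Agent.H79.RegKindRel.range_get_eq]

theorem h1_quot_of_map (π : R →+* R') (hπ : Function.Surjective π) (f g : List R)
    (hker : RingHom.ker π = Ideal.ofList f) (hg : CAlgX.IsH1Regular (g.map π).get) :
    CAlgX.IsH1Regular
      (fun j : Fin g.length => Ideal.Quotient.mk (Ideal.span (Set.range f.get)) (g.get j)) := by
  have ha : CAlgX.IsH1Regular (fun j : Fin g.length => π (g.get j)) := by
    refine Groth.Agent.H79.RegKindSeq.isH1Regular_congr (List.length_map π) _ _ ?_ hg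
    intro i
    simp
  have hJ : Ideal.span (Set.range f.get) = RingHom.ker π := by rw [span_range_get, hker]
  let e : (R ⧸ Ideal.span (Set.range f.get)) ≃+* R' :=
    (Ideal.quotEquivOfEq hJ).trans (RingHom.quotientKerEquivOfSurjective hπ)
  have he : ∀ x : R, e (Ideal.Quotient.mk _ x) = π x := by
    intro x
    simp [e]
  have hb := isH1Regular_of_ringEquiv e.symm _ ha
  have hfun : (fun j : Fin g.length => e.symm (π (g.get j))) =
      (fun j : Fin g.length => Ideal.Quotient.mk (Ideal.span (Set.range f.get)) (g.get j)) := by
    funext j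
    rw [← he, RingEquiv.symm_apply_apply]
  rw [← hfun]
  exact hb

theorem get_append_eq (f g : List R) :
    ∀ i : Fin (f.length + g.length),
      (f ++ g).get (Fin.cast (List.length_append).symm i) = Fin.append f.get g.get i := by
  intro i
  refine Fin.addCases (fun a => ?_) (fun b => ?_) i
  · simp [Fin.append_left, List.getElem_append_left]
  · simp [Fin.append_right, List.getElem_append_right]

theorem seq_append_h1 (π : R →+* R') (hπ : Function.Surjective π) (f g : List R)
    (hker : RingHom.ker π = Ideal.ofList f)
    (hf : CAlgX.IsH1Regular f.get) (hg : CAlgX.IsH1Regular (g.map π).get) :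
    CAlgX.IsH1Regular (f ++ g).get := by
  have h1 := Groth.Agent.S2105.result f.get g.get hf (h1_quot_of_map π hπ f g hker hg)
  exact Groth.Agent.H79.RegKindSeq.isH1Regular_congr (List.length_append).symm _ _
    (get_append_eq f g) h1

theorem seq_append_quasi (π : R →+* R') (hπ : Function.Surjective π) (f g : List R)
    (hker : RingHom.ker π = Ideal.ofList f)
    (hf : CAlgX.IsQuasiRegular f.get) (hg : CAlgX.IsH1Regular (g.map π).get) :
    CAlgX.IsQuasiRegular (f ++ g).get := by
  have h1 := Groth.Agent.S2104.result f.get g.get hf (h1_quot_of_map π hπ f g hker hg)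
  exact Groth.Agent.H79.RegKindSeq.isQuasiRegular_congr (List.length_append).symm _ _
    (get_append_eq f g) h1

end

/-- Admissible triples of kinds for the composition `Z ⟶ Y ⟶ X`: kind of the first immersion, kind of
the second immersion, kind of the composite. -/
inductive CompKinds : RegImm.Kind → RegImm.Kind → RegImm.Kind → Prop
  | koszul : CompKinds .koszul .koszul .koszul
  | h1 : CompKinds .h1 .h1 .h1
  | quasi : CompKinds .h1 .quasi .quasi

theorem CompKinds.ne₁ {k₁ k₂ k : RegImm.Kind} (h : CompKinds k₁ k₂ k) : k₁ ≠ .regular := by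
  cases h <;> exact fun h' => by cases h'

theorem CompKinds.ne₂ {k₁ k₂ k : RegImm.Kind} (h : CompKinds k₁ k₂ k) : k₂ ≠ .regular := by
  cases h <;> exact fun h' => by cases h'

section
variable {R R' : Type u} [CommRing R] [CommRing R']

theorem seq_append {k₁ k₂ k : RegImm.Kind} (hk : CompKinds k₁ k₂ k) (π : R →+* R')
    (hπ : Function.Surjective π) (f g : List R) (hker : RingHom.ker π = Ideal.ofList f)
    (hf : k₂.Seq R f) (hg : k₁.Seq R' (g.map π)) : k.Seq R (f ++ g) := by
  cases hk with
  | koszul => exact (isKoszulRegularSeq_append_iff' π hπ f hf hker g).2 hg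
  | h1 => exact seq_append_h1 π hπ f g hker hf hg
  | quasi => exact seq_append_quasi π hπ f g hker hf hg

theorem seq_map_of_flat_ne [Algebra R R'] [Module.Flat R R'] (k : RegImm.Kind)
    (hk : k ≠ .regular) (rs : List R) (h : k.Seq R rs) :
    k.Seq R' (rs.map (algebraMap R R')) := by
  cases k with
  | regular => exact absurd rfl hk
  | koszul => exact isKoszulRegularSeq_map_of_flat rs h
  | h1 =>
    have h' : CAlgX.IsH1Regular rs.get := h
    have h2 := Groth.Agent.H79.RegKindFlat.isH1Regular_of_flat (R' := R') rs.get h'
    refine (Groth.Agent.H79.RegKindSeq.isH1Regular_congr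
      (List.length_map (algebraMap R R')).symm _ _ ?_ h2 :
      CAlgX.IsH1Regular (rs.map (algebraMap R R')).get)
    intro i
    simp
  | quasi =>
    have h' : CAlgX.IsQuasiRegular rs.get := h
    have h2 := Groth.Agent.H79.RegKindFlat.isQuasiRegular_of_flat (R' := R') rs.get h'
    refine (Groth.Agent.H79.RegKindSeq.isQuasiRegular_congr
      (List.length_map (algebraMap R R')).symm _ _ ?_ h2 :
      CAlgX.IsQuasiRegular (rs.map (algebraMap R R')).get)
    intro i
    simp

end

end Groth.Agent.H56.RegKindAppend
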