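import Mathlib
import Groth.Prelude.Def_RegImm
import Groth.Agent.H56.RegImmComp
import Groth.Agent.H56.RegKindAppend

/-!
Composition of regular immersions of the kinds Koszul / H_1 / quasi (helper56).
-/

set_option autoImplicit false
set_option linter.style.haveILetI false
universe u
open CategoryTheory AlgebraicGeometry

namespace Groth.Agent.H56.RegImmCompKind

open Groth.Agent.H56.KzSwap Groth.Agent.H56.RegImmComp Groth.Agent.H56.RegKindAppend

variable {X Y Z : Scheme.{u}}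

/-- local data of a regular immersion of kind `k` over the open `U`. -/
def PKk (k : RegImm.Kind) (i : Z ⟶ X) (U : X.Opens) : Prop :=
  IsClosedImmersion (i ∣_ U) ∧ ∃ rs : List Γ(X, U),
    k.Seq Γ(X, U) rs ∧ RingHom.ker (i.app U).hom = Ideal.ofList rs

lemma PKk.basicOpen {k : RegImm.Kind} (hk : k ≠ .regular) {i : Z ⟶ X} {U : X.Opens}
    (hU : IsAffineOpen U) (h : PKk k i U) (b : Γ(X, U)) : PKk k i (X.basicOpen b) := by
  obtain ⟨hcl, rs, hreg, hker⟩ := h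
  have hU' : IsAffineOpen (i ⁻¹ᵁ U) := isAffineOpen_preimage i hU hcl
  haveI : IsLocalization.Away b Γ(X, X.basicOpen b) := hU.isLocalization_basicOpen b
  refine ⟨?_, rs.map (algebraMap Γ(X, U) Γ(X, X.basicOpen b)), ?_, ?_⟩
  · have h1 := IsZariskiLocalAtTarget.restrict (P := @IsClosedImmersion) hcl
      (U.toScheme.basicOpen (X.presheaf.map (eqToHom U.isOpenEmbedding_obj_top).op b))
    exact (MorphismProperty.arrow_mk_iso_iff @IsClosedImmersion
      (morphismRestrictRestrictBasicOpen i U b)).1 h1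
  · haveI : Module.Flat Γ(X, U) Γ(X, X.basicOpen b) :=
      IsLocalization.flat _ (Submonoid.powers b)
    exact seq_map_of_flat_ne k hk rs hreg
  · have hle : i ⁻¹ᵁ X.basicOpen b ≤ i ⁻¹ᵁ U := by
      intro x hx
      exact X.basicOpen_le b hx
    letI : Algebra Γ(Z, i ⁻¹ᵁ U) Γ(Z, i ⁻¹ᵁ X.basicOpen b) :=
      (Z.presheaf.map (homOfLE hle).op).hom.toAlgebra
    haveI : IsLocalization.Away ((i.app U).hom b) Γ(Z, i ⁻¹ᵁ X.basicOpen b) :=
      hU'.isLocalization_of_eq_basicOpen ((i.app U).hom b) (homOfLE hle)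
        (Scheme.preimage_basicOpen i b)
    have hcomm : (i.app (X.basicOpen b)).hom.comp (algebraMap Γ(X, U) Γ(X, X.basicOpen b)) =
        (algebraMap Γ(Z, i ⁻¹ᵁ U) Γ(Z, i ⁻¹ᵁ X.basicOpen b)).comp (i.app U).hom := by
      have := i.naturality (homOfLE (X.basicOpen_le b)).op
      exact congrArg CommRingCat.Hom.hom this
    rw [ker_loc (i.app U).hom (i.app (X.basicOpen b)).hom b hcomm, hker, ofList_map]

lemma PKk.comp {k₁ k₂ k : RegImm.Kind} (hk : CompKinds k₁ k₂ k) {i : Y ⟶ X} {j : Z ⟶ Y}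
    {U : X.Opens} (hU : IsAffineOpen U)
    (hi : PKk k₂ i U) (hj : PKk k₁ j (i ⁻¹ᵁ U)) : PKk k (j ≫ i) U := by
  obtain ⟨hcl, f, hf, hkf⟩ := hi
  obtain ⟨hcl', g, hg, hkg⟩ := hj
  have hsurj : Function.Surjective (i.app U).hom := app_surjective i hU hcl
  obtain ⟨g', rfl⟩ := List.map_surjective_iff.2 hsurj g
  refine ⟨?_, f ++ g', ?_, ?_⟩
  · rw [morphismRestrict_comp]
    exact @IsClosedImmersion.comp _ _ _ _ _ hcl' hcl
  · exact seq_append hk (i.app U).hom hsurj f g' hkf hf hg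
  · show RingHom.ker ((j.app (i ⁻¹ᵁ U)).hom.comp (i.app U).hom) = _
    exact ker_comp_eq_ofList (i.app U).hom (j.app (i ⁻¹ᵁ U)).hom hsurj f g' hkf hkg

/-- the key local statement. -/
theorem pkk_comp_at {k₁ k₂ k : RegImm.Kind} (hk : CompKinds k₁ k₂ k) (i : Y ⟶ X) (j : Z ⟶ Y)
    (z : Z) (U : X.affineOpens) (V : Y.affineOpens)
    (hzU : i (j z) ∈ U.1) (hzV : j z ∈ V.1) (hPi : PKk k₂ i U.1) (hPj : PKk k₁ j V.1) :
    ∃ U' : X.affineOpens, (j ≫ i) z ∈ U'.1 ∧ PKk k (j ≫ i) U'.1 := by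
  have hU' : IsAffineOpen (i ⁻¹ᵁ U.1) := isAffineOpen_preimage i U.2 hPi.1
  have hsurj : Function.Surjective (i.app U.1).hom := app_surjective i U.2 hPi.1
  obtain ⟨b', c, hbc, hzb⟩ := exists_basicOpen_le_affine_inter hU' V.2 (j z) ⟨hzU, hzV⟩
  obtain ⟨b, rfl⟩ := hsurj b'
  have hpre : i ⁻¹ᵁ X.basicOpen b = Y.basicOpen c := (Scheme.preimage_basicOpen i b).trans hbc
  have h1 := hPi.basicOpen hk.ne₂ U.2 b
  have h2 : PKk k₁ j (i ⁻¹ᵁ X.basicOpen b) := hpre ▸ hPj.basicOpen hk.ne₁ V.2 c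
  refine ⟨⟨X.basicOpen b, U.2.basicOpen b⟩, ?_, PKk.comp hk (U.2.basicOpen b) h1 h2⟩
  have h3 : j z ∈ i ⁻¹ᵁ X.basicOpen b := by
    rw [Scheme.preimage_basicOpen]
    exact hzb
  show (j ≫ i) z ∈ X.basicOpen b
  rw [Scheme.Hom.comp_apply]
  exact h3

/-- Composition of regular immersions of schemes for the admissible triples of kinds. -/
theorem comp_kind {k₁ k₂ k : RegImm.Kind} (hk : CompKinds k₁ k₂ k) (i : Y ⟶ X) (j : Z ⟶ Y)
    (hi : RegImm.IsRegularImmersion k₂ i) (hj : RegImm.IsRegularImmersion k₁ j) :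
    RegImm.IsRegularImmersion k (j ≫ i) := by
  obtain ⟨hi1, hi2⟩ := hi
  obtain ⟨hj1, hj2⟩ := hj
  refine ⟨inferInstance, fun z => ?_⟩
  obtain ⟨U, hzU, hclU, f, hf, hkf⟩ := hi2 (j z)
  obtain ⟨V, hzV, hclV, g, hg, hkg⟩ := hj2 z
  obtain ⟨U', hz', hcl', rs, hreg, hker⟩ :=
    pkk_comp_at hk i j z U V hzU hzV ⟨hclU, f, hf, hkf⟩ ⟨hclV, g, hg, hkg⟩
  exact ⟨U', hz', hcl', rs, hreg, hker⟩

end Groth.Agent.H56.RegImmCompKind
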