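import Mathlib
import Groth.Prelude.Def_Frob
import Groth.Prelude.Def_FrobAlg
import Groth.Agent.S14036

/-!
Flatness of the scheme-level relative Frobenius of a smooth morphism, from the ring-level
statement (S14036) (helper56).
-/

set_option autoImplicit false
set_option linter.style.haveILetI false
universe u
open CategoryTheory CategoryTheory.Limits AlgebraicGeometry TensorProduct

namespace Groth.Agent.H56.RelFrobSch

open Groth.Agent.H3.RelFrob

section Ring

variable (p : ℕ) [Fact p.Prime]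

theorem flat_of_isPushout {A B C : CommRingCat.{u}} (a : A ⟶ B) (Fr : A ⟶ A) (l : B ⟶ C)
    (r : A ⟶ C) (φ : C ⟶ B) (hpo : IsPushout a Fr l r) (hFr : ∀ x, Fr.hom x = x ^ p)
    (h1 : ∀ b, φ.hom (l.hom b) = b ^ p) (h2 : r ≫ φ = a)
    [CharP A p] [CharP B p] (hsm : a.hom.Smooth) : φ.hom.Flat := by
  letI : Algebra A B := a.hom.toAlgebra
  haveI : Algebra.Smooth A B := hsm
  have hflat : (FrobAlg.relFrob p A B).Flat := Groth.Agent.S14036.result p A B
  have hT := CommRingCat.isPushout_tensorProduct A B (FrobAlg.Twist p A)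
  let τ : CommRingCat.of (FrobAlg.Twist p A) ≅ A :=
    (FrobAlg.toTwist p A).symm.toCommRingCatIso
  let inr' : A ⟶ CommRingCat.of (B ⊗[A] FrobAlg.Twist p A) :=
    CommRingCat.ofHom ((Algebra.TensorProduct.includeRight (R := A) (A := B)
      (B := FrobAlg.Twist p A)).toRingHom.comp (FrobAlg.toTwist p A : A →+* FrobAlg.Twist p A))
  have hD : IsPushout a Fr (CommRingCat.ofHom (S := B ⊗[A] FrobAlg.Twist p A)
      Algebra.TensorProduct.includeLeftRingHom) inr' := by
    refine IsPushout.of_iso hT (Iso.refl _) (Iso.refl _) τ (Iso.refl _) ?_ ?_ ?_ ?_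
    · rfl
    · ext x
      show (FrobAlg.toTwist p A).symm (algebraMap A (FrobAlg.Twist p A) x) = Fr.hom x
      rw [FrobAlg.algebraMap_twist, RingEquiv.symm_apply_apply, hFr]
    · rfl
    · ext t
      show (1 : B) ⊗ₜ[A] t = (1 : B) ⊗ₜ[A] (FrobAlg.toTwist p A ((FrobAlg.toTwist p A).symm t))
      rw [RingEquiv.apply_symm_apply]
  let iso := hpo.isoIsPushout _ _ hD
  let ρ : CommRingCat.of (B ⊗[A] FrobAlg.Twist p A) ⟶ B := CommRingCat.ofHom (FrobAlg.relFrob p A B)
  have hφ : φ = iso.hom ≫ ρ := by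
    apply hpo.hom_ext
    · have e1 : l ≫ iso.hom = _ := IsPushout.inl_isoIsPushout_hom _ _ hpo hD
      rw [← Category.assoc, e1]
      ext b
      show φ.hom (l.hom b) = FrobAlg.relFrob p A B (b ⊗ₜ (1 : FrobAlg.Twist p A))
      rw [h1, relFrob_tmul_one]
    · have e2 : r ≫ iso.hom = _ := IsPushout.inr_isoIsPushout_hom _ _ hpo hD
      rw [← Category.assoc, e2, h2]
      ext x
      show a.hom x = FrobAlg.relFrob p A B ((1 : B) ⊗ₜ (FrobAlg.toTwist p A x))
      rw [relFrob_one_tmul, RingEquiv.symm_apply_apply]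
      rfl
  rw [hφ]
  exact RingHom.Flat.comp (RingHom.Flat.of_bijective (ConcreteCategory.bijective_of_isIso iso.hom))
    hflat

end Ring

section Sch

variable (p : ℕ) [Fact p.Prime]

lemma appLE_congr {X Y : Scheme.{u}} {g g' : X ⟶ Y} (hg : g = g') (U : Y.Opens) (V : X.Opens)
    (e : V ≤ g ⁻¹ᵁ U) (e' : V ≤ g' ⁻¹ᵁ U) : g.appLE U V e = g'.appLE U V e' := by
  subst hg; rfl

lemma frob_appLE_apply (X : Scheme.{u}) [FrobSch.IsCharP X p] (U : X.Opens)
    (e : U ≤ FrobSch.frob X p ⁻¹ᵁ U) (x : Γ(X, U)) :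
    ((FrobSch.frob X p).appLE U U e).hom x = x ^ p := by
  have h : (FrobSch.frob X p).appLE U U e = (FrobSch.frob X p).app U :=
    (Scheme.Hom.app_eq_appLE (FrobSch.frob X p)).symm
  rw [h]
  exact FrobSch.frob_app X p U x

theorem flat_relFrob {X S : Scheme.{u}} [FrobSch.IsCharP S p] (f : X ⟶ S) [Smooth f] :
    Flat (FrobSch.relFrob f p) := by
  haveI : FrobSch.IsCharP X p := FrobSch.IsCharP.of_hom f p
  rw [HasRingHomProperty.iff_exists_appLE (P := @Flat)
    (RingHom.Flat.stableUnderComposition.stableUnderCompositionWithLocalizationAway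
      RingHom.Flat.holdsForLocalizationAway).left]
  intro x
  obtain ⟨V', hV', hxV', -⟩ := exists_isAffineOpen_mem_and_subset (x := f x) (U := ⊤) trivial
  obtain ⟨U', hU', hxU', hUV⟩ :=
    exists_isAffineOpen_mem_and_subset (x := x) (U := f ⁻¹ᵁ V') hxV'
  have H : IsPullback (pullback.fst f (FrobSch.frob S p)) (pullback.snd f (FrobSch.frob S p)) f
      (FrobSch.frob S p) := IsPullback.of_hasPullback _ _
  have hVV : V' ≤ (FrobSch.frob S p) ⁻¹ᵁ V' := le_rfl
  have hUU : U' ≤ (FrobSch.frob X p) ⁻¹ᵁ U' := le_rfl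
  let UY : (FrobSch.frobTwist f p).Opens :=
    (pullback.fst f (FrobSch.frob S p)) ⁻¹ᵁ U' ⊓ (pullback.snd f (FrobSch.frob S p)) ⁻¹ᵁ V'
  have hUYaff : IsAffineOpen UY := by
    have : IsAffine V' := hV'
    have : IsAffine U' := hU'
    exact .of_isIso (Scheme.Hom.isPullback_resLE H hVV hUV rfl).isoPullback.hom
  have hpo := (isIso_pushoutSection_iff H hVV hUV (UY := UY) rfl).mp
    (isIso_pushoutSection_of_isAffineOpen H hVV hUV rfl hV' hV' hU')
  have e : U' ≤ (FrobSch.relFrob f p) ⁻¹ᵁ UY := by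
    intro y hy
    refine ⟨?_, ?_⟩
    · show (FrobSch.relFrob f p ≫ pullback.fst f (FrobSch.frob S p)) y ∈ U'
      rw [FrobSch.relFrob_fst]
      exact hy
    · show (FrobSch.relFrob f p ≫ pullback.snd f (FrobSch.frob S p)) y ∈ V'
      rw [FrobSch.relFrob_snd]
      exact hUV hy
  refine ⟨⟨UY, hUYaff⟩, ⟨U', hU'⟩, hxU', e, ?_⟩
  haveI : Nonempty V' := ⟨⟨f x, hxV'⟩⟩
  haveI : Nonempty U' := ⟨⟨x, hxU'⟩⟩
  haveI : CharP Γ(S, V') p :=
    (CharP.charP_iff_prime_eq_zero Fact.out).2 (FrobSch.natCast_eq_zero_app S p V')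
  haveI : CharP Γ(X, U') p :=
    (CharP.charP_iff_prime_eq_zero Fact.out).2 (FrobSch.natCast_eq_zero_app X p U')
  refine flat_of_isPushout p _ _ _ _ ((FrobSch.relFrob f p).appLE UY U' e) hpo
    (frob_appLE_apply p S V' hVV) ?_ ?_ (f.smooth_appLE hV' hU' hUV)
  · intro b
    have h3 := Scheme.Hom.appLE_comp_appLE (FrobSch.relFrob f p)
      (pullback.fst f (FrobSch.frob S p)) U' UY U' (by simp [UY]) e
    have h4 := appLE_congr (FrobSch.relFrob_fst f p) U' U'
      (e.trans ((TopologicalSpace.Opens.map (FrobSch.relFrob f p).base).map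
        (homOfLE (show UY ≤ (pullback.fst f (FrobSch.frob S p)) ⁻¹ᵁ U' by simp [UY]))).le) hUU
    have h5 := congrArg (fun k => k.hom b) (h3.trans h4)
    exact h5.trans (frob_appLE_apply p X U' hUU b)
  · have h3 := Scheme.Hom.appLE_comp_appLE (FrobSch.relFrob f p)
      (pullback.snd f (FrobSch.frob S p)) V' UY U' (by simp [UY]) e
    exact h3.trans (appLE_congr (FrobSch.relFrob_snd f p) V' U' _ hUV)

end Sch

end Groth.Agent.H56.RelFrobSch
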