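import Groth.Agent.H14.EtaleDim2
import Groth.Agent.H54.IrredFibres
import Groth.Agent.H54.AffineDim
import Groth.Agent.H54.SchemeDim
import Groth.Agent.S9448

/-!
# A smooth integral scheme over a field is smooth of relative dimension its dimension (helper56)
-/

set_option autoImplicit false
universe u
open CategoryTheory AlgebraicGeometry TopologicalSpace

namespace Groth.Agent.H56.SmoothDimField

/-- the ring-level computation: a domain `A`, étale over `K[x₁, …, x_d]`, has Krull dimension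
`d`. -/
theorem ringKrullDim_eq_of_etale (K : Type u) [Field K] (d : ℕ) (A : Type u) [CommRing A]
    [IsDomain A] (g : MvPolynomial (Fin d) K →+* A) (hg : g.Etale) :
    ringKrullDim A = (d : WithBot ℕ∞) := by
  letI : Algebra (MvPolynomial (Fin d) K) A := g.toAlgebra
  letI : Algebra K A := (g.comp MvPolynomial.C).toAlgebra
  haveI : IsScalarTower K (MvPolynomial (Fin d) K) A := IsScalarTower.of_algebraMap_eq' rfl
  haveI : Algebra.Etale (MvPolynomial (Fin d) K) A := RingHom.etale_algebraMap.mp hg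
  haveI : Algebra.FiniteType K A :=
    Algebra.FiniteType.trans (inferInstance : Algebra.FiniteType K (MvPolynomial (Fin d) K))
      inferInstance
  obtain ⟨m, hm⟩ := Ideal.exists_maximal A
  have h7 := Groth.Agent.H14.EtaleDim2.etale_dim_add_trdeg K d A m 0
    (Groth.Agent.S9448.trdeg_residueField_of_isMaximal K A m)
  rw [Nat.cast_zero, add_zero, IsLocalization.AtPrime.ringKrullDim_eq_height m
    (Localization.AtPrime m), Groth.Agent.H54.height_eq_ringKrullDim_of_isMaximal K A m] at h7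
  exact h7

theorem smoothOfRelativeDimension_of_isIntegral (K : Type u) [Field K] (X : Scheme.{u})
    (f : X ⟶ Spec (CommRingCat.of K)) [Smooth f] [IsIntegral X] (n : ℕ)
    (hn : topologicalKrullDim X = n) : SmoothOfRelativeDimension n f := by
  refine ⟨fun x => ?_⟩
  obtain ⟨V₁, hV₁, U₁, hU₁, hxU₁, e₁, hstd⟩ := Smooth.exists_isStandardSmooth f x
  obtain ⟨d, hd⟩ : ∃ d, (f.appLE V₁ U₁ e₁).hom.IsStandardSmoothOfRelativeDimension d := by
    obtain ⟨_, _, _, _, ⟨P⟩⟩ := hstd
    letI := (f.appLE V₁ U₁ e₁).hom.toAlgebra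
    exact ⟨_, ⟨_, _, _, ‹_›, P, rfl⟩⟩
  suffices hdn : d = n by
    subst hdn
    exact ⟨V₁, hV₁, U₁, hU₁, hxU₁, e₁, hd⟩
  -- `V₁` is everything
  obtain rfl : V₁ = ⊤ := by
    ext y
    simp only [Opens.coe_top, Set.mem_univ, iff_true]
    have : y = f x := Subsingleton.elim (α := PrimeSpectrum K) _ _
    rw [this]
    exact e₁ hxU₁
  haveI : Nonempty U₁ := ⟨⟨x, hxU₁⟩⟩
  -- the étale coordinates
  obtain ⟨g, hgC, hg⟩ := hd.exists_etale_mvPolynomial
  let eKR : K ≃+* Γ(Spec (CommRingCat.of K), ⊤) :=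
    (Scheme.ΓSpecIso (CommRingCat.of K)).symm.commRingCatIsoToRingEquiv
  have hg' : (g.comp (MvPolynomial.mapEquiv (Fin d) eKR :
      MvPolynomial (Fin d) K ≃+* MvPolynomial (Fin d) Γ(Spec (CommRingCat.of K), ⊤)).toRingHom).Etale :=
    RingHom.Etale.respectsIso.2 g _ hg
  have hdimA : ringKrullDim Γ(X, U₁) = (d : WithBot ℕ∞) :=
    ringKrullDim_eq_of_etale K d Γ(X, U₁) _ hg'
  -- the dimension of `X`
  have hft : (Spec.preimage (hU₁.fromSpec ≫ f)).hom.FiniteType := by
    have h : LocallyOfFiniteType (Spec.map (Spec.preimage (hU₁.fromSpec ≫ f))) := by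
      rw [Spec.map_preimage]; infer_instance
    exact (HasRingHomProperty.Spec_iff (P := @LocallyOfFiniteType)).mp h
  have h1 := Groth.Agent.H54.ringKrullDim_quotient_chart f hU₁.fromSpec
    (Spec.preimage (hU₁.fromSpec ≫ f)) (Spec.map_preimage _) hft (genericPoint (Spec Γ(X, U₁)))
  have hbot : (genericPoint (Spec Γ(X, U₁)) : PrimeSpectrum Γ(X, U₁)).asIdeal = ⊥ := by
    rw [genericPoint_eq_bot_of_affine]
    rfl
  have h2 : ringKrullDim (Γ(X, U₁) ⧸ (genericPoint (Spec Γ(X, U₁)) :
      PrimeSpectrum Γ(X, U₁)).asIdeal) = ringKrullDim Γ(X, U₁) := by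
    rw [hbot]
    exact ringKrullDim_eq_of_ringEquiv (RingEquiv.quotientBot _)
  have hgen : hU₁.fromSpec (genericPoint (Spec Γ(X, U₁))) = genericPoint X :=
    genericPoint_eq_of_isOpenImmersion hU₁.fromSpec
  have h3 := Groth.Agent.H54.topologicalKrullDim_eq_tdeg_of_generic f (genericPoint X)
    (fun y => genericPoint_specializes y)
  rw [hgen] at h1
  rw [h2, hdimA] at h1
  rw [hn, ← h1] at h3
  exact_mod_cast h3.symm

end Groth.Agent.H56.SmoothDimField
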