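import Groth.Agent.H56.SmoothSecAlg

/-!
# Length-tracking version of `SmoothSec.main` (helper56)

Same statement as `Groth.Agent.H56.SmoothSec.main`, for a ring map which is standard smooth of
relative dimension `n`; the regular sequence produced has length `n + fs.length`.
-/

set_option autoImplicit false
universe u
open RingTheory.Sequence

namespace Groth.Agent.H56.SmoothSecLen

open Groth.Agent.H56.SmoothSec

section Core
variable {A B C : Type u} [CommRing A] [CommRing B] [CommRing C]

theorem core_len (n : ℕ) [Algebra A B] [Algebra (MvPolynomial (Fin n) A) B]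
    [IsScalarTower A (MvPolynomial (Fin n) A) B]
    [Module.Flat (MvPolynomial (Fin n) A) B]
    [Algebra.FormallyUnramified (MvPolynomial (Fin n) A) B]
    [Algebra.FiniteType (MvPolynomial (Fin n) A) B]
    (φ : B →+* C)
    (hX : ∀ i, φ (algebraMap (MvPolynomial (Fin n) A) B (MvPolynomial.X i)) = 0)
    (hψ : Function.Surjective (φ.comp (algebraMap A B)))
    (fs : List A) (hfs : IsWeaklyRegular A fs)
    (hker : RingHom.ker (φ.comp (algebraMap A B)) = Ideal.ofList fs) :
    ∃ (b : B) (rs : List B), φ b = 1 ∧ rs.length = n + fs.length ∧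
      ∀ (B' : Type u) [CommRing B'] [Algebra B B'] [IsLocalization.Away b B'],
        IsWeaklyRegular B' (rs.map (algebraMap B B')) ∧
        (RingHom.ker φ).map (algebraMap B B') = Ideal.ofList (rs.map (algebraMap B B')) := by
  classical
  have hψ'apply : ∀ a : A, φ (algebraMap (MvPolynomial (Fin n) A) B
      (algebraMap A (MvPolynomial (Fin n) A) a)) = φ (algebraMap A B a) := fun a => by
    rw [← IsScalarTower.algebraMap_apply]
  have hψ' : Function.Surjective (φ.comp (algebraMap (MvPolynomial (Fin n) A) B)) := by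
    intro c
    obtain ⟨a, ha⟩ := hψ c
    refine ⟨algebraMap A (MvPolynomial (Fin n) A) a, ?_⟩
    rw [RingHom.comp_apply, hψ'apply]
    exact ha
  have hxsK : Ideal.ofList (xs A n) ≤
      RingHom.ker (φ.comp (algebraMap (MvPolynomial (Fin n) A) B)) := by
    rw [ofList_xs, Ideal.span_le]
    rintro _ ⟨i, rfl⟩
    exact hX i
  have hfsK : Ideal.ofList (fs.map (algebraMap A (MvPolynomial (Fin n) A))) ≤
      RingHom.ker (φ.comp (algebraMap (MvPolynomial (Fin n) A) B)) := by
    rw [← Ideal.map_ofList, Ideal.map_le_iff_le_comap, ← hker]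
    intro a ha
    rw [Ideal.mem_comap, RingHom.mem_ker, RingHom.comp_apply, hψ'apply]
    exact RingHom.mem_ker.mp ha
  have hK : RingHom.ker (φ.comp (algebraMap (MvPolynomial (Fin n) A) B)) =
      Ideal.ofList (xs A n ++ fs.map (algebraMap A (MvPolynomial (Fin n) A))) := by
    rw [Ideal.ofList_append]
    apply le_antisymm
    · intro p hp
      have h1 : p - MvPolynomial.C (MvPolynomial.constantCoeff p) ∈ Ideal.ofList (xs A n) := by
        rw [← ker_constantCoeff, RingHom.mem_ker, map_sub, MvPolynomial.constantCoeff_C, sub_self]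
      have h2 : MvPolynomial.constantCoeff p ∈ Ideal.ofList fs := by
        rw [← hker, RingHom.mem_ker, RingHom.comp_apply, ← hψ'apply]
        have h3 := RingHom.mem_ker.mp (hxsK h1)
        rw [RingHom.comp_apply, map_sub, map_sub] at h3
        have h4 := RingHom.mem_ker.mp hp
        rw [RingHom.comp_apply] at h4
        rw [h4, zero_sub, neg_eq_zero] at h3
        exact h3
      have h5 : MvPolynomial.C (MvPolynomial.constantCoeff p) ∈
          Ideal.ofList (fs.map (algebraMap A (MvPolynomial (Fin n) A))) := by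
        rw [← Ideal.map_ofList]
        exact Ideal.mem_map_of_mem _ h2
      have h6 : p = (p - MvPolynomial.C (MvPolynomial.constantCoeff p)) +
          MvPolynomial.C (MvPolynomial.constantCoeff p) := by ring
      rw [h6]
      exact Ideal.add_mem _ (Ideal.mem_sup_left h1) (Ideal.mem_sup_right h5)
    · exact sup_le hxsK hfsK
  obtain ⟨e, he0, hee, hkerφ⟩ := exists_idem (P := MvPolynomial (Fin n) A) φ hψ'
  rw [hK, Ideal.map_ofList] at hee hkerφ
  have hwr : IsWeaklyRegular B
      ((xs A n ++ fs.map (algebraMap A (MvPolynomial (Fin n) A))).map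
        (algebraMap (MvPolynomial (Fin n) A) B)) :=
    (xs_append_isWeaklyRegular A n fs hfs).of_flat
  refine ⟨1 - e, (xs A n ++ fs.map (algebraMap A (MvPolynomial (Fin n) A))).map
        (algebraMap (MvPolynomial (Fin n) A) B), by rw [map_sub, map_one, he0, sub_zero],
        by simp [xs], ?_⟩
  intro B' _ _ _
  haveI : Module.Flat B B' := IsLocalization.flat B' (Submonoid.powers (1 - e))
  refine ⟨hwr.of_flat, ?_⟩
  rw [hkerφ, Ideal.map_sup, Ideal.map_ofList, Ideal.map_span, Set.image_singleton]
  apply sup_eq_left.mpr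
  rw [Ideal.span_singleton_le_iff_mem]
  have hu : IsUnit (algebraMap B B' (1 - e)) := IsLocalization.Away.algebraMap_isUnit (1 - e)
  have h1 : algebraMap B B' e * algebraMap B B' (1 - e) ∈
      Ideal.ofList (((xs A n ++ fs.map (algebraMap A (MvPolynomial (Fin n) A))).map
        (algebraMap (MvPolynomial (Fin n) A) B)).map (algebraMap B B')) := by
    rw [← map_mul, ← Ideal.map_ofList]
    apply Ideal.mem_map_of_mem
    have : e * (1 - e) = -(e * e - e) := by ring
    rw [this]
    exact neg_mem hee
  obtain ⟨v, hv⟩ := hu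
  have h2 : algebraMap B B' e = (algebraMap B B' e * algebraMap B B' (1 - e)) * ↑v⁻¹ := by
    rw [← hv, mul_assoc, Units.mul_inv, mul_one]
  rw [h2]
  exact Ideal.mul_mem_right _ _ h1

/-- **Main algebraic statement.** -/
theorem main_len (n : ℕ) (f : A →+* B) (hf : f.IsStandardSmoothOfRelativeDimension n) (φ : B →+* C)
    (hψ : Function.Surjective (φ.comp f)) (fs : List A) (hfs : IsWeaklyRegular A fs)
    (hker : RingHom.ker (φ.comp f) = Ideal.ofList fs) :
    ∃ (b : B) (rs : List B), φ b = 1 ∧ rs.length = n + fs.length ∧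
      ∀ (B' : Type u) [CommRing B'] [Algebra B B'] [IsLocalization.Away b B'],
        IsWeaklyRegular B' (rs.map (algebraMap B B')) ∧
        (RingHom.ker φ).map (algebraMap B B') = Ideal.ofList (rs.map (algebraMap B B')) := by
  classical
  obtain ⟨g, hgC, hg⟩ := hf.exists_etale_mvPolynomial
  have hex : ∀ i : Fin n, ∃ a : A, φ (f a) = φ (g (MvPolynomial.X i)) := fun i => hψ _
  choose a ha using hex
  let τ₁ : MvPolynomial (Fin n) A →ₐ[A] MvPolynomial (Fin n) A :=
    MvPolynomial.aeval (fun i => MvPolynomial.X i - MvPolynomial.C (a i))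
  let τ₂ : MvPolynomial (Fin n) A →ₐ[A] MvPolynomial (Fin n) A :=
    MvPolynomial.aeval (fun i => MvPolynomial.X i + MvPolynomial.C (a i))
  have h12 : τ₁.comp τ₂ = AlgHom.id A _ := by
    apply MvPolynomial.algHom_ext
    intro i
    simp [τ₁, τ₂]
  have h21 : τ₂.comp τ₁ = AlgHom.id A _ := by
    apply MvPolynomial.algHom_ext
    intro i
    simp [τ₁, τ₂]
  let τ : MvPolynomial (Fin n) A ≃ₐ[A] MvPolynomial (Fin n) A := AlgEquiv.ofAlgHom τ₁ τ₂ h12 h21
  have hτX : ∀ i, τ (MvPolynomial.X i) = MvPolynomial.X i - MvPolynomial.C (a i) := by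
    intro i
    show τ₁ (MvPolynomial.X i) = _
    simp [τ₁]
  have hτC : ∀ r, τ (MvPolynomial.C r) = MvPolynomial.C r := by
    intro r
    show τ₁ (MvPolynomial.C r) = _
    simp [τ₁]
  obtain ⟨g', hg'def⟩ : ∃ g' : MvPolynomial (Fin n) A →+* B,
      g' = g.comp (τ : MvPolynomial (Fin n) A ≃+* MvPolynomial (Fin n) A).toRingHom := ⟨_, rfl⟩
  have hg' : g'.Etale := by
    rw [hg'def]
    exact RingHom.Etale.respectsIso.2 g _ hg
  have hg'apply : ∀ x, g' x = g (τ x) := fun x => by rw [hg'def]; rfl
  have hg'C : g'.comp MvPolynomial.C = f := by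
    ext r
    rw [RingHom.comp_apply, hg'apply, hτC, ← hgC, RingHom.comp_apply]
  have hg'X : ∀ i, φ (g' (MvPolynomial.X i)) = 0 := by
    intro i
    rw [hg'apply, hτX, map_sub, map_sub, ← ha i, ← hgC, RingHom.comp_apply, sub_self]
  letI : Algebra A B := f.toAlgebra
  letI : Algebra (MvPolynomial (Fin n) A) B := g'.toAlgebra
  haveI : IsScalarTower A (MvPolynomial (Fin n) A) B :=
    IsScalarTower.of_algebraMap_eq' hg'C.symm
  haveI : Algebra.Etale (MvPolynomial (Fin n) A) B := RingHom.etale_algebraMap.mp hg'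
  exact core_len n φ hg'X hψ fs hfs hker

end Core

end Groth.Agent.H56.SmoothSecLen
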