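import Groth.Agent.H56.SmoothSecSch
import Groth.Agent.H56.SmoothSecLen
import Groth.Prelude.Def_RegImm

/-!
# Codimension-tracking version of `SmoothSec.regular_of_smooth` (helper56)

If `p : X ⟶ S` is smooth of relative dimension `n` and `i : Y ⟶ X` is a closed immersion such that
`i ≫ p` is a closed immersion locally cut out by regular sequences of length `c`, then `i` is locally
cut out by regular sequences of length `n + c`.  In particular sections of `p` are regular immersions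
of codimension `n`.
-/

set_option autoImplicit false
universe u
open CategoryTheory AlgebraicGeometry RingTheory.Sequence TopologicalSpace

namespace Groth.Agent.H56.SmoothSecLen

open Groth.Agent.H56.SmoothSec

/-- standard smoothness of relative dimension `n` of `Γ(S, V₁) → Γ(X, U₁)` localizes to basic
opens. -/
lemma isStandardSmoothRelDim_appLE_basicOpen (n : ℕ) {X S : Scheme.{u}} (p : X ⟶ S) {U₁ : X.Opens}
    {V₁ : S.Opens}
    (hU₁ : IsAffineOpen U₁) (hV₁ : IsAffineOpen V₁) (e₁ : U₁ ≤ p ⁻¹ᵁ V₁)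
    (hstd : (p.appLE V₁ U₁ e₁).hom.IsStandardSmoothOfRelativeDimension n) (a : Γ(S, V₁))
    (hUV : X.basicOpen ((p.appLE V₁ U₁ e₁).hom a) ≤ p ⁻¹ᵁ S.basicOpen a) :
    (p.appLE (S.basicOpen a) (X.basicOpen ((p.appLE V₁ U₁ e₁).hom a))
      hUV).hom.IsStandardSmoothOfRelativeDimension n := by
  haveI := hV₁.isLocalization_basicOpen a
  haveI := hU₁.isLocalization_basicOpen ((p.appLE V₁ U₁ e₁).hom a)
  have key : (p.appLE (S.basicOpen a) (X.basicOpen ((p.appLE V₁ U₁ e₁).hom a)) hUV).hom =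
      IsLocalization.Away.map Γ(S, S.basicOpen a) Γ(X, X.basicOpen ((p.appLE V₁ U₁ e₁).hom a))
        (p.appLE V₁ U₁ e₁).hom a := by
    apply IsLocalization.ringHom_ext (Submonoid.powers a)
    rw [IsLocalization.Away.map, IsLocalization.map_comp]
    show (p.appLE _ _ hUV).hom.comp (S.presheaf.map (homOfLE (S.basicOpen_le a)).op).hom =
      (X.presheaf.map (homOfLE (X.basicOpen_le _)).op).hom.comp (p.appLE V₁ U₁ e₁).hom
    rw [← CommRingCat.hom_comp, ← CommRingCat.hom_comp, Scheme.Hom.map_appLE, Scheme.Hom.appLE_map]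
  rw [key]
  exact (RingHom.isStandardSmoothOfRelativeDimension_localizationPreserves n).away _ a _ _ hstd

/-- Let `X ⟶ S` be smooth and `i : Y ⟶ X` a closed immersion such that `i ≫ p` is a regular closed
immersion. Then `i` is a regular closed immersion. -/
theorem regular_of_smooth_len {X Y S : Scheme.{u}} (n c : ℕ) (p : X ⟶ S)
    [SmoothOfRelativeDimension n p] (i : Y ⟶ X)
    [IsClosedImmersion i] [IsClosedImmersion (i ≫ p)]
    (hj : ∀ y : Y, ∃ (V : S.Opens) (hV : IsAffineOpen V), (i ≫ p) y ∈ V ∧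
      ∃ fs : List Γ(S, V), fs.length = c ∧ RingTheory.Sequence.IsRegular Γ(S, V) fs ∧
        (i ≫ p).ker.ideal ⟨V, hV⟩ = Ideal.ofList fs) :
    ∀ y : Y, ∃ (U : X.Opens) (hU : IsAffineOpen U), i y ∈ U ∧
      ∃ rs : List Γ(X, U), rs.length = n + c ∧ RingTheory.Sequence.IsRegular Γ(X, U) rs ∧
        i.ker.ideal ⟨U, hU⟩ = Ideal.ofList rs := by
  intro y
  obtain ⟨V₀, hV₀, hsV₀, fs₀, hlen₀, hfs₀, hker₀⟩ := hj y
  have hpi : ∀ y' : Y, (i ≫ p) y' = p (i y') := fun y' => rfl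
  obtain ⟨V₁, hV₁, U₁, hU₁, hxU₁, e₁, hstd⟩ :=
    SmoothOfRelativeDimension.exists_isStandardSmoothOfRelativeDimension (n := n) (f := p) (i y)
  have hsV₁ : (i ≫ p) y ∈ V₁ := e₁ hxU₁
  -- an open `O` of `S` with `j⁻¹ O = i⁻¹ U₁`
  obtain ⟨O', hO'open, hO'⟩ :=
    ((i ≫ p).isClosedEmbedding.isInducing.isOpen_iff).mp (i ⁻¹ᵁ U₁).isOpen
  let O : S.Opens := ⟨O', hO'open⟩
  have hyO : (i ≫ p) y ∈ O := by
    have : y ∈ (i ≫ p) ⁻¹' O' := by rw [hO']; exact hxU₁
    exact this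
  have hsW : (i ≫ p) y ∈ V₁ ⊓ V₀ ⊓ O := ⟨⟨hsV₁, hsV₀⟩, hyO⟩
  obtain ⟨a, haW, hsa⟩ := hV₁.exists_basicOpen_le ⟨(i ≫ p) y, hsW⟩ hsV₁
  have hV : IsAffineOpen (S.basicOpen a) := hV₁.basicOpen a
  have hVV₀ : S.basicOpen a ≤ V₀ := haW.trans (inf_le_left.trans inf_le_right)
  have hVO : S.basicOpen a ≤ O := haW.trans inf_le_right
  obtain ⟨fa, hfa⟩ : ∃ fa : Γ(X, U₁), fa = (p.appLE V₁ U₁ e₁).hom a := ⟨_, rfl⟩
  have hU : IsAffineOpen (X.basicOpen fa) := hU₁.basicOpen fa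
  have hUeq : X.basicOpen fa = U₁ ⊓ p ⁻¹ᵁ S.basicOpen a := by
    rw [hfa, Scheme.Hom.appLE, CommRingCat.hom_comp, RingHom.comp_apply, Scheme.basicOpen_res,
      Scheme.preimage_basicOpen]
  have hUV : X.basicOpen fa ≤ p ⁻¹ᵁ S.basicOpen a := by rw [hUeq]; exact inf_le_right
  have hpre : i ⁻¹ᵁ X.basicOpen fa = (i ≫ p) ⁻¹ᵁ S.basicOpen a := by
    ext y'
    constructor
    · intro hy'
      have h1 : i y' ∈ U₁ ⊓ p ⁻¹ᵁ S.basicOpen a := hUeq ▸ hy'
      exact h1.2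
    · intro hy'
      have h1 : (i ≫ p) y' ∈ O' := hVO hy'
      have h2 : y' ∈ ((i ⁻¹ᵁ U₁ : Y.Opens) : Set Y) := by rw [← hO']; exact h1
      show i y' ∈ X.basicOpen fa
      rw [hUeq]
      exact ⟨h2, hy'⟩
  have hstdU : (p.appLE (S.basicOpen a) (X.basicOpen fa)
      hUV).hom.IsStandardSmoothOfRelativeDimension n := by
    subst hfa
    exact isStandardSmoothRelDim_appLE_basicOpen n p hU₁ hV₁ e₁ hstd a hUV
  -- the regular sequence on `V`
  obtain ⟨hfsV, hkerV⟩ := Groth.Agent.H9.isWeaklyRegular_restrict (i ≫ p).ker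
    (U := ⟨V₀, hV₀⟩) (W := ⟨S.basicOpen a, hV⟩) hVV₀ fs₀ hfs₀.toIsWeaklyRegular hker₀
  have hcomp : (i.app (X.basicOpen fa)).hom.comp (p.appLE (S.basicOpen a) (X.basicOpen fa) hUV).hom =
      ((i ≫ p).appLE (S.basicOpen a) (i ⁻¹ᵁ X.basicOpen fa) (le_of_eq hpre)).hom := by
    rw [← CommRingCat.hom_comp, i.app_eq_appLE, Scheme.Hom.appLE_comp_appLE]
  obtain ⟨hsurj, hkerψ⟩ := appLE_surjective_of_eq (i ≫ p) hV (i ⁻¹ᵁ X.basicOpen fa) hpre
    (le_of_eq hpre)
  have hψ : Function.Surjective ((i.app (X.basicOpen fa)).hom.comp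
      (p.appLE (S.basicOpen a) (X.basicOpen fa) hUV).hom) := by rw [hcomp]; exact hsurj
  have hkerψ' : RingHom.ker ((i.app (X.basicOpen fa)).hom.comp
      (p.appLE (S.basicOpen a) (X.basicOpen fa) hUV).hom) =
      Ideal.ofList (fs₀.map (S.presheaf.map (homOfLE hVV₀).op).hom) := by
    rw [hcomp, hkerψ]; exact hkerV
  obtain ⟨b, rs, hb1, hlen, H⟩ := Groth.Agent.H56.SmoothSecLen.main_len n (p.appLE (S.basicOpen a) (X.basicOpen fa) hUV).hom hstdU
    (i.app (X.basicOpen fa)).hom hψ _ hfsV hkerψ'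
  -- the final open
  have hU'' : IsAffineOpen (X.basicOpen b) := hU.basicOpen b
  haveI : IsLocalization.Away b Γ(X, X.basicOpen b) := hU.isLocalization_basicOpen b
  obtain ⟨hwr, hk⟩ := H Γ(X, X.basicOpen b)
  have hyU : i y ∈ X.basicOpen fa := by rw [hUeq]; exact ⟨hxU₁, hsa⟩
  have hy'' : i y ∈ X.basicOpen b := by
    have h1 : i ⁻¹ᵁ (X.basicOpen b) = Y.basicOpen ((i.app (X.basicOpen fa)).hom b) :=
      Scheme.preimage_basicOpen i b
    have h2 : Y.basicOpen ((i.app (X.basicOpen fa)).hom b) = i ⁻¹ᵁ X.basicOpen fa := by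
      rw [hb1]; exact Scheme.basicOpen_of_isUnit _ isUnit_one
    have : y ∈ i ⁻¹ᵁ (X.basicOpen b) := by rw [h1, h2]; exact hyU
    exact this
  have hkerU'' : i.ker.ideal ⟨X.basicOpen b, hU''⟩ =
      Ideal.ofList (rs.map (algebraMap Γ(X, X.basicOpen fa) Γ(X, X.basicOpen b))) := by
    have h1 := i.ker.map_ideal_basicOpen ⟨X.basicOpen fa, hU⟩ b
    rw [Scheme.Hom.ker_apply] at h1
    exact h1.symm.trans hk
  refine ⟨X.basicOpen b, hU'', hy'',
    rs.map (algebraMap Γ(X, X.basicOpen fa) Γ(X, X.basicOpen b)), ?_, ?_, hkerU''⟩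
  · rw [List.length_map, hlen, List.length_map, hlen₀]
  rw [Groth.Agent.H9.isRegular_ring_iff]
  exact ⟨hwr, fun htop =>
    Groth.Agent.H9.ker_ideal_ne_top i ⟨X.basicOpen b, hU''⟩ y hy'' (hkerU''.trans htop)⟩


/-- A closed immersion `i : Y ⟶ X` which is a section of a morphism `p : X ⟶ Y`, smooth of relative
dimension `n`, is a regular immersion of codimension `n`. -/
theorem section_isRegularImmersionOfCodim {X Y : Scheme.{u}} (n : ℕ) (p : X ⟶ Y)
    [SmoothOfRelativeDimension n p] (i : Y ⟶ X) [IsClosedImmersion i] (hip : i ≫ p = 𝟙 Y) :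
    RegImm.IsRegularImmersionOfCodim .regular n i := by
  haveI : IsClosedImmersion (i ≫ p) := by rw [hip]; infer_instance
  have hj : ∀ y : Y, ∃ (V : Y.Opens) (hV : IsAffineOpen V), (i ≫ p) y ∈ V ∧
      ∃ fs : List Γ(Y, V), fs.length = 0 ∧ RingTheory.Sequence.IsRegular Γ(Y, V) fs ∧
        (i ≫ p).ker.ideal ⟨V, hV⟩ = Ideal.ofList fs := by
    intro y
    obtain ⟨V, hV, hzV, -⟩ := exists_isAffineOpen_mem_and_subset (x := (i ≫ p) y) (U := ⊤) trivial
    haveI : Nonempty V := ⟨⟨_, hzV⟩⟩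
    refine ⟨V, hV, hzV, [], rfl, IsRegular.nil _ _, ?_⟩
    rw [Scheme.Hom.ker_apply, Ideal.ofList_nil, RingHom.ker_eq_bot_iff_eq_zero]
    intro x hx
    haveI : IsIso (i ≫ p) := by rw [hip]; infer_instance
    have hinj : Function.Injective ((i ≫ p).app V).hom :=
      (ConcreteCategory.bijective_of_isIso ((i ≫ p).app V)).1
    exact hinj (by rw [hx, map_zero])
  refine ⟨inferInstance, fun z => ?_⟩
  obtain ⟨U, hU, hzU, rs, hlen, hrs, hker⟩ := regular_of_smooth_len n 0 p i hj z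
  refine ⟨⟨U, hU⟩, hzU, IsZariskiLocalAtTarget.restrict ‹IsClosedImmersion i› U, rs,
    by rw [hlen, add_zero], hrs, ?_⟩
  rw [← hker, Scheme.Hom.ker_apply]

end Groth.Agent.H56.SmoothSecLen
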