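import Mathlib
import Groth.Prelude.Def_RegImm
import Groth.Agent.H56.LciSch3
import Groth.Agent.H56.LciLocal
import Groth.Agent.H51.FpqcLocPInst

/-!
Scheme-level consequences of the ring-level comparison "syntomic ↔ flat + lci" (helper56).

The ring-level comparison (statement S9287) enters as the hypothesis `RingLevel`.
-/

set_option autoImplicit false
set_option linter.style.haveILetI false
universe u
open CategoryTheory CategoryTheory.Limits AlgebraicGeometry

namespace Groth.Agent.H56.SyntSch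

open Groth.Agent.H56.LciSch Groth.Agent.H56.LciMor

/-- the ring-level comparison (statement S9287), used as a hypothesis here. -/
def RingLevel : Prop :=
  ∀ (R S : Type u) [CommRing R] [CommRing S] [Algebra R S],
    Synt.IsSyntomic R S ↔ Module.Flat R S ∧ LCI.IsLCI R S

theorem syntomic_iff (hR : RingLevel.{u}) {X S : Scheme.{u}} (f : X ⟶ S) :
    (Flat f ∧ ∀ x : X, Synt.IsKoszulAt f x) ↔ Synt.IsSyntomicMor f := by
  constructor
  · rintro ⟨hflat, hk⟩ x
    obtain ⟨W, hW, hxW, -⟩ := exists_isAffineOpen_mem_and_subset (x := f x) (U := ⊤) trivial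
    obtain ⟨U, hU, hxU, hUW⟩ :=
      exists_isAffineOpen_mem_and_subset (x := x) (U := f ⁻¹ᵁ W) hxW
    refine ⟨⟨U, hU⟩, ⟨W, hW⟩, hUW, hxU, ?_⟩
    letI := (f.appLE W U hUW).hom.toAlgebra
    have h1 : LCI.IsLCI Γ(S, W) Γ(X, U) := isLCIMor_of_isKoszulAt f hk U W hU hW hUW
    have h2 : Module.Flat Γ(S, W) Γ(X, U) := f.flat_appLE hW hU hUW
    exact (hR _ _).2 ⟨h2, h1⟩
  · intro h
    constructor
    · rw [HasRingHomProperty.iff_exists_appLE (P := @Flat)
        (RingHom.Flat.stableUnderComposition.stableUnderCompositionWithLocalizationAway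
          RingHom.Flat.holdsForLocalizationAway).left]
      intro x
      obtain ⟨U, V, e, hxU, hs⟩ := h x
      refine ⟨V, U, hxU, e, ?_⟩
      letI := (f.appLE V.1 U.1 e).hom.toAlgebra
      exact ((hR _ _).1 hs).1
    · intro x
      obtain ⟨U, V, e, hxU, hs⟩ := h x
      letI := (f.appLE V.1 U.1 e).hom.toAlgebra
      exact isKoszulAt_of_isLCI f x U.2 V.2 e hxU ((hR _ _).1 hs).2

theorem syntomic_descends (hR : RingLevel.{u}) {X Y Y' : Scheme.{u}} (f : X ⟶ Y) (g : Y' ⟶ Y)
    [Flat g] [Surjective g] [QuasiCompact g] (h : Synt.IsSyntomicMor (pullback.snd f g)) :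
    Synt.IsSyntomicMor f := by
  obtain ⟨hfl, hk⟩ := (syntomic_iff hR _).2 h
  have hg : (@Surjective ⊓ @Flat ⊓ @QuasiCompact : MorphismProperty Scheme.{u}) g :=
    ⟨⟨inferInstance, inferInstance⟩, inferInstance⟩
  have sq : IsPullback (pullback.snd f g) (pullback.fst f g) g f :=
    (IsPullback.of_hasPullback f g).flip
  refine (syntomic_iff hR f).1 ⟨?_, ?_⟩
  · have := Groth.Agent.H51.flat_descendsAlong_fpqc.{u}
    exact MorphismProperty.DescendsAlong.of_isPullback (P := @Flat)
      (Q := @Surjective ⊓ @Flat ⊓ @QuasiCompact) sq hg hfl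
  · have h3 : AlgSp.lci f :=
      MorphismProperty.DescendsAlong.of_isPullback (P := AlgSp.lci)
        (Q := @Surjective ⊓ @Flat ⊓ @QuasiCompact) sq hg hk
    exact h3

end Groth.Agent.H56.SyntSch
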