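import Mathlib
import Groth.Prelude.Def_DDual2
import Groth.Agent.H35.RestrictTor
import Groth.Agent.H56.WeakEtale

/-!
Ascent of tor amplitude along flat ring maps `A → B` for which flatness of `B`-modules can be
tested over `A` (e.g. weakly étale / ind-étale maps) (helper56).
-/

set_option autoImplicit false
set_option linter.style.haveILetI false
universe u
open CategoryTheory CategoryTheory.Limits Pretriangulated
attribute [local instance] HasDerivedCategory.standard

namespace Groth.Agent.H56.TorAscent

open DRing DerivedCategory Groth.Agent.H12.FlatCx Groth.Agent.H35.TorAmp Groth.Agent.H82.TorBC2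

section Trunc

variable {R : Type u} [CommRing R]

/-- a bounded above termwise flat complex which is exact below `a` and has flat
`coker(F^{a-1} → F^a)` has tor amplitude in `[a, b]`. -/
theorem hasTorAmplitudeIn_of_flat_Wq (F : Cx R) (a b : ℤ) (hF : VanishesAbove F b)
    (hflF : TermwiseFlat F) (hFge : F.IsGE a) (hW : Module.Flat R (Wq F (a - 1) a)) :
    HasTorAmplitudeIn R a b (toD F) := by
  refine ⟨F.truncGE a, ?_, ?_, ⟨(asIso (Q.map (F.πTruncGE a))).symm⟩⟩
  · intro i hi
    by_cases hia : i < a
    · exact (F.truncGE a).isZero_of_isStrictlyGE a i hia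
    · have hib : b < i := by omega
      by_cases hia' : i = a
      · subst hia'
        refine IsZero.of_iso ?_ (F.truncGEXIsoOpcycles i)
        exact IsZero.of_epi (F.pOpcycles _) (hF _ hib)
      · exact IsZero.of_iso (hF _ hib) (F.truncGEXIso a i (by omega))
  · intro i
    by_cases hia : i < a
    · have : Subsingleton ((F.truncGE a).X i) :=
        ModuleCat.subsingleton_of_isZero ((F.truncGE a).isZero_of_isStrictlyGE a i hia)
      infer_instance
    · by_cases hia' : i = a
      · subst hia'
        have e1 := (F.truncGEXIsoOpcycles i).toLinearEquiv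
        have e2 := opcyclesEquiv F (i - 1) i
          ((ComplexShape.up ℤ).prev_eq' (show (i - 1) + 1 = i by omega))
        exact Module.Flat.of_linearEquiv (e1 ≪≫ₗ e2)
      · have e1 := (F.truncGEXIso a i (by omega)).toLinearEquiv
        have := hflF i
        exact Module.Flat.of_linearEquiv e1

end Trunc

section Ascent

variable (A B : Type u) [CommRing A] [CommRing B] [Algebra A B]

lemma flat_Rs_Wq_of_flat (F : Cx B) (i j : ℤ)
    (h : Module.Flat A (Wq (((Rs A B).mapHomologicalComplex (ComplexShape.up ℤ)).obj F) i j)) :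
    Module.Flat A ((Rs A B).obj (ModuleCat.of B (Wq F i j))) := by
  let p : Submodule B (F.X j) := LinearMap.range (F.d i j).hom
  let g := ((Rs A B).map (ModuleCat.ofHom p.mkQ)).hom
  have hsurj : Function.Surjective g := fun y => p.mkQ_surjective y
  have hker : LinearMap.ker g = LinearMap.range
      ((((Rs A B).mapHomologicalComplex (ComplexShape.up ℤ)).obj F).d i j).hom := by
    ext x
    constructor
    · intro hx
      have hx' : p.mkQ x = 0 := hx
      rw [Submodule.mkQ_apply, Submodule.Quotient.mk_eq_zero] at hx'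
      obtain ⟨y, hy⟩ := hx'
      exact ⟨y, hy⟩
    · rintro ⟨y, hy⟩
      have hxp : x ∈ p := ⟨y, hy⟩
      show p.mkQ x = 0
      rw [Submodule.mkQ_apply, Submodule.Quotient.mk_eq_zero]
      exact hxp
  exact (Module.Flat.equiv_iff
    ((LinearMap.quotKerEquivOfSurjective g hsurj).symm.trans
      (Submodule.quotEquivOfEq _ _ hker))).2 h

/-- ascent of tor amplitude. -/
theorem hasTorAmplitudeIn_of_restrictD [Module.Flat A B]
    (hW : ∀ M : ModuleCat.{u} B, Module.Flat A ((Rs A B).obj M) → Module.Flat B M)
    (K : Dual.D B) (a b : ℤ)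
    (h : HasTorAmplitudeIn A a b ((restrictD (algebraMap A B)).obj K)) :
    HasTorAmplitudeIn B a b K := by
  obtain ⟨hH, -⟩ := hasFlatModel_of_hasTorAmplitudeIn h
  have hHK : ∀ i : ℤ, (i < a ∨ b < i) →
      IsZero ((homologyFunctor (ModuleCat.{u} B) i).obj K) := by
    intro i hi
    have h1 := hH i hi
    have e := (Groth.Agent.H56.mapDerivedCategoryHomologyIso
      (ModuleCat.restrictScalars.{u} (algebraMap A B)) i).app K
    exact Groth.Agent.H56.isZero_of_isZero_obj_of_faithful
      (ModuleCat.restrictScalars.{u} (algebraMap A B)) _ (h1.of_iso e.symm)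
  haveI : K.IsLE b := by
    rw [isLE_iff]
    intro i hi
    exact hHK i (Or.inr hi)
  obtain ⟨F, hF, hfree, ⟨eF⟩⟩ := exists_free_model_of_isLE K b
  have hflF := free_flat F hfree
  have hFge : F.IsGE a := by
    rw [CochainComplex.isGE_iff]
    intro i hi
    rw [exactAt_iff_isZero_H]
    exact (hHK i (Or.inl hi)).of_iso ((homologyFunctor (ModuleCat.{u} B) i).mapIso eF)
  have hFA : VanishesAbove (((Rs A B).mapHomologicalComplex (ComplexShape.up ℤ)).obj F) b :=
    fun i hi => (Rs A B).map_isZero (hF i hi)
  have hflFA : TermwiseFlat (((Rs A B).mapHomologicalComplex (ComplexShape.up ℤ)).obj F) :=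
    fun i => by
      haveI := hflF i
      exact Groth.Agent.H56.WeakEtale.flat_Rs A B (F.X i)
  have eA : toD (((Rs A B).mapHomologicalComplex (ComplexShape.up ℤ)).obj F) ≅
      (restrictD (algebraMap A B)).obj K :=
    ((ModuleCat.restrictScalars.{u} (algebraMap A B)).mapDerivedCategoryFactors.app F).symm ≪≫
      (restrictD (algebraMap A B)).mapIso eF
  have hamp := hasTorAmplitudeIn_of_iso eA.symm h
  have hWA := flat_cokernel _ b hFA hflFA a b hamp
  have hWB : Module.Flat B (Wq F (a - 1) a) :=
    hW (ModuleCat.of B (Wq F (a - 1) a)) (flat_Rs_Wq_of_flat A B F (a - 1) a hWA)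
  exact hasTorAmplitudeIn_of_iso eF (hasTorAmplitudeIn_of_flat_Wq F a b hF hflF hFge hWB)

theorem hasTorAmplitudeIn_restrictD_iff [Module.Flat A B]
    (hW : ∀ M : ModuleCat.{u} B, Module.Flat A ((Rs A B).obj M) → Module.Flat B M)
    (K : Dual.D B) (a b : ℤ) :
    HasTorAmplitudeIn A a b ((restrictD (algebraMap A B)).obj K) ↔ HasTorAmplitudeIn B a b K := by
  constructor
  · exact hasTorAmplitudeIn_of_restrictD A B hW K a b
  · intro h
    have hB : HasTorAmplitudeIn A (-((0 : ℕ) : ℤ)) 0 (Dual.inD A B) :=
      (hasTorDimLE_iff B 0).1 ((hasTorDimLE_zero_iff_flat B).2 inferInstance)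
    have h' := hasTorAmplitudeIn_restrictD A B 0 hB K a b h
    simpa using h'

/-- weakly étale case. -/
theorem hasTorAmplitudeIn_restrictD_iff_of_weaklyEtale [Algebra.WeaklyEtale A B]
    (K : Dual.D B) (a b : ℤ) :
    HasTorAmplitudeIn A a b ((restrictD (algebraMap A B)).obj K) ↔ HasTorAmplitudeIn B a b K :=
  hasTorAmplitudeIn_restrictD_iff A B
    (fun M hM => by
      haveI := hM
      have : Module.Flat B ((Rs A B).obj M) :=
        Groth.Agent.H56.WeakEtale.flat_of_flat A B (Algebra.WeaklyEtale.flat_lmul' A B)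
          ((Rs A B).obj M)
      exact this) K a b

end Ascent

end Groth.Agent.H56.TorAscent
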