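import Mathlib
import Groth.Prelude.Def_LCI2
import Groth.Agent.H56.GrFree
import Groth.Agent.H56.KzQuot
import Groth.Agent.H17.KE.TorKoszul
import Groth.Agent.H82.TorSymm
import Groth.Agent.H59.KoszTop

/-!
Tor-vanishing for powers of a Koszul-regular ideal (helper56).
* `isZero_map_pi`: a homological delta-functor vanishing on `X` vanishes on finite powers of `X`.
* `isZero_tor_pow`: if `Tor_{≥1}(J^n/J^{n+1}, N) = 0` for all `n` then `Tor_{≥1}(J^n, N) = 0`.
* `isZero_tor_quot`: `Tor_{≥1}(A/(fs), A') = 0` if `fs` and its image in `A'` are Koszul-regular.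
* `main`: the combination, for a quasi-regular sequence.
-/

set_option autoImplicit false
set_option linter.style.haveILetI false
universe u
open CategoryTheory CategoryTheory.Limits MonoidalCategory

namespace Groth.Agent.H56.TorPow

open Groth.Agent.H56.GrFree

variable {A : Type u} [CommRing A]

/-- `Tor_i(-, N)`. -/
noncomputable abbrev TN (N : ModuleCat.{u} A) (i : ℕ) : ModuleCat.{u} A ⥤ ModuleCat.{u} A :=
  (Tor (ModuleCat.{u} A) i).flip.obj N

open Groth.Agent.H82.LDer in
lemma isZero_map_of_isZero {T : ℕ → ModuleCat.{u} A ⥤ ModuleCat.{u} A} (hT : HasLES T) (i : ℕ)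
    {Z : ModuleCat.{u} A} (hZ : IsZero Z) : IsZero ((T i).obj Z) := by
  have hS : (ShortComplex.mk (𝟙 Z) (𝟙 Z) (hZ.eq_of_src _ _)).ShortExact :=
    ShortComplex.ShortExact.mk' (ShortComplex.exact_of_isZero_X₂ _ hZ) inferInstance inferInstance
  obtain ⟨h0, -, -⟩ := hT _ hS i
  dsimp only at h0
  rw [CategoryTheory.Functor.map_id, Category.comp_id] at h0
  exact (IsZero.iff_id_eq_zero _).2 h0

open Groth.Agent.H82.LDer in
lemma isZero_map_pi {T : ℕ → ModuleCat.{u} A ⥤ ModuleCat.{u} A} (hT : HasLES T) (i : ℕ)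
    (X : Type u) [AddCommGroup X] [Module A X] (h : IsZero ((T i).obj (ModuleCat.of A X)))
    (ι : Type) [Fintype ι] : IsZero ((T i).obj (ModuleCat.of A (ι → X))) := by
  refine Fintype.induction_empty_option
    (P := fun ι _ => IsZero ((T i).obj (ModuleCat.of A (ι → X)))) ?_ ?_ ?_ ι
  · intro α β _ e hα
    exact IsZero.of_iso hα ((T i).mapIso (LinearEquiv.funCongrLeft A X e).toModuleIso)
  · exact isZero_map_of_isZero hT i (ModuleCat.isZero_of_subsingleton _)
  · intro α _ hα
    have hS : (ShortComplex.mk (ModuleCat.ofHom (LinearMap.inl A X (α → X)))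
        (ModuleCat.ofHom (LinearMap.snd A X (α → X))) (by
          apply ModuleCat.hom_ext
          apply LinearMap.ext
          intro x
          rfl)).ShortExact :=
      ModuleCat.shortComplex_shortExact _ Function.Exact.inl_snd LinearMap.inl_injective
        LinearMap.snd_surjective
    obtain ⟨h0, h1, -⟩ := hT _ hS i
    have h2 : IsZero ((T i).obj (ModuleCat.of A (X × (α → X)))) :=
      (h1 h0).isZero_of_both_isZero h hα
    exact IsZero.of_iso h2 ((T i).mapIso
      (LinearEquiv.piOptionEquivProd (R := A) (M := fun _ : Option α => X)).toModuleIso)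

/-- `0 → K → M → M/K → 0`. -/
noncomputable def sesSub {M : Type u} [AddCommGroup M] [Module A M] (K : Submodule A M) :
    ShortComplex (ModuleCat.{u} A) :=
  ShortComplex.mk (ModuleCat.ofHom K.subtype) (ModuleCat.ofHom K.mkQ) (by
    apply ModuleCat.hom_ext
    apply LinearMap.ext
    intro x
    show K.mkQ (K.subtype x) = 0
    rw [Submodule.mkQ_apply, Submodule.Quotient.mk_eq_zero]
    exact x.2)

lemma sesSub_shortExact {M : Type u} [AddCommGroup M] [Module A M] (K : Submodule A M) :
    (sesSub K).ShortExact :=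
  ModuleCat.shortComplex_shortExact _ (LinearMap.exact_subtype_mkQ K) K.injective_subtype
    K.mkQ_surjective

theorem isZero_tor_pow (J : Ideal A) (N : ModuleCat.{u} A)
    (hgr : ∀ n m : ℕ, IsZero ((TN N (m + 1)).obj (ModuleCat.of A
      (↥(J ^ n) ⧸ Submodule.comap (J ^ n).subtype (J ^ (n + 1)))))) :
    ∀ n m : ℕ, IsZero ((TN N (m + 1)).obj (ModuleCat.of A ↥(J ^ n))) := by
  intro n
  induction n with
  | zero =>
    intro m
    have e : A ≃ₗ[A] ↥(J ^ 0) :=
      (Submodule.topEquiv (R := A) (M := A)).symm.trans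
        (LinearEquiv.ofEq _ _ (by rw [pow_zero, Ideal.one_eq_top]))
    haveI : Module.Projective A ↥(J ^ 0) := Module.Projective.of_equiv e
    have hP : Projective (ModuleCat.of A ↥(J ^ 0)) :=
      (IsProjective.iff_projective (R := A) (P := ↥(J ^ 0))).1 inferInstance
    exact Groth.Agent.H82.TorSymm.vanish_T' N m _ hP
  | succ n ih =>
    intro m
    obtain ⟨-, -, δ, w₁, w₂, -, e2⟩ := Groth.Agent.H82.TorLib.hasLES_tor_flip N
      (sesSub (Submodule.comap (J ^ n).subtype (J ^ (n + 1))))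
      (sesSub_shortExact _) (m + 1)
    have hmid : IsZero ((TN N (m + 1)).obj
        (ModuleCat.of A ↥(Submodule.comap (J ^ n).subtype (J ^ (n + 1))))) :=
      e2.isZero_of_both_isZero (hgr n (m + 1)) (ih m)
    have eK : ↥(Submodule.comap (J ^ n).subtype (J ^ (n + 1))) ≃ₗ[A] ↥(J ^ (n + 1)) :=
      Submodule.comapSubtypeEquivOfLe (Ideal.pow_le_pow_right (Nat.le_succ n))
    exact IsZero.of_iso hmid ((TN N (m + 1)).mapIso eK.symm.toModuleIso)

section quot

open Groth.Agent.H59.Kosz Groth.Agent.H56.KzSwap Groth.Agent.H17.KE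

variable {A' : Type u} [CommRing A'] [Algebra A A']

/-- `A'` as an `A`-module is the restriction of scalars of `A'`. -/
noncomputable def selfRestrictIso :
    ModuleCat.of A A' ≅ (ModuleCat.restrictScalars (algebraMap A A')).obj (ModuleCat.of A' A') :=
  (LinearEquiv.ofBijective
    ({ toFun := fun x => x
       map_add' := fun _ _ => rfl
       map_smul' := fun r x => Algebra.smul_def r x } :
      A' →ₗ[A] ((ModuleCat.restrictScalars (algebraMap A A')).obj (ModuleCat.of A' A')))
    ⟨fun _ _ h => h, fun x => ⟨x, rfl⟩⟩).toModuleIso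

theorem acyc_kz_self (fs : List A)
    (hfs' : LCI.IsKoszulRegularSeq A' (fs.map (algebraMap A A'))) (j : ℤ) (hj : j < 0) :
    Acyc (kz (sgl (ModuleCat.of A A')) fs) j := by
  let e1 : sgl (ModuleCat.of A A') ≅
      ((ModuleCat.restrictScalars (algebraMap A A')).mapHomologicalComplex
        (ComplexShape.up ℤ)).obj (sgl (ModuleCat.of A' A')) :=
    (HomologicalComplex.single _ (ComplexShape.up ℤ) 0).mapIso selfRestrictIso ≪≫
      ((HomologicalComplex.singleMapHomologicalComplex
        (ModuleCat.restrictScalars (algebraMap A A')) (ComplexShape.up ℤ) 0).app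
        (ModuleCat.of A' A')).symm
  obtain ⟨e2⟩ := nonempty_map_kz_iso (ModuleCat.restrictScalars (algebraMap A A'))
    (sgl (ModuleCat.of A' A')) (l := fs.map (algebraMap A A')) (l' := fs)
    (by
      rw [List.forall₂_map_left_iff, List.forall₂_same]
      intro r _ M
      exact restrict_map_smul (algebraMap A A') r M)
  have h' := (isKoszulRegularSeq_iff _).1 hfs' j hj
  exact (acyc_iff_of_iso (kzIso e1 fs ≪≫ e2.symm) j).2
    ((acyc_restrict_iff (algebraMap A A') _ j).2 h')

theorem isZero_tor_quot (fs : List A) (hfs : LCI.IsKoszulRegularSeq A fs)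
    (hfs' : LCI.IsKoszulRegularSeq A' (fs.map (algebraMap A A'))) (m : ℕ) :
    IsZero (((Tor (ModuleCat.{u} A) (m + 1)).obj
      (ModuleCat.of A (A ⧸ Ideal.span {x | x ∈ fs}))).obj (ModuleCat.of A A')) := by
  obtain ⟨e⟩ := nonempty_koszul_iso fs
  obtain ⟨φ0⟩ := nonempty_top_iso A fs
  have hsub : (Ideal.ofList fs • (⊤ : Submodule A A)) = Ideal.span {x | x ∈ fs} := by
    show Ideal.span {a | a ∈ fs} • (⊤ : Ideal A) = _
    rw [smul_eq_mul, Ideal.mul_top]
  let φ : (Koszul.koszul A fs).homology 0 ≅ ModuleCat.of A (A ⧸ Ideal.span {x | x ∈ fs}) :=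
    (HomologicalComplex.homologyFunctor _ _ 0).mapIso e ≪≫ φ0 ≪≫
      (Submodule.quotEquivOfEq _ _ hsub).toModuleIso
  have hE : ∀ i : ℤ, 0 < i → IsZero ((Koszul.koszul A fs).X i) := fun i hi =>
    IsZero.of_iso (isZero_kz_pos (ModuleCat.of A A) fs i hi)
      ((HomologicalComplex.eval _ _ i).mapIso e)
  have hp : ∀ i, Projective ((Koszul.koszul A fs).X i) := by
    intro i
    haveI := free_X_kz fs i
    have h : Projective ((kz (sgl (ModuleCat.of A A)) fs).X i) := inferInstance
    exact Projective.of_iso ((HomologicalComplex.eval _ _ i).mapIso e).symm h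
  have hex : ∀ i : ℤ, i ≠ 0 → (Koszul.koszul A fs).ExactAt i := by
    intro i hi
    rw [HomologicalComplex.exactAt_iff_isZero_homology]
    exact hfs i hi
  obtain ⟨t⟩ := nonempty_tor_succ_iso (ModuleCat.of A (A ⧸ Ideal.span {x | x ∈ fs}))
    (Koszul.koszul A fs) hE hp hex φ (ModuleCat.of A A') m
  obtain ⟨b⟩ := bridge (ModuleCat.of A A') fs
  have hk : IsZero ((kz (sgl (ModuleCat.of A A')) fs).homology (-((m + 1 : ℕ) : ℤ))) :=
    (acyc_iff _ _).1 (acyc_kz_self fs hfs' _ (by omega))
  have hb : IsZero ((DRing.tensorCx (Koszul.koszul A fs) (ModuleCat.of A A')).homology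
      (-((m + 1 : ℕ) : ℤ))) :=
    IsZero.of_iso hk ((HomologicalComplex.homologyFunctor _ _ (-((m + 1 : ℕ) : ℤ))).mapIso b)
  exact IsZero.of_iso hb t

end quot

/-- Combination: for a quasi-regular sequence `f` generating `J`, if `Tor_{≥1}(A/J, N) = 0` then
`Tor_{≥1}(J^n, N) = 0` and `Tor_{≥1}(J^n/J^{n+1}, N) = 0`. -/
theorem main {c : ℕ} (f : Fin c → A) (hq : CAlgX.IsQuasiRegular f) (J : Ideal A)
    (hJ : J = Ideal.span (Set.range f)) (N : ModuleCat.{u} A)
    (h1 : ∀ m : ℕ, IsZero ((TN N (m + 1)).obj (ModuleCat.of A (A ⧸ J)))) (n m : ℕ) :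
    IsZero ((TN N (m + 1)).obj (ModuleCat.of A ↥(J ^ n))) ∧
    IsZero ((TN N (m + 1)).obj (ModuleCat.of A
      (↥(J ^ n) ⧸ Submodule.comap (J ^ n).subtype (J ^ (n + 1))))) := by
  subst hJ
  have hgr : ∀ n m : ℕ, IsZero ((TN N (m + 1)).obj (ModuleCat.of A
      (↥(Ideal.span (Set.range f) ^ n) ⧸ Submodule.comap (Ideal.span (Set.range f) ^ n).subtype
        (Ideal.span (Set.range f) ^ (n + 1))))) := by
    intro n m
    exact IsZero.of_iso (isZero_map_pi (Groth.Agent.H82.TorLib.hasLES_tor_flip N) (m + 1) _ (h1 m)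
        (Idx c n))
      ((TN N (m + 1)).mapIso (grEquiv n f hq).toModuleIso)
  exact ⟨isZero_tor_pow _ N hgr n m, hgr n m⟩

end Groth.Agent.H56.TorPow
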