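import Groth.Agent.H56.InjAmp
import Groth.Agent.H56.ConeLift
import Mathlib.CategoryTheory.Abelian.Refinements
import Mathlib.Algebra.Homology.DerivedCategory.KProjective

set_option autoImplicit false
universe w v u
open CategoryTheory CategoryTheory.Limits Pretriangulated

namespace Groth.Agent.H56

open DerivedCategory

variable {A : Type u} [Category.{v} A] [Abelian A]

section PB

variable {K J : CochainComplex A ℤ} (j : K ⟶ J)

lemma isIso_cyclesMap_neg_one (hK : IsZero (K.X (-2))) (hJ : IsZero (J.X (-2)))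
    [IsIso (HomologicalComplex.homologyMap j (-1))] :
    IsIso (HomologicalComplex.cyclesMap j (-1)) := by
  have h1 : IsIso (K.homologyπ (-1)) :=
    K.isIso_homologyπ (-2) (-1) (by simp) (hK.eq_of_src _ _)
  have h2 : IsIso (J.homologyπ (-1)) :=
    J.isIso_homologyπ (-2) (-1) (by simp) (hJ.eq_of_src _ _)
  have h3 : HomologicalComplex.cyclesMap j (-1) =
      K.homologyπ (-1) ≫ HomologicalComplex.homologyMap j (-1) ≫ inv (J.homologyπ (-1)) := by
    rw [← Category.assoc, HomologicalComplex.homologyπ_naturality, Category.assoc,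
      IsIso.hom_inv_id, Category.comp_id]
  rw [h3]
  infer_instance

/-- uniqueness part of the pullback property of the square
`K⁻¹ → Z⁰K`, `J⁻¹ → Z⁰J`. -/
lemma pb_unique (hK : IsZero (K.X (-2))) (hJ : IsZero (J.X (-2)))
    [IsIso (HomologicalComplex.homologyMap j (-1))] {W : A} (y : W ⟶ K.X (-1))
    (h1 : y ≫ K.d (-1) 0 = 0) (h2 : y ≫ j.f (-1) = 0) : y = 0 := by
  have := isIso_cyclesMap_neg_one j hK hJ
  have h3 : K.liftCycles y 0 (by simp) h1 ≫ HomologicalComplex.cyclesMap j (-1) = 0 := by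
    rw [← cancel_mono (J.iCycles (-1)), zero_comp, Category.assoc,
      HomologicalComplex.cyclesMap_i, HomologicalComplex.liftCycles_i_assoc, h2]
  have h4 : K.liftCycles y 0 (by simp) h1 = 0 := by
    rw [← cancel_mono (HomologicalComplex.cyclesMap j (-1)), h3, zero_comp]
  have h5 := K.liftCycles_i y 0 (by simp) h1
  rw [h4, zero_comp] at h5
  exact h5.symm

/-- existence part of the pullback property. -/
lemma pb_exists (hK : IsZero (K.X (-2))) (hJ : IsZero (J.X (-2)))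
    [IsIso (HomologicalComplex.homologyMap j (-1))]
    [Mono (HomologicalComplex.homologyMap j 0)] {W : A}
    (α : W ⟶ K.X 0) (hα : α ≫ K.d 0 1 = 0) (β : W ⟶ J.X (-1))
    (hαβ : α ≫ j.f 0 = β ≫ J.d (-1) 0) :
    ∃ γ : W ⟶ K.X (-1), γ ≫ K.d (-1) 0 = α ∧ γ ≫ j.f (-1) = β := by
  have := isIso_cyclesMap_neg_one j hK hJ
  have h1 : K.liftCycles α 1 (by simp) hα ≫ K.homologyπ 0 = 0 := by
    have h2 : K.liftCycles α 1 (by simp) hα ≫ HomologicalComplex.cyclesMap j 0 =
        β ≫ J.toCycles (-1) 0 := by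
      rw [← cancel_mono (J.iCycles 0), Category.assoc, HomologicalComplex.cyclesMap_i,
        HomologicalComplex.liftCycles_i_assoc, Category.assoc, HomologicalComplex.toCycles_i,
        hαβ]
    rw [← cancel_mono (HomologicalComplex.homologyMap j 0), zero_comp, Category.assoc,
      HomologicalComplex.homologyπ_naturality, ← Category.assoc, h2, Category.assoc,
      HomologicalComplex.toCycles_comp_homologyπ, comp_zero]
  obtain ⟨A', π, hπ, x₁, hx₁⟩ :=
    (CokernelCofork.IsColimit.comp_π_eq_zero_iff_up_to_refinements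
      (K.homologyIsCokernel (-1) 0 (by simp)) (K.liftCycles α 1 (by simp) hα)).1 h1
  have hx₁' : x₁ ≫ K.d (-1) 0 = π ≫ α := by
    have := hx₁ =≫ K.iCycles 0
    simp only [Category.assoc, HomologicalComplex.liftCycles_i,
      HomologicalComplex.toCycles_i] at this
    exact this.symm
  have hδ : (x₁ ≫ j.f (-1) - π ≫ β) ≫ J.d (-1) 0 = 0 := by
    rw [Preadditive.sub_comp, Category.assoc, Category.assoc, ← hαβ,
      HomologicalComplex.Hom.comm, ← Category.assoc, hx₁', Category.assoc, sub_self]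
  obtain ⟨z, hz⟩ : ∃ z : A' ⟶ K.cycles (-1), z ≫ HomologicalComplex.cyclesMap j (-1) =
      J.liftCycles _ 0 (by simp) hδ :=
    ⟨J.liftCycles _ 0 (by simp) hδ ≫ inv (HomologicalComplex.cyclesMap j (-1)), by
      rw [Category.assoc, IsIso.inv_hom_id, Category.comp_id]⟩
  have hz' : z ≫ K.iCycles (-1) ≫ j.f (-1) = x₁ ≫ j.f (-1) - π ≫ β := by
    rw [← HomologicalComplex.cyclesMap_i, ← Category.assoc, hz,
      HomologicalComplex.liftCycles_i]
  have hγ1 : (x₁ - z ≫ K.iCycles (-1)) ≫ K.d (-1) 0 = π ≫ α := by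
    rw [Preadditive.sub_comp, Category.assoc, HomologicalComplex.iCycles_d, comp_zero,
      sub_zero, hx₁']
  have hγ2 : (x₁ - z ≫ K.iCycles (-1)) ≫ j.f (-1) = π ≫ β := by
    rw [Preadditive.sub_comp, Category.assoc, hz', sub_sub_cancel]
  have hker : kernel.ι π ≫ (x₁ - z ≫ K.iCycles (-1)) = 0 := by
    apply pb_unique j hK hJ
    · rw [Category.assoc, hγ1, kernel.condition_assoc, zero_comp]
    · rw [Category.assoc, hγ2, kernel.condition_assoc, zero_comp]
  refine ⟨Abelian.epiDesc π _ hker, ?_, ?_⟩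
  · rw [← cancel_epi π, Abelian.comp_epiDesc_assoc, hγ1]
  · rw [← cancel_epi π, Abelian.comp_epiDesc_assoc, hγ2]

lemma exists_lift_toCycles_of_projective (J : CochainComplex A ℤ) {P : A} [Projective P]
    (y : P ⟶ J.cycles 0) (hy : y ≫ J.homologyπ 0 = 0) :
    ∃ x : P ⟶ J.X (-1), x ≫ J.toCycles (-1) 0 = y := by
  obtain ⟨A', π, hπ, x, hx⟩ :=
    (CokernelCofork.IsColimit.comp_π_eq_zero_iff_up_to_refinements
      (J.homologyIsCokernel (-1) 0 (by simp)) y).1 hy
  exact ⟨Projective.factorThru (𝟙 P) π ≫ x, by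
    rw [Category.assoc, ← hx, Projective.factorThru_comp_assoc, Category.id_comp]⟩

end PB

section Homotopy

open CochainComplex.HomComplex

/-- a chain map which is the "boundary" of a single map `h : M⁰ ⟶ K⁻¹` is null-homotopic. -/
lemma homotopy_zero_of_single {M K : CochainComplex A ℤ} (f : M ⟶ K) (h : M.X 0 ⟶ K.X (-1))
    (h0 : f.f 0 = h ≫ K.d (-1) 0) (h1 : f.f (-1) = M.d (-1) 0 ≫ h)
    (h2 : ∀ p : ℤ, p ≠ 0 → p ≠ -1 → f.f p = 0) : Nonempty (Homotopy f 0) := by
  refine ⟨(Cochain.equivHomotopy f 0).symm ⟨Cochain.single h (-1), ?_⟩⟩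
  rw [Cochain.ofHom_zero, add_zero,
    Cochain.δ_single h (-1) 0 (by simp) (-1) 0 (by simp) (by simp)]
  refine Cochain.ext₀ _ _ (fun p => ?_)
  rw [Cochain.ofHom_v, Cochain.add_v, Cochain.units_smul_v, Int.negOnePow_zero, one_smul]
  by_cases hp0 : p = 0
  · subst hp0
    rw [Cochain.single_v, Cochain.single_v_eq_zero _ _ _ _ _ (by omega), add_zero, h0]
  · by_cases hp1 : p = -1
    · subst hp1
      rw [Cochain.single_v, Cochain.single_v_eq_zero _ _ _ _ _ (by omega), zero_add, h1]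
    · rw [Cochain.single_v_eq_zero _ _ _ _ _ hp0, Cochain.single_v_eq_zero _ _ _ _ _ hp1,
        add_zero, h2 p hp0 hp1]

/-- constructor for chain maps with two nonzero components. -/
lemma exists_chainMap_of_two {M K : CochainComplex A ℤ} (φ0 : M.X 0 ⟶ K.X 0)
    (γ : M.X (-1) ⟶ K.X (-1)) (h1 : φ0 ≫ K.d 0 1 = 0)
    (h2 : γ ≫ K.d (-1) 0 = M.d (-1) 0 ≫ φ0) (h3 : M.d (-2) (-1) ≫ γ = 0) :
    ∃ φ : M ⟶ K, φ.f 0 = φ0 ∧ φ.f (-1) = γ := by
  have hδ : δ 0 1 (Cochain.single φ0 0 + Cochain.single γ 0) = 0 := by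
    rw [δ_add, Cochain.δ_single φ0 0 1 (by simp) (-1) 1 (by simp) (by simp),
      Cochain.δ_single γ 0 1 (by simp) (-2) 0 (by simp) (by simp), h1, h2, h3]
    simp
  refine ⟨Cocycle.homOf (Cocycle.mk _ 1 (by simp) hδ), ?_, ?_⟩
  · rw [Cocycle.homOf_f, Cocycle.mk_coe, Cochain.add_v, Cochain.single_v,
      Cochain.single_v_eq_zero _ _ _ _ _ (by omega), add_zero]
  · rw [Cocycle.homOf_f, Cocycle.mk_coe, Cochain.add_v, Cochain.single_v γ 0 (by omega),
      Cochain.single_v_eq_zero _ _ _ _ _ (by omega), zero_add]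

end Homotopy

section Derived

variable [HasDerivedCategory.{w} A]

/-- `Hom_K(M, K) → Hom_D(M, K)` is injective for `M` in degrees `≤ 0`, `K` in degrees `≥ -1`:
chain-level form. -/
lemma exists_homotopy_of_Q_map_eq_zero [EnoughInjectives A] {M K : CochainComplex A ℤ}
    (hM : IsZero (M.X 1)) (hK : ∀ i : ℤ, i ≤ -2 → IsZero (K.X i))
    (f : M ⟶ K) (hf : Q.map f = 0) :
    ∃ h : M.X 0 ⟶ K.X (-1), f.f 0 = h ≫ K.d (-1) 0 ∧ f.f (-1) = M.d (-1) 0 ≫ h := by
  have : K.IsStrictlyGE (-1) := (K.isStrictlyGE_iff (-1)).2 (fun i hi => hK i (by omega))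
  obtain ⟨J, j, hj, hJ, hJa⟩ :=
    CochainComplex.Plus.modelCategoryQuillen.exists_quasiIso_injective K (-1)
  have : J.IsKInjective := CochainComplex.isKInjective_of_injective J (-1)
  have hJ2 : IsZero (J.X (-2)) := J.isZero_of_isStrictlyGE (-1) (-2) (by omega)
  have hK2 : IsZero (K.X (-2)) := hK (-2) le_rfl
  obtain ⟨k⟩ := homotopy_zero_of_Q_map_eq_zero (f ≫ j)
    (by rw [Functor.map_comp, hf, zero_comp])
  have hM1 : M.d 0 1 = 0 := hM.eq_of_tgt _ _
  have hk0 : f.f 0 ≫ j.f 0 = k.hom 0 (-1) ≫ J.d (-1) 0 := by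
    have := k.comm 0
    rw [dNext_eq k.hom (show (ComplexShape.up ℤ).Rel 0 1 by simp),
      prevD_eq k.hom (show (ComplexShape.up ℤ).Rel (-1) 0 by simp), hM1, zero_comp,
      zero_add, HomologicalComplex.zero_f, add_zero, HomologicalComplex.comp_f] at this
    exact this
  have hk1 : f.f (-1) ≫ j.f (-1) = M.d (-1) 0 ≫ k.hom 0 (-1) := by
    have := k.comm (-1)
    rw [dNext_eq k.hom (show (ComplexShape.up ℤ).Rel (-1) 0 by simp),
      prevD_eq k.hom (show (ComplexShape.up ℤ).Rel (-2) (-1) by simp),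
      hJ2.eq_of_tgt (k.hom (-1) (-2)) 0, zero_comp, add_zero, HomologicalComplex.zero_f,
      add_zero, HomologicalComplex.comp_f] at this
    exact this
  have hα : f.f 0 ≫ K.d 0 1 = 0 := by rw [f.comm 0 1, hM1, zero_comp]
  obtain ⟨h, hh1, hh2⟩ := pb_exists j hK2 hJ2 (f.f 0) hα (k.hom 0 (-1)) hk0
  refine ⟨h, hh1.symm, ?_⟩
  have key := pb_unique j hK2 hJ2 (f.f (-1) - M.d (-1) 0 ≫ h)
    (by rw [Preadditive.sub_comp, Category.assoc, hh1, f.comm (-1) 0, sub_self])
    (by rw [Preadditive.sub_comp, Category.assoc, hh2, hk1, sub_self])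
  exact sub_eq_zero.1 key

/-- `Hom_K(M, K) → Hom_D(M, K)` is surjective for `M` in degrees `≤ 0` with `M⁰` projective
and `K` in degrees `≥ -1`. -/
lemma exists_chainMap_of_Q_hom [EnoughInjectives A] {M K : CochainComplex A ℤ}
    (hM : ∀ i : ℤ, 0 < i → IsZero (M.X i)) [Projective (M.X 0)]
    (hK : ∀ i : ℤ, i ≤ -2 → IsZero (K.X i)) (ψ : Q.obj M ⟶ Q.obj K) :
    ∃ φ : M ⟶ K, Q.map φ = ψ := by
  have : K.IsStrictlyGE (-1) := (K.isStrictlyGE_iff (-1)).2 (fun i hi => hK i (by omega))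
  obtain ⟨J, j, hj, hJ, hJa⟩ :=
    CochainComplex.Plus.modelCategoryQuillen.exists_quasiIso_injective K (-1)
  have : J.IsKInjective := CochainComplex.isKInjective_of_injective J (-1)
  have hJ2 : IsZero (J.X (-2)) := J.isZero_of_isStrictlyGE (-1) (-2) (by omega)
  have hK2 : IsZero (K.X (-2)) := hK (-2) le_rfl
  have : IsIso (Q.map j) := by rw [isIso_Q_map_iff_quasiIso]; exact hj
  obtain ⟨g, hg⟩ := exists_chainMap_of_isKInjective M J (ψ ≫ Q.map j)
  have hM1 : M.d 0 1 = 0 := (hM 1 one_pos).eq_of_tgt _ _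
  have hg0 : g.f 0 ≫ J.d 0 1 = 0 := by rw [g.comm 0 1, hM1, zero_comp]
  obtain ⟨φ', hφ'⟩ : ∃ φ' : M.X 0 ⟶ K.cycles 0, φ' ≫ K.homologyπ 0 =
      J.liftCycles (g.f 0) 1 (by simp) hg0 ≫ J.homologyπ 0 ≫
        inv (HomologicalComplex.homologyMap j 0) :=
    ⟨Projective.factorThru _ (K.homologyπ 0), Projective.factorThru_comp _ _⟩
  have h3 : (φ' ≫ HomologicalComplex.cyclesMap j 0 - J.liftCycles (g.f 0) 1 (by simp) hg0) ≫
      J.homologyπ 0 = 0 := by
    rw [Preadditive.sub_comp, Category.assoc, ← HomologicalComplex.homologyπ_naturality,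
      ← Category.assoc, hφ', Category.assoc, Category.assoc, IsIso.inv_hom_id,
      Category.comp_id, sub_self]
  obtain ⟨κ, hκ⟩ := exists_lift_toCycles_of_projective J _ h3
  obtain ⟨φ0, hφ0d, hφ0j⟩ : ∃ φ0 : M.X 0 ⟶ K.X 0, φ0 ≫ K.d 0 1 = 0 ∧
      φ0 ≫ j.f 0 = g.f 0 + κ ≫ J.d (-1) 0 := by
    refine ⟨φ' ≫ K.iCycles 0, by rw [Category.assoc, HomologicalComplex.iCycles_d, comp_zero], ?_⟩
    have := hκ =≫ J.iCycles 0
    rw [Category.assoc, HomologicalComplex.toCycles_i, Preadditive.sub_comp, Category.assoc,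
      HomologicalComplex.cyclesMap_i, HomologicalComplex.liftCycles_i] at this
    rw [Category.assoc, this]
    abel
  obtain ⟨γ, hγ1, hγ2⟩ := pb_exists j hK2 hJ2 (M.d (-1) 0 ≫ φ0)
    (by rw [Category.assoc, hφ0d, comp_zero]) (g.f (-1) + M.d (-1) 0 ≫ κ)
    (by rw [Category.assoc, hφ0j, Preadditive.comp_add, Preadditive.add_comp, g.comm (-1) 0,
      Category.assoc])
  have hγ3 : M.d (-2) (-1) ≫ γ = 0 := by
    apply pb_unique j hK2 hJ2
    · rw [Category.assoc, hγ1, M.d_comp_d_assoc, zero_comp]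
    · rw [Category.assoc, hγ2, Preadditive.comp_add, M.d_comp_d_assoc, zero_comp, add_zero,
        ← g.comm (-2) (-1), hJ2.eq_of_tgt (g.f (-2)) 0, zero_comp]
  obtain ⟨φ, hφ0, hφ1⟩ := exists_chainMap_of_two φ0 γ hφ0d hγ1 hγ3
  refine ⟨φ, ?_⟩
  have hh : Nonempty (Homotopy (φ ≫ j - g) 0) := by
    apply homotopy_zero_of_single _ κ
    · rw [HomologicalComplex.sub_f_apply, HomologicalComplex.comp_f, hφ0, hφ0j,
        add_sub_cancel_left]
    · rw [HomologicalComplex.sub_f_apply, HomologicalComplex.comp_f, hφ1, hγ2,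
        add_sub_cancel_left]
    · intro p hp0 hp1
      by_cases hp : 0 < p
      · exact (hM p hp).eq_of_src _ _
      · exact (J.isZero_of_isStrictlyGE (-1) p (by omega)).eq_of_tgt _ _
  obtain ⟨hh⟩ := hh
  have key := Q_map_eq_of_homotopy A hh
  rw [Functor.map_sub, Functor.map_zero, sub_eq_zero, Functor.map_comp, hg] at key
  exact (cancel_mono (Q.map j)).1 key

lemma Q_map_eq_of_Qh_map_quotient_map_eq {M K : CochainComplex A ℤ} (f₁ f₂ : M ⟶ K)
    (h : Qh.map ((HomotopyCategory.quotient A (ComplexShape.up ℤ)).map f₁) =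
      Qh.map ((HomotopyCategory.quotient A (ComplexShape.up ℤ)).map f₂)) :
    Q.map f₁ = Q.map f₂ := by
  have nat₁ := (quotientCompQhIso A).hom.naturality f₁
  have nat₂ := (quotientCompQhIso A).hom.naturality f₂
  rw [← cancel_epi ((quotientCompQhIso A).hom.app M), ← nat₁, ← nat₂]
  show Qh.map ((HomotopyCategory.quotient A (ComplexShape.up ℤ)).map f₁) ≫ _ =
    Qh.map ((HomotopyCategory.quotient A (ComplexShape.up ℤ)).map f₂) ≫ _
  rw [h]

theorem quotient_map_eq_of_Q_map_eq [EnoughInjectives A] {M K : CochainComplex A ℤ}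
    (hM : ∀ i : ℤ, 0 < i → IsZero (M.X i)) (hK : ∀ i : ℤ, i ≤ -2 → IsZero (K.X i))
    (f₁ f₂ : M ⟶ K) (h : Q.map f₁ = Q.map f₂) :
    (HomotopyCategory.quotient A (ComplexShape.up ℤ)).map f₁ =
      (HomotopyCategory.quotient A (ComplexShape.up ℤ)).map f₂ := by
  have h0 : Q.map (f₁ - f₂) = 0 := by rw [Functor.map_sub, h, sub_self]
  obtain ⟨hh, h1, h2⟩ := exists_homotopy_of_Q_map_eq_zero (hM 1 one_pos) hK (f₁ - f₂) h0
  obtain ⟨H⟩ := homotopy_zero_of_single (f₁ - f₂) hh h1 h2 (fun p hp0 hp1 => by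
    by_cases hp : 0 < p
    · exact (hM p hp).eq_of_src _ _
    · exact (hK p (by omega)).eq_of_tgt _ _)
  have key := HomotopyCategory.eq_of_homotopy _ _ H
  rw [Functor.map_sub, Functor.map_zero, sub_eq_zero] at key
  exact key

theorem exists_quotient_map_of_Qh_hom [EnoughInjectives A] {M K : CochainComplex A ℤ}
    (hM : ∀ i : ℤ, 0 < i → IsZero (M.X i)) [Projective (M.X 0)]
    (hK : ∀ i : ℤ, i ≤ -2 → IsZero (K.X i))
    (ψ : Qh.obj ((HomotopyCategory.quotient A (ComplexShape.up ℤ)).obj M) ⟶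
      Qh.obj ((HomotopyCategory.quotient A (ComplexShape.up ℤ)).obj K)) :
    ∃ φ : M ⟶ K, Qh.map ((HomotopyCategory.quotient A (ComplexShape.up ℤ)).map φ) = ψ := by
  obtain ⟨φ, hφ⟩ := exists_chainMap_of_Q_hom hM hK
    ((quotientCompQhIso A).inv.app M ≫ ψ ≫ (quotientCompQhIso A).hom.app K)
  refine ⟨φ, ?_⟩
  have nat := (quotientCompQhIso A).hom.naturality φ
  rw [hφ, Iso.hom_inv_id_app_assoc] at nat
  exact (cancel_mono ((quotientCompQhIso A).hom.app K)).1 nat

/-- a chain map into a two-term complex with projective top term which vanishes in degree `-1`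
is killed by every morphism to an object of `D^{≤ -1}`. -/
lemma Q_map_comp_eq_zero_of_f_neg_one_eq_zero {M K : CochainComplex A ℤ}
    (hK : ∀ i : ℤ, i ≠ -1 → i ≠ 0 → IsZero (K.X i)) [Projective (K.X 0)] (a' : M ⟶ K)
    (ha' : a'.f (-1) = 0) (W : DerivedCategory A) [W.IsLE (-1)] (ξ : Q.obj K ⟶ W) :
    Q.map a' ≫ ξ = 0 := by
  obtain ⟨u, hu⟩ : ∃ u : M ⟶ (HomologicalComplex.single A (ComplexShape.up ℤ) 0).obj (K.X 0),
      u.f 0 = a'.f 0 ≫ (HomologicalComplex.singleObjXSelf (ComplexShape.up ℤ) 0 (K.X 0)).inv :=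
    ⟨HomologicalComplex.mkHomToSingle (a'.f 0) (by
      intro i hi
      have hi' : i = -1 := by
        simp only [ComplexShape.up_Rel] at hi
        omega
      subst hi'
      rw [← a'.comm (-1) 0, ha', zero_comp]), HomologicalComplex.mkHomToSingle_f _ _⟩
  obtain ⟨v, hv⟩ : ∃ v : (HomologicalComplex.single A (ComplexShape.up ℤ) 0).obj (K.X 0) ⟶ K,
      v.f 0 = (HomologicalComplex.singleObjXSelf (ComplexShape.up ℤ) 0 (K.X 0)).hom :=
    ⟨HomologicalComplex.mkHomFromSingle (𝟙 (K.X 0)) (by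
      intro k hk
      have hk' : k = 1 := by
        simp only [ComplexShape.up_Rel] at hk
        omega
      subst hk'
      exact (hK 1 (by omega) (by omega)).eq_of_tgt _ _), by
      rw [HomologicalComplex.mkHomFromSingle_f, Category.comp_id]⟩
  have huv : a' = u ≫ v := by
    ext p
    by_cases hp : p = 0
    · subst hp
      rw [HomologicalComplex.comp_f, hu, hv, Category.assoc, Iso.inv_hom_id, Category.comp_id]
    · have hz : IsZero (((HomologicalComplex.single A (ComplexShape.up ℤ) 0).obj (K.X 0)).X p) :=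
        HomologicalComplex.isZero_single_obj_X _ _ _ _ hp
      rw [HomologicalComplex.comp_f, hz.eq_of_tgt (u.f p) 0, zero_comp]
      by_cases hp1 : p = -1
      · subst hp1
        exact ha'
      · exact (hK p hp1 hp).eq_of_tgt _ _
  have h0 : (singleFunctorIsoCompQ A 0).hom.app (K.X 0) ≫ Q.map v ≫ ξ = 0 :=
    hom_single_projective_eq_zero (K.X 0) W (-1) (by omega) _
  have h1 : Q.map v ≫ ξ = 0 :=
    (cancel_epi ((singleFunctorIsoCompQ A 0).hom.app (K.X 0))).1 (h0.trans comp_zero.symm)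
  rw [huv, Functor.map_comp, Category.assoc, h1, comp_zero]

/-- if `a⁻¹ + d ≫ h = 0` then `a` is killed by every morphism to an object of `D^{≤ -1}`. -/
lemma Q_map_comp_eq_zero_of_homotopy {M K : CochainComplex A ℤ}
    (hK : ∀ i : ℤ, i ≠ -1 → i ≠ 0 → IsZero (K.X i)) [Projective (K.X 0)] (a : M ⟶ K)
    (h : M.X 0 ⟶ K.X (-1)) (hh : a.f (-1) + M.d (-1) 0 ≫ h = 0)
    (W : DerivedCategory A) [W.IsLE (-1)] (ξ : Q.obj K ⟶ W) : Q.map a ≫ ξ = 0 := by
  obtain ⟨b, hb0, hb1⟩ := exists_chainMap_of_two (M := M) (K := K) (h ≫ K.d (-1) 0)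
    (M.d (-1) 0 ≫ h) (by rw [Category.assoc, K.d_comp_d, comp_zero]) (by rw [Category.assoc])
    (by rw [M.d_comp_d_assoc, zero_comp])
  obtain ⟨Hb⟩ := homotopy_zero_of_single b h hb0 hb1
    (fun p hp0 hp1 => (hK p hp1 hp0).eq_of_tgt _ _)
  have hQb : Q.map b = 0 := by rw [Q_map_eq_of_homotopy A Hb, Functor.map_zero]
  have ha' : Q.map a = Q.map (a + b) := by rw [Functor.map_add, hQb, add_zero]
  rw [ha']
  exact Q_map_comp_eq_zero_of_f_neg_one_eq_zero hK (a + b)
    (by rw [HomologicalComplex.add_f_apply, hb1, hh]) W ξ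

/-- if `a : M ⟶ K` is killed by all morphisms `K ⟶ K⁻¹[1]` in the derived category, then
`a⁻¹` factors through `d : M⁻¹ ⟶ M⁰`. -/
lemma exists_homotopy_of_comp_single_eq_zero [EnoughInjectives A] {M K : CochainComplex A ℤ}
    (hM : IsZero (M.X 1)) (hK : IsZero (K.X (-2))) (a : M ⟶ K)
    (H : ∀ ξ : Q.obj K ⟶ ((singleFunctor A 0).obj (K.X (-1)))⟦(1 : ℤ)⟧, Q.map a ≫ ξ = 0) :
    ∃ h : M.X 0 ⟶ K.X (-1), a.f (-1) + M.d (-1) 0 ≫ h = 0 := by
  obtain ⟨p, hp⟩ : ∃ p : K ⟶ (HomologicalComplex.single A (ComplexShape.up ℤ) (-1)).obj (K.X (-1)),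
      p.f (-1) = (HomologicalComplex.singleObjXSelf (ComplexShape.up ℤ) (-1) (K.X (-1))).inv :=
    ⟨HomologicalComplex.mkHomToSingle (𝟙 _) (by
      intro i hi
      have hi' : i = -2 := by
        simp only [ComplexShape.up_Rel] at hi
        omega
      subst hi'
      exact hK.eq_of_src _ _), by
      rw [HomologicalComplex.mkHomToSingle_f, Category.id_comp]⟩
  let e : Q.obj ((HomologicalComplex.single A (ComplexShape.up ℤ) (-1)).obj (K.X (-1))) ≅
      ((singleFunctor A 0).obj (K.X (-1)))⟦(1 : ℤ)⟧ :=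
    ((singleFunctorIsoCompQ A (-1)).app (K.X (-1))).symm ≪≫
      (((singleFunctors A).shiftIso 1 (-1) 0 (by omega)).app (K.X (-1))).symm
  have h1 := H (Q.map p ≫ e.hom)
  have h2 : Q.map (a ≫ p) = 0 := by
    rw [Functor.map_comp, ← cancel_mono e.hom, Category.assoc, zero_comp]
    exact h1
  obtain ⟨h', hh0, hh1⟩ := exists_homotopy_of_Q_map_eq_zero hM
    (fun i hi => HomologicalComplex.isZero_single_obj_X _ _ _ _ (by omega)) (a ≫ p) h2
  refine ⟨-(h' ≫ (HomologicalComplex.singleObjXSelf (ComplexShape.up ℤ) (-1) (K.X (-1))).hom), ?_⟩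
  rw [HomologicalComplex.comp_f, hp] at hh1
  have key : a.f (-1) = M.d (-1) 0 ≫ h' ≫
      (HomologicalComplex.singleObjXSelf (ComplexShape.up ℤ) (-1) (K.X (-1))).hom := by
    rw [← Category.assoc, ← hh1, Category.assoc, Iso.inv_hom_id, Category.comp_id]
  rw [key, Preadditive.comp_neg, add_neg_cancel]

end Derived

end Groth.Agent.H56
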