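import Groth.Agent.H56.DerCat
import Mathlib.CategoryTheory.Triangulated.Functor
import Mathlib.CategoryTheory.ObjectProperty.ClosedUnderIsomorphisms

set_option autoImplicit false
universe w w' v v' u u'
open CategoryTheory CategoryTheory.Limits Pretriangulated

namespace Groth.Agent.H56

open DerivedCategory DerivedCategory.TStructure

section General

variable {C : Type*} {D : Type*} [Category C] [Category D]

lemma isIso_app_of_iso {F G : C ⥤ D} (η : F ⟶ G) {X Y : C} (e : X ≅ Y)
    (h : IsIso (η.app X)) : IsIso (η.app Y) := by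
  have : η.app Y = F.map e.inv ≫ η.app X ≫ G.map e.hom := by
    rw [η.naturality_assoc, ← G.map_comp, e.inv_hom_id, CategoryTheory.Functor.map_id,
      Category.comp_id]
  rw [this]; infer_instance

variable [HasShift C ℤ] [HasShift D ℤ]

lemma isIso_app_shift {F G : C ⥤ D} [F.CommShift ℤ] [G.CommShift ℤ] (η : F ⟶ G)
    [NatTrans.CommShift η ℤ] (X : C) (n : ℤ) (h : IsIso (η.app X)) :
    IsIso (η.app (X⟦n⟧)) := by
  have h1 := NatTrans.shift_app_comm η n X
  have h2 : η.app (X⟦n⟧) =
      (F.commShiftIso n).hom.app X ≫ (η.app X)⟦n⟧' ≫ (G.commShiftIso n).inv.app X := by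
    rw [← Category.assoc, h1, Category.assoc, Iso.hom_inv_id_app]
    exact (Category.comp_id _).symm
  rw [h2]; infer_instance

variable [HasZeroObject C] [HasZeroObject D] [Preadditive C] [Preadditive D]
  [∀ (n : ℤ), (shiftFunctor C n).Additive] [∀ (n : ℤ), (shiftFunctor D n).Additive]
  [Pretriangulated C] [Pretriangulated D]

set_option backward.isDefEq.respectTransparency.types false in
set_option backward.defeqAttrib.useBackward true in
lemma isIso_app_obj₂_of_distTriang {F G : C ⥤ D} [F.CommShift ℤ] [G.CommShift ℤ]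
    [F.IsTriangulated] [G.IsTriangulated] (η : F ⟶ G) [NatTrans.CommShift η ℤ]
    (T : Triangle C) (hT : T ∈ distTriang C)
    (h₁ : IsIso (η.app T.obj₁)) (h₃ : IsIso (η.app T.obj₃)) : IsIso (η.app T.obj₂) := by
  let φ : F.mapTriangle.obj T ⟶ G.mapTriangle.obj T :=
    Triangle.homMk _ _ (η.app _) (η.app _) (η.app _) (by simp) (by simp) (by
      dsimp
      simp only [Category.assoc, NatTrans.shift_app_comm η (1 : ℤ) T.obj₁,
        NatTrans.naturality_assoc])
  exact isIso₂_of_isIso₁₃ φ (F.map_distinguished _ hT) (G.map_distinguished _ hT) h₁ h₃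

end General

variable {A : Type u} [Category.{v} A] [Abelian A] [HasDerivedCategory.{w} A]
  {B : Type u'} [Category.{v'} B] [Abelian B] [HasDerivedCategory.{w'} B]

/-- if `η` is an iso on `single_0 M` then also on `single_j M`. -/
lemma isIso_app_single {D : Type*} [Category D] [HasShift D ℤ]
    (F G : DerivedCategory A ⥤ D) [F.CommShift ℤ] [G.CommShift ℤ]
    (η : F ⟶ G) [NatTrans.CommShift η ℤ] (M : A) (j : ℤ)
    (h : IsIso (η.app ((singleFunctor A 0).obj M))) :
    IsIso (η.app ((singleFunctor A j).obj M)) := by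
  have e : ((singleFunctor A 0).obj M)⟦-j⟧ ≅ (singleFunctor A j).obj M :=
    ((singleFunctors A).shiftIso (-j) j 0 (by omega)).app M
  exact isIso_app_of_iso η e (isIso_app_shift η _ (-j) h)

/-- Way-out lemma, bounded case. -/
theorem wayOut_bounded {D : Type*} [Category D] [HasShift D ℤ] [HasZeroObject D] [Preadditive D]
    [∀ (n : ℤ), (shiftFunctor D n).Additive] [Pretriangulated D]
    (P : ObjectProperty A) [P.IsClosedUnderIsomorphisms]
    (F G : DerivedCategory A ⥤ D) [F.CommShift ℤ] [G.CommShift ℤ]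
    [F.IsTriangulated] [G.IsTriangulated] (η : F ⟶ G) [NatTrans.CommShift η ℤ]
    (hη : ∀ X : A, P X → IsIso (η.app ((singleFunctor A 0).obj X))) :
    ∀ (n : ℕ) (X : DerivedCategory A) (a b : ℤ), b ≤ a + n → X.IsGE a → X.IsLE b →
      (∀ i : ℤ, P ((homologyFunctor A i).obj X)) → IsIso (η.app X) := by
  intro n
  induction n with
  | zero =>
    intro X a b hab _ _ hX
    have : X.IsLE a := t.isLE_of_le X b a (by simpa using hab)
    obtain ⟨e⟩ := nonempty_iso_single X a
    exact isIso_app_of_iso η e.symm (isIso_app_single F G η _ a (hη _ (hX a)))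
  | succ n ih =>
    intro X a b hab _ _ hX
    have hzero : ∀ Z : A, IsZero Z → P Z := fun Z hZ =>
      P.prop_of_iso ((isZero_of_isLE X b (b + 1) (by omega)).iso hZ) (hX (b + 1))
    have hT := t.triangleLTGE_distinguished (a + 1) X
    have h1GE : ((t.truncLT (a + 1)).obj X).IsGE a :=
      inferInstanceAs (t.IsGE ((t.truncLT (a + 1)).obj X) a)
    have h1LE : ((t.truncLT (a + 1)).obj X).IsLE a :=
      inferInstanceAs (t.IsLE ((t.truncLT (a + 1)).obj X) a)
    have h3GE : ((t.truncGE (a + 1)).obj X).IsGE (a + 1) :=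
      inferInstanceAs (t.IsGE ((t.truncGE (a + 1)).obj X) (a + 1))
    have h3LE : ((t.truncGE (a + 1)).obj X).IsLE b :=
      inferInstanceAs (t.IsLE ((t.truncGE (a + 1)).obj X) b)
    refine isIso_app_obj₂_of_distTriang η _ hT ?_ ?_
    · refine ih _ a a (by omega) h1GE h1LE (fun i => ?_)
      by_cases hi : i < a + 1
      · have := isIso_homologyMap_truncLTι X (a + 1) i hi
        exact P.prop_of_iso (asIso ((homologyFunctor A i).map ((t.truncLTι (a + 1)).app X))).symm
          (hX i)
      · exact hzero _ (isZero_of_isLE ((t.truncLT (a + 1)).obj X) a i (by omega))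
    · refine ih _ (a + 1) b (by push_cast at hab; omega) h3GE h3LE (fun i => ?_)
      by_cases hi : a + 1 ≤ i
      · have hiso := isIso_homologyMap_truncGEπ X (a + 1) i hi
        exact P.prop_of_iso (@asIso _ _ _ _ _ hiso) (hX i)
      · exact hzero _ (isZero_of_isGE ((t.truncGE (a + 1)).obj X) (a + 1) i (by omega))

end Groth.Agent.H56
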