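import Groth.Agent.H56.WayOut

set_option autoImplicit false
universe w w' v v' u u'
open CategoryTheory CategoryTheory.Limits Pretriangulated

namespace Groth.Agent.H56

open DerivedCategory DerivedCategory.TStructure

variable {A : Type u} [Category.{v} A] [Abelian A] [HasDerivedCategory.{w} A]
  {B : Type u'} [Category.{v'} B] [Abelian B] [HasDerivedCategory.{w'} B]

lemma prop_homology_truncLT (P : ObjectProperty A) [P.IsClosedUnderIsomorphisms]
    (hzero : ∀ Z : A, IsZero Z → P Z) (X : DerivedCategory A) (c : ℤ)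
    (hX : ∀ i : ℤ, P ((homologyFunctor A i).obj X)) (i : ℤ) :
    P ((homologyFunctor A i).obj ((t.truncLT c).obj X)) := by
  by_cases hi : i < c
  · have := isIso_homologyMap_truncLTι X c i hi
    exact P.prop_of_iso (asIso ((homologyFunctor A i).map ((t.truncLTι c).app X))).symm (hX i)
  · have : ((t.truncLT c).obj X).IsLE (c - 1) :=
      inferInstanceAs (t.IsLE ((t.truncLT c).obj X) (c - 1))
    exact hzero _ (isZero_of_isLE ((t.truncLT c).obj X) (c - 1) i (by omega))

lemma prop_homology_truncGE (P : ObjectProperty A) [P.IsClosedUnderIsomorphisms]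
    (hzero : ∀ Z : A, IsZero Z → P Z) (X : DerivedCategory A) (c : ℤ)
    (hX : ∀ i : ℤ, P ((homologyFunctor A i).obj X)) (i : ℤ) :
    P ((homologyFunctor A i).obj ((t.truncGE c).obj X)) := by
  by_cases hi : c ≤ i
  · have hiso := isIso_homologyMap_truncGEπ X c i hi
    exact P.prop_of_iso (@asIso _ _ _ _ _ hiso) (hX i)
  · have : ((t.truncGE c).obj X).IsGE c :=
      inferInstanceAs (t.IsGE ((t.truncGE c).obj X) c)
    exact hzero _ (isZero_of_isGE ((t.truncGE c).obj X) c i (by omega))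

/-- if `H^j(T.mor₁)` is an isomorphism on both rows and the left vertical map is iso, then so is
the right one. -/
lemma isIso_homologyMap_of_sq {X₁ X₂ Y₁ Y₂ : DerivedCategory B} (f : X₁ ⟶ X₂) (g : Y₁ ⟶ Y₂)
    (u : X₁ ⟶ Y₁) (v : X₂ ⟶ Y₂) (sq : f ≫ v = u ≫ g) (j : ℤ)
    (hf : IsIso ((homologyFunctor B j).map f)) (hg : IsIso ((homologyFunctor B j).map g)) :
    IsIso ((homologyFunctor B j).map u) ↔ IsIso ((homologyFunctor B j).map v) := by
  have h : (homologyFunctor B j).map f ≫ (homologyFunctor B j).map v =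
      (homologyFunctor B j).map u ≫ (homologyFunctor B j).map g := by
    rw [← Functor.map_comp, ← Functor.map_comp, sq]
  constructor
  · intro hu
    have : (homologyFunctor B j).map v = inv ((homologyFunctor B j).map f) ≫
        (homologyFunctor B j).map u ≫ (homologyFunctor B j).map g := by
      rw [← h, IsIso.inv_hom_id_assoc]
    rw [this]; infer_instance
  · intro hv
    have : (homologyFunctor B j).map u = ((homologyFunctor B j).map f ≫
        (homologyFunctor B j).map v) ≫ inv ((homologyFunctor B j).map g) := by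
      rw [h, Category.assoc, IsIso.hom_inv_id, Category.comp_id]
    rw [this]; infer_instance

/-- Way-out lemma, bounded below case (way-out right functors). -/
theorem wayOut_boundedBelow
    (P : ObjectProperty A) [P.IsClosedUnderIsomorphisms]
    (F G : DerivedCategory A ⥤ DerivedCategory B) [F.CommShift ℤ] [G.CommShift ℤ]
    [F.IsTriangulated] [G.IsTriangulated] (η : F ⟶ G) [NatTrans.CommShift η ℤ]
    (hF : ∀ n₁ : ℤ, ∃ n₂ : ℤ, ∀ Y : DerivedCategory A, Y.IsGE n₂ → (F.obj Y).IsGE n₁)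
    (hG : ∀ n₁ : ℤ, ∃ n₂ : ℤ, ∀ Y : DerivedCategory A, Y.IsGE n₂ → (G.obj Y).IsGE n₁)
    (hη : ∀ X : A, P X → IsIso (η.app ((singleFunctor A 0).obj X)))
    (X : DerivedCategory A) (a : ℤ) [X.IsGE a]
    (hX : ∀ i : ℤ, P ((homologyFunctor A i).obj X)) :
    IsIso (η.app X) := by
  have hzero : ∀ Z : A, IsZero Z → P Z := fun Z hZ =>
    P.prop_of_iso ((isZero_of_isGE X a (a - 1) (by omega)).iso hZ) (hX (a - 1))
  rw [isIso_iff]
  intro j
  obtain ⟨nF, hnF⟩ := hF (j + 1)
  obtain ⟨nG, hnG⟩ := hG (j + 1)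
  have hT := t.triangleLTGE_distinguished (max nF nG) X
  have h3GE : ((t.truncGE (max nF nG)).obj X).IsGE (max nF nG) :=
    inferInstanceAs (t.IsGE ((t.truncGE (max nF nG)).obj X) (max nF nG))
  have h3F : (F.obj ((t.truncGE (max nF nG)).obj X)).IsGE (j + 1) :=
    hnF _ (t.isGE_of_ge _ nF (max nF nG) (le_max_left _ _))
  have h3G : (G.obj ((t.truncGE (max nF nG)).obj X)).IsGE (j + 1) :=
    hnG _ (t.isGE_of_ge _ nG (max nF nG) (le_max_right _ _))
  have hFT := F.map_distinguished _ hT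
  have hGT := G.map_distinguished _ hT
  have hf : IsIso ((homologyFunctor B j).map (F.map ((t.truncLTι (max nF nG)).app X))) :=
    isIso_homologyMap_mor₁ _ hFT j
      (isZero_of_isGE (F.obj ((t.truncGE (max nF nG)).obj X)) (j + 1) j (by omega))
      (isZero_of_isGE (F.obj ((t.truncGE (max nF nG)).obj X)) (j + 1) (j - 1) (by omega))
  have hg : IsIso ((homologyFunctor B j).map (G.map ((t.truncLTι (max nF nG)).app X))) :=
    isIso_homologyMap_mor₁ _ hGT j
      (isZero_of_isGE (G.obj ((t.truncGE (max nF nG)).obj X)) (j + 1) j (by omega))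
      (isZero_of_isGE (G.obj ((t.truncGE (max nF nG)).obj X)) (j + 1) (j - 1) (by omega))
  have h1GE : ((t.truncLT (max nF nG)).obj X).IsGE a :=
    inferInstanceAs (t.IsGE ((t.truncLT (max nF nG)).obj X) a)
  have h1LE : ((t.truncLT (max nF nG)).obj X).IsLE (max nF nG - 1) :=
    inferInstanceAs (t.IsLE ((t.truncLT (max nF nG)).obj X) (max nF nG - 1))
  have h1 : IsIso (η.app ((t.truncLT (max nF nG)).obj X)) :=
    wayOut_bounded P F G η hη (max nF nG - 1 - a).toNat _ a (max nF nG - 1) (by omega)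
      h1GE h1LE (prop_homology_truncLT P hzero X _ hX)
  refine (isIso_homologyMap_of_sq _ _ _ _ (η.naturality ((t.truncLTι (max nF nG)).app X)) j
    hf hg).mp inferInstance

/-- Way-out lemma, bounded above case (way-out left functors). -/
theorem wayOut_boundedAbove
    (P : ObjectProperty A) [P.IsClosedUnderIsomorphisms]
    (F G : DerivedCategory A ⥤ DerivedCategory B) [F.CommShift ℤ] [G.CommShift ℤ]
    [F.IsTriangulated] [G.IsTriangulated] (η : F ⟶ G) [NatTrans.CommShift η ℤ]
    (hF : ∀ n₁ : ℤ, ∃ n₂ : ℤ, ∀ Y : DerivedCategory A, Y.IsLE n₂ → (F.obj Y).IsLE n₁)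
    (hG : ∀ n₁ : ℤ, ∃ n₂ : ℤ, ∀ Y : DerivedCategory A, Y.IsLE n₂ → (G.obj Y).IsLE n₁)
    (hη : ∀ X : A, P X → IsIso (η.app ((singleFunctor A 0).obj X)))
    (X : DerivedCategory A) (b : ℤ) [X.IsLE b]
    (hX : ∀ i : ℤ, P ((homologyFunctor A i).obj X)) :
    IsIso (η.app X) := by
  have hzero : ∀ Z : A, IsZero Z → P Z := fun Z hZ =>
    P.prop_of_iso ((isZero_of_isLE X b (b + 1) (by omega)).iso hZ) (hX (b + 1))
  rw [isIso_iff]
  intro j
  obtain ⟨nF, hnF⟩ := hF (j - 1)
  obtain ⟨nG, hnG⟩ := hG (j - 1)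
  have hT := t.triangleLTGE_distinguished (min nF nG) X
  have h1LE : ((t.truncLT (min nF nG)).obj X).IsLE (min nF nG - 1) :=
    inferInstanceAs (t.IsLE ((t.truncLT (min nF nG)).obj X) (min nF nG - 1))
  have h1F : (F.obj ((t.truncLT (min nF nG)).obj X)).IsLE (j - 1) :=
    hnF _ (t.isLE_of_le _ (min nF nG - 1) nF (by have := min_le_left nF nG; omega))
  have h1G : (G.obj ((t.truncLT (min nF nG)).obj X)).IsLE (j - 1) :=
    hnG _ (t.isLE_of_le _ (min nF nG - 1) nG (by have := min_le_right nF nG; omega))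
  have hFT := F.map_distinguished _ hT
  have hGT := G.map_distinguished _ hT
  have hf : IsIso ((homologyFunctor B j).map (F.map ((t.truncGEπ (min nF nG)).app X))) :=
    isIso_homologyMap_mor₂ _ hFT j
      (isZero_of_isLE (F.obj ((t.truncLT (min nF nG)).obj X)) (j - 1) j (by omega))
      (isZero_of_isLE (F.obj ((t.truncLT (min nF nG)).obj X)) (j - 1) (j + 1) (by omega))
  have hg : IsIso ((homologyFunctor B j).map (G.map ((t.truncGEπ (min nF nG)).app X))) :=
    isIso_homologyMap_mor₂ _ hGT j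
      (isZero_of_isLE (G.obj ((t.truncLT (min nF nG)).obj X)) (j - 1) j (by omega))
      (isZero_of_isLE (G.obj ((t.truncLT (min nF nG)).obj X)) (j - 1) (j + 1) (by omega))
  have h3GE : ((t.truncGE (min nF nG)).obj X).IsGE (min nF nG) :=
    inferInstanceAs (t.IsGE ((t.truncGE (min nF nG)).obj X) (min nF nG))
  have h3LE : ((t.truncGE (min nF nG)).obj X).IsLE b :=
    inferInstanceAs (t.IsLE ((t.truncGE (min nF nG)).obj X) b)
  have h3 : IsIso (η.app ((t.truncGE (min nF nG)).obj X)) :=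
    wayOut_bounded P F G η hη (b - min nF nG).toNat _ (min nF nG) b (by omega)
      h3GE h3LE (prop_homology_truncGE P hzero X _ hX)
  have sq := η.naturality ((t.truncGEπ (min nF nG)).app X)
  -- square: F.map π ≫ η.app (truncGE X) = η.app X ≫ G.map π
  have h : (homologyFunctor B j).map (η.app X) ≫
      (homologyFunctor B j).map (G.map ((t.truncGEπ (min nF nG)).app X)) =
      (homologyFunctor B j).map (F.map ((t.truncGEπ (min nF nG)).app X)) ≫
      (homologyFunctor B j).map (η.app ((t.truncGE (min nF nG)).obj X)) := by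
    rw [← Functor.map_comp, ← Functor.map_comp]
    exact congrArg _ sq.symm
  have : (homologyFunctor B j).map (η.app X) =
      ((homologyFunctor B j).map (F.map ((t.truncGEπ (min nF nG)).app X)) ≫
      (homologyFunctor B j).map (η.app ((t.truncGE (min nF nG)).obj X))) ≫
      inv ((homologyFunctor B j).map (G.map ((t.truncGEπ (min nF nG)).app X))) := by
    rw [← h, Category.assoc, IsIso.hom_inv_id, Category.comp_id]
  rw [this]; infer_instance

/-- Way-out lemma, unbounded case. -/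
theorem wayOut_unbounded
    (P : ObjectProperty A) [P.IsClosedUnderIsomorphisms] (hP : ∀ Z : A, IsZero Z → P Z)
    (F G : DerivedCategory A ⥤ DerivedCategory B) [F.CommShift ℤ] [G.CommShift ℤ]
    [F.IsTriangulated] [G.IsTriangulated] (η : F ⟶ G) [NatTrans.CommShift η ℤ]
    (hF : ∀ n₁ : ℤ, ∃ n₂ : ℤ, ∀ Y : DerivedCategory A, Y.IsGE n₂ → (F.obj Y).IsGE n₁)
    (hF' : ∀ n₁ : ℤ, ∃ n₂ : ℤ, ∀ Y : DerivedCategory A, Y.IsLE n₂ → (F.obj Y).IsLE n₁)
    (hG : ∀ n₁ : ℤ, ∃ n₂ : ℤ, ∀ Y : DerivedCategory A, Y.IsGE n₂ → (G.obj Y).IsGE n₁)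
    (hG' : ∀ n₁ : ℤ, ∃ n₂ : ℤ, ∀ Y : DerivedCategory A, Y.IsLE n₂ → (G.obj Y).IsLE n₁)
    (hη : ∀ X : A, P X → IsIso (η.app ((singleFunctor A 0).obj X)))
    (X : DerivedCategory A)
    (hX : ∀ i : ℤ, P ((homologyFunctor A i).obj X)) :
    IsIso (η.app X) := by
  have hT := t.triangleLTGE_distinguished 0 X
  have h1LE : ((t.truncLT 0).obj X).IsLE (0 - 1) :=
    inferInstanceAs (t.IsLE ((t.truncLT 0).obj X) (0 - 1))
  have h3GE : ((t.truncGE 0).obj X).IsGE 0 :=
    inferInstanceAs (t.IsGE ((t.truncGE 0).obj X) 0)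
  refine isIso_app_obj₂_of_distTriang η _ hT ?_ ?_
  · exact wayOut_boundedAbove P F G η hF' hG' hη _ (0 - 1) (prop_homology_truncLT P hP X _ hX)
  · exact wayOut_boundedBelow P F G η hF hG hη _ 0 (prop_homology_truncGE P hP X _ hX)

end Groth.Agent.H56
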